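import Cfsg.Agent.Lib.Hall.ClassSize
import Cfsg.Agent.Lib.Coprime.Frobenius
import Cfsg.Agent.Lib.Coprime.Sylow
import Cfsg.Agent.Lib.Transfer.ThompsonNPC

/-! Kegel's theorem: if all elements of a coset `K r` satisfy `x ^ p = 1`, then `K` is nilpotent. -/

set_option autoImplicit false
set_option linter.unusedSectionVars false

namespace Cfsg.Lib.Hall

open Subgroup _root_.Cfsg.Lib.Core _root_.Cfsg.Lib.Transfer _root_.Cfsg.Lib.Coprime

universe u

variable {G : Type*} [Group G]

open scoped IsMulCommutative in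
theorem mul_pow_eq_prod_conjNormal (V : Subgroup G) [V.Normal] [IsMulCommutative V] (v : V) (x : G)
    (n : ℕ) : ((v : G) * x) ^ n =
      ((∏ i ∈ Finset.range n, MulAut.conjNormal (x ^ i) v : V) : G) * x ^ n := by
  induction n with
  | zero => simp
  | succ n ih =>
    rw [pow_succ, ih, Finset.prod_range_succ]
    simp only [Subgroup.coe_mul, MulAut.conjNormal_apply]
    group

theorem pow_mul_mem_of_mem_normalizer {Q : Subgroup G} {a : G} (ha : a ∈ normalizer (Q : Set G))
    {x : G} (hx : x ∈ Q) (n : ℕ) : (a ^ n)⁻¹ * (x * a) ^ n ∈ Q := by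
  induction n with
  | zero => simp
  | succ n ih =>
    have h1 : a⁻¹ * ((a ^ n)⁻¹ * (x * a) ^ n * x) * a⁻¹⁻¹ ∈ Q :=
      Transfer.conj_mem_of_mem_normalizer (inv_mem ha) (Q.mul_mem ih hx)
    have : (a ^ (n + 1))⁻¹ * (x * a) ^ (n + 1) = a⁻¹ * ((a ^ n)⁻¹ * (x * a) ^ n * x) * a⁻¹⁻¹ := by
      rw [pow_succ (x * a), pow_succ a]; group
    rwa [this]

open scoped IsMulCommutative in
/-- the averaging lemma behind Kegel's theorem -/
theorem le_centralizer_of_split [Finite G] {p : ℕ} (hp : p.Prime) (V : Subgroup G) [V.Normal]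
    [IsMulCommutative V] {Q : Subgroup G} {a : G} (ha : a ∈ normalizer (Q : Set G))
    (hcop : (Nat.card Q).Coprime (Nat.card V))
    (h : ∀ v ∈ V, ∀ x ∈ Q, (v * (x * a)) ^ p = 1) : Q ≤ centralizer (V : Set G) := by
  classical
  haveI := Fintype.ofFinite Q
  have h1 : ∀ x ∈ Q, (x * a) ^ p = 1 := fun x hx => by simpa using h 1 V.one_mem x hx
  have h2 : ∀ (w : V) (x : Q), ∏ i ∈ Finset.range p, MulAut.conjNormal (((x : G) * a) ^ i) w = 1 :=
    fun w x => by
      have := mul_pow_eq_prod_conjNormal V w (x * a) p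
      rw [h w w.2 x x.2, h1 x x.2, mul_one] at this
      exact Subtype.ext this.symm
  intro y hy v hv
  set w : V := MulAut.conjNormal y ⟨v, hv⟩ * (⟨v, hv⟩ : V)⁻¹ with hw
  have h3 : ∏ x : Q, MulAut.conjNormal (x : G) w = 1 := by
    simp only [hw, map_mul, map_inv, Finset.prod_mul_distrib, Finset.prod_inv_distrib]
    rw [mul_inv_eq_one]
    refine Fintype.prod_equiv (Equiv.mulRight (⟨y, hy⟩ : Q)) _ _ fun x => ?_
    simp
  have h4 : ∀ i, 0 < i → i < p → ∏ x : Q, MulAut.conjNormal (((x : G) * a) ^ i) w = 1 := by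
    intro i hi hip
    let f : Q → Q := fun x => ⟨(a ^ i)⁻¹ * (x * a) ^ i, pow_mul_mem_of_mem_normalizer ha x.2 i⟩
    have hf : Function.Injective f := by
      intro x y hxy
      have e : ((x : G) * a) ^ i = (y * a) ^ i := mul_left_cancel (congrArg Subtype.val hxy)
      obtain ⟨m, hm⟩ := Nat.exists_mul_mod_eq_one_of_coprime
        ((Nat.coprime_of_lt_prime hi.ne' hip hp).symm) hp.one_lt
      have key : ∀ z : G, z ^ p = 1 → (z ^ i) ^ m = z := fun z hz => by
        rw [← pow_mul, ← Nat.div_add_mod (i * m) p, pow_add, pow_mul, hz, one_pow, one_mul, hm.2,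
          pow_one]
      have := key _ (h1 x x.2)
      rw [e, key _ (h1 y y.2)] at this
      exact Subtype.ext (mul_right_cancel this).symm
    have h5 := Fintype.prod_bijective f (Finite.injective_iff_bijective.1 hf)
      (fun x : Q => MulAut.conjNormal (((x : G) * a) ^ i) w)
      (fun x : Q => MulAut.conjNormal (a ^ i) (MulAut.conjNormal (x : G) w)) (fun x => by
        rw [← MulAut.mul_apply, ← map_mul]; simp [f])
    rw [h5, ← map_prod, h3, map_one]
  have h6 : ∏ x : Q, ∏ i ∈ Finset.range p, MulAut.conjNormal (((x : G) * a) ^ i) w = 1 :=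
    Finset.prod_eq_one fun x _ => h2 w x
  rw [Finset.prod_comm, Finset.prod_eq_single 0 (fun i hi hi0 =>
    h4 i (Nat.pos_of_ne_zero hi0) (Finset.mem_range.1 hi)) (fun h => absurd
      (Finset.mem_range.2 hp.pos) h)] at h6
  simp only [pow_zero, map_one, MulAut.one_apply, Finset.prod_const, Finset.card_univ,
    ← Nat.card_eq_fintype_card] at h6
  have h7 : w = 1 := by
    rw [← orderOf_eq_one_iff]
    exact Nat.eq_one_of_dvd_coprimes hcop (orderOf_dvd_of_pow_eq_one h6) (orderOf_dvd_natCard w)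
  have h8 := congrArg Subtype.val h7
  simp only [hw, Subgroup.coe_mul, MulAut.conjNormal_apply, Subgroup.coe_inv,
    OneMemClass.coe_one] at h8
  rw [mul_inv_eq_one, mul_inv_eq_iff_eq_mul] at h8
  exact h8.symm

theorem isNilpotent_of_split_aux {p : ℕ} (hp : p.Prime) (n : ℕ) :
    ∀ (G : Type u) [Group G] [Finite G] (K : Subgroup G) (r : G), Nat.card K = n →
      r ∈ normalizer (K : Set G) → (∀ k ∈ K, (k * r) ^ p = 1) → Group.IsNilpotent K := by
  induction n using Nat.strong_induction_on with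
  | _ n ih =>
  suffices hn : ∀ (G : Type u) [Group G] [Finite G] (K : Subgroup G) [K.Normal] (r : G),
      Nat.card K = n → (∀ k ∈ K, (k * r) ^ p = 1) → Group.IsNilpotent K by
    intro G _ _ K r hK hr h
    haveI : (K.subgroupOf (normalizer (K : Set G))).Normal := normal_in_normalizer
    have := hn _ (K.subgroupOf (normalizer (K : Set G))) ⟨r, hr⟩
      (by rw [Hall.card_subgroupOf_of_le le_normalizer, hK])
      (fun k hk => Subtype.ext (by simpa using h k hk))
    exact Group.nilpotent_of_mulEquiv (subgroupOfEquivOfLe le_normalizer)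
  intro G _ _ K _ r hK h
  have hsyl : ∀ (q : ℕ) [Fact q.Prime] (Q : Subgroup G), SylowIn q Q K →
      ∃ r' ∈ normalizer (Q : Set G), ∀ k ∈ K, (k * r') ^ p = 1 := by
    intro q _ Q hQ
    obtain ⟨m, hm, s, hs, rfl⟩ := hQ.frattini (H := ⊤) (by rw [normalizer_eq_top]) (mem_top r)
    exact ⟨s, hs, fun k hk => by simpa [mul_assoc] using h (k * m⁻¹) (K.mul_mem hk (K.inv_mem hm))⟩
  have ih' : ∀ K' : Subgroup G, K' ≤ K → K' ≠ K → ∀ r' ∈ normalizer (K' : Set G),
      (∀ k ∈ K, (k * r') ^ p = 1) → Group.IsNilpotent K' := fun K' h1 h2 r' h3 h4 =>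
    ih _ (hK ▸ Transfer.card_lt_of_lt (lt_of_le_of_ne h1 h2)) G K' r' rfl h3
      fun k hk => h4 k (h1 hk)
  by_cases hb : K = ⊥
  · rw [hb]; infer_instance
  obtain ⟨N, hNn, hN, hNK, hmin⟩ := exists_minNormal_le K hb
  by_cases hNe : N = K
  · subst hNe
    by_cases h2 : IsPGroup 2 N
    · haveI : Fact (Nat.Prime 2) := ⟨Nat.prime_two⟩
      exact h2.isNilpotent
    obtain ⟨q, hq, hqK, hq2⟩ : ∃ q : ℕ, q.Prime ∧ q ∣ Nat.card N ∧ q ≠ 2 := by
      by_contra hc
      push Not at hc
      haveI : Fact (Nat.Prime 2) := ⟨Nat.prime_two⟩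
      exact h2 (IsPGroup.of_card (Nat.eq_prime_pow_of_unique_prime_dvd Nat.card_pos.ne'
        fun {d} hd hdK => hc d hd hdK))
    haveI := Fact.mk hq
    obtain ⟨P, hP⟩ := exists_sylowIn (p := q) N
    obtain ⟨r', hr', h'⟩ := hsyl q P hP
    have hP1 : P ≠ ⊥ := fun e => hP.eq_bot_iff.mp e hqK
    have key : ∀ D : Subgroup G, D ≤ P → D ≠ ⊥ → r' ∈ normalizer (D : Set G) →
        Group.IsNilpotent N ∨ Group.IsNilpotent (N ⊓ normalizer (D : Set G) : Subgroup G) := by
      intro D h1 h2 h3
      by_cases hn : N ≤ normalizer (D : Set G)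
      · left
        have hDN := h1.trans hP.1
        haveI : (D.subgroupOf N).Normal := (normal_subgroupOf_iff_le_normalizer hDN).2 hn
        have h4 : D.subgroupOf N ≤ pCore q N :=
          Core.le_pCore ((hP.2.to_le h1).of_equiv (subgroupOfEquivOfLe hDN).symm)
        haveI := Core.pCore_characteristic q N
        rcases char_eq_bot_or_top_of_minNormal hmin (pCore q N) with h5 | h5
        · rw [h5, le_bot_iff, subgroupOf_eq_bot] at h4
          exact absurd (h4.eq_bot_of_le hDN) h2
        · have := Core.isPGroup_pCore q N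
          rw [h5] at this
          exact (this.of_equiv topEquiv).isNilpotent
      · refine Or.inr (ih' _ inf_le_left (fun e => hn (e ▸ inf_le_right)) r' ?_ h')
        exact zpowers_le.mp (le_normalizer_inf (by rw [normalizer_eq_top]; exact le_top)
          ((zpowers_le.mpr h3).trans le_normalizer))
    rcases key _ (thompsonOf_le (p := q) P) (thompsonOf_ne_bot_of_isPGroup hP.2 hP1)
      (normalizer_le_normalizer_thompsonOf P hr') with h1 | h1
    · exact h1
    have hZ : P ⊓ centralizer (P : Set G) ≠ ⊥ := by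
      haveI := hP.2.isNilpotent
      exact Core.inf_centralizer_ne_bot_of_nilpotent le_rfl le_rfl le_normalizer hP1
    rcases key _ inf_le_left hZ (normalizer_le_normalizer_center P hr') with h3 | h3
    · exact h3
    have hn := hP.thompson_pnil hq2 (pnil_of_isNilpotent h1) ((pnil_of_isNilpotent h3).mono
      (inf_le_inf_left _ (centralizer_le_normalizer _)))
    have h4 : resOf q N ≠ N := fun e => hn (by rw [e]; exact hqK)
    have h5 := (hmin _ (resOf_normal N) (resOf_le N)).resolve_right h4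
    have h6 := hP.resOf_sup
    rw [h5, bot_sup_eq] at h6
    rw [← h6]
    exact hP.2.isNilpotent
  haveI := ih' N hNK hNe r (by rw [normalizer_eq_top]; exact mem_top r) h
  haveI : Group.IsSolvable N := IsNilpotent.to_isSolvable
  obtain ⟨hc, s, hs, hNs⟩ := minNormal_elementary hN hmin
  haveI := Fact.mk hs
  have hNp := isPGroup_of_pow_eq_one hNs
  have hq : Group.IsNilpotent (K.map (QuotientGroup.mk' N)) := by
    refine ih _ ?_ _ _ (QuotientGroup.mk' N r) rfl (by rw [normalizer_eq_top]; exact mem_top _) ?_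
    · rw [Hall.card_map_mk', ← hK, ← Hall.card_mul_relIndex hNK]
      have h1 : 1 < Nat.card N := (one_lt_card_iff_ne_bot _).mpr hN
      have h2 : 0 < N.relIndex K := Nat.pos_of_ne_zero (index_ne_zero_of_finite (H := N.subgroupOf K))
      nlinarith
    · rintro _ ⟨k, hk, rfl⟩
      rw [← map_mul, ← map_pow, h k hk, map_one]
  refine isNilpotent_of_map_of_inf_ker_le _ hq ?_
  rw [QuotientGroup.ker_mk']
  refine inf_le_right.trans ?_
  obtain ⟨R, hNR, hR⟩ := exists_sylowIn_ge hNp hNK
  have hZ : N ⊓ centralizer (R : Set G) ≠ ⊥ := by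
    haveI := hR.2.isNilpotent
    exact Core.inf_centralizer_ne_bot_of_nilpotent hNR le_rfl (by rw [normalizer_eq_top]; exact le_top) hN
  have hZ' : N ⊓ centralizer (R : Set G) ≤ centralizer (K : Set G) := by
    rw [le_centralizer_iff]
    refine le_of_forall_sylowIn fun q _ _ => ?_
    by_cases hqs : q = s
    · subst hqs
      exact ⟨R, hR, le_centralizer_iff.1 inf_le_right⟩
    · obtain ⟨Q, hQ⟩ := exists_sylowIn (p := q) K
      obtain ⟨r', hr', h'⟩ := hsyl q Q hQ
      refine ⟨Q, hQ, (le_centralizer_of_split hp N hr' (IsPGroup.coprime_card_of_ne q s hqs _ _ hQ.2 hNp)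
        fun v hv x hx => ?_).trans (centralizer_le inf_le_left)⟩
      rw [← mul_assoc]
      exact h' _ (K.mul_mem (hNK hv) (hQ.1 hx))
  rcases hmin (N ⊓ centralizer (K : Set G)) inferInstance inf_le_left with h1 | h1
  · exact absurd (eq_bot_iff.2 (h1 ▸ le_inf inf_le_left hZ')) hZ
  · exact h1 ▸ inf_le_right

/-- **Kegel**: if `r` normalises `K` and `(k r) ^ p = 1` for all `k ∈ K`, then `K` is nilpotent. -/
theorem isNilpotent_of_split [Finite G] {p : ℕ} (hp : p.Prime) {K : Subgroup G} {r : G}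
    (hr : r ∈ normalizer (K : Set G)) (h : ∀ k ∈ K, (k * r) ^ p = 1) : Group.IsNilpotent K :=
  isNilpotent_of_split_aux hp _ G K r rfl hr h

/-- **Hughes–Thompson–Kegel** -/
theorem isNilpotent_and_index_of_forall_notMem [Finite G] {p : ℕ} (hp : p.Prime)
    (hG : ¬ IsPGroup p G) {H : Subgroup G} [H.Normal] (hH : H ≠ ⊤)
    (h : ∀ g ∉ H, g ^ p = 1) : Group.IsNilpotent H ∧ H.index = p := by
  haveI := Fact.mk hp
  obtain ⟨M, hM, hHM⟩ := (eq_top_or_exists_le_coatom H).resolve_left hH
  have hq : IsPGroup p (G ⧸ H) := fun x => by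
    obtain ⟨g, rfl⟩ := QuotientGroup.mk_surjective x
    by_cases hg : g ∈ H
    · exact ⟨0, by simpa using hg⟩
    · exact ⟨1, by rw [pow_one, ← QuotientGroup.mk_pow, h g hg, QuotientGroup.mk_one]⟩
  have hMc : (M.map (QuotientGroup.mk' H)).comap (QuotientGroup.mk' H) = M := by
    rw [comap_map_eq, QuotientGroup.ker_mk', sup_eq_left.2 hHM]
  have hM' : IsCoatom (M.map (QuotientGroup.mk' H)) := by
    refine ⟨fun e => hM.1 (by rw [← hMc, e, comap_top]), fun L hL => ?_⟩
    have h1 : M < L.comap (QuotientGroup.mk' H) := by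
      rw [← hMc]; exact (comap_lt_comap_of_surjective (QuotientGroup.mk'_surjective H)).2 hL
    rw [← map_comap_eq_self_of_surjective (QuotientGroup.mk'_surjective H) L, hM.2 _ h1,
      map_top_of_surjective _ (QuotientGroup.mk'_surjective H)]
  have hi : M.index = p := by
    rw [← hMc, Hall.index_comap_mk']; exact Core.index_eq_of_isCoatom_of_isPGroup hq hM'
  haveI : M.Normal := by
    haveI := hq.isNilpotent
    haveI := Subgroup.NormalizerCondition.normal_of_coatom _
      (Group.normalizerCondition_of_isNilpotent (G := G ⧸ H)) hM'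
    rw [← hMc]; infer_instance
  obtain ⟨a, -, ha⟩ := SetLike.exists_of_lt (lt_top_iff_ne_top.2 hM.1)
  have hn : Group.IsNilpotent M := isNilpotent_of_split hp (r := a)
    (by rw [normalizer_eq_top]; exact mem_top a) fun k hk => h _ fun e =>
      ha ((M.mul_mem_cancel_left hk).1 (hHM e))
  suffices e : H = M by subst e; exact ⟨hn, hi⟩
  by_contra hne
  obtain ⟨b, hb, hbH⟩ := SetLike.exists_of_lt (lt_of_le_of_ne hHM hne)
  apply hG
  intro g
  obtain ⟨x, -, y, -, rfl, hx, hy⟩ := exists_pPart hp g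
  have hy1 : y ^ p = 1 := by
    by_cases hyH : y ∈ H
    · have hc : Commute b y := Core.commute_of_coprime_of_mem_nilpotent hb (hHM hyH)
        (Nat.Coprime.coprime_dvd_left (orderOf_dvd_of_pow_eq_one (h b hbH)) hy.symm)
      have := h (b * y) fun e => hbH ((H.mul_mem_cancel_right hyH).1 e)
      rwa [hc.mul_pow, h b hbH, one_mul] at this
    · exact h y hyH
  have : y = 1 := orderOf_eq_one_iff.1
    (hy.eq_one_of_dvd (orderOf_dvd_of_pow_eq_one hy1))
  obtain ⟨k, hk⟩ := hx ⟨x, mem_zpowers x⟩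
  exact ⟨k, by rw [this, mul_one]; exact congrArg Subtype.val hk⟩

end Cfsg.Lib.Hall
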