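import Cfsg.Agent.Lib.Hall.SylNum

/-! Pronormal subgroups. -/

namespace Cfsg.Lib.Hall

open Subgroup _root_.Cfsg.Lib.Core _root_.Cfsg.Lib.Transfer
open scoped Pointwise commutatorElement

variable {G : Type*} [Group G]

local notation "𝐍" X:max => normalizer (SetLike.coe (X : Subgroup _))
local notation "𝐂" X:max => centralizer (SetLike.coe (X : Subgroup _))

/-- `H` and its conjugate by `g` are conjugate in the subgroup they generate. -/
def PrAt (H : Subgroup G) (g : G) : Prop := ∃ x ∈ H ⊔ cj g H, cj g H = cj x H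

theorem isPronormal_iff {H : Subgroup G} : IsPronormal H ↔ ∀ g, PrAt H g := Iff.rfl

theorem cj_le_of_mem {g : G} {H K : Subgroup G} (hg : g ∈ K) (h : H ≤ K) : cj g H ≤ K :=
  map_conj_le_of_mem hg h

theorem inv_mul_mem_normalizer {g x : G} {H : Subgroup G} (h : cj g H = cj x H) : x⁻¹ * g ∈ 𝐍 H := by
  rw [← cj_eq_iff, cj_mul, h, cj_inv_cj]

theorem PrAt.of_mul {H : Subgroup G} {g x : G} (hx : x ∈ H ⊔ cj g H) (h : PrAt H (x⁻¹ * g)) :
    PrAt H g := by
  obtain ⟨w, hw, e⟩ := h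
  have h1 : H ⊔ cj (x⁻¹ * g) H ≤ H ⊔ cj g H := sup_le le_sup_left (by
    rw [cj_mul]
    exact cj_le_of_mem (inv_mem hx) le_sup_right)
  exact ⟨x * w, mul_mem hx (h1 hw), by rw [cj_mul, ← e, ← cj_mul, mul_inv_cancel_left]⟩

theorem PrAt.congr {H : Subgroup G} {g g' : G} (h : PrAt H g) (e : cj g H = cj g' H) : PrAt H g' := by
  unfold PrAt at h ⊢
  rwa [← e]

theorem map_cj {G' : Type*} [Group G'] (f : G →* G') (g : G) (H : Subgroup G) :
    (cj g H).map f = cj (f g) (H.map f) := by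
  rw [cj_eq_smul, cj_eq_smul, Hall.map_conj_smul]

theorem PrAt.map {G' : Type*} [Group G'] (f : G →* G') {H : Subgroup G} {g : G} (h : PrAt H g) :
    PrAt (H.map f) (f g) := by
  obtain ⟨w, hw, e⟩ := h
  refine ⟨f w, ?_, by rw [← map_cj, ← map_cj, e]⟩
  rw [← map_cj, ← Subgroup.map_sup]
  exact mem_map_of_mem f hw

theorem PrAt.of_map {G' : Type*} [Group G'] {f : G →* G'} {H : Subgroup G} (hk : f.ker ≤ H) {g : G}
    (h : PrAt (H.map f) (f g)) : PrAt H g := by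
  obtain ⟨w, hw, e⟩ := h
  rw [← map_cj, ← Subgroup.map_sup] at hw
  obtain ⟨w, hw, rfl⟩ := hw
  have h1 : ∀ y, (H.map f).comap f = H → ((cj y H).map f).comap f = cj y H := fun y _ =>
    comap_map_eq_self ((cj_eq_of_normal y f.ker).symm.le.trans (cj_mono y hk))
  refine ⟨w, hw, ?_⟩
  rw [← h1 g (comap_map_eq_self hk), ← h1 w (comap_map_eq_self hk), map_cj, map_cj, e]

theorem PrAt.cj {H : Subgroup G} {g : G} (h : PrAt H g) (y : G) : PrAt (cj y H) (y * g * y⁻¹) :=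
  h.map (MulAut.conj y).toMonoidHom

theorem prAt_subgroupOf {H L : Subgroup G} (hL : H ≤ L) {g : L} :
    PrAt (H.subgroupOf L) g ↔ PrAt H g := by
  refine ⟨fun h => by simpa [map_subgroupOf_eq_of_le hL, inf_eq_left.mpr hL] using h.map L.subtype,
    fun h => PrAt.of_map (f := L.subtype) (by simp) ?_⟩
  rwa [map_subgroupOf_eq_of_le hL]

theorem isPronormal_subgroupOf {H L : Subgroup G} (hL : H ≤ L) :
    IsPronormal (H.subgroupOf L) ↔ ∀ g ∈ L, PrAt H g := by
  rw [isPronormal_iff]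
  exact ⟨fun h g hg => (prAt_subgroupOf (g := ⟨g, hg⟩) hL).mp (h _),
    fun h g => (prAt_subgroupOf hL).mpr (h g g.2)⟩

theorem isPronormal_map {G' : Type*} [Group G'] {f : G →* G'} (hf : Function.Surjective f)
    {H : Subgroup G} (h : IsPronormal H) : IsPronormal (H.map f) := fun g => by
  obtain ⟨g, rfl⟩ := hf g
  exact PrAt.map f (h g)

theorem isPronormal_cj {H : Subgroup G} (h : IsPronormal H) (y : G) : IsPronormal (cj y H) :=
  isPronormal_map (MulAut.conj y).surjective h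

theorem isPronormal_of_normalizer {S H : Subgroup G} (hSH : S ≤ H) (hS : IsPronormal S)
    (h : ∀ g ∈ 𝐍 S, PrAt H g) : IsPronormal H := fun g => by
  obtain ⟨x, hx, e⟩ := hS g
  exact PrAt.of_mul (sup_le_sup hSH (cj_mono g hSH) hx) (h _ (inv_mul_mem_normalizer e))

theorem isPronormal_sylow [Finite G] {p : ℕ} [Fact p.Prime] (P : Sylow p G) :
    IsPronormal (P : Subgroup G) := fun g => by
  obtain ⟨x, hx, e⟩ := (sylowIn_of_le P (le_sup_left (b := cj g P))).exists_cj_eq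
    (((sylowIn_top P).cj_of_mem (mem_top g)).mono le_sup_right le_top)
  exact ⟨x, hx, e.symm⟩

theorem PrAt.mem_sup {H L : Subgroup G} {g : G} (h : PrAt H g) (hL : H ≤ L) (hg : g ∈ 𝐍 L) :
    ∃ x ∈ L, ∃ n ∈ 𝐍 H, g = x * n := by
  obtain ⟨x, hx, e⟩ := h
  refine ⟨x, sup_le hL ((cj_mono g hL).trans (cj_eq_of_mem_normalizer hg).le) hx, _,
    inv_mul_mem_normalizer e, by group⟩

theorem normalizer_map_mk'_of_isPronormal {H : Subgroup G} (h : IsPronormal H) (A : Subgroup G)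
    [A.Normal] : (𝐍 H).map (QuotientGroup.mk' A) = 𝐍 (H.map (QuotientGroup.mk' A)) := by
  have h1 : ∀ K : Subgroup G, K.map (QuotientGroup.mk' A) = (K ⊔ A).map (QuotientGroup.mk' A) :=
    fun K => by rw [Subgroup.map_sup, (map_mk'_eq_bot_iff A A).mpr le_rfl, sup_bot_eq]
  rw [h1 H, normalizer_map_mk'_eq le_sup_right, normalizer_sup_eq_of_frattini
    (fun g hg => PrAt.mem_sup (h g) le_sup_left hg), ← h1]

theorem isPronormal_of_quotient {H A : Subgroup G} [A.Normal]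
    (hQ : IsPronormal (H.map (QuotientGroup.mk' A)))
    (hN : (𝐍 H).map (QuotientGroup.mk' A) = 𝐍 (H.map (QuotientGroup.mk' A)))
    (hA : ∀ a ∈ A, PrAt H a) : IsPronormal H := fun g => by
  obtain ⟨w, hw, e⟩ := hQ (QuotientGroup.mk' A g)
  change w ∈ _ ⊔ cj _ _ at hw
  rw [← map_cj, ← Subgroup.map_sup] at hw
  obtain ⟨w, hw, rfl⟩ := hw
  refine PrAt.of_mul hw ?_
  have h1 := inv_mul_mem_normalizer e
  rw [← hN, ← map_inv, ← map_mul] at h1
  obtain ⟨n, hn, e'⟩ := h1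
  have h2 : w⁻¹ * g * n⁻¹ ∈ A := by
    rw [← QuotientGroup.eq_one_iff, QuotientGroup.mk_mul, QuotientGroup.mk_inv, mul_inv_eq_one]
    exact e'.symm
  refine (hA _ h2).congr ?_
  rw [cj_mul, cj_eq_of_mem_normalizer (inv_mem hn)]

section
variable [Finite G] {p : ℕ} [hp : Fact p.Prime]

/-- Overgroups of Sylow `p`-subgroups are pronormal. -/
def Yp (p : ℕ) (G : Type*) [Group G] : Prop :=
  ∀ K : Subgroup G, (∃ P : Sylow p G, (P : Subgroup G) ≤ K) → IsPronormal K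

theorem exists_sylow_le_iff {K : Subgroup G} :
    (∃ P : Sylow p G, (P : Subgroup G) ≤ K) ↔ ¬ p ∣ K.index :=
  ⟨fun ⟨P, h⟩ => not_dvd_index_of_sylow_le P h, exists_sylow_le_of_not_dvd_index⟩

theorem yp_iff : Yp p G ↔ ∀ K : Subgroup G, ¬ p ∣ K.index → IsPronormal K :=
  forall_congr' fun _ => by rw [exists_sylow_le_iff]

theorem yp_subgroup_iff {L : Subgroup G} :
    Yp p L ↔ ∀ K ≤ L, ¬ p ∣ K.relIndex L → ∀ g ∈ L, PrAt K g := by
  rw [yp_iff]
  refine ⟨fun h K hK hi => (isPronormal_subgroupOf hK).mp (h _ hi), fun h K hi => ?_⟩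
  rw [← subgroupOf_map_subtype_self K] at hi ⊢
  exact (isPronormal_subgroupOf (map_subtype_le K)).mpr (h _ (map_subtype_le K) hi)

theorem yp_quotient_iff (T : Subgroup G) [T.Normal] (hT : IsPGroup p T) : Yp p (G ⧸ T) ↔ Yp p G := by
  rw [yp_iff, yp_iff]
  refine ⟨fun h K hi g => ?_, fun h K hi => ?_⟩
  · obtain ⟨P, hP⟩ := exists_sylow_le_of_not_dvd_index hi
    have h1 : T ≤ K := (le_pCore hT).trans ((pCore_le_sylow P).trans hP)
    exact PrAt.of_map (f := QuotientGroup.mk' T) (by rwa [QuotientGroup.ker_mk'])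
      (h _ (by rwa [index_map_mk', sup_eq_left.mpr h1]) _)
  · rw [← map_comap_mk' T K]
    exact isPronormal_map (QuotientGroup.mk'_surjective T) (h _ (by rwa [index_comap_mk']))

theorem not_dvd_index_normalizer {A T : Subgroup G} [A.Normal] (hT : SylowIn p T A) :
    ¬ p ∣ (𝐍 T).index := by
  obtain ⟨P⟩ : Nonempty (Sylow p G) := inferInstance
  obtain ⟨g, -, rfl⟩ := (sylowIn_inf_normal P A).exists_cj_eq hT
  rw [← cj_normalizer, index_cj]
  exact not_dvd_index_of_sylow_le P (le_normalizer_inf le_normalizer le_normalizer_of_normal)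

theorem yp_iff_normalizer {A T : Subgroup G} [A.Normal] (hA : Yp p A) (hQ : Yp p (G ⧸ A))
    (hT : SylowIn p T A) : Yp p G ↔ Yp p (𝐍 T) ∧ ∀ K : Subgroup G,
      (∃ P : Sylow p G, (P : Subgroup G) ≤ K) →
        (𝐍 K).map (QuotientGroup.mk' A) = 𝐍 (K.map (QuotientGroup.mk' A)) := by
  have hNT := not_dvd_index_normalizer hT
  refine ⟨fun h => ⟨yp_subgroup_iff.mpr (fun K hK hi g _ => yp_iff.mp h K ?_ g),
    fun K hK => normalizer_map_mk'_of_isPronormal (h K hK) A⟩, fun ⟨h1, h2⟩ => ?_⟩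
  · rw [← relIndex_mul_index hK]
    exact fun hd => (hp.out.dvd_mul.mp hd).elim hi hNT
  have key : ∀ (H : Subgroup G) (P : Sylow p G), (P : Subgroup G) ≤ H → (P : Subgroup G) ⊓ A = T →
      IsPronormal H := by
    intro H P hPH hPT
    refine isPronormal_of_quotient (hQ _ ⟨P.mapSurjective (QuotientGroup.mk'_surjective A),
      map_mono hPH⟩) (h2 H ⟨P, hPH⟩) (fun a ha => ?_)
    have hTD : T ≤ H ⊓ A := hPT ▸ inf_le_inf_right A hPH
    have hD := hT.mono hTD inf_le_right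
    obtain ⟨x, hx, e⟩ := yp_subgroup_iff.mp hA (H ⊓ A) inf_le_right
      (fun hd => hT.3 (hd.trans (relIndex_dvd_of_le_left A hTD))) a ha
    refine PrAt.of_mul (sup_le_sup inf_le_left (cj_mono a inf_le_left) hx) ?_
    obtain ⟨d, hd, n, hn, e'⟩ := hD.frattini le_rfl (inv_mem (inv_mul_mem_normalizer e))
    have hnD : n ∈ 𝐍 (H ⊓ A) := by
      rw [show n = d⁻¹ * (x⁻¹ * a)⁻¹ by rw [e']; group]
      exact mul_mem (inv_mem (le_normalizer hd)) (inv_mem (inv_mul_mem_normalizer e))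
    refine PrAt.congr (g := n⁻¹) ?_ (by
      rw [show x⁻¹ * a = n⁻¹ * d⁻¹ by rw [← mul_inv_rev, ← e', inv_inv], cj_mul,
        cj_eq_of_mem (inv_mem hd.1)])
    have hHD : H ≤ 𝐍 (H ⊓ A) := le_normalizer_inf le_normalizer le_normalizer_of_normal
    have hPN : (P : Subgroup G) ≤ 𝐍 T := hPT ▸ le_normalizer_inf le_normalizer le_normalizer_of_normal
    obtain ⟨y, hy, e1⟩ := yp_subgroup_iff.mp h1 (H ⊓ 𝐍 T) inf_le_right (fun hd =>
      (sylowIn_of_le P hPN).3 (hd.trans (relIndex_dvd_of_le_left _ (le_inf hPH hPN)))) n⁻¹ (inv_mem hn)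
    refine ⟨y, sup_le_sup inf_le_left (cj_mono _ inf_le_left) hy, ?_⟩
    have hyD : y ∈ 𝐍 (H ⊓ A) := sup_le (inf_le_left.trans hHD)
      (cj_le_of_mem (inv_mem hnD) (inf_le_left.trans hHD)) hy
    rw [← hD.frattini_sup inf_le_left hHD, cj_sup, cj_sup, e1, cj_eq_of_mem_normalizer hyD,
      cj_eq_of_mem_normalizer (inv_mem hnD)]
  rintro H ⟨P, hP⟩
  obtain ⟨g, -, hg⟩ := (sylowIn_inf_normal P A).exists_cj_eq hT
  rw [← cj_inv_cj g H]
  refine isPronormal_cj (key _ (g • P) ?_ ?_) _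
  · rw [coe_sylow_smul]; exact cj_mono g hP
  · rw [coe_sylow_smul, ← hg, cj_inf, cj_eq_of_normal g A]

end

end Cfsg.Lib.Hall
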