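import Cfsg.Agent.Lib.Hall.Sh2a
import Cfsg.Agent.Lib.PGrp.Extra
import Cfsg.Agent.Lib.Small.Simple

/-! Maximal abelian normal subgroups and minimal non-abelian normal subgroups of their centralisers; `SL(2,3)`. -/

namespace Cfsg.Lib.Hall

open Subgroup _root_.Cfsg.Lib.Core _root_.Cfsg.Lib.Transfer
open scoped Pointwise commutatorElement

local notation "𝐍" X:max => normalizer (SetLike.coe (X : Subgroup _))
local notation "𝐂" X:max => centralizer (SetLike.coe (X : Subgroup _))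

variable {G : Type*} [Group G] {A N : Subgroup G} {r : ℕ}

theorem equiv_prod_of_commute {A B : Subgroup G} (hc : B ≤ 𝐂 A) (hi : A ⊓ B = ⊥) (hs : A ⊔ B = ⊤) :
    Nonempty (G ≃* A × B) := by
  let f : A × B →* G := A.subtype.noncommCoprod B.subtype fun a b => mem_centralizer_iff.mp (hc b.2) a a.2
  refine ⟨(MulEquiv.ofBijective f ⟨(injective_iff_map_eq_one _).2 fun x hx => ?_, ?_⟩).symm⟩
  · have h3 : (x.1 : G) * x.2 = 1 := hx
    have h4 : (x.1 : G) = 1 := mem_bot.1 (hi ▸ mem_inf.2 ⟨x.1.2, eq_inv_of_mul_eq_one_left h3 ▸ inv_mem x.2.2⟩)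
    rw [h4, one_mul] at h3
    exact Prod.ext (Subtype.ext h4) (Subtype.ext h3)
  · rw [← MonoidHom.range_eq_top]
    exact (MonoidHom.noncommCoprod_range _ _ _).trans (by rw [range_subtype, range_subtype, hs])

/-- `SL(2,3)` -/
abbrev SL23 := Matrix.SpecialLinearGroup (Fin 2) (ZMod 3)

/-- generator of order three -/
def s3X : SL23 := ⟨!![1, 1; 0, 1], by decide⟩
/-- generator of order three -/
def s3Y : SL23 := ⟨!![1, 0; 1, 1], by decide⟩

theorem card_SL23 : Nat.card SL23 = 24 := by rw [Linear.card_SL_two, Nat.card_zmod]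

theorem closure_s3XY : Subgroup.closure ({s3X, s3Y} : Set SL23) = ⊤ := by
  have h1 : s3X ∈ Subgroup.closure ({s3X, s3Y} : Set SL23) := subset_closure (by simp)
  have h2 : s3Y ∈ Subgroup.closure ({s3X, s3Y} : Set SL23) := subset_closure (by simp)
  have : ∀ g : SL23, ∃ a b c d : Fin 3, g = s3X ^ (a : ℕ) * s3Y ^ (b : ℕ) * s3X ^ (c : ℕ) * s3Y ^ (d : ℕ) := by decide +kernel
  refine eq_top_iff.mpr fun g _ => ?_
  obtain ⟨a, b, c, d, rfl⟩ := this g
  exact mul_mem (mul_mem (mul_mem (pow_mem h1 _) (pow_mem h2 _)) (pow_mem h1 _)) (pow_mem h2 _)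

theorem card_le_24_top {x y : G} (h : closure ({x, y} : Set G) = ⊤) (hx : x ^ 3 = 1) (hy : y ^ 3 = 1) (h4 : (x * y) ^ 4 = 1)
    (c1 : Commute ((x * y) ^ 2) x) (c2 : Commute ((x * y) ^ 2) y) : Finite G ∧ Nat.card G ≤ 24 := by
  have hz : (x * y) ^ 2 ∈ center G := by
    rw [← centralizer_univ, ← coe_top, ← h, centralizer_closure, mem_centralizer_iff]
    rintro g (rfl | rfl)
    · exact c1.symm.eq
    · exact c2.symm.eq
  haveI : (zpowers ((x * y) ^ 2)).Normal := PGrp.normal_of_le_center (zpowers_le.mpr hz)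
  obtain ⟨φ, h1, h2⟩ := Linear.exists_hom_A4 (G := G ⧸ zpowers ((x * y) ^ 2)) (x := ((x * y : G) : G ⧸ _))
    (y := ((x⁻¹ : G) : G ⧸ _))
    (by rw [← QuotientGroup.mk_mul, QuotientGroup.eq_one_iff, ← sq]; exact mem_zpowers _)
    (by rw [← QuotientGroup.mk_pow, inv_pow, hx, inv_one, QuotientGroup.mk_one])
    (by rw [← QuotientGroup.mk_mul, ← QuotientGroup.mk_pow, conj_pow, hy, mul_one, mul_inv_cancel, QuotientGroup.mk_one])
  have := card_le_of_central hz (by rw [← pow_mul, h4]) φ (surjective_of_closure h φ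
    ⟨Linear.a4y⁻¹, by rw [map_inv, h2, ← QuotientGroup.mk_inv, inv_inv]⟩
    ⟨Linear.a4y * Linear.a4x, by rw [map_mul, h1, h2, ← QuotientGroup.mk_mul, inv_mul_cancel_left]⟩)
  rwa [Linear.card_A4] at this

theorem exists_hom_SL23 {x y : G} (hx : x ^ 3 = 1) (hy : y ^ 3 = 1) (h4 : (x * y) ^ 4 = 1)
    (c1 : Commute ((x * y) ^ 2) x) (c2 : Commute ((x * y) ^ 2) y) : ∃ φ : SL23 →* G, φ s3X = x ∧ φ s3Y = y := by
  have e : (Set.range fun i : Fin 2 => ((![s3X, s3Y] : Fin 2 → SL23) i, (![x, y] : Fin 2 → G) i)) = {(s3X, x), (s3Y, y)} := by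
    ext; simp [Fin.exists_fin_two, eq_comm]
  obtain ⟨φ, hφ⟩ := Linear.exists_hom_of_card_le (a := ![s3X, s3Y]) ![x, y]
    (by rw [Matrix.range_cons_cons_empty]; exact closure_s3XY) (by
      rw [e, card_SL23]
      exact card_le_24_top (closure_pair_subtype _ _) (Subtype.ext (Prod.ext (show s3X ^ 3 = 1 by decide) hx))
        (Subtype.ext (Prod.ext (show s3Y ^ 3 = 1 by decide) hy))
        (Subtype.ext (Prod.ext (show (s3X * s3Y) ^ 4 = 1 by decide) h4))
        (Subtype.ext (Prod.ext (show (s3X * s3Y) ^ 2 * s3X = s3X * (s3X * s3Y) ^ 2 by decide) c1.eq))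
        (Subtype.ext (Prod.ext (show (s3X * s3Y) ^ 2 * s3Y = s3Y * (s3X * s3Y) ^ 2 by decide) c2.eq)))
  exact ⟨φ, hφ 0, hφ 1⟩

theorem SL23_injective (φ : SL23 →* G) (h : φ ((s3X * s3Y) ^ 2) ≠ 1) : Function.Injective φ := by
  rw [injective_iff_map_eq_one]
  intro g hg
  by_contra h1
  have : ∀ g : SL23, g ≠ 1 → ∃ a b : SL23, ∃ i : Fin 3, (a * g * a⁻¹ * (b * g⁻¹ * b⁻¹)) ^ (i : ℕ) = (s3X * s3Y) ^ 2 ∨
    g = (s3X * s3Y) ^ 2 := by decide +kernel
  obtain ⟨a, b, i, e | e⟩ := this g h1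
  · exact h (by simp [← e, hg])
  · exact h (e ▸ hg)

theorem equiv_SL23 [Finite G] (hu : ∀ s t : G, orderOf s = 2 → orderOf t = 2 → t = s)
    (π : G →* alternatingGroup (Fin 4)) (hπ : Function.Surjective π) (hc : Nat.card G = 24) : Nonempty (G ≃* SL23) := by
  classical
  have h2 : Nat.card π.ker = 2 := by
    have := π.ker.card_mul_index
    rw [index_ker, MonoidHom.range_eq_top.mpr hπ, card_top, Linear.card_A4] at this
    omega
  obtain ⟨⟨z, hz1⟩, hz⟩ := exists_prime_orderOf_dvd_card' (G := π.ker) 2 h2.symm.dvd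
  rw [orderOf_mk] at hz
  have hk : π.ker = zpowers z := (eq_of_le_of_card_ge (zpowers_le.mpr hz1) (by rw [Nat.card_zpowers, hz, h2])).symm
  have hc' : ∀ g, Commute z g := fun g => by
    have := hu _ _ hz ((orderOf_conj' g z).trans hz)
    rw [mul_inv_eq_iff_eq_mul] at this
    exact this.symm
  have z2 : z ^ 2 = 1 := hz ▸ pow_orderOf_eq_one z
  have hm : ∀ g, π g = 1 → g = 1 ∨ g = z := fun g hg => by
    have : g ∈ zpowers z := hk ▸ hg
    rw [mem_zpowers_iff_mem_range_orderOf, hz] at this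
    simpa [Finset.mem_image, Finset.range_add_one, eq_comm, or_comm] using this
  have lift : ∀ g : alternatingGroup (Fin 4), g ^ 3 = 1 → ∃ x, π x = g ∧ x ^ 3 = 1 := fun g hg => by
    obtain ⟨x, rfl⟩ := hπ g
    rcases hm (x ^ 3) (by rw [map_pow, hg]) with e | e
    · exact ⟨x, rfl, e⟩
    · refine ⟨x * z, by rw [map_mul, show π z = 1 from hz1, mul_one], ?_⟩
      rw [(hc' x).symm.mul_pow, e, pow_succ, z2, one_mul, ← sq, z2]
  obtain ⟨x, hx, x3⟩ := lift Linear.a4y⁻¹ (by decide)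
  obtain ⟨y, hy, y3⟩ := lift (Linear.a4y * Linear.a4x) (by decide)
  have e : π (x * y) = Linear.a4x := by rw [map_mul, hx, hy, inv_mul_cancel_left]
  have e2 : (x * y) ^ 2 = z := by
    refine (hm _ (by rw [map_pow, e]; decide)).resolve_left fun e1 => ?_
    have : x * y = z := hu _ _ hz (orderOf_eq_prime e1 fun e2 => by rw [e2, map_one] at e; revert e; decide)
    rw [this, show π z = 1 from hz1] at e
    revert e; decide
  obtain ⟨φ, h1, h2⟩ := exists_hom_SL23 x3 y3 (by rw [show 4 = 2 * 2 from rfl, pow_mul, e2, z2]) (e2 ▸ hc' x) (e2 ▸ hc' y)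
  have hi : Function.Injective φ := SL23_injective φ (by
    rw [map_pow, map_mul, h1, h2, e2]
    intro e; simp [e] at hz)
  exact ⟨(MulEquiv.ofBijective φ (hi.bijective_of_nat_card_le (by rw [hc, card_SL23]))).symm⟩

/-- a maximal abelian normal subgroup -/
structure MaxAb (A : Subgroup G) : Prop where
  normal : A.Normal
  comm : IsMulCommutative A
  max : ∀ B : Subgroup G, B.Normal → IsMulCommutative B → A ≤ B → B = A

/-- a minimal non-abelian normal subgroup centralising `A` -/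
structure MinNA (A N : Subgroup G) : Prop extends MaxAb A where
  nrm : N.Normal
  le : N ≤ 𝐂 A
  nc : ¬ IsMulCommutative N
  min : ∀ M : Subgroup G, M.Normal → M ≤ N → ¬ IsMulCommutative M → M = N

/-- the nilpotent case -/
structure Xs (A N : Subgroup G) (r : ℕ) : Prop extends MinNA A N where
  prime : r.Prime
  pg : IsPGroup r N
  comm_mem : ∀ x ∈ N, ∀ y ∈ N, ⁅x, y⁆ ∈ A
  pow_mem : ∀ x ∈ N, x ^ r ∈ A

theorem exists_maxAb (G : Type*) [Group G] [Finite G] : ∃ A : Subgroup G, MaxAb A := by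
  obtain ⟨A, hA⟩ := (Set.toFinite {B : Subgroup G | B.Normal ∧ IsMulCommutative B}).exists_maximal
    ⟨⊥, inferInstance, inferInstance⟩
  exact ⟨A, hA.prop.1, hA.prop.2, fun B h1 h2 h3 => (hA.eq_of_le ⟨h1, h2⟩ h3).symm⟩

theorem MaxAb.not_comm (h : MaxAb A) (hC : 𝐂 A ≠ A) : ¬ IsMulCommutative (𝐂 A) := fun hc =>
  haveI := h.normal
  hC (h.max _ inferInstance hc (le_centralizer_iff_isMulCommutative.mpr h.comm))

theorem MaxAb.exists_minNA [Finite G] (h : MaxAb A) (hC : 𝐂 A ≠ A) : ∃ N, MinNA A N := by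
  haveI := h.normal
  obtain ⟨N, hN⟩ := (Set.toFinite {B : Subgroup G | B.Normal ∧ B ≤ 𝐂 A ∧ ¬ IsMulCommutative B}).exists_minimal
    ⟨𝐂 A, inferInstance, le_rfl, h.not_comm hC⟩
  exact ⟨N, h, hN.prop.1, hN.prop.2.1, hN.prop.2.2, fun M h1 h2 h3 => hN.eq_of_le ⟨h1, h2.trans hN.prop.2.1, h3⟩ h2⟩

theorem MaxAb.le_of_comm (h : MaxAb A) {M : Subgroup G} (h1 : M.Normal) (h2 : M ≤ 𝐂 A) (h3 : IsMulCommutative M) : M ≤ A :=
  haveI := h.normal
  h.max _ inferInstance (PGrp.isMulCommutative_sup h.comm h3 h2) le_sup_left ▸ le_sup_right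

theorem MinNA.le_of_ne (h : MinNA A N) {M : Subgroup G} (h1 : M.Normal) (h2 : M ≤ N) (h3 : M ≠ N) : M ≤ A :=
  h.le_of_comm h1 (h2.trans h.le) (by_contra fun hc => h3 (h.min M h1 h2 hc))

theorem MinNA.le' (h : MinNA A N) : A ≤ 𝐂 N := le_centralizer_iff.mp h.le

theorem MinNA.not_le (h : MinNA A N) : ¬ N ≤ A := fun hc => h.nc (le_centralizer_iff_isMulCommutative.mp (hc.trans h.le'))

theorem MinNA.inf_eq (h : MinNA A N) : N ⊓ 𝐂 N = N ⊓ A :=
  haveI := h.nrm
  le_antisymm (le_inf inf_le_left (h.le_of_ne inferInstance inf_le_left fun e =>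
    h.nc (le_centralizer_iff_isMulCommutative.mp (inf_eq_left.mp e)))) (inf_le_inf_left _ h.le')

theorem MinNA.cases [Finite G] (h : MinNA A N) : commutator N = ⊤ ∨ ∃ r, Xs A N r := by
  haveI := h.nrm
  refine or_iff_not_imp_left.mpr fun hp => ?_
  have h1 : ⁅N, N⁆ ≤ A := h.le_of_ne inferInstance (commutator_le_left _ _) fun e => hp (by
    apply map_injective N.subtype_injective
    rw [map_subtype_commutator, e, ← MonoidHom.range_eq_map, range_subtype])
  have h2 : commutator N ≤ center N := fun x hx => mem_center_iff.mpr fun y => Subtype.ext <|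
    mem_centralizer_iff.mp (h.le' (h1 (map_subtype_commutator N ▸ mem_map_of_mem _ hx))) y y.2
  haveI : IsMulCommutative (N ⧸ commutator N) := Normal.quotient_commutative_iff_commutator_le.mpr le_rfl
  haveI := isNilpotent_of_isMulCommutative (N ⧸ commutator N)
  haveI := isNilpotent_of_le_center_of_quotient _ h2
  have h3 : ∃ (p : ℕ) (_ : Fact p.Prime), IsPGroup p N := by
    by_contra hc
    refine h.not_le (subgroupOf_eq_top.mp (eq_top_of_forall_sylow_le fun p _ _ => ⟨default, ?_⟩))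
    rw [sylow_eq_pCore_of_nilpotent, subgroupOf, ← map_le_iff_le_comap]
    haveI := pCore_characteristic p N
    refine h.le_of_ne inferInstance (map_subtype_le _) fun e => hc ⟨p, inferInstance, ?_⟩
    exact e ▸ (isPGroup_pCore p N).map _
  obtain ⟨p, _, hP⟩ := h3
  have h4 := Coprime.map_frattini_lt (H := N) fun e => h.not_le (e ▸ bot_le)
  exact ⟨p, h, Fact.out, hP, fun x hx y hy => h1 (commutator_mem_commutator hx hy),
    fun x hx => h.le_of_ne inferInstance h4.le h4.ne (pow_mem_frattiniOf hP hx)⟩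

theorem MinNA.xs [Finite G] (h : MinNA A N) (hs : Group.IsSolvable N) : ∃ r, Xs A N r :=
  haveI : Nontrivial N := (nontrivial_iff_ne_bot N).mpr fun e => h.not_le (e ▸ bot_le)
  h.cases.resolve_left (Group.IsSolvable.commutator_lt_top_of_nontrivial N).ne

theorem Xs.ne_top (h : Xs A N r) : N ≠ ⊤ := fun e => by
  obtain ⟨a, -, ha⟩ := SetLike.not_le_iff_exists.mp h.not_le
  haveI : (A ⊔ zpowers a).Normal := ⟨fun x hx g => by
    have := mul_mem (mem_sup_left (T := zpowers a) (h.comm_mem g (e ▸ mem_top g) x (e ▸ mem_top x))) hx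
    simpa [commutatorElement_def] using this⟩
  exact ha (h.max _ this (PGrp.isMulCommutative_sup_zpowers h.comm (h.le (e ▸ mem_top a))) le_sup_left ▸
    mem_sup_right (mem_zpowers a))

theorem Xs.quat [Finite G] (h : Xs A N r) (hF : FC G) : r = 2 ∧ Nonempty (N ≃* QuaternionGroup 2) := by
  haveI := Fact.mk h.prime
  obtain rfl : r = 2 := by_contra fun hr => h.nc (hF.isCyclic_of_isPGroup hr h.pg).isMulCommutative
  obtain ⟨a, x, n, hq⟩ := (Block.isCyclic_or_quatData' h.pg fun s _ t _ hs ht => hF.inv_unique ht hs).resolve_left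
    fun hc => h.nc hc.isMulCommutative
  have h1 := mem_centralizer_iff.mp (h.le hq.x_mem) _ (h.pow_mem a hq.a_mem)
  have h2 := hq.conj_zpow 2
  rw [zpow_ofNat, ← h1, mul_inv_cancel_right, eq_inv_iff_mul_eq_one, ← pow_add, ← orderOf_dvd_iff_pow_eq_one, hq.ord,
    ← pow_succ', show 2 + 2 = 2 ^ 2 from rfl, Nat.pow_dvd_pow_iff_le_right one_lt_two] at h2
  obtain rfl : n = 0 := by omega
  exact ⟨rfl, hq.nonempty_mulEquiv⟩

theorem MinNA.quat_or [Finite G] (h : MinNA A N) (hF : FC G) : Nonempty (N ≃* QuaternionGroup 2) ∨ Nonempty (N ≃* SL25) :=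
  haveI : Nontrivial N := (nontrivial_iff_ne_bot N).mpr fun e => h.not_le (e ▸ bot_le)
  h.cases.symm.imp (fun ⟨_, h1⟩ => (h1.quat hF).2) (hF.subgroup N).equiv_SL25_of_perfect

theorem exists_omega [Finite G] (hA : IsCyclic A) (hr : 0 < r) :
    ∃ Z : Subgroup G, Nat.card Z ≤ r ∧ ∀ a ∈ A, a ^ r = 1 → a ∈ Z := by
  letI := hA.commGroup
  refine ⟨(powMonoidHom r : A →* A).ker.map A.subtype, ?_, fun a ha e => ⟨⟨a, ha⟩, Subtype.ext e, rfl⟩⟩
  rw [card_map_of_injective A.subtype_injective, IsCyclic.card_powMonoidHom_ker]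
  exact Nat.gcd_le_right _ hr

theorem Xs.comm_pow (h : Xs A N r) {g x : G} (hx : x ∈ N) (hg : g ∈ 𝐂 (N ⊓ A)) (hc : ⁅g, x⁆ ∈ A) : ⁅g, x⁆ ^ r = 1 := by
  rw [← PGrp.commutator_pow_right (mem_centralizer_iff.mp (h.le hx) _ hc), commutatorElement_eq_one_iff_mul_comm]
  exact (mem_centralizer_iff.mp hg _ ⟨N.pow_mem hx r, h.pow_mem x hx⟩).symm

theorem Xs.exists_sq [Finite G] (h : Xs A N r) (hA : IsCyclic A) : ∃ a, 0 < a ∧ A.relIndex N = r ^ a * r ^ a := by
  haveI := Fact.mk h.prime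
  obtain ⟨Z, h1, h2⟩ := exists_omega hA h.prime.pos
  have h3 : ∀ x ∈ N, ∀ y ∈ N, ⁅x, y⁆ ∈ Z := fun x hx y hy => h2 _ (h.comm_mem x hx y hy)
    (h.comm_pow hy (centralizer_le inf_le_right (h.le hx)) (h.comm_mem x hx y hy))
  obtain ⟨B, hB⟩ := (Set.toFinite {B : Subgroup G | B ≤ N ∧ IsMulCommutative B}).exists_maximal ⟨⊥, bot_le, inferInstance⟩
  have b1 : N ⊓ 𝐂 B = B := le_antisymm (fun x hx => hB.eq_of_le (y := B ⊔ zpowers x)
    ⟨sup_le hB.prop.1 (zpowers_le.mpr hx.1), PGrp.isMulCommutative_sup_zpowers hB.prop.2 hx.2⟩ le_sup_left ▸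
      mem_sup_right (mem_zpowers x)) (le_inf hB.prop.1 (le_centralizer_iff_isMulCommutative.mpr hB.prop.2))
  have b2 : N ⊓ 𝐂 N ≤ B := b1 ▸ inf_le_inf_left _ (centralizer_le hB.prop.1)
  have c1 := PGrp.relIndex_centralizer_mul_le (A := N) (h.pg.to_le hB.prop.1) h1 fun a ha b hb => h3 a ha b (hB.prop.1 hb)
  have c2 := PGrp.relIndex_centralizer_mul_le (A := B) h.pg h1 fun a ha b hb => h3 a (hB.prop.1 ha) b hb
  rw [← inf_relIndex_left, b1] at c1
  rw [b1] at c2
  have d1 := Hall.card_mul_relIndex hB.prop.1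
  have d2 := Hall.card_inf_mul_relIndex (𝐂 N) B
  have d3 := relIndex_mul_relIndex _ _ _ b2 hB.prop.1
  rw [inf_comm] at d2
  have p1 : 0 < Nat.card ↥(B ⊓ 𝐂 N) := Nat.card_pos
  have p2 : 0 < Nat.card B := Nat.card_pos
  have e1 : (𝐂 N).relIndex B = B.relIndex N := le_antisymm
    (Nat.le_of_mul_le_mul_right (by rw [mul_comm (B.relIndex N), d1]; exact c2) p2)
    (Nat.le_of_mul_le_mul_right (by rw [mul_comm ((𝐂 N).relIndex B), d2]; exact c1) p1)
  have e2 : (N ⊓ 𝐂 N).relIndex B = (𝐂 N).relIndex B := by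
    rw [← inf_relIndex_right, ← inf_relIndex_right (𝐂 N), inf_right_comm, inf_eq_right.mpr hB.prop.1, inf_comm]
  rw [e2, e1, h.inf_eq, inf_relIndex_left] at d3
  obtain ⟨a, ha⟩ := h.pg.index (B.subgroupOf N)
  refine ⟨a, Nat.pos_of_ne_zero fun e => h.not_le (relIndex_eq_one.mp ?_), by rw [← d3, ← ha]; rfl⟩
  rw [← d3, relIndex, ha, e, pow_zero, mul_one]

theorem Xs.index_dvd [Finite G] (h : Xs A N r) (hA : IsCyclic A) (hC : 𝐂 N = A) (hZ : N ⊓ A ≤ center G) :
    A.index ∣ A.relIndex N * (A.relIndex N - 1).factorial := by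
  haveI := Fact.mk h.prime
  haveI := h.normal
  haveI := h.nrm
  obtain ⟨Z, h1, h2⟩ := exists_omega hA h.prime.pos
  let π := QuotientGroup.mk' A
  haveI : (N.map π).Normal := h.nrm.map π (QuotientGroup.mk'_surjective A)
  let K := (𝐂 (N.map π)).comap π
  have k1 : ∀ g, g ∈ K ↔ ∀ x ∈ N, ⁅g, x⁆ ∈ A := fun g => by
    simp only [K, mem_comap, mem_centralizer_iff, SetLike.mem_coe, mem_map, forall_exists_index, and_imp,
      forall_apply_eq_imp_iff₂]
    refine forall₂_congr fun x _ => ?_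
    rw [← QuotientGroup.eq_one_iff, ← QuotientGroup.mk'_apply, map_commutatorElement, commutatorElement_eq_one_iff_mul_comm, eq_comm]
  have k2 : N ≤ K := fun g hg => (k1 g).mpr (h.comm_mem g hg)
  have k3 : A ≤ K := fun g hg => (k1 g).mpr fun x _ => by
    simpa [commutatorElement_def, mul_assoc] using mul_mem hg (h.normal.conj_mem _ (inv_mem hg) x)
  have c1 := PGrp.relIndex_centralizer_mul_le (A := K) h.pg h1 fun g hg x hx => h2 _ ((k1 g).mp hg x hx)
    (h.comm_pow hx (le_centralizer_iff.mp (hZ.trans (center_le_centralizer _)) (mem_top g)) ((k1 g).mp hg x hx))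
  have c2 : N ⊓ 𝐂 K = A ⊓ N := le_antisymm ((inf_le_inf_left _ (centralizer_le k2)).trans (h.inf_eq.trans (inf_comm _ _)).le)
    (le_inf inf_le_right ((inf_comm A N).le.trans (hZ.trans (center_le_centralizer _))))
  rw [hC, c2, ← Hall.card_inf_mul_relIndex A N, mul_comm] at c1
  have c3 : A.relIndex K = A.relIndex N := le_antisymm (Nat.le_of_mul_le_mul_left c1 Nat.card_pos)
    (relIndex_le_of_le_right k2 FiniteIndex.index_ne_zero)
  have c4 := (Small.relIndex_centralizer_dvd_card_mulAut (N.map π)).trans (Small.card_mulAut_dvd_factorial _)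
  rw [normalizer_eq_top, relIndex_top_right, ← index_comap_of_surjective _ (QuotientGroup.mk'_surjective A), ← relIndex_ker,
    QuotientGroup.ker_mk'] at c4
  rw [← relIndex_mul_index k3, c3]
  exact mul_dvd_mul_left _ c4

end Cfsg.Lib.Hall
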