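import Cfsg.Agent.Lib.Hall.KPi
import Cfsg.Agent.Lib.Coprime.Sylow
import Cfsg.Agent.Lib.Transfer.Apps

/-! Many classes of `π`-elements force nilpotent Hall subgroups. -/

namespace Cfsg.Lib.Hall

open Subgroup _root_.Cfsg.Lib.Core _root_.Cfsg.Lib.Transfer
open scoped Pointwise commutatorElement Classical

variable {G : Type*} [Group G]

local notation "𝐍" X:max => normalizer (SetLike.coe (X : Subgroup _))
local notation "𝐂" X:max => centralizer (SetLike.coe (X : Subgroup _))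

theorem mul_mem_of_relIndex_two {T E : Subgroup G} (h : T.relIndex E = 2) {a b : G} (ha : a ∈ E)
    (hb : b ∈ E) (ha' : a ∉ T) (hb' : b ∉ T) : a * b ∈ T := by
  have := (mul_mem_iff_of_index_two (H := T.subgroupOf E) h (a := ⟨a, ha⟩) (b := ⟨b, hb⟩)).mpr
    (by simp [mem_subgroupOf, ha', hb'])
  exact this

theorem mem_cent_of_cent {E : Subgroup G} {x : G} (h : E ≤ centralizer ({x} : Set G)) : x ∈ 𝐂 E :=
  fun _ hy => mem_cent_iff.mp (h hy)

theorem two_mul_kOf_le [Finite G] {E : Subgroup G} (hE : IsPGroup 2 E) {x : G} (hx : x ∈ 𝐍 E)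
    (ho : (orderOf x).Coprime 2) (hc : x ∉ 𝐂 E) : 2 * kOf (E : Set G) ≤ Nat.card E := by
  haveI : Fact (Nat.Prime 2) := ⟨Nat.prime_two⟩
  have h1 := mul_kOf_le_of_norm hx (m := 3) (fun r hr hd => by
    have h2 := hr.two_le
    have h3 : r ≠ 2 := fun e => by
      subst e; exact absurd (Nat.Coprime.eq_one_of_dvd ho.symm hd) (by norm_num)
    omega)
  set T := E ⊓ centralizer ({x} : Set G) with hT
  have hTE : T ≤ E := inf_le_left
  have hcx : zpowers x ≤ centralizer ({x} : Set G) := zpowers_le.mpr (mem_cent_iff.mpr rfl)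
  obtain ⟨n, hn⟩ := IsPGroup.iff_card.mp hE
  have h2 := card_mul_relIndex hTE
  obtain ⟨j, -, hj⟩ := (Nat.dvd_prime_pow Nat.prime_two).mp (hn ▸ Dvd.intro_left _ h2)
  have h3 : 4 ≤ T.relIndex E := by
    rcases j with _ | _ | j
    · exact absurd (mem_cent_of_cent ((relIndex_eq_one.mp hj).trans inf_le_right)) hc
    · refine absurd (Coprime.le_centralizer_of_centralizes_sub_and_quotient (A := zpowers x) ?_ hTE
        (zpowers_le.mpr (mem_cent_of_cent inf_le_right)) ?_ (mem_zpowers x)) hc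
      · obtain ⟨m, hm⟩ := IsPGroup.iff_card.mp (hE.to_le hTE)
        rw [Nat.card_zpowers, hm]; exact ho.pow_right _
      · rw [commutator_le]
        intro y hy a ha
        have h4 : a * y⁻¹ * a⁻¹ ∈ E := Core.conj_mem_of_mem_normalizer (zpowers_le.mpr hx ha) (inv_mem hy)
        rw [commutatorElement_def, mul_assoc, mul_assoc, ← mul_assoc a]
        by_cases h5 : y ∈ T
        · exact mul_mem h5 (mem_inf.mpr ⟨h4, mul_mem (mul_mem (hcx ha) (inv_mem (mem_inf.mp h5).2))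
            (inv_mem (hcx ha))⟩)
        · refine mul_mem_of_relIndex_two hj hy h4 h5 (fun h6 => h5 ⟨hy, ?_⟩)
          simpa [mul_assoc] using inv_mem (mul_mem (mul_mem (inv_mem (hcx ha)) h6.2) (hcx ha))
    · rw [hj, pow_succ, pow_succ]
      have := Nat.one_le_two_pow (n := j)
      omega
  have h4 := Nat.mul_le_mul_left (Nat.card T) h3
  omega

theorem commutator_le_cent_of_lt [Finite G] {P : Subgroup G} {p : ℕ}
    (hmin : ∀ r : ℕ, r.Prime → r ∣ Nat.card P → p ≤ r) (h : Nat.card P < p * kOf (P : Set G)) :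
    ⁅P, P⁆ ≤ 𝐂 P := by
  have h1 := commutator_le_center_of_card_le hmin (card_commutator_le hmin
    (h.trans_le (Nat.mul_le_mul_left _ (kOf_le_card_conjClasses P))))
  rw [commutator_le]
  intro a ha b hb c hc
  have := mem_center_iff.mp (h1 (commutator_mem_commutator (mem_top (⟨a, ha⟩ : P)) (mem_top ⟨b, hb⟩)))
    ⟨c, hc⟩
  exact congrArg Subtype.val this

theorem le_of_dvd_card_of_isPGroup [Finite G] {p : ℕ} [hp : Fact p.Prime] {P : Subgroup G}
    (hP : IsPGroup p P) {m : ℕ} (hm : m ≤ p) : ∀ r : ℕ, r.Prime → r ∣ Nat.card P → m ≤ r := by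
  intro r hr hd
  obtain ⟨n, hn⟩ := IsPGroup.iff_card.mp hP
  rwa [(Nat.prime_dvd_prime_iff_eq hr hp.out).mp (hr.dvd_of_dvd_pow (hn ▸ hd))]

theorem pnil_two_of_lt [Finite G] {P : Subgroup G} (hP : SylowIn 2 P ⊤)
    (h : Nat.card P < 2 * kOf (P : Set G)) : PNil 2 (⊤ : Subgroup G) := by
  haveI : Fact (Nat.Prime 2) := ⟨Nat.prime_two⟩
  by_contra hn
  have hNS : ∀ x ∈ (⊤ : Subgroup G), x ∈ 𝐍 P → (orderOf x).Coprime 2 → x ∈ 𝐂 P := by
    intro x _ hx ho
    by_contra hc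
    exact absurd (two_mul_kOf_le hP.2 hx ho hc) (not_le.mpr h)
  obtain ⟨E, hEP, hi, hE⟩ := exists_index_two_of_not_pnil hP
    (commutator_le_cent_of_lt (le_of_dvd_card_of_isPGroup hP.2 le_rfl) h) hNS hn
  have hPE : P ≤ 𝐍 E := (normal_subgroupOf_iff_le_normalizer hEP).mp (normal_of_index_eq_two hi)
  have h1 : 2 * kOf (E : Set G) ≤ Nat.card E := by
    by_contra hh
    refine hE (resOf_le_iff.mpr (fun g hg ho => ?_))
    by_contra hc
    exact hh (two_mul_kOf_le (hP.2.to_le hEP) hg.2 ho hc)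
  have h2 : 2 * kOf ((P : Set G) \ E) ≤ _ := mul_kOf_le (L := P)
    (fun l hl y hy => ⟨mul_mem (mul_mem hl hy.1) (inv_mem hl), fun hh => hy.2 (by
      simpa [mul_assoc] using Core.conj_mem_of_mem_normalizer (inv_mem (hPE hl)) hh)⟩)
    (fun y hy => by
      have h0 : (centralizer ({y} : Set G)).relIndex P ≠ 0 := index_ne_zero_of_finite
      have h1 : (centralizer ({y} : Set G)).relIndex P ≠ 1 := fun e => hE (by
        have hyc : y ∈ 𝐂 E := mem_cent_of_cent (hEP.trans (relIndex_eq_one.mp e))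
        refine resOf_le_of_frattini (F := P ⊓ 𝐂 E) (inf_le_right.trans (Core.normalizer_le_normalizer_centralizer E))
          ((hP.mono (le_inf le_top hPE) le_top).inf
            (inf_le_right.trans (Core.normalizer_le_normalizer_centralizer E))) (fun x hx hxF ho => ?_)
        refine centralizer_le (fun z hz => hEP hz) (hNS x trivial ?_ ho)
        refine mem_normalizer_of_cj_le (cj_le_iff.mpr (fun s hs => ?_))
        by_cases h3 : s ∈ E
        · exact hEP (Core.conj_mem_of_mem_normalizer hx.2 h3)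
        · have h4 := hEP (Core.conj_mem_of_mem_normalizer hx.2 (mul_mem_of_relIndex_two hi hs hy.1 h3 hy.2))
          have h5 := (Core.conj_mem_of_mem_normalizer hxF (show y ∈ P ⊓ 𝐂 E from ⟨hy.1, hyc⟩)).1
          simpa [mul_assoc] using mul_mem h4 (inv_mem h5))
      omega)
  have h3 := ncard_diff_add hEP
  have h4 := card_mul_relIndex hEP
  have h5 : kOf (P : Set G) ≤ kOf (E : Set G) + kOf ((P : Set G) \ E) := by
    refine le_trans (le_of_eq ?_) (kOf_union_le _ _)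
    rw [Set.union_sdiff_cancel hEP]
  rw [hi] at h4
  omega

theorem two_mul_kOf_le_of_not_pnil [Finite G] {p : ℕ} [hp : Fact p.Prime] (h2 : p ≠ 2)
    {P : Subgroup G} (hP : SylowIn p P ⊤) (h : ¬ (PNil p (⊤ : Subgroup G) ∧ IsMulCommutative P)) :
    2 * p * kOf (P : Set G) ≤ (p + 1) * Nat.card P := by
  by_cases hc : IsMulCommutative P
  · have h1 : ¬ (⊤ : Subgroup G) ⊓ 𝐍 P ≤ 𝐂 P := fun h1 =>
      h ⟨hP.pnil_of_normalizer_le_centralizer h1, hc⟩
    obtain ⟨x, hx, hxc⟩ := Set.not_subset.mp h1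
    have h3 := mul_kOf_le_of_norm hx.2 (m := 2) (fun r hr _ => hr.two_le)
    have h4 := mul_card_inf_le hP.2 (fun h4 => hxc (mem_cent_of_cent h4))
    nlinarith
  · have h1 := card_conjClasses_le_of_not_comm hp.out.pos (le_of_dvd_card_of_isPGroup hP.2 le_rfl) hc
    have h3 := kOf_le_card_conjClasses P
    have h4 : 3 ≤ p := by have := hp.out.two_le; omega
    obtain ⟨q, rfl⟩ := Nat.exists_eq_add_of_le h4
    apply Nat.le_of_mul_le_mul_left (c := (3 + q) ^ 2) _ (by positivity)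
    have h5 := Nat.mul_le_mul_left (2 * (3 + q) ^ 3) h3
    nlinarith [Nat.zero_le (q ^ 3 * Nat.card P), Nat.zero_le (q ^ 2 * Nat.card P),
      Nat.zero_le (q * Nat.card P)]

theorem kpi_singleton_le_kOf' [Finite G] {p : ℕ} [Fact p.Prime] {P : Subgroup G}
    (hP : SylowIn p P ⊤) : kpi {p} G ≤ kOf (P : Set G) := by
  obtain ⟨S, rfl⟩ := hP.exists_sylow_top
  exact kpi_singleton_le_kOf S

theorem card_conjClasses_le_kpi [Finite G] {p : ℕ} [hp : Fact p.Prime] {P : Subgroup G}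
    (hP : SylowIn p P ⊤) (h : PNil p (⊤ : Subgroup G)) : Nat.card (ConjClasses P) ≤ kpi {p} G := by
  rw [← Set.ncard_univ]
  refine Set.ncard_le_ncard_of_injOn (ConjClasses.map P.subtype) ?_ ?_
  · intro c _
    obtain ⟨a, rfl⟩ := ConjClasses.mk_surjective c
    obtain ⟨k, hk⟩ := IsPGroup.iff_orderOf.mp hP.2 a
    exact ⟨a, (isPiNumber_singleton_iff hp.out (orderOf_pos _).ne').mpr ⟨k, by simpa using hk⟩, rfl⟩
  · intro c _ d _ e
    obtain ⟨a, rfl⟩ := ConjClasses.mk_surjective c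
    obtain ⟨b, rfl⟩ := ConjClasses.mk_surjective d
    obtain ⟨g, hg⟩ := isConj_iff.mp (ConjClasses.mk_eq_mk_iff_isConj.mp e)
    obtain ⟨v, hv, h1⟩ := h.exists_conj_eq hP (mem_top g)
    have hg : g * a * g⁻¹ = b := hg
    refine ConjClasses.mk_eq_mk_iff_isConj.mpr (isConj_iff.mpr ⟨⟨v, hv⟩, Subtype.ext ?_⟩)
    exact (h1 a a.2 (hg ▸ b.2)).trans hg

theorem kOf_le_mul [Finite G] {B : Subgroup G} {T X : Set G} {Y : Set B}
    (h : ∀ t ∈ T, ∃ x ∈ X, ∀ x' ∈ X, IsConj x x' → ∃ y ∈ Y, ∀ y' ∈ Y, IsConj y y' →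
      IsConj (x' * y') t) : kOf T ≤ kOf X * kOf Y := by
  rw [kOf, kOf, kOf, ← Set.ncard_prod]
  refine le_trans (Set.ncard_le_ncard (t := (fun z : ConjClasses G × ConjClasses B =>
    ConjClasses.mk (Function.invFunOn ConjClasses.mk X z.1 *
      (Function.invFunOn ConjClasses.mk Y z.2 : B))) '' _) ?_) Set.ncard_image_le
  rintro _ ⟨t, ht, rfl⟩
  obtain ⟨x, hx, h1⟩ := h t ht
  obtain ⟨y, hy, h2⟩ := h1 _ (Function.invFunOn_apply_mem (f := ConjClasses.mk) hx)
    (ConjClasses.mk_eq_mk_iff_isConj.mp (Function.invFunOn_apply_eq hx).symm)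
  refine ⟨(ConjClasses.mk x, ConjClasses.mk y), ⟨⟨x, hx, rfl⟩, ⟨y, hy, rfl⟩⟩,
    ConjClasses.mk_eq_mk_iff_isConj.mpr (h2 _ (Function.invFunOn_apply_mem (f := ConjClasses.mk) hy)
      (ConjClasses.mk_eq_mk_iff_isConj.mp (Function.invFunOn_apply_eq hy).symm))⟩

theorem card_mul_kOf_le [Fintype G] {S : Set G} (hS : ∀ g : G, ∀ y ∈ S, g * y * g⁻¹ ∈ S)
    {σ τ : Set ℕ} {Q : G → Prop} [DecidablePred Q]
    (h : ∀ a b : G, a * b ∈ S → a * b = b * a → b ∈ zpowers (a * b) → IsPiNumber σ (orderOf a) →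
      IsPiNumber σᶜ (orderOf b) → Q a ∧ IsPiNumber τ (orderOf b)) :
    Nat.card G * kOf S ≤ ∑ x : G with Q x, Nat.card (centralizer ({x} : Set G)) *
      kpi τ (centralizer ({x} : Set G)) := by
  rw [← Finset.sum_congr rfl (fun x _ => sum_eq_card_mul_kpi (centralizer ({x} : Set G)) τ),
    ← sum_card_cent hS, Finset.sum_sigma']
  choose a ha b hb hab h1 h2 using fun g : G => exists_piPart σ g
  have hinj : Function.Injective (fun g : G => (⟨a g, b g⟩ : (_ : G) × G)) := by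
    intro g g' e
    simp only [Sigma.mk.injEq, heq_eq_eq] at e
    rw [hab g, hab g', e.1, e.2]
  rw [Finset.sum_congr rfl (g := fun g =>
    Nat.card (centralizer ({a g} : Set G) ⊓ centralizer ({b g} : Set G) : Subgroup G))]
  · rw [← Finset.sum_image (g := fun g : G => (⟨a g, b g⟩ : (_ : G) × G))
      (f := fun z => Nat.card (centralizer ({z.1} : Set G) ⊓ centralizer ({z.2} : Set G) : Subgroup G))
      (fun _ _ _ _ e => hinj e)]
    apply Finset.sum_le_sum_of_subset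
    intro z hz
    obtain ⟨g, hg, rfl⟩ := Finset.mem_image.mp hz
    have hg : g ∈ S := (Finset.mem_filter.mp hg).2
    simp only [Finset.mem_sigma, Finset.mem_filter, Finset.mem_univ, true_and]
    obtain ⟨h3, h4⟩ := h (a g) (b g) (hab g ▸ hg) (commute_of_mem_zpowers (ha g) (hb g))
      (hab g ▸ hb g) (h1 g) (h2 g)
    exact ⟨h3, mem_cent_iff.mpr (commute_of_mem_zpowers (hb g) (ha g)), h4⟩
  · intro g _
    rw [← cent_mul_of_coprime (commute_of_mem_zpowers (ha g) (hb g)) ((h1 g).coprime_compl (h2 g)),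
      ← hab]

theorem key_ineq [Finite G] {π σ : Set ℕ} {r : ℕ} [hr : Fact r.Prime]
    (hσ : ∀ q ∈ π, q ∈ σ ∨ q = r) {R : Subgroup G} (hR : SylowIn r R ⊤) (hc : R ≤ 𝐂 R) :
    r * kpi π G ≤ r * (kOf (R : Set G) * kpi σ (𝐂 R)) + Nat.card R * kpi σ G := by
  haveI := Fintype.ofFinite G
  set S1 : Set G := {g | ∃ x ∈ R, ∃ y ∈ 𝐂 R, IsPiNumber σ (orderOf y) ∧ IsConj (x * y) g} with hS1
  have h1 : kOf S1 ≤ kOf (R : Set G) * kpi σ (𝐂 R) := by
    refine kOf_le_mul (fun t ⟨x, hx, y, hy, hy', ht⟩ => ⟨x, hx, fun x' hx' e => ?_⟩)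
    obtain ⟨g, rfl⟩ := isConj_iff.mp e
    obtain ⟨n, hn, d, hd, rfl⟩ := hR.burnside_fusion (D := centralizer ({x} : Set G)) (mem_top g)
      (fun z hz => mem_cent_iff.mpr (hc hx z hz)) (by
        rw [cj_eq_smul, ← cent_conj]; exact fun z hz => mem_cent_iff.mpr (hc hx' z hz))
    have h2 : g * d * y * (g * d)⁻¹ ∈ 𝐂 R :=
      Core.conj_mem_of_mem_normalizer (Core.normalizer_le_normalizer_centralizer R hn.2) hy
    refine ⟨⟨_, h2⟩, by simpa only [Set.mem_ofPred_eq, orderOf_mk, orderOf_conj'] using hy',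
      fun y' _ e' => ?_⟩
    obtain ⟨c, rfl⟩ := isConj_iff.mp e'
    refine IsConj.trans (isConj_iff.mpr ⟨((c : G) * (g * d))⁻¹, ?_⟩) ht
    have h3 : (c : G) * (g * x * g⁻¹) * (c : G)⁻¹ = g * x * g⁻¹ := conj_eq_of_mem_centralizer c.2 hx'
    have h4 : d * x * d⁻¹ = x := conj_eq_of_mem_centralizer hd.2 rfl
    have h5 : g * x * g⁻¹ = c * (g * (d * x * d⁻¹) * g⁻¹) * (c : G)⁻¹ := by rw [h4, h3]
    rw [h5]
    simp only [coe_mul, coe_inv]
    group
  set S2 : Set G := {g | IsPiNumber π (orderOf g)} \ S1 with hS2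
  have h2 := card_mul_kOf_le (S := S2) (σ := σ \ {r}) (τ := {r})
    (Q := fun a => IsPiNumber σ (orderOf a) ∧ r ∣ (centralizer ({a} : Set G)).index)
    (fun g y hy => ⟨by simpa [orderOf_conj'] using hy.1, fun ⟨x, hx, z, hz, hz', e⟩ =>
      hy.2 ⟨x, hx, z, hz, hz', e.trans (isConj_iff.mpr ⟨g, rfl⟩).symm⟩⟩) (by
    intro a b hab hcomm hb ha hb'
    have h3 : IsPiNumber {r} (orderOf b) := fun q hq hd => by
      by_contra hqr
      rcases hσ q (hab.1 q hq (hd.trans (orderOf_dvd_of_mem_zpowers hb))) with e | e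
      · exact hb' q hq hd ⟨e, hqr⟩
      · exact hqr e
    refine ⟨⟨fun q hq hd => (ha q hq hd).1, ?_⟩, h3⟩
    by_contra hn
    obtain ⟨T, hbT, hT⟩ := exists_sylowIn_ge ((isPGroup_zpowers_iff hr.out).mpr
      ((isPiNumber_singleton_iff hr.out (orderOf_pos b).ne').mp h3))
      (zpowers_le.mpr (mem_cent_iff.mpr hcomm.symm) : zpowers b ≤ centralizer ({a} : Set G))
    have hT' : SylowIn r T ⊤ := ⟨le_top, hT.2, by
      rw [relIndex_top_right, ← relIndex_mul_index hT.1]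
      exact fun h => (hr.out.dvd_mul.mp h).elim hT.3 hn⟩
    obtain ⟨h, -, rfl⟩ := hT'.exists_cj_eq hR
    refine hab.2 ⟨h * b * h⁻¹, conj_mem_cj.mpr (hbT (mem_zpowers b)), h * a * h⁻¹, ?_,
      by simpa [orderOf_conj'] using fun q hq hd => (ha q hq hd).1, ?_⟩
    · rw [← cj_centralizer, conj_mem_cj]; exact mem_cent_of_cent hT.1
    · rw [hcomm]; exact (isConj_iff.mpr ⟨h, by group⟩).symm)
  have h3 : r * kOf S2 ≤ Nat.card R * kpi σ G := by
    apply Nat.le_of_mul_le_mul_left _ (Nat.card_pos (α := G))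
    rw [mul_left_comm, mul_left_comm _ (Nat.card R), kpi,
      ← sum_card_cent (S := {x : G | IsPiNumber σ (orderOf x)})
        (fun g y hy => by simpa [orderOf_conj'] using hy)]
    refine (Nat.mul_le_mul_left r h2).trans ?_
    rw [Finset.mul_sum, Finset.mul_sum]
    refine le_trans (Finset.sum_le_sum (fun x hx => ?_)) (Finset.sum_le_sum_of_subset
      (fun x hx => Finset.mem_filter.mpr ⟨Finset.mem_univ _, (Finset.mem_filter.mp hx).2.1⟩))
    rw [mul_left_comm, mul_comm (Nat.card R)]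
    refine Nat.mul_le_mul_left _ ((Nat.mul_le_mul_left r (kpi_singleton_le hr.out)).trans ?_)
    obtain ⟨T, hT⟩ := exists_sylowIn (p := r) (centralizer ({x} : Set G))
    rw [← hT.card_eq_pow]
    obtain ⟨n, hn⟩ := IsPGroup.iff_card.mp hR.2
    refine mul_le_of_dvd_of_ne (π := {r}) (fun q hq => le_of_eq hq.symm)
      ((isPiNumber_singleton_iff hr.out Nat.card_pos.ne').mpr ⟨n, hn⟩) Nat.card_pos.ne'
      (hR.card_dvd hT.2 le_top) (fun e => (hR.of_card_le le_top hT.2 e.ge).3 ?_)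
    rw [relIndex_top_right]
    exact (Finset.mem_filter.mp hx).2.2.trans (index_dvd_of_le hT.1)
  have h4 : kpi π G ≤ kOf S1 + kOf S2 := by
    refine le_trans (kOf_le_of_conj (fun t ht => ⟨t, ?_, IsConj.refl _⟩)) (kOf_union_le _ _)
    by_cases h : t ∈ S1
    · exact Or.inl h
    · exact Or.inr ⟨ht, h⟩
  nlinarith

theorem isPiHall_iff_card_eq_pp [Finite G] {π : Finset ℕ} (hπ : ∀ r ∈ π, r.Prime) {H : Subgroup G} :
    IsPiHall π H ↔ Nat.card H = pp π (Nat.card G) := by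
  rw [isPiHall_iff]
  constructor
  · rintro ⟨h1, h2⟩
    rw [← H.card_mul_index, pp_eq_of hπ Nat.card_pos.ne' index_ne_zero_of_finite h1 h2]
  · intro h
    obtain ⟨b, hb, hb'⟩ := exists_eq_pp_mul hπ (Nat.card_pos (α := G)).ne'
    rw [← h, ← H.card_mul_index] at hb
    exact ⟨h ▸ isPi_pp hπ _, Nat.eq_of_mul_eq_mul_left Nat.card_pos hb ▸ hb'⟩

theorem kpi_le_card_conjClasses [Finite G] {π : Set ℕ} {H : Subgroup G} (hH : IsPiHall π H)
    [Group.IsNilpotent H] : kpi π G ≤ Nat.card (ConjClasses H) := by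
  refine le_trans (kOf_le_of_conj (fun t ht => ?_)) (kOf_le_card_conjClasses H)
  obtain ⟨g, hg⟩ := le_conj_of_isPiHall_of_nilpotent (K := zpowers t) hH (by rwa [Nat.card_zpowers])
  have := mem_cj.mp ((cj_eq_smul g H).symm ▸ hg (mem_zpowers t))
  exact ⟨_, this, isConj_iff.mpr ⟨g, by group⟩⟩

theorem pow_lt_of_pp_lt [Finite G] {π : Finset ℕ} (hπ : ∀ r ∈ π, r.Prime) {r : ℕ} (hr : r ∈ π)
    {a b : ℕ} (h : a * pp π (Nat.card G) < b * kpi π G) :
    a * r ^ (Nat.card G).factorization r < b * kpi {r} G := by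
  have h1 := Nat.mul_le_mul_left b (kpi_le_singleton_mul (G := G) hπ r)
  rw [pp_erase hr] at h
  refine Nat.lt_of_mul_lt_mul_right (a := pp (π.erase r) (Nat.card G)) ?_
  nlinarith

theorem pp_lt_of_pp_lt [Finite G] {π : Finset ℕ} (hπ : ∀ r ∈ π, r.Prime) {r : ℕ} (hr : r ∈ π)
    {a b : ℕ} (h : a * pp π (Nat.card G) < b * kpi π G) :
    a * pp (π.erase r) (Nat.card G) < b * kpi (π.erase r) G := by
  have h1 : kpi π G ≤ kpi (π.erase r) G * r ^ (Nat.card G).factorization r := by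
    refine kpi_le_mul (τ := {r}) (fun q hq => ?_) (fun H => (kpi_singleton_le (hπ r hr)).trans
      (Nat.pow_le_pow_right (hπ r hr).pos ((Nat.factorization_le_iff_dvd Nat.card_pos.ne'
        Nat.card_pos.ne').mpr (card_subgroup_dvd_card H) r)))
    by_cases e : q = r
    · exact Or.inr e
    · exact Or.inl (Finset.mem_erase.mpr ⟨e, hq⟩)
  have h2 := Nat.mul_le_mul_left b h1
  rw [pp_erase hr] at h
  refine Nat.lt_of_mul_lt_mul_right (a := r ^ (Nat.card G).factorization r) ?_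
  nlinarith

theorem card_lt_of_pp_lt [Finite G] {π : Finset ℕ} (hπ : ∀ r ∈ π, r.Prime) {r : ℕ} [Fact r.Prime]
    (hr : r ∈ π) {a b : ℕ} (h : a * pp π (Nat.card G) < b * kpi π G) {R : Subgroup G}
    (hR : SylowIn r R ⊤) : a * Nat.card R < b * kOf (R : Set G) := by
  have := pow_lt_of_pp_lt hπ hr h
  rw [hR.card_eq_pow, card_top]
  exact this.trans_le (Nat.mul_le_mul_left _ (kpi_singleton_le_kOf' hR))

theorem isPiHall_sup_sylow [Finite G] {π : Finset ℕ} (hπ : ∀ r ∈ π, r.Prime) {r : ℕ}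
    [hr' : Fact r.Prime] (hr : r ∈ π) {H R : Subgroup G} (hH : IsPiHall (π.erase r) H)
    (hR : SylowIn r R ⊤) (hn : H ≤ 𝐍 R) : IsPiHall π (H ⊔ R) := by
  refine ⟨fun q hq hd => ?_, fun q hq hqπ hd => ?_⟩
  · rcases (hq.dvd_mul).mp (hd.trans (Core.card_sup_dvd hn)) with h | h
    · exact Finset.mem_of_mem_erase (hH.1 q hq h)
    · obtain ⟨n, hn⟩ := IsPGroup.iff_card.mp hR.2
      rwa [(Nat.prime_dvd_prime_iff_eq hq hr'.out).mp (hq.dvd_of_dvd_pow (hn ▸ h))]
  · by_cases e : q = r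
    · subst e
      exact hR.3 (by rw [relIndex_top_right]; exact hd.trans (index_dvd_of_le le_sup_right))
    · exact hH.2 q hq (Finset.mem_erase.mpr ⟨e, hqπ⟩) (hd.trans (index_dvd_of_le le_sup_left))

theorem le_cent_of_lt [Finite G] {r p : ℕ} [hr : Fact r.Prime] (hp : p < r) {R : Subgroup G}
    (hR : IsPGroup r R) (h : Nat.card R < p * kOf (R : Set G)) : R ≤ 𝐂 R := by
  have h1 := card_commutator_le (le_of_dvd_card_of_isPGroup hR hp.le)
    (h.trans_le (Nat.mul_le_mul_left _ (kOf_le_card_conjClasses R)))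
  have h2 : commutator R = ⊥ := by
    rcases (hR.to_subgroup (commutator R)).card_eq_or_dvd with e | e
    · exact card_eq_one.mp e
    · exact absurd (Nat.le_of_dvd Nat.card_pos e) (by omega)
  intro a ha b hb
  have : ⁅(⟨b, hb⟩ : R), (⟨a, ha⟩ : R)⁆ ∈ commutator R := commutator_mem_commutator trivial trivial
  rw [h2, mem_bot, commutatorElement_eq_one_iff_mul_comm] at this
  exact congrArg Subtype.val this

universe u

theorem exists_nilpotent_hall (p : ℕ) (π : Finset ℕ) : (∀ r ∈ π, r.Prime) → (∀ r ∈ π, p ≤ r) →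
    ∀ (G : Type u) [Group G] [Finite G], pp π (Nat.card G) < p * kpi π G →
      ∃ H : Subgroup G, IsPiHall π H ∧ Group.IsNilpotent H := by
  induction π using Finset.strongInduction with
  | H π ih =>
  intro hπ hmin G _ _ h
  rw [← one_mul (pp π _)] at h
  have hπ' : ∀ r, ∀ s ∈ π.erase r, s.Prime := fun r s hs => hπ s (Finset.mem_of_mem_erase hs)
  have hmin' : ∀ r, ∀ s ∈ π.erase r, p ≤ s := fun r s hs => hmin s (Finset.mem_of_mem_erase hs)
  by_cases hB : ∃ s ∈ π, ∃ r ∈ π, s < r ∧ ¬ PNil s (⊤ : Subgroup G) ∧ ¬ PNil r (⊤ : Subgroup G)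
  · obtain ⟨s, hs, r, hr, hsr, hns, hnr⟩ := hB
    haveI : Fact s.Prime := ⟨hπ s hs⟩
    haveI : Fact r.Prime := ⟨hπ r hr⟩
    obtain ⟨S, hS⟩ := exists_sylowIn (p := s) (⊤ : Subgroup G)
    obtain ⟨R, hR⟩ := exists_sylowIn (p := r) (⊤ : Subgroup G)
    have hps := hmin s hs
    have hs2 : s ≠ 2 := by
      rintro rfl
      have := card_lt_of_pp_lt hπ hs h hS
      exact hns (pnil_two_of_lt hS (by nlinarith))
    have hr2 : r ≠ 2 := by have := (hπ s hs).two_le; omega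
    have hsr2 : s + 2 ≤ r := by
      have h1 := (hπ s hs).eq_two_or_odd
      have h2 := (hπ r hr).eq_two_or_odd
      omega
    have hc : R ≤ 𝐂 R := le_cent_of_lt (hps.trans_lt hsr) hR.2
      (by simpa using card_lt_of_pp_lt hπ hr h hR)
    have h1 := two_mul_kOf_le_of_not_pnil hr2 hR (fun h => hnr h.1)
    have h2 := two_mul_kOf_le_of_not_pnil hs2 hS (fun h => hns h.1)
    have hs' : s ∈ π.erase r := Finset.mem_erase.mpr ⟨hsr.ne, hs⟩
    have h3 : 2 * s * kpi (π.erase r) G ≤ (s + 1) * pp (π.erase r) (Nat.card G) := by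
      by_contra hh
      exact absurd (card_lt_of_pp_lt (hπ' r) hs' (not_le.mp hh) hS) (not_lt.mpr h2)
    have h4 := key_ineq (π := π) (σ := π.erase r) (fun q hq => by
      by_cases e : q = r
      · exact Or.inr e
      · exact Or.inl (Finset.mem_erase.mpr ⟨e, hq⟩)) hR hc
    rw [one_mul, pp_erase hr, ← card_top, ← hR.card_eq_pow, card_top] at h
    have h5 : pp (π.erase r) (Nat.card G) < p * kpi (π.erase r) (𝐂 R) := by
      by_contra hh
      rw [not_lt] at hh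
      set m := pp (π.erase r) (Nat.card G)
      have e1 := Nat.mul_lt_mul_of_pos_left h (show 0 < 2 * r by have := (hπ r hr).pos; omega)
      have e2 := Nat.mul_le_mul_left (2 * p) h4
      have e3 := Nat.mul_le_mul h1 hh
      have e4 := Nat.mul_le_mul_left (Nat.card R) h3
      have e5 := Nat.mul_le_mul_right (2 * Nat.card R * kpi (π.erase r) G) hps
      have e6 := Nat.mul_le_mul_right (m * Nat.card R) hsr2
      nlinarith
    have h6 : pp (π.erase r) (Nat.card (𝐂 R)) = pp (π.erase r) (Nat.card G) := by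
      by_contra hh
      have := mul_le_of_dvd_of_ne (hmin' r) (isPi_pp (hπ' r) _) (pp_pos (hπ' r) _).ne'
        (pp_dvd_pp _ Nat.card_pos.ne' (card_subgroup_dvd_card (𝐂 R))) hh
      exact absurd (h5.trans_le (Nat.mul_le_mul_left p (kpi_le_pp _ (hπ' r) (𝐂 R)))) (not_lt.mpr this)
    obtain ⟨H, hH, hHn⟩ := ih _ (Finset.erase_ssubset hr) (hπ' r) (hmin' r) (𝐂 R) (h6 ▸ h5)
    have h7 : H.map (𝐂 R).subtype ≤ 𝐂 R := map_subtype_le H
    haveI : Group.IsNilpotent (H.map (𝐂 R).subtype) :=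
      Group.nilpotent_of_mulEquiv (H.equivMapOfInjective _ (𝐂 R).subtype_injective)
    haveI : Group.IsNilpotent R := hR.2.isNilpotent
    refine ⟨H.map (𝐂 R).subtype ⊔ R, isPiHall_sup_sylow hπ hr ?_ hR
      (h7.trans (centralizer_le_normalizer _)), isNilpotent_sup_of_le_centralizer h7⟩
    rw [isPiHall_iff_card_eq_pp (hπ' r)] at hH ⊢
    rw [card_map_of_injective (𝐂 R).subtype_injective, hH, h6]
  rcases π.eq_empty_or_nonempty with rfl | hne
  · exact ⟨⊥, ⟨fun q hq hd => absurd (Nat.dvd_one.mp (by simpa using hd)) hq.ne_one, by simp⟩,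
      inferInstance⟩
  obtain ⟨r, hr, hA⟩ : ∃ r ∈ π, ∀ s ∈ π.erase r, PNil s (⊤ : Subgroup G) := by
    by_cases h1 : ∃ r ∈ π, ¬ PNil r (⊤ : Subgroup G)
    · obtain ⟨r, hr, hn⟩ := h1
      refine ⟨r, hr, fun s hs => by_contra fun hs' => hB ?_⟩
      obtain ⟨h2, h3⟩ := Finset.mem_erase.mp hs
      rcases lt_or_gt_of_ne h2 with h4 | h4
      · exact ⟨s, h3, r, hr, h4, hs', hn⟩
      · exact ⟨r, hr, s, h3, h4, hn, hs'⟩
    · obtain ⟨r, hr⟩ := hne
      exact ⟨r, hr, fun s hs => by_contra fun hs' => h1 ⟨s, Finset.mem_of_mem_erase hs, hs'⟩⟩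
  haveI : Fact r.Prime := ⟨hπ r hr⟩
  obtain ⟨H, hH, hHn⟩ := ih _ (Finset.erase_ssubset hr) (hπ' r) (hmin' r) G
    (by simpa using pp_lt_of_pp_lt hπ hr h)
  obtain ⟨K, hKn, hK⟩ := exists_normal_isComplement'_of_pnil (coprime_of_isPiHall hH)
    (fun q _ hq => hA q (hH.1 q Fact.out hq))
  have hKc : Nat.card K = H.index := hK.index_eq_card.symm
  have hKi : K.index = Nat.card H := hK.symm.index_eq_card
  have hcop : (Nat.card H).Coprime (Nat.card K) := hKc ▸ coprime_of_isPiHall hH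
  have hrK : ¬ r ∣ K.index := fun hd => by simpa using hH.1 r Fact.out (hKi ▸ hd)
  obtain ⟨R, hR, hHR⟩ := Coprime.exists_invariant_sylowIn (A := H) (K := K) le_normalizer_of_normal
    hcop (Or.inl inferInstance) r
  have hR' : SylowIn r R ⊤ := ⟨le_top, hR.2, by
    rw [relIndex_top_right, ← relIndex_mul_index hR.1]
    exact fun h => ((hπ r hr).dvd_mul.mp h).elim hR.3 hrK⟩
  have hL := isPiHall_sup_sylow hπ hr hH hR' hHR
  refine ⟨H ⊔ R, hL, isNilpotent_of_lt_mul (p := p) (fun q hq hd => hmin q (hL.1 q hq hd)) ?_⟩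
  rw [(isPiHall_iff_card_eq_pp hπ).mp hL, ← one_mul (pp _ _)]
  refine h.trans_le (Nat.mul_le_mul_left _ (le_trans (kOf_le_of_conj (fun t ht => ?_))
    (kOf_le_card_conjClasses _)))
  obtain ⟨a, ha, b, hb, hab, h1, h2⟩ := exists_piPart (π.erase r : Set ℕ) t
  have h3 : IsPiNumber {r} (orderOf b) := fun q hq hd => by
    by_contra hqr
    exact h2 q hq hd (Finset.mem_erase.mpr ⟨hqr, ht q hq (hd.trans (orderOf_dvd_of_mem_zpowers hb))⟩)
  obtain ⟨g, hg⟩ := le_conj_of_isPiHall_of_nilpotent (K := zpowers a) hH (by rwa [Nat.card_zpowers])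
  have h4 : g⁻¹ * a * g⁻¹⁻¹ ∈ H := by
    rw [inv_inv]; exact mem_cj.mp ((cj_eq_smul g H).symm ▸ hg (mem_zpowers a))
  have h5 : IsPGroup r (zpowers (g⁻¹ * b * g⁻¹⁻¹)) := (isPGroup_zpowers_iff (hπ r hr)).mpr
    ((isPiNumber_singleton_iff (hπ r hr) (orderOf_pos _).ne').mp (by rwa [orderOf_conj']))
  have h6 := zpowers_le.mpr h4
  have h7 := Coprime.sylowIn_inf_centralizer (A := zpowers (g⁻¹ * a * g⁻¹⁻¹)) le_normalizer_of_normal
    (hcop.of_dvd_left (card_dvd_of_le h6)) (Or.inl inferInstance) hR (h6.trans hHR)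
  obtain ⟨c, hc, h8⟩ := h7.exists_cj_le h5 (le_inf (zpowers_le.mpr
    (mem_of_isPGroup_of_not_dvd_index (hπ r hr) h5 (le_normalizer_of_normal (mem_top _)) hrK)) (zpowers_le.mpr (by
      rw [zpowers_eq_closure, centralizer_closure, mem_cent_iff]
      have := commute_of_mem_zpowers hb ha
      simp only [mul_assoc, inv_inv, mul_inv_cancel_left, this.eq]
      rw [← mul_assoc b, ← mul_assoc a, this.eq])))
  refine ⟨_, mul_mem (mem_sup_left h4) (mem_sup_right (cj_zpowers_le.mp h8).1),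
    (isConj_iff.mpr ⟨c * g⁻¹, ?_⟩).symm⟩
  rw [← conj_eq_of_mem_centralizer hc.2 (mem_zpowers _), hab]
  group

theorem card_classes_eq_kOf {S : Set G} {Q : ConjClasses G → Prop}
    (h : ∀ x : G, Q (ConjClasses.mk x) ↔ x ∈ S) : Nat.card {c : ConjClasses G // Q c} = kOf S := by
  rw [kOf, ← Nat.card_coe_set_eq]
  refine Nat.card_congr (Equiv.subtypeEquivRight (fun c => ?_))
  obtain ⟨x, rfl⟩ := ConjClasses.mk_surjective c
  constructor
  · exact fun hx => ⟨x, (h x).mp hx, rfl⟩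
  · rintro ⟨y, hy, e⟩
    exact e ▸ (h y).mpr hy

theorem orderOf_eq_of_mk_eq {x y : G} (h : ConjClasses.mk x = ConjClasses.mk y) :
    orderOf x = orderOf y := by
  obtain ⟨g, rfl⟩ := isConj_iff.mp (ConjClasses.mk_eq_mk_iff_isConj.mp h)
  exact (orderOf_conj' g x).symm

theorem card_classes_carrier (π : Set ℕ) : Nat.card {c : ConjClasses G //
    ∀ x ∈ c.carrier, ∀ r : ℕ, r.Prime → r ∣ orderOf x → r ∈ π} = kpi π G :=
  card_classes_eq_kOf (fun x => ⟨fun h => h x (ConjClasses.mem_carrier_iff_mk_eq.mpr rfl),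
    fun h y hy => by
      rw [orderOf_eq_of_mk_eq (ConjClasses.mem_carrier_iff_mk_eq.mp hy)]; exact h⟩)

theorem card_classes_pow [Finite G] {p : ℕ} (hp : p.Prime) : Nat.card {c : ConjClasses G //
    ∀ x ∈ c.carrier, ∃ k : ℕ, orderOf x = p ^ k} = kpi {p} G :=
  card_classes_eq_kOf (fun x => ⟨fun h => (isPiNumber_singleton_iff hp (orderOf_pos x).ne').mpr
    (h x (ConjClasses.mem_carrier_iff_mk_eq.mpr rfl)), fun h y hy => by
      rw [orderOf_eq_of_mk_eq (ConjClasses.mem_carrier_iff_mk_eq.mp hy)]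
      exact (isPiNumber_singleton_iff hp (orderOf_pos x).ne').mp h⟩)

theorem card_classes_exists (π : Set ℕ) : Nat.card {C : ConjClasses G // ∀ q : ℕ, q.Prime →
    (∃ g : G, ConjClasses.mk g = C ∧ q ∣ orderOf g) → q ∈ π} = kpi π G :=
  card_classes_eq_kOf (fun x => ⟨fun h q hq hd => h q hq ⟨x, rfl, hd⟩,
    fun h q hq ⟨g, hg, hd⟩ => h q hq (orderOf_eq_of_mk_eq hg ▸ hd)⟩)

theorem exists_finset_pi [Finite G] (π : Set ℕ) {m : ℕ} (hm : m ∣ Nat.card G)
    (hmπ : ∀ q : ℕ, q.Prime → q ∣ m → q ∈ π) (hm' : ∀ q ∈ π, ¬ q ∣ Nat.card G / m) :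
    ∃ τ : Finset ℕ, (∀ r ∈ τ, r.Prime ∧ r ∈ π) ∧ kpi π G = kpi τ G ∧ m = pp τ (Nat.card G) := by
  have h0 := (Nat.card_pos (α := G)).ne'
  refine ⟨(Nat.card G).primeFactors.filter (· ∈ π), fun r hr =>
    ⟨Nat.prime_of_mem_primeFactors (Finset.mem_filter.mp hr).1, (Finset.mem_filter.mp hr).2⟩, ?_, ?_⟩
  · rw [kpi, kpi]
    congr 1
    ext x
    exact ⟨fun h q hq hd => Finset.mem_filter.mpr ⟨Nat.mem_primeFactors.mpr
      ⟨hq, hd.trans (orderOf_dvd_natCard x), h0⟩, h q hq hd⟩,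
      fun h q hq hd => (Finset.mem_filter.mp (h q hq hd)).2⟩
  · have h1 := Nat.mul_div_cancel' hm
    conv_rhs => enter [2]; rw [← h1]
    refine (pp_eq_of (fun r hr => Nat.prime_of_mem_primeFactors (Finset.mem_filter.mp hr).1)
      (ne_zero_of_dvd_ne_zero h0 hm) (fun e => h0 (by rw [← h1, e, mul_zero]))
      (fun q hq hd => Finset.mem_filter.mpr ⟨Nat.mem_primeFactors.mpr ⟨hq, hd.trans hm, h0⟩,
        hmπ q hq hd⟩) (fun q _ hd h => hm' q (Finset.mem_filter.mp h).2 hd)).symm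

theorem exists_nilpotent_hall' [Finite G] {p : ℕ} {π : Finset ℕ} (hπ : ∀ r ∈ π, r.Prime)
    (hmin : ∀ r ∈ π, p ≤ r) (h : pp π (Nat.card G) < p * kpi π G) :
    ∃ H : Subgroup G, IsPiHall π H ∧ Group.IsNilpotent H ∧ Nat.card (commutator H) ≤ p := by
  obtain ⟨H, hH, hn⟩ := exists_nilpotent_hall p π hπ hmin G h
  refine ⟨H, hH, hn, card_commutator_le (fun q hq hd => hmin q (hH.1 q hq hd)) ?_⟩
  rw [(isPiHall_iff_card_eq_pp hπ).mp hH]
  exact h.trans_le (Nat.mul_le_mul_left _ (kpi_le_card_conjClasses hH))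

theorem exists_abelian_hall [Finite G] {p : ℕ} (hp : 0 < p) {π : Finset ℕ} (hπ : ∀ r ∈ π, r.Prime)
    (hmin : ∀ r ∈ π, p ≤ r) (h : (p ^ 2 + p - 1) * pp π (Nat.card G) < p ^ 3 * kpi π G) :
    ∃ H : Subgroup G, IsPiHall π H ∧ IsMulCommutative H := by
  obtain ⟨q, rfl⟩ : ∃ q, p = q + 1 := ⟨p - 1, by omega⟩
  rw [show (q + 1) ^ 2 + (q + 1) - 1 = (q + 1) ^ 2 + q by omega] at h
  obtain ⟨H, hH, hn⟩ := exists_nilpotent_hall (q + 1) π hπ hmin G (by
    refine Nat.lt_of_mul_lt_mul_left (a := (q + 1) ^ 2) ?_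
    nlinarith [Nat.zero_le (q * pp π (Nat.card G))])
  refine ⟨H, hH, by_contra fun hc => ?_⟩
  have h1 := card_conjClasses_le_of_not_comm hp (fun q hq hd => hmin q (hH.1 q hq hd)) hc
  have h2 := Nat.mul_le_mul_left ((q + 1) ^ 3) (kpi_le_card_conjClasses hH)
  rw [(isPiHall_iff_card_eq_pp hπ).mp hH] at h1
  nlinarith

theorem exists_normal_compl_of_pnil [Finite G] {π : Set ℕ} {H : Subgroup G} (hH : IsPiHall π H)
    (h : ∀ (q : ℕ) [Fact q.Prime], q ∈ π → PNil q (⊤ : Subgroup G)) :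
    ∃ N : Subgroup G, N.Normal ∧ (∀ r : ℕ, r.Prime → r ∣ Nat.card N → r ∉ π) ∧
      ∀ r : ℕ, r.Prime → r ∣ N.index → r ∈ π := by
  obtain ⟨K, hKn, hK⟩ := exists_normal_isComplement'_of_pnil (coprime_of_isPiHall hH)
    (fun q _ hq => h q (hH.1 q Fact.out hq))
  exact ⟨K, hKn, fun r hr hd hπ => hH.2 r hr hπ (hK.index_eq_card ▸ hd),
    fun r hr hd => hH.1 r hr (hK.symm.index_eq_card ▸ hd)⟩

theorem pnil_of_two_mem [Finite G] {π : Finset ℕ} (hπ : ∀ r ∈ π, r.Prime) (h2 : 2 ∈ π)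
    (h : pp π (Nat.card G) < 2 * kpi π G) (q : ℕ) [hq : Fact q.Prime] (hqπ : q ∈ π) :
    PNil q (⊤ : Subgroup G) := by
  obtain ⟨H, hH, hn⟩ := exists_nilpotent_hall 2 π hπ (fun r hr => (hπ r hr).two_le) G h
  rw [← one_mul (pp _ _)] at h
  obtain ⟨Q, hQ⟩ := exists_sylowIn (p := q) H
  have hQ' : SylowIn q Q ⊤ := ⟨le_top, hQ.2, by
    rw [relIndex_top_right, ← relIndex_mul_index hQ.1]
    exact fun h => (hq.out.dvd_mul.mp h).elim hQ.3 (hH.2 q hq.out hqπ)⟩
  have h1 := card_lt_of_pp_lt hπ hqπ h hQ'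
  rw [one_mul] at h1
  by_cases e : q = 2
  · subst e; exact pnil_two_of_lt hQ' h1
  have hq2 : 2 < q := lt_of_le_of_ne hq.out.two_le (Ne.symm e)
  have hc := le_cent_of_lt hq2 hQ.2 h1
  refine hQ'.pnil_of_normalizer_le_centralizer (le_of_forall_prime_pow (fun l hl x hx ⟨k, hk⟩ => ?_))
  haveI : Fact l.Prime := ⟨hl⟩
  have hxl : IsPGroup l (zpowers x) := (isPGroup_zpowers_iff hl).mpr
    (((Nat.dvd_prime_pow hl).mp (orderOf_dvd_of_pow_eq_one hk)).imp fun _ h => h.2)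
  by_cases hlπ : l ∈ π
  · refine mem_of_isPGroup_of_not_dvd_index hl hxl (Core.normalizer_le_normalizer_centralizer Q hx.2)
      (fun hd => ?_)
    by_cases e' : l = q
    · subst e'
      exact hQ'.3 (by rw [relIndex_top_right]; exact hd.trans (index_dvd_of_le hc))
    · obtain ⟨T, hT⟩ := exists_sylowIn (p := l) H
      have h3 : T ≤ 𝐂 Q := le_centralizer_of_coprime_of_le_nilpotent hT.1 hQ.1
        (IsPGroup.coprime_card_of_ne l q e' T Q hT.2 hQ.2)
      have h4 := hd.trans (index_dvd_of_le h3)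
      rw [← relIndex_mul_index hT.1] at h4
      exact (hl.dvd_mul.mp h4).elim hT.3 (hH.2 l hl hlπ)
  by_contra hxc
  have h3 := mul_kOf_le_of_norm hx.2 (m := l) (fun r hr hd => le_of_eq
    ((Nat.prime_dvd_prime_iff_eq hr hl).mp (hr.dvd_of_dvd_pow
      (hd.trans (orderOf_dvd_of_pow_eq_one hk)))).symm)
  have h4 := mul_card_inf_le hQ.2 (fun h4 => hxc (mem_cent_of_cent h4))
  have hl2 : l ≠ 2 := fun e => hlπ (e ▸ h2)
  have hlq : l ≠ q := fun e => hlπ (e ▸ hqπ)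
  have h5 := hl.eq_two_or_odd
  have h6 := hq.out.eq_two_or_odd
  have h7 := hl.two_le
  obtain ⟨a, rfl⟩ : ∃ a, l = a + 3 := ⟨l - 3, by omega⟩
  obtain ⟨b, rfl⟩ : ∃ b, q = b + 3 := ⟨q - 3, by omega⟩
  have h8 : 2 ≤ a + b := by omega
  have h9 := Nat.mul_le_mul_left ((a + 3) * (b + 3)) (Nat.succ_le_of_lt h1)
  have h10 := Nat.mul_le_mul_left (2 * (b + 3)) h3
  have h11 := Nat.mul_le_mul_left (2 * (a + 2)) h4
  have h12 := Nat.mul_le_mul_right (Nat.card Q) h8
  nlinarith [Nat.zero_le (a * b * Nat.card Q), Nat.zero_le (a * b)]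

end Cfsg.Lib.Hall
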