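import Cfsg.Agent.Lib.Hall.Sh2c
import Cfsg.Agent.Lib.Small.Zsigmondy

/-! Huppert's theorem on solvable linear groups that are transitive on non-zero vectors. -/

namespace Cfsg.Lib.Hall.Lin

open Subgroup Module _root_.Cfsg.Lib.Core _root_.Cfsg.Lib.Transfer
open scoped Pointwise commutatorElement

local notation "𝐍" X:max => normalizer (SetLike.coe (X : Subgroup _))
local notation "𝐂" X:max => centralizer (SetLike.coe (X : Subgroup _))

variable {k G V : Type*} [Field k] [AddCommGroup V] [Module k V] [Group G] {ρ : G →* Module.End k V}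
  {A N : Subgroup G} {r : ℕ} [Finite V]

theorem Fld.relIndex_le {F : Type*} [Field F] [Algebra k F] [Module F V] {χ : A →* Fˣ} {θ : G →* (F ≃ₐ[k] F)}
    [Nontrivial V] [Finite G] (h : Fld ρ A χ θ) (hm : Xs A N r) (hC : 𝐂 N = A) : A.relIndex N ≤ finrank F V * finrank F V := by
  classical
  have hs : ∀ y : N, ∀ (c : F) v, ρ y (c • v) = c • ρ y v := fun y c v => by
    rw [h.semi, MonoidHom.mem_ker.mp (h.ker.ge (hm.le y.2))]; rfl
  let lin : N → V →ₗ[F] V := fun y => { toFun := ρ y, map_add' := map_add _, map_smul' := hs y }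
  let lam : N → N →* F := fun x =>
    { toFun y := χ ⟨⁅(y : G), (x : G)⁆, hm.comm_mem _ y.2 _ x.2⟩
      map_one' := by simp [show (⟨1, one_mem A⟩ : A) = 1 from rfl]
      map_mul' y z := by
        rw [mul_comm, ← Units.val_mul, ← map_mul]
        congr 2
        apply Subtype.ext
        have := mem_centralizer_iff.mp (hm.le y.2) _ (hm.comm_mem _ z.2 _ x.2)
        simp only [coe_mul, commutatorElement_def] at this ⊢
        rw [← mul_assoc, ← mul_assoc, ← mul_assoc, this]
        group }
  haveI := Fintype.ofFinite (N ⧸ A.subgroupOf N)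
  have hi : Function.Injective fun i : N ⧸ A.subgroupOf N => lam i.out := fun i j e => by
    rw [← i.out_eq', ← j.out_eq', QuotientGroup.eq, mem_subgroupOf]
    refine hC.le fun y hy => ?_
    have := congrArg Subtype.val (h.inj (Units.ext (DFunLike.congr_fun e ⟨y, hy⟩)))
    simp only [commutatorElement_def, mul_assoc, mul_right_inj] at this
    have : (i.out : G) * (y⁻¹ * (i.out : G)⁻¹) = j.out * (y⁻¹ * (j.out : G)⁻¹) := this
    calc y * ((i.out : G)⁻¹ * j.out) = (i.out : G)⁻¹ * ((i.out : G) * (y⁻¹ * (i.out : G)⁻¹))⁻¹ * j.out := by group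
      _ = _ := by rw [this, coe_mul, coe_inv]; group
  have hl : LinearIndependent F fun i : N ⧸ A.subgroupOf N => lin i.out := Fintype.linearIndependent_iff.mpr fun c hc i => by
    obtain ⟨v, hv⟩ := exists_ne (0 : V)
    obtain ⟨φ, hφ⟩ := Module.Projective.exists_dual_ne_zero F (apply_ne_zero (ρ := ρ) (i.out : N) hv)
    have := Fintype.linearIndependent_iff.mp ((linearIndependent_monoidHom N F).comp _ hi) (fun i => c i * φ (ρ (i.out : N) v))
      (funext fun y => by
        have := congrArg (fun f : V →ₗ[F] V => φ (lin y (f (ρ (y : G)⁻¹ v)))) hc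
        simp only [LinearMap.sum_apply, LinearMap.smul_apply, map_sum, map_smul, LinearMap.zero_apply, map_zero] at this
        rw [Finset.sum_apply, Pi.zero_apply, ← this]
        refine Finset.sum_congr rfl fun j _ => ?_
        have e : lin y (lin j.out (ρ (y : G)⁻¹ v)) = lam j.out y • ρ (j.out : N) v := by
          show ρ y (ρ (j.out : N) (ρ (y : G)⁻¹ v)) = _
          rw [show lam j.out y • ρ (j.out : N) v = _ from (h.act ⟨_, hm.comm_mem _ y.2 _ j.out.2⟩ _).symm]
          simp only [← Module.End.mul_apply, ← map_mul, commutatorElement_def, inv_mul_cancel_right, mul_assoc, inv_mul_cancel, mul_one]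
        rw [e, map_smul]
        simp only [Pi.smul_apply, Function.comp_apply, smul_eq_mul]
        ring) i
    exact (mul_eq_zero.mp this).resolve_right hφ
  have := hl.fintype_card_le_finrank
  rwa [Module.finrank_linearMap, ← Nat.card_eq_fintype_card] at this

theorem irr_of_isPPD {q s : ℕ} [Fact q.Prime] [Module (ZMod q) V] {ρ : G →* Module.End (ZMod q) V} [Nontrivial V]
    (hρ : Function.Injective ρ) (hs : Small.IsPPD s q (finrank (ZMod q) V)) {x : G} (hx : orderOf x = s) :
    Irr ρ (zpowers x) := by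
  classical
  haveI := Fact.mk hs.1
  have hq := (Fact.out : q.Prime).one_lt
  have key : ∀ W : Submodule (ZMod q) V, (∀ v ∈ W, ρ x v ∈ W) → W ≤ LinearMap.ker (ρ x - 1) ∨
      (W = ⊤ ∧ LinearMap.ker (ρ x - 1) = ⊥) := fun W hW => by
    let f : Module.End (ZMod q) W := (ρ x).restrict hW
    haveI := Fintype.ofFinite W
    have h1 := Equiv.Perm.card_fixedPoints_modEq (f := (f : W → W)) (p := s) (n := 1) (funext fun v => by
      rw [pow_one]
      show f^[s] v = v
      rw [← Module.End.pow_apply, Module.End.pow_restrict, ← hx]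
      apply Subtype.ext
      rw [LinearMap.coe_restrict_apply, ← map_pow, pow_orderOf_eq_one, map_one]; rfl)
    have h2 : Fintype.card (Function.fixedPoints (f : W → W)) = Nat.card (LinearMap.ker (f - 1)) := by
      rw [← Nat.card_eq_fintype_card]
      exact Nat.card_congr (Equiv.subtypeEquivRight fun v => by simp [sub_eq_zero, Function.IsFixedPt])
    rw [h2, ← Nat.card_eq_fintype_card, natCard_eq_pow_finrank (K := ZMod q),
      natCard_eq_pow_finrank (K := ZMod q) (V := LinearMap.ker _), Nat.card_zmod] at h1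
    have h3 := (LinearMap.ker (f - 1)).finrank_le
    have h4 := W.finrank_le
    obtain ⟨d, hd⟩ := Nat.exists_eq_add_of_le h3
    have h5 : finrank (ZMod q) V ∣ d := by
      rw [← hs.dvd_iff hq.le finrank_pos]
      have := (Nat.modEq_iff_dvd' (Nat.pow_le_pow_right hq.le h3)).mp h1.symm
      rw [hd, pow_add, ← Nat.mul_sub_one] at this
      exact (hs.1.dvd_mul.mp this).resolve_left fun e => hs.not_dvd_base hq.le finrank_pos (hs.1.dvd_of_dvd_pow e)
    rcases Nat.eq_zero_or_pos d with rfl | h0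
    · left
      intro v hv
      have : (⟨v, hv⟩ : W) ∈ LinearMap.ker (f - 1) := Submodule.eq_top_of_finrank_eq hd.symm ▸ Submodule.mem_top
      exact congrArg Subtype.val this
    · have h6 := Nat.le_of_dvd h0 h5
      have h7 : W = ⊤ := Submodule.eq_top_of_finrank_eq (by omega)
      refine Or.inr ⟨h7, eq_bot_iff.mpr fun v hv => ?_⟩
      have : (⟨v, h7 ▸ Submodule.mem_top⟩ : W) ∈ (⊥ : Submodule (ZMod q) W) :=
        Submodule.finrank_eq_zero.mp (show finrank (ZMod q) (LinearMap.ker (f - 1)) = 0 by omega) ▸ Subtype.ext hv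
      exact congrArg Subtype.val this
  have h0 := ((key ⊤ fun _ _ => trivial).resolve_left fun e => by
    rw [top_le_iff, LinearMap.ker_eq_top, sub_eq_zero, ← map_one ρ] at e
    rw [hρ e, orderOf_one] at hx
    exact hs.1.ne_one hx.symm).2
  exact fun W hW => (key W (hW x (mem_zpowers x))).imp (fun e => le_bot_iff.mp (h0 ▸ e)) And.left

theorem Xs.card_dvd [Finite G] (hρ : Function.Injective ρ) (hm : Xs A N r) (hC : 𝐂 N = A) {s : ℕ} [hs : Fact s.Prime] (hsr : s ≠ r)
    {S : Subgroup G} (hS : IsPGroup s S) (h1 : S ≤ 𝐂 A) (h2 : S ⊓ A = ⊥) (h3 : ∀ x, orderOf x = s → Irr ρ (zpowers x)) :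
    Nat.card S ∣ A.relIndex N - 1 := by
  haveI := hm.normal
  haveI := hm.nrm
  haveI := Fact.mk hm.prime
  let π := QuotientGroup.mk' A
  haveI : (N.map π).Normal := hm.nrm.map π (QuotientGroup.mk'_surjective A)
  have h4 : Coprime.Fpf (N.map π) (S.map π) := by
    rintro _ ⟨x, hx, rfl⟩ hx1
    rw [Coprime.inf_centralizer_singleton_eq_bot_iff]
    rintro _ ⟨y, hy, rfl⟩ e
    obtain ⟨j, hj⟩ := (IsPGroup.iff_orderOf.mp hS) ⟨x, hx⟩
    rw [orderOf_mk] at hj
    obtain ⟨j, rfl⟩ := Nat.exists_eq_succ_of_ne_zero (n := j) fun e => hx1 (by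
      rw [e, pow_zero, orderOf_eq_one_iff] at hj; rw [hj, map_one])
    have o1 : orderOf (x ^ s ^ j) = s := by
      rw [orderOf_pow_of_dvd (pow_pos hs.out.pos j).ne' (hj ▸ pow_dvd_pow s j.le_succ), hj, pow_succ,
        Nat.mul_div_cancel_left _ (pow_pos hs.out.pos j)]
    set X := zpowers (x ^ s ^ j)
    have hX : X ≤ S := zpowers_le.mpr (pow_mem hx _)
    have hc : (Nat.card X).Coprime (Nat.card N) := IsPGroup.coprime_card_of_ne s r hsr _ _ (hS.to_le hX) hm.pg
    obtain ⟨z, hz, e2⟩ := Coprime.exists_mul_mem_centralizer (A := X) (S := N ⊓ A) (k := y) le_normalizer_of_normal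
      (hc.coprime_dvd_right (card_dvd_of_le inf_le_left)) (Or.inl (Coprime.isSolvable_zpowers _)) fun a ha => by
        refine ⟨N.mul_mem (inv_mem hy) (hm.nrm.conj_mem _ hy a), (QuotientGroup.eq_one_iff _).mp ?_⟩
        obtain ⟨i, rfl⟩ := ha
        have : Commute (π ((x ^ s ^ j) ^ i)) (π y) := by
          rw [map_zpow, map_pow]; exact ((show Commute (π x) (π y) from e).pow_left _).zpow_left _
        show π _ = 1
        simp only [map_mul, map_inv, this.eq, mul_inv_cancel_right, inv_mul_cancel]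
    have hD := le_centralizer_iff_isMulCommutative.mpr ((h3 _ o1).comm_centralizer hρ)
    have h5 : ⁅⁅N, X⁆, N ⊓ 𝐂 X⁆ = ⊥ := commutator_commutator_eq_bot_of_rotate
      (by rw [commutator_eq_bot_iff_le_centralizer.mpr (le_centralizer_iff.mp inf_le_right), commutator_bot_left])
      (by
        rw [Subgroup.commutator_comm, commutator_eq_bot_iff_le_centralizer]
        exact (hX.trans h1).trans (centralizer_le (commutator_le.mpr fun a ha b hb => hm.comm_mem a ha.1 b hb)))
    have h6 : N ≤ 𝐂 (N ⊓ 𝐂 X) := by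
      conv_lhs => rw [← Coprime.commutator_sup_centralizer le_normalizer_of_normal hc (Or.inl (Coprime.isSolvable_zpowers _))]
      exact sup_le (commutator_eq_bot_iff_le_centralizer.mp h5) (inf_le_right.trans (hD.trans (centralizer_le inf_le_right)))
    have h7 : y * z ∈ A := hC.le (le_centralizer_iff.mp h6 ⟨N.mul_mem hy hz.1, e2⟩)
    exact (QuotientGroup.eq_one_iff _).mpr ((A.mul_mem_cancel_right hz.2).mp h7)
  have := h4.card_dvd le_normalizer_of_normal
  rwa [← relIndex_ker, ← relIndex_ker, QuotientGroup.ker_mk', ← inf_relIndex_left, h2, relIndex_bot_left] at this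

omit [Finite V] in
theorem sylow_le_of_index_lt [Finite G] {s : ℕ} [hs : Fact s.Prime] {S C : Subgroup G} [C.Normal] (hS : IsPGroup s S)
    (h : C.index < s) : S ≤ C := by
  obtain ⟨j, hj⟩ := hS.index (C.subgroupOf S)
  have h1 := Nat.le_of_dvd (Nat.pos_of_ne_zero FiniteIndex.index_ne_zero) (relIndex_dvd_index_of_normal C S)
  rw [relIndex, hj] at h1
  obtain rfl : j = 0 := by_contra fun e => (h1.trans_lt h).not_ge (Nat.le_self_pow e s)
  exact subgroupOf_eq_top.mp (index_eq_one.mp hj)

omit [Finite V] in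
theorem Xs.exists_dvd_pow_sub_one [Finite G] (hm : Xs A N r) (hC : 𝐂 N = A) {s a : ℕ} [hs : Fact s.Prime] (hsr : s ≠ r)
    {x : G} (hx : orderOf x = s) (h1 : x ∈ 𝐂 A) (h2 : x ∉ A) (ha : A.relIndex N = r ^ a) : ∃ i, 1 ≤ i ∧ i ≤ a ∧ s ∣ r ^ i - 1 := by
  haveI := hm.normal
  haveI := hm.nrm
  haveI := Fact.mk hm.prime
  let π := QuotientGroup.mk' A
  haveI : (N.map π).Normal := hm.nrm.map π (QuotientGroup.mk'_surjective A)
  have hX : IsPGroup s (zpowers x) := .of_card (by rw [Nat.card_zpowers, hx, pow_one])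
  refine Small.exists_dvd_pow_sub_one_of_dvd_card_mulAut (H := N.map π) hs.out hsr
    (by rw [← relIndex_ker, QuotientGroup.ker_mk', ha]) (Dvd.dvd.trans ?_ (Small.relIndex_centralizer_dvd_card_mulAut _))
  rw [normalizer_eq_top, relIndex_top_right, ← index_comap_of_surjective _ (QuotientGroup.mk'_surjective A)]
  by_contra hc
  have h3 : x ∈ (𝐂 (N.map π)).comap π := by
    have := pow_index_mem (H := (𝐂 (N.map π)).comap π) x
    exact zpowers_le.mpr this (mem_zpowers_pow_iff.mpr (by rw [hx]; exact ((hs.out.coprime_iff_not_dvd).mpr hc).symm))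
  refine h2 (hC.le (zpowers_le.mp (Coprime.le_centralizer_of_commutator_commutator_eq_bot le_normalizer_of_normal
    (IsPGroup.coprime_card_of_ne s r hsr _ _ hX hm.pg) ?_)))
  rw [Subgroup.commutator_comm, commutator_eq_bot_iff_le_centralizer]
  refine (zpowers_le.mpr h1).trans (centralizer_le (commutator_le.mpr fun a ha b hb => (QuotientGroup.eq_one_iff _).mp ?_))
  show π _ = 1
  rw [map_commutatorElement, commutatorElement_eq_one_iff_mul_comm]
  exact zpowers_le.mpr h3 hb _ ⟨a, ha, rfl⟩

theorem four_mul_lt (u : ℕ) : 4 * (u + 3) + 1 < 3 ^ (u + 3) := by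
  induction u with
  | zero => norm_num
  | succ u ih => rw [show u + 1 + 3 = u + 3 + 1 from rfl, pow_succ]; omega

theorem Tr.huppert {q : ℕ} [Fact q.Prime] [Module (ZMod q) V] {ρ : G →* Module.End (ZMod q) V} [Nontrivial V]
    [Group.IsSolvable G] (h : Tr ρ) (hρ : Function.Injective ρ) (hA : MaxAb A) (hI : ¬ Irr ρ A) :
    Nat.card V ∈ ({9, 25, 49, 121, 529, 81} : Set ℕ) := by
  haveI := finite_of_inj hρ
  haveI := hA.normal
  have hq : q.Prime := Fact.out
  obtain ⟨N, hN⟩ := hA.exists_minNA (h.cent_ne hρ hA.comm hI)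
  obtain ⟨r, hm⟩ := hN.xs inferInstance
  have hC := (h.cent_eq hρ hN).2
  obtain ⟨F, _, _, _, _, χ, θ, hf⟩ := h.exists_fld hρ hA.comm
  haveI := hf.tower
  obtain ⟨a, a0, ha⟩ := hm.exists_sq hf.isCyclic
  have m2 := hf.two_le hI
  have m3 : r ^ a ≤ finrank F V := Nat.mul_self_le_mul_self_iff.mp (ha ▸ hf.relIndex_le hm hC)
  have n1 := finrank_mul_finrank (ZMod q) F V
  have n2 : Nat.card V = q ^ finrank (ZMod q) V := by rw [natCard_eq_pow_finrank (K := ZMod q), Nat.card_zmod]
  have n3 := hf.card_dvd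
  rw [natCard_eq_pow_finrank (K := ZMod q) (V := F), Nat.card_zmod] at n3
  have n4 := hf.index_le
  have n5 : 0 < finrank (ZMod q) F := finrank_pos
  have n6 := n2 ▸ h.card_dvd
  have n7 := fun s hs x => irr_of_isPPD hρ (s := s) hs (x := x)
  have r1 : r ∣ Nat.card A := by
    obtain ⟨x, hx, y, hy, e⟩ : ∃ x ∈ N, ∃ y ∈ N, ⁅x, y⁆ ≠ 1 := by
      by_contra hc
      push Not at hc
      exact hm.nc (PGrp.isMulCommutative_iff_forall.mpr fun x hx y hy => commutatorElement_eq_one_iff_mul_comm.mp (hc x hx y hy))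
    haveI := Fact.mk hm.prime
    exact orderOf_eq_prime (hm.comm_pow hy (centralizer_le inf_le_right (hm.le hx)) (hm.comm_mem x hx y hy)) e ▸
      orderOf_dvd_natCard _ (hm.comm_mem x hx y hy)
  have r2 := r1.trans n3
  have r3 : r ≤ r ^ a := Nat.le_self_pow a0.ne' r
  have r4 := hm.prime.two_le
  rw [n2]
  generalize finrank (ZMod q) V = n at *
  generalize finrank F V = m at *
  generalize finrank (ZMod q) F = κ at *
  have n8 : 2 * κ ≤ n ∧ m ≤ n := ⟨by nlinarith, by nlinarith⟩
  by_cases c2 : n = 2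
  · obtain rfl : κ = 1 := by omega
    obtain rfl : r = 2 := by omega
    have : 2 ^ a = 2 := by omega
    have c1 : 𝐂 A = ⊤ := index_eq_one.mp (by have := FiniteIndex.index_ne_zero (H := 𝐂 A); omega)
    have c3 := hm.index_dvd hf.isCyclic hC (inf_le_right.trans (by simpa [centralizer_univ] using le_centralizer_iff.mp c1.ge))
    rw [ha, this] at c3
    rw [pow_one] at n3 r2
    have c4 := (geom_dvd hq.two_le n3 (A.card_mul_index ▸ n6)).trans c3
    have := Nat.le_of_dvd (by decide) c4
    subst c2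
    simp only [Finset.sum_range_succ, Finset.range_zero, Finset.sum_empty] at c4 this
    have b1 : q < 24 := by norm_num [Nat.factorial] at this; omega
    have b2 := hq.two_le
    clear * - b1 b2 c4 r2
    interval_cases q <;> simp_all [Nat.factorial]
  by_cases c6 : q = 2 ∧ n = 6
  · exfalso
    obtain ⟨rfl, rfl⟩ := c6
    haveI := Fact.mk Nat.prime_seven
    obtain ⟨x, hx⟩ := exists_prime_orderOf_dvd_card' (G := G) 7 (Dvd.dvd.trans (by decide) n6)
    have : κ ≤ 3 := by omega
    have : r ≤ 3 := by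
      interval_cases κ
      · simp at r2; omega
      · omega
      · omega
    have c1 : κ = 2 ∧ r = 3 := by interval_cases κ <;> interval_cases r <;> simp_all
    obtain ⟨rfl, rfl⟩ := c1
    obtain rfl : a = 1 := by
      have := (Nat.pow_lt_pow_iff_right (by norm_num : 1 < 3)).mp (show 3 ^ a < 3 ^ 2 by omega)
      omega
    obtain ⟨i, i1, i2, i3⟩ := Xs.exists_dvd_pow_sub_one (a := 2) hm hC (by decide) hx
      (zpowers_le.mp (sylow_le_of_index_lt (s := 7) (.of_card (by rw [Nat.card_zpowers, hx, pow_one])) (by omega)))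
      (fun hc => by have := (hx ▸ orderOf_dvd_natCard _ hc).trans n3; omega) ha
    interval_cases i <;> omega
  have key : ∀ s j, Small.IsPPD s q n → s ^ j ∣ q ^ n - 1 → s ^ j ∣ r ^ a + 1 := fun s j hs hj => by
    haveI := Fact.mk hs.1
    have s1 := hs.lt hq.one_le (by omega)
    let S : Sylow s G := default
    have s2 := Xs.card_dvd hρ hm hC (by omega) S.isPGroup' (sylow_le_of_index_lt S.isPGroup' (by omega))
      (Coprime.inf_eq_bot_of_coprime_card (Coprime.coprime_card_of_isPGroup S.isPGroup'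
        ((hs.1.coprime_iff_not_dvd.mpr fun e => hs.2.2 κ n5 (by omega) (e.trans n3)).symm))) (n7 s hs)
    have s3 := (S.pow_dvd_card_of_pow_dvd_card (hj.trans n6)).trans s2
    rw [ha, show r ^ a * r ^ a - 1 = _ from Nat.mul_self_sub_mul_self_eq _ 1] at s3
    exact (Nat.Coprime.pow_left j (hs.1.coprime_iff_not_dvd.mpr fun e => by
      have := Nat.le_of_dvd (by omega) e; omega)).dvd_of_dvd_mul_right s3
  obtain ⟨s, hs⟩ := Small.zsigmondy hq.one_lt (n := n) (by omega) c6 fun e => c2 e.1
  have s1 := Nat.le_of_dvd (by omega) (key s 1 hs (by simpa using hs.2.1))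
  have s2 := hs.lt hq.one_le (by omega)
  rw [pow_one] at s1
  obtain rfl : κ = 1 := by nlinarith
  have s3 : n = r ^ a := by omega
  obtain rfl : r = 2 := by
    have := hs.1.eq_two_or_odd'.resolve_left (by omega)
    rw [show s = r ^ a + 1 by omega, Nat.odd_add_one, Nat.odd_pow_iff a0.ne'] at this
    exact hm.prime.eq_two_or_odd'.resolve_right this
  obtain ⟨a, rfl⟩ : ∃ b, a = b + 2 := Nat.exists_eq_add_of_le' (by
    by_contra hc
    obtain rfl : a = 1 := by omega
    exact c2 s3)
  rw [pow_one] at r2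
  have t1 : q ^ 2 ^ (a + 1) + 1 ∣ 2 * (2 ^ (a + 2) + 1) := (Nat.dvd_iff_prime_pow_dvd_dvd _ _).mpr fun p j hp hj => by
    rcases j with _ | j
    · simp
    by_cases h2 : p = 2
    · subst h2
      rcases j with _ | j
      · simp
      · exfalso
        have h4 : 4 ∣ q ^ 2 ^ (a + 1) + 1 := Dvd.dvd.trans (pow_dvd_pow 2 (show 2 ≤ j + 1 + 1 by omega)) hj
        rw [pow_succ, pow_mul] at h4
        generalize q ^ 2 ^ a = u at h4
        have : u % 4 < 4 := Nat.mod_lt _ (by norm_num)
        rw [Nat.dvd_iff_mod_eq_zero, Nat.add_mod, Nat.pow_mod] at h4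
        interval_cases u % 4 <;> simp at h4
    haveI := Fact.mk hp
    have e : ((q : ZMod p)) ^ 2 ^ (a + 1) = -1 := by
      rw [eq_neg_iff_add_eq_zero]
      exact_mod_cast (ZMod.natCast_eq_zero_iff _ p).mpr ((dvd_pow_self p j.succ_ne_zero).trans hj)
    haveI : Fact (2 < p) := ⟨by have := hp.two_le; omega⟩
    refine (key p _ ((Small.isPPD_iff_orderOf hq.one_le (by omega)).mpr ⟨hp, s3 ▸ orderOf_eq_prime_pow
      (e ▸ ZMod.neg_one_ne_one) (by rw [pow_succ, pow_mul, e]; norm_num)⟩) (hj.trans ?_)).mul_left 2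
    rw [s3, pow_succ 2 (a + 1), pow_mul, sq, show ∀ t, t * t - 1 = _ from fun t => Nat.mul_self_sub_mul_self_eq t 1]
    exact dvd_mul_right _ _
  have t2 := Nat.le_of_dvd (by positivity) t1
  have t3 : 3 ≤ q := by have := hq.two_le; omega
  have t4 := Nat.pow_le_pow_left t3 (2 ^ (a + 1))
  obtain rfl : a = 0 := by
    by_contra hc
    obtain ⟨u, hu⟩ := Nat.exists_eq_add_of_le' (show 3 ≤ 2 ^ (a + 1) from
      le_trans (by norm_num) (Nat.pow_le_pow_right two_pos (show 2 ≤ a + 1 by omega)))
    have := four_mul_lt u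
    rw [pow_succ 2 (a + 1), hu] at t2
    rw [hu] at t4
    omega
  obtain rfl : q = 3 := by norm_num at t2; nlinarith
  simp [s3]

end Cfsg.Lib.Hall.Lin
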