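import Cfsg.Agent.Lib.Hall.CsE

/-! # Two class sizes of `p`-regular elements -/

set_option autoImplicit false
set_option linter.unusedSectionVars false

namespace Cfsg.Lib.Hall

open Subgroup _root_.Cfsg.Lib.Core _root_.Cfsg.Lib.Transfer _root_.Cfsg.Lib.CS3
open scoped Pointwise commutatorElement

universe u

variable {G : Type u} [Group G] [Finite G]

local notation "𝐍" X:max => normalizer (SetLike.coe (X : Subgroup _))
local notation "𝐂" X:max => centralizer (SetLike.coe (X : Subgroup _))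

/-- noncentral `p`-regular elements have class size `m`; two primes other than `p` divide `|G : Z(G)|` -/
structure PR (G : Type u) [Group G] (p m q t : ℕ) : Prop where
  hp : p.Prime
  hq : q.Prime
  ht : t.Prime
  qp : q ≠ p
  tp : t ≠ p
  qt : q ≠ t
  all : ∀ x : G, (orderOf x).Coprime p → x ∉ center G → cs x = m
  exq : ∃ x : G, PE q x ∧ x ∉ center G
  ext : ∃ x : G, PE t x ∧ x ∉ center G

theorem pe_coprime {p s : ℕ} (hp : p.Prime) (hs : s.Prime) (h : s ≠ p) {x : G} (hx : PE s x) :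
    (orderOf x).Coprime p :=
  coprime_orderOf_of_isPGroup hs hx ((Nat.coprime_primes hp hs).2 h.symm)

theorem coprime_mul {p : ℕ} {x y : G} (c : Commute x y) (h1 : (orderOf x).Coprime p)
    (h2 : (orderOf y).Coprime p) : (orderOf (x * y)).Coprime p :=
  (Nat.Coprime.mul_left h1 h2).coprime_dvd_left c.orderOf_mul_dvd_mul_orderOf

namespace PR

variable {p m q t : ℕ} (h : PR G p m q t)
include h

theorem symm : PR G p m t q := ⟨h.hp, h.ht, h.hq, h.tp, h.qp, h.qt.symm, h.all, h.ext, h.exq⟩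

theorem other {s : ℕ} (hs : s.Prime) (hsp : s ≠ p) (hx : ∃ x : G, PE s x ∧ x ∉ center G) :
    ∃ r, PR G p m s r := by
  by_cases e : s = q
  · exact ⟨t, e ▸ h⟩
  · exact ⟨q, h.hp, hs, h.hq, hsp, h.qp, e, h.all, hx, h.exq⟩

theorem pe {y : G} (hy : (orderOf y).Coprime p) (zy : y ∉ center G) : ∃ v ∈ C[y], v ∉ center G ∧ PE t v := by
  obtain ⟨x, px, zx⟩ := h.ext
  exact ce_exists_pe h.ht px zx ((h.all x (pe_coprime h.hp h.ht h.tp px) zx).trans (h.all y hy zy).symm)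

theorem eq_cop {x y : G} (hx : (orderOf x).Coprime p) (hy : (orderOf y).Coprime p) (zx : x ∉ center G)
    (zy : y ∉ center G) (c : Commute x y) (hc : (orderOf x).Coprime (orderOf y)) : C[x] = C[y] := by
  have h1 := h.all _ (coprime_mul c hx hy) (mul_not_mem_center c hc zx)
  exact le_antisymm (ce_le c.symm hc.symm (c.eq ▸ h1) (h.all x hx zx)) (ce_le c hc h1 (h.all y hy zy))

theorem exists_pe {x : G} (hx : (orderOf x).Coprime p) (zx : x ∉ center G) :
    ∃ s : ℕ, s.Prime ∧ s ≠ p ∧ ∃ y, PE s y ∧ y ∉ center G ∧ C[x] = C[y] := by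
  obtain ⟨s, hs, y, hy, py, zy⟩ := exists_pPart_not_mem zx
  have h1 : (orderOf y).Coprime p := hx.coprime_dvd_left (orderOf_dvd_of_mem_zpowers hy)
  refine ⟨s, hs, ?_, y, py, zy, cent_eq_of_le_of_cs_le (cent_le_of_mem_zpowers hy)
    ((h.all x hx zx).trans (h.all y h1 zy).symm).le⟩
  rintro rfl
  have := coprime_orderOf_of_isPGroup hs py h1
  rw [Nat.coprime_self, orderOf_eq_one_iff] at this
  exact zy (this ▸ one_mem _)

theorem eq {x y : G} (hx : (orderOf x).Coprime p) (hy : (orderOf y).Coprime p) (zx : x ∉ center G)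
    (zy : y ∉ center G) (c : y ∈ C[x]) : C[x] = C[y] := by
  obtain ⟨s, hs, hsp, a, pa, za, ea⟩ := h.exists_pe hx zx
  obtain ⟨r, hr, hrp, b, pb, zb, eb⟩ := h.exists_pe hy zy
  have ca := pe_coprime h.hp hs hsp pa
  have cb := pe_coprime h.hp hr hrp pb
  rw [ea, mem_cent_comm, eb] at c
  rw [ea, eb]
  by_cases e : s = r
  · subst e
    obtain ⟨r, h'⟩ := h.other hs hsp ⟨a, pa, za⟩
    obtain ⟨w, hw, zw, pw⟩ := h'.pe ca za
    have cw := pe_coprime h.hp h'.ht h'.tp pw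
    have e1 := h.eq_cop ca cw za zw (mem_cent_iff.1 hw).symm (pa.coprime hs h'.ht h'.qt pw)
    rw [mem_cent_comm, e1] at c
    exact e1.trans (h.eq_cop cb cw zb zw (mem_cent_iff.1 c) (pb.coprime hs h'.ht h'.qt pw)).symm
  · exact h.eq_cop ca cb za zb (mem_cent_iff.1 c) (pa.coprime hs hr e pb)

theorem not_both (h1 : q ∣ m) (h2 : t ∣ m) : False := by
  obtain ⟨x, px, zx⟩ := h.exq
  obtain ⟨v, hv, zv, pv⟩ := h.pe (pe_coprime h.hp h.hq h.qp px) zx
  exact ce_W (N := ⊤) h.hq h.ht h.qt (fun a _ b _ pa pb c hz => h.all _ (coprime_mul c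
    (pe_coprime h.hp h.hq h.qp pa) (pe_coprime h.hp h.ht h.tp pb)) hz) (mem_top x) (mem_top v) px pv zx zv
    (mem_cent_iff.1 hv).symm h1 h2

theorem exists_of_dvd {s : ℕ} (hs : s.Prime) (hd : s ∣ m) : ∃ x : G, PE s x ∧ x ∉ center G := by
  haveI := Fact.mk hs
  obtain ⟨y, py, zy⟩ := h.exq
  obtain ⟨S⟩ : Nonempty (Sylow s G) := inferInstance
  obtain ⟨z, hz, zz⟩ := SetLike.not_le_iff_exists.1 fun e => not_dvd_cs_of_sylow_le_center S e y
    (h.all y (pe_coprime h.hp h.hq h.qp py) zy ▸ hd)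
  exact ⟨z, isPGroup_zpowers_of_mem S.isPGroup' hz, zz⟩

theorem conj (hm : ¬ t ∣ m) : ∃ w : G, (orderOf w).Coprime p ∧ w ∉ center G ∧
    ∀ x : G, (orderOf x).Coprime p → x ∉ center G → ∃ g : G, cj g C[x] = C[w] := by
  haveI := Fact.mk h.ht
  obtain ⟨w, pw, zw⟩ := h.ext
  obtain ⟨T, hT⟩ := pw.exists_le_sylow
  have cw := pe_coprime h.hp h.ht h.tp pw
  refine ⟨w, cw, zw, fun x hx zx => ?_⟩
  obtain ⟨g, hg⟩ := exists_conj_mem_centralizer_sylow T (x := x) (h.all x hx zx ▸ hm)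
  refine ⟨g, (cj_cent g x).trans (h.eq cw ?_ zw ?_ ?_).symm⟩
  · rwa [show orderOf (g * x * g⁻¹) = orderOf x from (MulAut.conj g).orderOf_eq x]
  · rwa [← cs_eq_one_iff, cs_conj, cs_eq_one_iff]
  · exact mem_cent_iff.2 (mem_centralizer_iff.1 hg w (hT (mem_zpowers w))).symm

theorem normal {V : Subgroup G} [V.Normal] (hV : IsPGroup q V) {v : G} (hv : v ∈ V) (zv : v ∉ center G) :
    C[v].Normal := by
  haveI := Fact.mk h.hq
  have cV : ∀ u ∈ V, (orderOf u).Coprime p := fun u hu =>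
    pe_coprime h.hp h.hq h.qp (isPGroup_zpowers_of_mem hV hu)
  have zc : ∀ g : G, g * v * g⁻¹ ∉ center G := fun g => by rwa [← cs_eq_one_iff, cs_conj, cs_eq_one_iff]
  have hc : ∀ g : G, g * v * g⁻¹ ∈ C[v] → cj g C[v] = C[v] := fun g hg => (cj_cent g v).trans
    (h.eq (cV v hv) (cV _ (Normal.conj_mem inferInstance v hv g)) zv (zc g) hg).symm
  have h1 : V ≤ C[v] := by
    by_contra hn
    obtain ⟨g, ⟨hg1, hg2⟩, hg3⟩ := SetLike.exists_of_lt (lt_inf_normalizer hV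
      (lt_of_le_of_ne (inf_le_left : V ⊓ C[v] ≤ V) fun e => hn (inf_eq_left.1 e)))
    obtain ⟨w, hw, zw, pw⟩ := h.pe (cV v hv) zv
    have e := h.eq (cV v hv) (pe_coprime h.hp h.ht h.tp pw) zv zw hw
    have h2 : g * w * g⁻¹ ∈ C[w] := by
      rw [← e, ← hc g (Core.conj_mem_of_mem_normalizer hg2 ⟨hv, self_mem_cent v⟩).2]
      exact conj_mem_cj.2 hw
    have h3 : g * w * g⁻¹ * w⁻¹ ∈ V := by
      have := V.mul_mem hg1 (Normal.conj_mem inferInstance _ (V.inv_mem hg1) w)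
      convert this using 1; group
    have h4 : (orderOf (g * w * g⁻¹ * w⁻¹)).Coprime q := coprime_mul (Commute.inv_right (mem_cent_iff.1 h2))
      (pe_coprime h.hq h.ht h.qt.symm (pw.conj g)) (by rw [orderOf_inv]; exact pe_coprime h.hq h.ht h.qt.symm pw)
    have h5 := coprime_orderOf_of_isPGroup h.hq (isPGroup_zpowers_of_mem hV h3) h4
    rw [Nat.coprime_self, orderOf_eq_one_iff, mul_inv_eq_one, mul_inv_eq_iff_eq_mul] at h5
    exact hg3 ⟨hg1, e ▸ mem_cent_iff.2 h5⟩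
  exact normalizer_eq_top_iff.1 (eq_top_iff.2 fun g _ => cj_eq_iff.1
    (hc g (h1 (Normal.conj_mem inferInstance v hv g))))

theorem exists_pCore (hm : q ∣ m) : ∃ s : ℕ, s.Prime ∧ ¬ pCore s G ≤ center G := by
  haveI := Fact.mk h.hq
  by_contra hn
  push Not at hn
  obtain ⟨x, px, zx⟩ := h.exq
  obtain ⟨Q, hQ⟩ := px.exists_le_sylow
  set f := QuotientGroup.mk' (center G)
  have hQ' : IsPGroup q ((Q : Subgroup G).map f) := Q.isPGroup'.map f
  obtain ⟨⟨_, ⟨a, ha, rfl⟩, hc⟩, h1⟩ := ne_bot_iff_exists_ne_one.1 (inf_centralizer_ne_bot_of_isPGroup hQ' hQ'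
    le_normalizer fun e => zx ((map_mk'_eq_bot_iff _ _).1 e (hQ (mem_zpowers x))))
  have za : a ∉ center G := fun e => h1 (Subtype.ext ((QuotientGroup.eq_one_iff a).2 e))
  have h2 : cs (f a) ∣ m := h.all a (pe_coprime h.hp h.hq h.qp (isPGroup_zpowers_of_mem Q.isPGroup' ha)) za ▸
    cs_mk_dvd _ a
  have h3 := kazarin h.hp (Nat.eq_prime_pow_of_unique_prime_dvd (cs_ne_zero (f a)) fun {s} hs hd => by
    by_contra hsp
    by_cases e : s = q
    · subst e
      exact Q.not_dvd_index (hd.trans ((index_dvd_of_le (le_cent_iff.2 hc)).trans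
        (index_map_dvd _ (QuotientGroup.mk'_surjective _))))
    · exact not_both ⟨h.hp, h.hq, hs, h.qp, hsp, Ne.symm e, h.all, h.exq, h.exists_of_dvd hs (hd.trans h2)⟩ hm
        (hd.trans h2))
  rw [solvableRadical_eq_bot_iff_fitting_eq_bot.2 (by
    rw [← map_fitting_quotient_of_le_center _ le_rfl, map_mk'_eq_bot_iff]
    exact fitting_le_of_forall_pCore_le hn), mem_bot] at h3
  exact h1 (Subtype.ext h3)

end PR

theorem pr_not_dvd {p q t : ℕ} (n : ℕ) : ∀ (G : Type u) [Group G] [Finite G] (m : ℕ), Nat.card G = n →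
    PR G p m q t → ¬ q ∣ m := by
  induction n using Nat.strong_induction_on with
  | _ n ih =>
  intro G _ _ m hn h hm
  obtain ⟨w, cw, zw, hw⟩ := h.conj (h.not_both hm)
  haveI := pCore_normal p G
  by_cases hW : pCore p G = ⊥
  · obtain ⟨s, hs, h1⟩ := h.exists_pCore hm
    obtain ⟨v, hv, zv⟩ := SetLike.not_le_iff_exists.1 h1
    have pv := isPGroup_zpowers_of_mem (isPGroup_pCore s G) hv
    have hsp : s ≠ p := by rintro rfl; exact h1 (hW ▸ bot_le)
    obtain ⟨r, h'⟩ := h.other hs hsp ⟨v, pv, zv⟩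
    haveI := pCore_normal s G
    haveI := h'.normal (isPGroup_pCore s G) hv zv
    obtain ⟨g, hg⟩ := hw v (pe_coprime h.hp hs hsp pv) zv
    rw [cj_eq_of_normal] at hg
    refine not_dvd_relIndex_of_forall h.hq (H := ⊤) (X := C[v]) (fun u _ pu => ?_) ?_
    · by_cases zu : u ∈ center G
      · exact center_le_cent v zu
      obtain ⟨g, hg'⟩ := hw u (pe_coprime h.hp h.hq h.qp pu) zu
      rw [← hg, ← cj_eq_of_normal g C[v], cj_inj] at hg'
      exact hg' ▸ self_mem_cent u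
    · rwa [relIndex_top_right, h.all v (pe_coprime h.hp hs hsp pv) zv]
  set W := pCore p G
  set f := QuotientGroup.mk' W
  have h1 : ∀ x : G, (orderOf x).Coprime p → x ∉ center G → cs (f x) = (C[w] ⊔ W).index := by
    intro x hx zx
    obtain ⟨g, hg⟩ := hw x hx zx
    have := Coprime.map_mk'_centralizer W (A := zpowers x) (coprime_card_of_isPGroup h.hp (isPGroup_pCore p G)
      (by rwa [Nat.card_zpowers])).symm (Or.inl inferInstance)
    rw [MonoidHom.map_zpowers, centralizer_zpowers, centralizer_zpowers] at this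
    rw [← this, index_map_mk', ← hg, ← index_cj g, cj_sup, cj_eq_of_normal g W]
  have h2 : q ∣ (C[w] ⊔ W).index := by
    have h3 := relIndex_mul_index (le_sup_left : C[w] ≤ C[w] ⊔ W)
    rw [h.all w cw zw, sup_comm, relIndex_cent_sup W le_rfl, sup_comm] at h3
    haveI := Fact.mk h.hp
    obtain ⟨k, hk⟩ := (isPGroup_pCore p G).exists_card_eq
    exact ((h.hq.dvd_mul).1 (h3 ▸ hm)).resolve_left fun e => h.qp ((Nat.prime_dvd_prime_iff_eq h.hq h.hp).1
      (h.hq.dvd_of_dvd_pow (hk ▸ e.trans (relIndex_dvd_card _ _))))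
  have h3 : ∀ s : ℕ, s.Prime → s ≠ p → (∃ x : G, PE s x ∧ x ∉ center G) →
      ∃ x : G ⧸ W, PE s x ∧ x ∉ center (G ⧸ W) := fun s hs hsp ⟨x, px, zx⟩ =>
    ⟨f x, by rw [PE, ← MonoidHom.map_zpowers]; exact px.map f, fun e => h.hq.one_lt.ne' (Nat.dvd_one.1 (by
      rwa [← h1 x (pe_coprime h.hp hs hsp px) zx, cs_eq_one_iff.2 e] at h2))⟩
  refine ih _ (hn ▸ card_quotient_lt hW) (G ⧸ W) _ rfl ⟨h.hp, h.hq, h.ht, h.qp, h.tp, h.qt, fun y hy zy => ?_,
    h3 q h.hq h.qp h.exq, h3 t h.ht h.tp h.ext⟩ h2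
  obtain ⟨x, rfl, hx⟩ := exists_lift_coprime (QuotientGroup.mk'_surjective W) hy
  exact h1 x hx fun e => zy (cs_eq_one_iff.1 (Nat.dvd_one.1 (cs_eq_one_iff.2 e ▸ cs_mk_dvd W x)))

theorem PR.abelian {p m q t : ℕ} (h : PR G p m q t) :
    ∃ H : Subgroup G, IsMulCommutative H ∧ ¬ p ∣ Nat.card H ∧ ∃ k : ℕ, H.index = p ^ k := by
  obtain ⟨v, pv, zv⟩ := h.exq
  have cv := pe_coprime h.hp h.hq h.qp pv
  have h1 : ∀ x ∈ C[v], (orderOf x).Coprime p → C[v] ≤ C[x] := fun x hx cx => by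
    by_cases zx : x ∈ center G
    · rw [cent_eq_top_iff.2 zx]; exact le_top
    · exact (h.eq cv cx zv zx hx).le
  let H : Subgroup G :=
    { carrier := {x | x ∈ C[v] ∧ (orderOf x).Coprime p}
      mul_mem' := fun ha hb => ⟨mul_mem ha.1 hb.1, coprime_mul (mem_cent_iff.1 (h1 _ hb.1 hb.2 ha.1)) ha.2 hb.2⟩
      one_mem' := ⟨one_mem _, by simp⟩
      inv_mem' := fun ha => ⟨inv_mem ha.1, by rw [orderOf_inv]; exact ha.2⟩ }
  refine ⟨H, le_centralizer_iff_isMulCommutative.1 fun a ha b hb => mem_cent_iff.1 (h1 _ ha.1 ha.2 hb.1),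
    fun e => ?_, _, Nat.eq_prime_pow_of_unique_prime_dvd index_ne_zero_of_finite fun {s} hs hd => ?_⟩
  · haveI := Fact.mk h.hp
    obtain ⟨x, hx⟩ := exists_prime_orderOf_dvd_card' p e
    have := x.2.2
    rw [Subgroup.orderOf_coe, hx, Nat.coprime_self] at this
    exact h.hp.one_lt.ne' this
  · by_contra hsp
    rw [← relIndex_mul_index (fun x hx => hx.1 : H ≤ C[v]), hs.dvd_mul, h.all v cv zv] at hd
    rcases hd with hd | hd
    · exact not_dvd_relIndex_of_forall hs (X := H) (fun x hx px => And.intro hx (pe_coprime h.hp hs hsp px)) hd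
    · obtain ⟨r, h'⟩ := h.other hs hsp (h.exists_of_dvd hs hd)
      exact pr_not_dvd _ G m rfl h' hd

end Cfsg.Lib.Hall
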