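import Cfsg.Agent.Lib.Hall.MaxA
import Cfsg.Agent.Lib.Amalg.Sidki
import Cfsg.Agent.S0205
import Cfsg.Agent.S0562
import Cfsg.Agent.S0572
import Mathlib.NumberTheory.ArithmeticFunction.Misc

/-! The theorem of Kegel and Wielandt on products of two nilpotent groups. -/

set_option autoImplicit false
set_option linter.unusedSectionVars false

namespace Cfsg.Lib.Hall
open Subgroup Cfsg.Lib.Core Cfsg.Lib.Amalg Cfsg.Lib.BG1

universe u

variable {G : Type u} [Group G] [Finite G] {A B H V W S X : Subgroup G} {p : ℕ} {x y : G}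

theorem kw_norm_closure {D : Set G} (hD : ∀ g, ∀ x ∈ D, g * x * g⁻¹ ∈ D) (hy : y ∈ 𝐍(X)) :
    y ∈ 𝐍(closure ((X : Set G) ∩ D)) := by
  refine mem_normalizer_of_cj_le ?_
  rw [cj_closure, closure_le]
  rintro _ ⟨z, ⟨h1, h2⟩, rfl⟩
  exact subset_closure ⟨(mem_normalizer_iff.1 hy z).1 h1, hD y z h2⟩

theorem kw_mem_sup (h1 : y ∈ 𝐍(X)) (h2 : y ∈ 𝐍(W)) : y ∈ 𝐍(X ⊔ W) :=
  le_normalizer_sup (zpowers_le.2 h1) (zpowers_le.2 h2) (mem_zpowers y)

theorem kw_mem_inf (h1 : y ∈ 𝐍(X)) (h2 : y ∈ 𝐍(W)) : y ∈ 𝐍(X ⊓ W) :=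
  le_normalizer_inf (zpowers_le.2 h1) (zpowers_le.2 h2) (mem_zpowers y)

theorem kw_cent (h : y ∈ 𝐂(X)) : X ≤ 𝐂[y] := fun _ hz => mem_centralizer_singleton_iff.2 (mem_centralizer_comm.1 h _ hz)

/-- Matsuyama's argument -/
theorem kw_mats [Fact p.Prime] {D : Set G} (hD : ∀ g, ∀ x ∈ D, g * x * g⁻¹ ∈ D)
    (h1 : ∀ x ∈ D, ∀ g : G, ∃ a ∈ 𝐂[x], a * (g * y * g⁻¹) * a⁻¹ = y)
    (h2 : ∀ S W : Subgroup G, Syl p S ⊤ → W ≤ S → S ≤ 𝐍(W) → y ∈ 𝐍(W) → W = ⊥)
    (hV : IsPGroup p V) (hy : y ∈ 𝐍(V)) (hx : x ∈ V) (hxD : x ∈ D) : x = 1 := by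
  have hcl : ∀ X : Subgroup G, closure ((X : Set G) ∩ D) ≤ X := fun X => (closure_le _).2 Set.inter_subset_left
  have hcl2 : ∀ X Y : Subgroup G, closure ((X : Set G) ∩ D) ≤ Y →
      closure ((X : Set G) ∩ D) ≤ closure ((Y : Set G) ∩ D) := fun X Y h =>
    closure_mono fun z hz => ⟨h (subset_closure hz), hz.2⟩
  obtain ⟨W, hle, ⟨hW, hyW, hWD⟩, hmax⟩ := exists_maximal_ge
    (fun W : Subgroup G => IsPGroup p W ∧ y ∈ 𝐍(W) ∧ W ≤ closure ((W : Set G) ∩ D))
    (H := closure ((V : Set G) ∩ D)) ⟨hV.to_le (hcl V), kw_norm_closure hD hy, hcl2 _ _ le_rfl⟩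
  obtain ⟨S, hS, hWS⟩ := exists_syl_ge hW (le_normalizer (H := W))
  by_cases h3 : ⊤ ⊓ 𝐍(S) ≤ 𝐍(W)
  · have := h2 S W (hS.of_normalizer_le le_top h3) hWS hS.le hyW
    exact mem_bot.1 (this ▸ hle (subset_closure ⟨hx, hxD⟩))
  obtain ⟨g, hg, hgW⟩ := SetLike.not_le_iff_exists.1 h3
  have h4 : ¬ cj g (closure ((W : Set G) ∩ D)) ≤ W := fun e =>
    hgW (mem_normalizer_of_cj_le ((cj_mono g hWD).trans e))
  rw [cj_closure, closure_le] at h4
  obtain ⟨_, ⟨w, ⟨hw, hwD⟩, rfl⟩, hw'⟩ := Set.not_subset.1 h4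
  simp only [MulAut.conj_apply, SetLike.mem_coe] at hw' hw
  obtain ⟨a, ha, e⟩ := h1 _ (hD g w hwD) g
  have h5 : y ∈ 𝐍(cj (a * g) W) := by
    rw [← cj_normalizer, ← e, show a * (g * y * g⁻¹) * a⁻¹ = (a * g) * y * (a * g)⁻¹ by group]
    exact conj_mem_cj _ hyW
  have h6 : g * w * g⁻¹ ∈ cj (a * g) W := by
    have := conj_mem_cj (a * g) hw
    rwa [show a * g * w * (a * g)⁻¹ = a * (g * w * g⁻¹) * a⁻¹ by group,
      mem_centralizer_singleton_iff.1 ha, mul_inv_cancel_right] at this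
  have h7 : g * w * g⁻¹ ∈ 𝐍(W) := hS.le ((mem_normalizer_iff.1 hg.2 w).1 (hWS hw))
  set U := closure (((cj (a * g) W ⊓ 𝐍(W) : Subgroup G) : Set G) ∩ D)
  have h8 : W ⊔ U = W := hmax _ ⟨isPGroup_sup_of_le_normalizer' hW
      ((isPGroup_cj _ hW).to_le ((hcl _).trans inf_le_left)) ((hcl _).trans inf_le_right),
    kw_mem_sup hyW (kw_norm_closure hD (kw_mem_inf h5 (le_normalizer hyW))),
    sup_le (hWD.trans (hcl2 _ _ ((hcl _).trans le_sup_left))) (hcl2 _ _ le_sup_right)⟩ le_sup_left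
  exact (hw' (sup_eq_left.1 h8 (subset_closure ⟨⟨h6, h7⟩, hD g w hwD⟩))).elim

theorem kw_nil_norm [hp : Fact p.Prime] (hA : Group.IsNilpotent A) (hS : Syl p S A) (h1 : W ≤ S) (h2 : S ≤ 𝐍(W)) :
    A ≤ 𝐍(W) := by
  rw [← piCoreOf_sup_compl_of_nilpotent {p} hA]
  refine sup_le ((pCoreOf_le_syl hS).trans h2) (le_norm_of_le_cent (le_cent_of_coprime_of_nilpotent hA
    (piCoreOf_le' _ _) (h1.trans hS.le) ?_))
  exact (coprime_of_isPGroup_of_not_dvd hp.out (hS.isPGroup.to_le h1) (not_dvd_card_pPrimeCoreOf hp.out A)).symm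

theorem kw_nil_cent (hA : Group.IsNilpotent A) (h1 : W ≤ A) (h2 : A ≤ 𝐍(W)) (h3 : W ≠ ⊥) : W ⊓ 𝐂(A) ≠ ⊥ := by
  haveI := (normal_subgroupOf_iff_le_normalizer h1).2 h2
  have := inf_center_ne_bot_of_normal (W.subgroupOf A) fun e => h3 (by
    rw [← map_subgroupOf_of_le h1, e, Subgroup.map_bot])
  obtain ⟨⟨z, hz, hz'⟩, hz1⟩ := ne_bot_iff_exists_ne_one.1 this
  refine ne_bot_iff_exists_ne_one.2 ⟨⟨z, hz, mem_centralizer_comm.2 fun a ha => ?_⟩,
    fun e => hz1 (Subtype.ext (Subtype.ext (Subtype.mk.inj e)))⟩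
  exact congrArg Subtype.val (mem_center_iff.1 hz' ⟨a, ha⟩)

/-- a factorisation by nilpotent subgroups of coprime orders -/
structure NF (A B : Subgroup G) : Prop where
  nA : Group.IsNilpotent A
  nB : Group.IsNilpotent B
  cop : (Nat.card A).Coprime (Nat.card B)
  fac : ∀ g : G, ∃ a ∈ A, ∃ b ∈ B, g = a * b

theorem kw_nil_cj (g : G) (h : Group.IsNilpotent A) : Group.IsNilpotent (cj g A) :=
  Group.nilpotent_of_mulEquiv (cjEquiv g A)

namespace NF

theorem symm (h : NF A B) : NF B A := ⟨h.nB, h.nA, h.cop.symm, factor_symm h.fac⟩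

theorem conj (h : NF A B) (a b : G) : NF (cj a A) (cj b B) :=
  ⟨kw_nil_cj a h.nA, kw_nil_cj b h.nB, by rw [card_cj, card_cj]; exact h.cop, factor_conj h.fac a b⟩

theorem conj' (h : NF A B) (b : G) : NF A (cj b B) := by simpa only [cj_one] using h.conj 1 b

theorem syl [Fact p.Prime] (h : NF A B) (hp : ¬ p ∣ Nat.card B) (hS : Syl p S A) : Syl p S ⊤ :=
  hS.of_le_of_not_dvd le_top fun e => hp ((relIndex_top_right A ▸ e).trans (index_dvd_card_of_factor h.symm.fac))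

theorem sub (h : NF A B) (hH : ∀ g ∈ H, ∃ a ∈ H ⊓ A, ∃ b ∈ H ⊓ B, g = a * b) :
    NF (A.subgroupOf H) (B.subgroupOf H) := by
  have h1 : ∀ A : Subgroup G, Group.IsNilpotent A → Group.IsNilpotent (A.subgroupOf H) := fun A hA => by
    rw [← inf_subgroupOf_right]
    haveI := nilpotent_of_le (inf_le_left : A ⊓ H ≤ A) hA
    exact Group.nilpotent_of_mulEquiv (subgroupOfEquivOfLe inf_le_right).symm
  refine ⟨h1 _ h.nA, h1 _ h.nB, ?_, fun g => ?_⟩
  · rw [Hall.card_subgroupOf, Hall.card_subgroupOf]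
    exact (h.cop.coprime_dvd_left (card_dvd_of_le inf_le_left)).coprime_dvd_right (card_dvd_of_le inf_le_left)
  · obtain ⟨a, ha, b, hb, e⟩ := hH g g.2
    exact ⟨⟨a, ha.1⟩, ha.2, ⟨b, hb.1⟩, hb.2, Subtype.ext e⟩

theorem conj_eq (h : NF A B) (hy : B ≤ 𝐂[y]) (g : G) : ∃ a ∈ A, g * y * g⁻¹ = a * y * a⁻¹ := by
  obtain ⟨a, ha, b, hb, rfl⟩ := h.fac g
  refine ⟨a, ha, ?_⟩
  rw [show a * b * y * (a * b)⁻¹ = a * (b * y * b⁻¹) * a⁻¹ by group, mem_centralizer_singleton_iff.1 (hy hb),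
    mul_inv_cancel_right]

theorem mats [IsSimpleGroup G] [Fact p.Prime] (h : NF A B) (hG : ¬ Group.IsSolvable G) (hp : ¬ p ∣ Nat.card B)
    (hB : B ≤ 𝐂[y]) (hy1 : y ≠ 1) (hV : IsPGroup p V) (hy : y ∈ 𝐍(V)) (hx : x ∈ V) (hA : A ≤ 𝐂[x]) : x = 1 := by
  refine kw_mats (D := {x | ∃ g, cj g A ≤ 𝐂[x]}) ?_ ?_ ?_ hV hy hx ⟨1, by rwa [cj_one]⟩
  · rintro g x ⟨k, hk⟩
    exact ⟨g * k, by rw [cj_mul, ← cj_centralizer_singleton]; exact cj_mono g hk⟩
  · rintro x ⟨k, hk⟩ g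
    obtain ⟨a, ha, e⟩ := (h.symm.conj' k).symm.conj_eq hB g
    exact ⟨a⁻¹, inv_mem (hk ha), by rw [e]; group⟩
  · intro S W hS hW hn hyW
    obtain ⟨T, hT⟩ := exists_syl p A
    obtain ⟨g, -, rfl⟩ := (h.syl hp hT).exists_conj hS
    have h1 := kw_nil_norm (kw_nil_cj g h.nA) (hT.conj g) hW hn
    have h2 : normalClosure {y} ≤ 𝐍(W) := (closure_le _).2 fun z hz => by
      obtain ⟨_, rfl, hc⟩ := Group.mem_conjugatesOfSet_iff.1 hz
      obtain ⟨k, rfl⟩ := isConj_iff.1 hc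
      obtain ⟨a, ha, e⟩ := (h.symm.conj' g).symm.conj_eq hB k
      rw [e]
      exact mul_mem (mul_mem (h1 ha) hyW) (inv_mem (h1 ha))
    rw [(normalClosure_normal (s := {y})).eq_bot_or_eq_top.resolve_left fun e =>
      hy1 (mem_bot.1 (e ▸ subset_normalClosure rfl))] at h2
    refine (normal_of_top_le_normalizer h2).eq_bot_or_eq_top.resolve_right fun e => hG ?_
    exact isSolvable_top_iff.1 (e ▸ solvable_of_pgroup Fact.out (hS.isPGroup.to_le hW))

theorem two_syl [IsSimpleGroup G] {s : ℕ} [hp : Fact p.Prime] [hs : Fact s.Prime] {Q : Subgroup G} {t : G} (h : NF A B)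
    (hG : ¬ Group.IsSolvable G) (hp' : ¬ p ∣ Nat.card B) (hs' : s ∣ Nat.card B) (hQ : Syl s Q B) (hQH : Q ≤ H)
    (hH : Group.IsSolvable H) (hf : ∀ g ∈ H, ∃ a ∈ H ⊓ A, ∃ b ∈ H ⊓ B, g = a * b) (ht : t ∈ H ⊓ A)
    (htp : IsPGroup p (zpowers t)) (hA : A ≤ 𝐂[t]) : t = 1 := by
  by_contra ht1
  have hsA : ¬ s ∣ Nat.card A := fun e => hs.out.one_lt.ne' (Nat.eq_one_of_dvd_coprimes h.cop e hs')
  obtain ⟨T, hT, htT⟩ := exists_syl_ge htp (zpowers_le.2 ht)
  have hT' : Syl p T H := hT.of_le_of_not_dvd inf_le_left fun e => hp' (by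
    have := index_dvd_card_of_factor (h.sub hf).symm.fac
    rw [inf_relIndex_left] at e
    rw [Hall.card_subgroupOf] at this
    exact (e.trans this).trans (card_dvd_of_le inf_le_left))
  obtain ⟨K, hQK, hK⟩ := BG1.exists_isPiHallOf_ge {p, s} hH hQH
    (((isPGroup_iff_isPiNumber hs.out).1 hQ.isPGroup).mono (by simp))
  obtain ⟨n, hn, hTK⟩ := exists_cj_le_of_isPiHallOf hH hK hT'.le
    (((isPGroup_iff_isPiNumber hp.out).1 hT.isPGroup).mono (by simp))
  have hKH : K ≤ H := (isPiHallOf_iff.1 hK).1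
  have h1 : Syl p (cj n T) K := (hT'.conj_of_mem hn).of_le hTK hKH
  have h2 : Syl s Q K := (h.symm.syl hsA hQ).of_le hQK le_top
  have h3 : n * t * n⁻¹ ∈ cj n T := conj_mem_cj n (htT (mem_zpowers t))
  have h4 : cj n A ≤ 𝐂[n * t * n⁻¹] := by rw [← cj_centralizer_singleton]; exact cj_mono n hA
  have h5 : n * t * n⁻¹ ≠ 1 := by simpa using ht1
  have h' := (h.symm.conj' n).symm
  have h6 : IsPGroup s 𝐎'[p](K) := (isPGroup_iff_isPiNumber hs.out).2 fun r hr hd =>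
    (isPi_of_hall hK r hr (hd.trans (card_dvd_of_le (piCoreOf_le' _ _)))).resolve_left (isPi_piCoreOf' _ _ r hr hd)
  have h7 : 𝐎'[p](K) ≤ Q := h2.le_of_normal h6 (piCoreOf_le' _ _) (le_norm_piCoreOf_self _ _)
  by_cases h8 : 𝐎'[p](K) = ⊥
  · obtain ⟨⟨y, hy, hy'⟩, hy1⟩ := ne_bot_iff_exists_ne_one.1 (kw_nil_cent h.nB hQ.le
      (kw_nil_norm h.nB hQ le_rfl le_normalizer) (hQ.ne_bot hs'))
    refine h5 (h'.mats hG hp' (kw_cent hy') (fun e => hy1 (Subtype.ext e)) (pgroup_pCoreOf hp.out K)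
      (le_norm_piCoreOf_self _ _ (hQK hy)) (cent_pCoreOf_le hp.out (solvable_of_le hKH hH) h8 ⟨hTK h3, ?_⟩) h4)
    exact mem_centralizer_comm.2 fun z hz => mem_centralizer_singleton_iff.1
      (h4 (cj_mono n (hT.le.trans inf_le_right) (pCoreOf_le_syl h1 hz)))
  · obtain ⟨⟨y, hy, hy'⟩, hy1⟩ := ne_bot_iff_exists_ne_one.1 (kw_nil_cent h.nB (h7.trans hQ.le)
      (kw_nil_norm h.nB hQ h7 (hQK.trans (le_norm_piCoreOf_self _ _))) h8)
    exact hy1 (Subtype.ext (h'.symm.mats hG (by rwa [card_cj]) h4 h5 h6 (le_norm_piCoreOf_self _ _ (hTK h3)) hy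
      (kw_cent hy')))

theorem simple [IsSimpleGroup G] (h : NF A B) (h2 : 2 ∣ Nat.card A)
    (ih : ∀ H : Subgroup G, H ≠ ⊤ → ∀ A B : Subgroup H, NF A B → Group.IsSolvable H) : Group.IsSolvable G := by
  by_contra hG
  have h2B : ¬ 2 ∣ Nat.card B := fun e => by simpa using Nat.eq_one_of_dvd_coprimes h.cop h2 e
  obtain ⟨T, hT⟩ := exists_syl 2 A
  have h0 := kw_nil_cent h.nA hT.le (kw_nil_norm h.nA hT le_rfl le_normalizer) (hT.ne_bot h2)
  obtain ⟨t, ⟨htT, htC⟩, ht⟩ := exists_mem_orderOf_eq_prime (H := T ⊓ 𝐂(A)) Nat.prime_two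
    ((hT.isPGroup.to_le inf_le_left).card_eq_or_dvd.resolve_left fun e => h0 (card_eq_one.1 e))
  have ht1 : t ≠ 1 := fun e => by simp [e] at ht
  have htp : IsPGroup 2 (zpowers t) := hT.isPGroup.to_le (zpowers_le.2 htT)
  have hne : ∀ X : Subgroup G, X ≠ ⊥ → X ≠ ⊤ → 𝐍(X) ≠ ⊤ := fun X h1 h2 e =>
    (normalizer_eq_top_iff.1 e).eq_bot_or_eq_top.elim h1 h2
  have hsol : ∀ X : Subgroup G, Group.IsSolvable X → X ≠ ⊤ := fun X h1 e => hG (isSolvable_top_iff.1 (e ▸ h1))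
  obtain ⟨x₀, -, hx₀, hodd, hinv₀⟩ := exists_inverted_of_not_mem_op (v := t) (L := ⊤)
    (by rw [← pow_two, ← ht, pow_orderOf_eq_one]) trivial fun e => by
      haveI := op_normal (p := 2) (⊤ : Subgroup G)
      refine hsol _ (solvable_of_pgroup Nat.prime_two (op_isPGroup (p := 2) ⊤)) ?_
      exact (this.eq_bot_or_eq_top).resolve_left fun e' => ht1 (mem_bot.1 (e' ▸ e))
  obtain ⟨r, hr, hd⟩ := Nat.exists_prime_and_dvd (mt orderOf_eq_one_iff.1 hx₀)
  haveI := Fact.mk hr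
  obtain ⟨x, hx, hinv⟩ : ∃ x : G, orderOf x = r ∧ t * x * t⁻¹ = x⁻¹ :=
    ⟨x₀ ^ (orderOf x₀ / r), orderOf_pow_orderOf_div (orderOf_pos x₀).ne' hd, by rw [← conj_pow, hinv₀, inv_pow]⟩
  have hr2 : r ≠ 2 := ne_two_of_dvd_odd hodd hd
  have hxp : IsPGroup r (zpowers x) := IsPGroup.of_card (n := 1) (by rw [Nat.card_zpowers, hx, pow_one])
  have hx1 : zpowers x ≠ ⊥ := fun e => hr.one_lt.ne' (by rw [← hx, orderOf_eq_one_iff, ← zpowers_eq_bot, e])
  have htN : t ∈ 𝐍(zpowers x) := cj_eq_self_iff.1 (by rw [cj_zpowers, hinv, zpowers_inv])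
  by_cases hrB : r ∣ Nat.card B
  swap
  · obtain ⟨R, hR⟩ := exists_syl r A
    obtain ⟨g, -, hg⟩ := (h.syl hrB hR).exists_le_conj hxp le_top
    have h3 : cj g T ≤ 𝐂(zpowers x) := le_cent_of_coprime_of_nilpotent (kw_nil_cj g h.nA) (cj_mono g hT.le)
      (hg.trans (cj_mono g hR.le)) (IsPGroup.coprime_card_of_ne 2 r hr2.symm _ _ (isPGroup_cj g hT.isPGroup) hxp)
    obtain ⟨n, hn, h4⟩ := (((h.syl h2B hT).conj_top g).of_le (le_norm_of_le_cent h3) le_top).exists_le_conj htp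
      (zpowers_le.2 htN)
    have h5 : t ∈ 𝐂(zpowers x) := cj_le_of_le_of_mem_normalizer h3 (normalizer_le_normalizer_centralizer _ hn)
      (h4 (mem_zpowers t))
    have h6 := mem_centralizer_comm.1 h5 x (mem_zpowers x)
    rw [← h6, mul_inv_cancel_right, eq_inv_iff_mul_eq_one, ← pow_two, ← orderOf_dvd_iff_pow_eq_one, hx] at hinv
    exact hr2 ((Nat.prime_dvd_prime_iff_eq hr Nat.prime_two).1 hinv)
  by_cases hB : IsPGroup r B
  · obtain ⟨k, hk⟩ := IsPGroup.iff_card.1 hB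
    obtain ⟨j, -, hj⟩ := (Nat.dvd_prime_pow hr).1 (hk ▸ (index_dvd_of_le (kw_cent htC)).trans
      (index_dvd_card_of_factor h.symm.fac))
    exact hG (Group.isSolvable_of_comm (Char.comm_of_isSimpleGroup_of_prime_pow_class hr ht1 hj))
  obtain ⟨s, hs, hsB, hsr⟩ : ∃ s : ℕ, s.Prime ∧ s ∣ Nat.card B ∧ s ≠ r := by
    by_contra e
    push Not at e
    exact hB ((isPGroup_iff_isPiNumber hr).2 e)
  haveI := Fact.mk hs
  obtain ⟨R, hR⟩ := exists_syl r B
  obtain ⟨g, -, hg⟩ := (h.symm.syl (fun e => hr.one_lt.ne' (Nat.eq_one_of_dvd_coprimes h.cop e hrB)) hR).exists_le_conj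
    hxp le_top
  have h' := h.conj' g
  obtain ⟨Q, hQ⟩ := exists_syl s (cj g B)
  have h3 : Q ≤ 𝐍(zpowers x) := le_norm_of_le_cent (le_cent_of_coprime_of_nilpotent h'.nB hQ.le
    (hg.trans (cj_mono g hR.le)) (IsPGroup.coprime_card_of_ne s r hsr _ _ hQ.isPGroup hxp))
  have h4 : zpowers t ⊔ Q ≠ ⊤ := fun e => hne _ hx1 (hsol _ (solvable_of_pgroup hr hxp))
    (top_le_iff.1 (e ▸ sup_le (zpowers_le.2 htN) h3))
  have h5 := hne _ (fun e => ht1 (mem_bot.1 (e ▸ mem_sup_left (mem_zpowers t)))) h4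
  have h6 := Cfsg.Agent.S0562.result A (cj g B) (zpowers t) Q h'.fac (zpowers_le.2 (hT.le htT))
    ((normal_subgroupOf_iff_le_normalizer (zpowers_le.2 (hT.le htT))).2
      (le_norm_of_le_cent (BG1.le_cent_symm (zpowers_le.2 htC)))) hQ.le
    ((normal_subgroupOf_iff_le_normalizer hQ.le).2 (kw_nil_norm h'.nB hQ le_rfl le_normalizer))
  exact ht1 (h'.two_syl hG (by rwa [card_cj]) (by rwa [card_cj]) hQ (le_sup_right.trans le_normalizer)
    (ih _ h5 _ _ (h'.sub h6)) h6 ⟨le_normalizer (mem_sup_left (mem_zpowers t)), hT.le htT⟩ htp (kw_cent htC))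

theorem map {G' : Type u} [Group G'] [Finite G'] (h : NF A B) {f : G →* G'} (hf : Function.Surjective f) :
    NF (A.map f) (B.map f) :=
  ⟨by haveI := h.nA; exact Group.nilpotent_of_surjective _ (f.subgroupMap_surjective A),
    by haveI := h.nB; exact Group.nilpotent_of_surjective _ (f.subgroupMap_surjective B),
    (h.cop.coprime_dvd_left (card_map_dvd _ f)).coprime_dvd_right (card_map_dvd _ f), factor_map hf h.fac⟩

theorem normal (h : NF A B) (N : Subgroup G) [N.Normal] : ∀ g ∈ N, ∃ a ∈ N ⊓ A, ∃ b ∈ N ⊓ B, g = a * b := by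
  intro g hg
  obtain ⟨a, ha, b, hb, e⟩ := factor_of_coprime_index (H := A.subgroupOf N) (K := B.subgroupOf N)
    ((h.cop.symm.coprime_dvd_left ((relIndex_dvd_index_of_normal_right A N).trans
      (index_dvd_card_of_factor h.symm.fac))).coprime_dvd_right
      ((relIndex_dvd_index_of_normal_right B N).trans (index_dvd_card_of_factor h.fac))) ⟨g, hg⟩
  exact ⟨a, ⟨a.2, ha⟩, b, ⟨b.2, hb⟩, congrArg Subtype.val e⟩

end NF

theorem kw_cop_aux (n : ℕ) : ∀ (G : Type u) [Group G] [Finite G], Nat.card G = n →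
    ∀ A B : Subgroup G, NF A B → Group.IsSolvable G := by
  induction n using Nat.strong_induction_on with
  | _ n ih =>
    intro G _ _ e A B h
    have ih' : ∀ H : Subgroup G, H ≠ ⊤ → ∀ A B : Subgroup H, NF A B → Group.IsSolvable H := fun H hH =>
      ih _ (e ▸ card_lt_of_ne_top hH) H rfl
    rcases subsingleton_or_nontrivial G with h0 | h0
    · infer_instance
    by_cases hs : IsSimpleGroup G
    · rcases Nat.even_or_odd (Nat.card G) with h2 | h2
      · have := (even_iff_two_dvd.1 h2).mul_right (Nat.card (A ⊓ B : Subgroup G))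
        rw [← factor_iff_card.1 h.fac, Nat.prime_two.dvd_mul] at this
        exact this.elim (h.simple · ih') (h.symm.simple · ih')
      · exact Cfsg.Agent.S0205.result h2
    obtain ⟨N, hN, h1, h2⟩ : ∃ N : Subgroup G, N.Normal ∧ N ≠ ⊥ ∧ N ≠ ⊤ := by
      by_contra hc
      push Not at hc
      exact hs ⟨fun N hN => or_iff_not_imp_left.2 (hc N hN)⟩
    haveI := ih' N h2 _ _ (h.sub (h.normal N))
    haveI := ih _ (e ▸ card_quotient_lt h1) (G ⧸ N) rfl _ _ (h.map (QuotientGroup.mk'_surjective N))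
    exact isSolvable_of_normal_quotient N

/-- **Wielandt** -/
theorem NF.solvable (h : NF A B) : Group.IsSolvable G := kw_cop_aux _ G rfl A B h

theorem kw_nil_map {G' : Type u} [Group G'] (h : Group.IsNilpotent A) (f : G →* G') : Group.IsNilpotent (A.map f) :=
  Group.nilpotent_of_surjective _ (f.subgroupMap_surjective A)

theorem kw_aux (n : ℕ) : ∀ (G : Type u) [Group G] [Finite G], Nat.card G = n →
    ∀ A B : Subgroup G, Group.IsNilpotent A → Group.IsNilpotent B → (∀ g : G, ∃ a ∈ A, ∃ b ∈ B, g = a * b) →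
      Group.IsSolvable G := by
  induction n using Nat.strong_induction_on with
  | _ n ih =>
    intro G _ _ e A B hA hB h
    have hq : ∀ (N : Subgroup G) [N.Normal], N ≠ ⊥ → Group.IsSolvable (G ⧸ N) := fun N _ h1 =>
      ih _ (e ▸ card_quotient_lt h1) (G ⧸ N) rfl _ _ (kw_nil_map hA _) (kw_nil_map hB _)
        (factor_map (QuotientGroup.mk'_surjective N) h)
    have key : ∀ (N : Subgroup G) [N.Normal], N ≠ ⊥ → Group.IsSolvable N → Group.IsSolvable G := fun N _ h1 _ =>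
      have := hq N h1
      isSolvable_of_normal_quotient N
    by_cases hc : (Nat.card A).Coprime (Nat.card B)
    · exact NF.solvable ⟨hA, hB, hc, h⟩
    obtain ⟨p, hp, hpA, hpB⟩ := Nat.Prime.not_coprime_iff_dvd.1 hc
    haveI := Fact.mk hp
    by_cases hO : pCore p G = ⊥
    swap
    · exact key _ hO (solvable_of_pgroup hp (isPGroup_pCore p G))
    obtain ⟨P, Q, R, hP, hQ, hR⟩ := exists_sylow_eq_mul h p
    replace hP := syl_iff_sylowIn.2 hP
    replace hQ := syl_iff_sylowIn.2 hQ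
    have h1 := (perm_iff_exists.2 ⟨_, hR⟩).conj_conj_of_factor h (kw_nil_norm hA hP le_rfl le_normalizer)
      (kw_nil_norm hB hQ le_rfl le_normalizer) 1
    rw [map_one, one_smul] at h1
    obtain ⟨P', h2, h3, h4⟩ := exists_perm_normalized (IsPGroup p ·) (fun A' A₁ x h1 h2 _ h3 =>
      IsPGroup.to_le ((isPGroup_iff_isPiNumber hp).2 ((h1 x).isPi_sup ((isPGroup_iff_isPiNumber hp).1 h2)
        ((isPGroup_iff_isPiNumber hp).1 (isPGroup_cj x hQ.isPGroup)))) h3) h1 hP.isPGroup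
    set M := normalClosure (Q : Set G)
    have h5 : P' ⊓ M = ⊥ := le_bot_iff.1 (hO ▸ (le_op inf_le_right (le_normalizer_inf h4 le_normalizer)
      (h3.to_le inf_le_left)).trans (op_le_pCore M))
    have h6 : P' ≤ 𝐂(M) := comm_eq_bot_iff.1 (le_bot_iff.1 (h5 ▸ comm_le_inf h4 Amalg.le_normalizer_of_normal'))
    have h7 : 𝐂(M) ≠ ⊥ := fun e => hP.ne_bot hpA (le_bot_iff.1 (e ▸ h2.trans h6))
    have h8 : M ≠ ⊥ := fun e => hQ.ne_bot hpB (le_bot_iff.1 (e ▸ le_normalClosure))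
    by_cases h9 : M ⊓ 𝐂(M) = ⊥
    · haveI := hq _ h7
      refine key M h8 (Group.isSolvable_of_isSolvable_injective (f := (QuotientGroup.mk' 𝐂(M)).comp M.subtype) ?_)
      refine (injective_iff_map_eq_one _).2 fun a ha => Subtype.ext (mem_bot.1 (h9 ▸ ⟨a.2, ?_⟩))
      exact (QuotientGroup.eq_one_iff _).1 ha
    · haveI := isMulCommutative_inf_cent M
      exact key _ h9 (Group.isSolvable_of_comm fun a b => mul_comm' a b)

/-- **Kegel–Wielandt** -/
theorem kegel_wielandt (hA : Group.IsNilpotent A) (hB : Group.IsNilpotent B)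
    (h : ∀ g : G, ∃ a ∈ A, ∃ b ∈ B, g = a * b) : Group.IsSolvable G := kw_aux _ G rfl A B hA hB h

theorem kw_normal_aux (n : ℕ) : ∀ (G : Type u) [Group G] [Finite G], Nat.card G = n →
    ∀ A B : Subgroup G, Group.IsNilpotent A → Group.IsNilpotent B → (∀ g : G, ∃ a ∈ A, ∃ b ∈ B, g = a * b) →
      (A ≠ ⊤ ∨ B ≠ ⊤) → ∃ N : Subgroup G, N.Normal ∧ N ≠ ⊤ ∧ (A ≤ N ∨ B ≤ N) := by
  induction n using Nat.strong_induction_on with
  | _ n ih =>
    intro G _ _ e A B hA hB h hne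
    have key : ∀ (N : Subgroup G) [N.Normal], N ≠ ⊥ → (A ⊔ N ≠ ⊤ ∨ B ⊔ N ≠ ⊤) →
        ∃ N : Subgroup G, N.Normal ∧ N ≠ ⊤ ∧ (A ≤ N ∨ B ≤ N) := fun N _ h1 h2 => by
      have h3 : ∀ X : Subgroup G, X ⊔ N ≠ ⊤ → X.map (QuotientGroup.mk' N) ≠ ⊤ := fun X h e => h (by
        rw [← index_eq_one, ← index_map_mk', e, index_top])
      obtain ⟨M, hM, h4, h5⟩ := ih _ (e ▸ card_quotient_lt h1) (G ⧸ N) rfl _ _ (kw_nil_map hA _) (kw_nil_map hB _)
        (factor_map (QuotientGroup.mk'_surjective N) h) (h2.imp (h3 A) (h3 B))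
      refine ⟨M.comap (QuotientGroup.mk' N), inferInstance, fun e => h4 ?_, h5.imp map_le_iff_le_comap.1 map_le_iff_le_comap.1⟩
      rw [← index_eq_one, ← index_comap_mk', e, index_top]
    have top : ∀ A B : Subgroup G, Group.IsNilpotent A → A = ⊤ → B ≠ ⊤ → ∃ N : Subgroup G, N.Normal ∧ N ≠ ⊤ ∧ B ≤ N :=
      fun A B hA h1 h2 => by
        subst h1
        haveI : Group.IsNilpotent G := Group.nilpotent_of_mulEquiv topEquiv
        obtain ⟨M, hM, h3⟩ := exists_coatom_ge h2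
        exact ⟨M, Group.normalizerCondition_of_isNilpotent.normal_of_coatom M hM, hM.1, h3⟩
    by_cases hA' : A = ⊤
    · exact (top A B hA hA' (hne.resolve_left (not_not.2 hA'))).imp fun _ h => ⟨h.1, h.2.1, Or.inr h.2.2⟩
    by_cases hB' : B = ⊤
    · exact (top B A hB hB' hA').imp fun _ h => ⟨h.1, h.2.1, Or.inl h.2.2⟩
    haveI := kegel_wielandt hA hB h
    haveI : Nontrivial G := by
      by_contra h0
      haveI := not_nontrivial_iff_subsingleton.1 h0
      exact hA' (Subsingleton.elim _ _)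
    obtain ⟨N, p, hN, h0, hmin, hc, hp, hpow⟩ := exists_minNormal_elementary (G := G)
    haveI := Fact.mk hp
    by_contra hcon
    have h1 : ∀ X : Subgroup G, X ≠ ⊤ → Group.IsNilpotent X →
        (∀ (N : Subgroup G) [N.Normal], N ≠ ⊥ → X ⊔ N = ⊤) → ¬ p ∣ Nat.card X := fun X hX hn hs hd => by
      obtain ⟨P, hP⟩ := exists_syl p X
      have h2 := kw_nil_norm hn hP le_rfl le_normalizer
      have h3 := isMulCommutative_iff_le_cent.1 hc
      have h4 : (N ⊓ 𝐂(P)).Normal := normal_of_top_le_normalizer (hs N h0 ▸ sup_le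
        (le_normalizer_inf Amalg.le_normalizer_of_normal' (h2.trans (normalizer_le_normalizer_centralizer _)))
        (le_norm_of_le_cent (h3.trans (centralizer_le inf_le_left))))
      have h5 := (hmin _ h4 inf_le_left).resolve_left fun e => Amalg.inf_center_ne_bot
        (isPGroup_sup_of_le_normalizer hP.isPGroup hpow.2 Amalg.le_normalizer_of_normal')
        le_sup_right Amalg.le_normalizer_of_normal' h0 (by
          rw [eq_bot_iff, ← e]
          exact inf_le_inf_left _ (centralizer_le (SetLike.coe_subset_coe.2 le_sup_left)))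
      haveI : P.Normal := normal_of_top_le_normalizer (hs N h0 ▸ sup_le h2 (le_norm_of_le_cent (inf_eq_left.1 h5)))
      exact hX (by rw [← hs P (hP.ne_bot hd), sup_eq_left.2 hP.le])
    obtain ⟨x, hx⟩ := ne_bot_iff_exists_ne_one.1 h0
    have h2 : p ∣ Nat.card G := (hpow.2.card_eq_or_dvd.resolve_left
      fun e => h0 (card_eq_one.1 e)).trans N.card_subgroup_dvd_card
    replace h2 := h2.mul_right (Nat.card (A ⊓ B : Subgroup G))
    rw [← factor_iff_card.1 h, hp.dvd_mul] at h2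
    exact h2.elim (h1 A hA' hA fun N _ h0 => by_contra fun e => hcon (key N h0 (Or.inl e)))
      (h1 B hB' hB fun N _ h0 => by_contra fun e => hcon (key N h0 (Or.inr e)))

theorem kw_ito_of {N : Subgroup G} (hA : IsMulCommutative A) (hB : IsMulCommutative B) (hN : N ≤ X) (h1 : A ≤ X)
    (h : ∀ g ∈ X, ∃ a ∈ A, ∃ b ∈ B, g = a * b) : ⁅⁅N, N⁆, ⁅N, N⁆⁆ = ⊥ := by
  have h2 := Cfsg.Agent.S0572.result (A.subgroupOf X) (B.subgroupOf X) (factor_subgroupOf h1 h)
  have h3 := congrArg (Subgroup.map X.subtype) h2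
  simp only [derivedSeries_succ, derivedSeries_zero, map_commutator, map_subtype_top, Subgroup.map_bot] at h3
  exact le_bot_iff.1 (h3 ▸ commutator_mono (commutator_mono hN hN) (commutator_mono hN hN))

theorem kw_class_two (k : ℕ) : ∀ (G : Type u) [Group G] [Finite G] [Group.IsSolvable G] (A B : Subgroup G),
    IsMulCommutative A → ⁅B, B⁆ ≤ 𝐂(B) → (∀ g : G, ∃ a ∈ A, ∃ b ∈ B, g = a * b) →
    ArithmeticFunction.cardFactors (Nat.card ↥⁅B, B⁆) ≤ k → derivedSeries G (2 * (1 + k)) = ⊥ := by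
  have base : ∀ (k : ℕ) (G : Type u) [Group G] [Finite G] (A B : Subgroup G),
      IsMulCommutative A → (∀ g : G, ∃ a ∈ A, ∃ b ∈ B, g = a * b) → ⁅B, B⁆ = ⊥ →
      derivedSeries G (2 * (1 + k)) = ⊥ := fun k G _ _ A B hA h h1 => by
    haveI := isMulCommutative_iff_le_cent.2 (comm_eq_bot_iff.1 h1)
    exact le_bot_iff.1 (Cfsg.Agent.S0572.result A B h ▸ derivedSeries_antitone G (by omega))
  induction k with
  | zero =>
    intro G _ _ _ A B hA hB h hk
    refine base _ G A B hA h (card_eq_one.1 ?_)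
    exact (ArithmeticFunction.cardFactors_eq_zero_iff_eq_zero_or_one.1 (Nat.le_zero.1 hk)).resolve_left Nat.card_pos.ne'
  | succ k ih =>
    intro G _ _ _ A B hA hB h hk
    by_cases h0 : ⁅B, B⁆ = ⊥
    · exact base _ G A B hA h h0
    obtain ⟨N, -, ⟨hN, h1⟩, hmin⟩ := exists_minimal_le (fun N : Subgroup G => N.Normal ∧ N ⊓ ⁅B, B⁆ ≠ ⊥) (H := ⊤)
      ⟨inferInstance, by rwa [top_inf_eq]⟩
    obtain ⟨⟨z, hz, hzB⟩, hz1⟩ := ne_bot_iff_exists_ne_one.1 h1
    have h2 : normalClosure {z} = N := hmin _ ⟨inferInstance, ne_bot_iff_exists_ne_one.2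
      ⟨⟨z, subset_normalClosure rfl, hzB⟩, fun e => hz1 (Subtype.ext (Subtype.mk.inj e))⟩⟩
      (normalClosure_le_normal (Set.singleton_subset_iff.2 hz))
    have h3 : ⁅N, N⁆ ⊓ ⁅B, B⁆ = ⊥ := by_contra fun e => (der_lt_of_solvable inferInstance
      fun e' => h1 (by rw [e', bot_inf_eq])).ne (hmin _ ⟨inferInstance, e⟩ (comm_le_of_le le_rfl le_rfl))
    let f := QuotientGroup.mk' ⁅N, N⁆
    have h4 : ∀ m ∈ N, ∀ n ∈ N, Commute (f m) (f n) := fun m hm n hn => by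
      rw [← commutatorElement_eq_one_iff_commute, ← map_commutatorElement]
      exact (QuotientGroup.eq_one_iff _).2 (commutator_mem_commutator hm hn)
    have h5 : ∀ a ∈ A, ∀ a' ∈ A, Commute a a' := fun a ha a' ha' => comm_of_mem_of_isMulCommutative hA ha ha'
    have h6 : ∀ a ∈ A, ∀ n ∈ N, a * n ∈ B → ∀ m ∈ N, Commute (f a) (f m) := fun a ha n hn hb m hm => by
      have h7 : Commute (f a) (f z) := by
        have : Commute (f (a * n)) (f z) := Commute.map (mem_centralizer_comm.1 (hB hzB) _ hb) f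
        simpa using this.mul_left (h4 _ (inv_mem hn) _ hz)
      have h8 : normalClosure {z} ≤ (𝐂[f a]).comap f := (closure_le _).2 fun w hw => by
        obtain ⟨z', hz', hc⟩ := Group.mem_conjugatesOfSet_iff.1 hw
        obtain ⟨g, rfl⟩ := isConj_iff.1 hc
        obtain ⟨a', ha', b, hb, rfl⟩ := h g
        rw [hz', show a' * b * z * (a' * b)⁻¹ = a' * (b * z * b⁻¹) * a'⁻¹ by group, mem_centralizer_comm.1 (hB hzB) _ hb,
          mul_inv_cancel_right]
        have := (h5 a ha a' ha').map f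
        refine mem_centralizer_singleton_iff.2 (Commute.symm ?_)
        rw [map_mul, map_mul, map_inv]
        exact (this.mul_right h7).mul_right this.inv_right
      exact (mem_centralizer_singleton_iff.1 (h8 (h2 ▸ hm))).symm
    have h7 : IsMulCommutative ↥(B ⊓ (A ⊔ N)) := isMulCommutative_iff_le_cent.2 fun b hb =>
      mem_centralizer_comm.2 fun c hc => by
        obtain ⟨a, ha, n, hn, rfl⟩ := (mem_sup_of_le_normalizer Amalg.le_normalizer_of_normal').1 hb.2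
        obtain ⟨a', ha', n', hn', rfl⟩ := (mem_sup_of_le_normalizer Amalg.le_normalizer_of_normal').1 hc.2
        rw [← commutatorElement_eq_one_iff_mul_comm, ← mem_bot, ← h3]
        refine ⟨(QuotientGroup.eq_one_iff _).1 ?_, commutator_mem_commutator hc.1 hb.1⟩
        change f _ = 1
        rw [map_commutatorElement, commutatorElement_eq_one_iff_commute, map_mul, map_mul]
        exact (((h5 _ ha' _ ha).map f).mul_right (h6 _ ha' _ hn' hc.1 _ hn)).mul_left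
          ((h6 _ ha _ hn hb.1 _ hn').symm.mul_right (h4 _ hn' _ hn))
    have h8 := kw_ito_of hA h7 le_sup_right le_sup_left (factor_inf_of_le le_sup_left h)
    have h9 := ih (G ⧸ N) (A.map (QuotientGroup.mk' N)) (B.map (QuotientGroup.mk' N)) inferInstance
      (by rw [← map_commutator]; exact (map_mono hB).trans (map_centralizer_le_centralizer_image _ _))
      (factor_map (QuotientGroup.mk'_surjective N) h) (by
        rw [← map_commutator, card_map_mk']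
        rw [← card_inf_mul_relIndex N, ArithmeticFunction.cardFactors_mul Nat.card_pos.ne' relIndex_ne_zero'] at hk
        have := mt ArithmeticFunction.cardFactors_eq_zero_iff_eq_zero_or_one.1
          (not_or.2 ⟨Nat.card_pos.ne', mt card_eq_one.1 h1⟩)
        omega)
    rw [← map_derivedSeries_eq (QuotientGroup.mk'_surjective N), Subgroup.map_eq_bot_iff, QuotientGroup.ker_mk'] at h9
    rw [show 2 * (1 + (k + 1)) = 2 * (1 + k) + 1 + 1 by ring, derivedSeries_succ, derivedSeries_succ, eq_bot_iff, ← h8]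
    exact commutator_mono (commutator_mono h9 h9) (commutator_mono h9 h9)

end Cfsg.Lib.Hall
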