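import Cfsg.Agent.Lib.Block.Base2d

/-! # Bases of solvable linear groups: reductions (imprimitive modules, colourings) -/

set_option autoImplicit false
set_option linter.unusedSectionVars false
set_option linter.style.haveILetI false

namespace Cfsg.Lib.Hall.B3

open Cfsg Cfsg.Lib Subgroup Cfsg.Lib.Block.B2

universe u
variable {G V : Type u} [Group G] [Finite G] [AddCommGroup V] [Finite V] [DistribMulAction G V]

variable (G V) in
/-- the kernel of the action -/
def kr : Subgroup G where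
  carrier := {g | ∀ v : V, g • v = v}
  one_mem' := fun v => one_smul G v
  mul_mem' := fun {a b} ha hb v => by rw [mul_smul, hb, ha]
  inv_mem' := fun {a} ha v => inv_smul_eq_iff.2 (ha v).symm

theorem mem_kr {g : G} : g ∈ kr G V ↔ ∀ v : V, g • v = v := Iff.rfl

instance : (kr G V).Normal := ⟨fun a ha g v => by rw [mul_smul, mul_smul, ha, smul_inv_smul]⟩

variable (G V) in
abbrev rp : G →* (V ≃ₗ[ℤ] V) := DistribMulAction.toModuleAut ℤ V (S := G)

instance : Finite (rp G V).range := Finite.of_surjective _ (rp G V).rangeRestrict_surjective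

theorem card_im : Nat.card (rp G V).range = (kr G V).index := by
  rw [← index_ker]; congr 1; ext g
  exact ⟨fun h v => DFunLike.congr_fun (MonoidHom.mem_ker.1 h) v, fun h => LinearEquiv.ext h⟩

theorem im_faith (g : (rp G V).range) (h : ∀ v : V, g • v = v) : g = 1 := Subtype.ext (LinearEquiv.ext h)
theorem im_smul (g : G) (v : V) : (rp G V).rangeRestrict g • v = g • v := rfl
theorem im_irr (hi : Irr G V) : Irr (rp G V).range V := fun U hU => hi U fun a => hU ((rp G V).rangeRestrict a)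
theorem im_solv [Group.IsSolvable G] : Group.IsSolvable (rp G V).range :=
  Group.isSolvable_of_surjective (rp G V).rangeRestrict_surjective

variable (G V) in
def Bs (ι : Type) : Prop := ∃ v : ι → V, ∀ g : G, (∀ i, g • v i = v i) → ∀ x : V, g • x = x

theorem Bs.of_im {ι : Type} (h : Bs (rp G V).range V ι) : Bs G V ι := by
  obtain ⟨v, h⟩ := h; exact ⟨v, fun g => h ((rp G V).rangeRestrict g)⟩

theorem not_irr (h : CR G V) (hi : ¬ Irr G V) : ∃ U W : AddSubgroup V, Inv G V U ∧ Inv G V W ∧ U ≠ ⊤ ∧ W ≠ ⊤ ∧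
    U ≠ ⊥ ∧ W ≠ ⊥ ∧ U ⊓ W = ⊥ ∧ U ⊔ W = ⊤ := by
  simp only [Irr, not_forall, not_or] at hi
  obtain ⟨U, hU, h0, h1⟩ := hi
  obtain ⟨W, hW, h2, h3⟩ := h U hU
  exact ⟨U, W, hU, hW, h1, fun e => h0 (by simpa [e] using h2), h0, fun e => h1 (by simpa [e] using h3), h2, h3⟩

theorem bs_sum {ι : Type} {U W : AddSubgroup V} (hU : Inv G V U) (hW : Inv G V W) (h2 : U ⊓ W = ⊥) (h3 : U ⊔ W = ⊤)
    (b1 : letI := subAct hU; Bs G U ι) (b2 : letI := subAct hW; Bs G W ι) : Bs G V ι := by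
  letI := subAct hU
  letI := subAct hW
  obtain ⟨v, r⟩ := b1
  obtain ⟨w, r'⟩ := b2
  have key : ∀ (g : G), ∀ a ∈ U, ∀ b ∈ W, g • (a + b) = a + b → g • a = a ∧ g • b = b := fun g a ha b hb e => by
    have e1 : g • a - a = b - g • b := by rw [smul_add] at e; rw [sub_eq_sub_iff_add_eq_add, e, add_comm]
    have : g • a - a ∈ U ⊓ W := ⟨U.sub_mem (hU g a ha) ha, e1 ▸ W.sub_mem hb (hW g b hb)⟩
    rw [h2, AddSubgroup.mem_bot] at this
    exact ⟨sub_eq_zero.1 this, (sub_eq_zero.1 (e1 ▸ this)).symm⟩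
  refine ⟨fun i => (v i).1 + (w i).1, fun g e x => ?_⟩
  obtain ⟨a, ha, b, hb, rfl⟩ := AddSubgroup.mem_sup.1 (h3 ▸ trivial : x ∈ U ⊔ W)
  have t1 := congrArg Subtype.val (r g (fun i => Subtype.ext (key g _ (v i).2 _ (w i).2 (e i)).1) ⟨a, ha⟩)
  have t2 := congrArg Subtype.val (r' g (fun i => Subtype.ext (key g _ (v i).2 _ (w i).2 (e i)).2) ⟨b, hb⟩)
  rw [smul_add]; exact congrArg₂ (· + ·) t1 t2

theorem idx_sum {U W : AddSubgroup V} (hU : Inv G V U) (hW : Inv G V W) (h3 : U ⊔ W = ⊤) :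
    letI := subAct hU; letI := subAct hW; (kr G V).index ≤ (kr G U).index * (kr G W).index := by
  letI := subAct hU
  letI := subAct hW
  refine le_trans (index_antitone fun g hg x => ?_) index_inf_le
  obtain ⟨a, ha, b, hb, rfl⟩ := AddSubgroup.mem_sup.1 (h3 ▸ trivial : x ∈ U ⊔ W)
  rw [smul_add]; exact congrArg₂ (· + ·) (congrArg Subtype.val (hg.1 ⟨a, ha⟩)) (congrArg Subtype.val (hg.2 ⟨b, hb⟩))

theorem card_mul_le (U W : AddSubgroup V) : Nat.card U * Nat.card W ≤ Nat.card V * Nat.card ↥(U ⊓ W) := by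
  let φ : U × W →+ V :=
    { toFun p := p.1.1 - p.2.1
      map_zero' := by simp
      map_add' a b := by simp only [Prod.fst_add, Prod.snd_add, AddSubgroup.coe_add]; abel }
  rw [← Nat.card_prod, ← φ.ker.index_mul_card, AddSubgroup.index_ker]
  refine Nat.mul_le_mul (Nat.card_le_card_of_injective _ φ.range.subtype_injective) (Nat.card_le_card_of_injective
    (fun p : φ.ker => (⟨p.1.1.1, p.1.1.2, (sub_eq_zero.1 p.2 : p.1.1.1 = p.1.2.1) ▸ p.1.2.2⟩ : ↥(U ⊓ W))) fun a b e => ?_)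
  have h3 : a.1.1.1 = b.1.1.1 := Subtype.mk.inj e
  exact Subtype.ext (Prod.ext (Subtype.ext h3) (Subtype.ext
    ((sub_eq_zero.1 a.2 : a.1.1.1 = a.1.2.1).symm.trans (h3.trans (sub_eq_zero.1 b.2)))))

theorem card_mul_le' {U W : AddSubgroup V} (h : U ⊓ W = ⊥) : Nat.card U * Nat.card W ≤ Nat.card V := by
  simpa [h] using card_mul_le U W

/-! ### imprimitive modules -/

variable (V) in
structure Imp (H : Subgroup G) (e : V →+ V) : Prop where
  co : IsCoatom H
  idem : ∀ v, e (e v) = e v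
  ne : ∃ v, e v ≠ 0
  comm : ∀ h ∈ H, ∀ v, e (h • v) = h • e v
  orth : ∀ g ∉ H, ∀ v, e (g • e v) = 0

namespace Imp
variable {H : Subgroup G} {e : V →+ V}

theorem fix (h : Imp V H e) : ∀ w ∈ e.range, e w = w := by rintro _ ⟨v, rfl⟩; exact h.idem v
theorem orth' (h : Imp V H e) : ∀ g ∉ H, ∀ w ∈ e.range, e (g • w) = 0 := by rintro g hg _ ⟨v, rfl⟩; exact h.orth g hg v
theorem inv (h : Imp V H e) : Inv H V e.range := by rintro a _ ⟨v, rfl⟩; exact ⟨a.1 • v, h.comm a a.2 v⟩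
theorem ne_top (h : Imp V H e) : e.range ≠ ⊤ := fun t => by
  obtain ⟨v0, hv0⟩ := h.ne
  obtain ⟨g0, hg0⟩ : ∃ g, g ∉ H := by simpa [eq_top_iff'] using h.co.1
  exact hv0 (by simpa using h.orth' g0 hg0 (g0⁻¹ • v0) (t ▸ trivial))
theorem nontriv (h : Imp V H e) : Nontrivial e.range := by
  obtain ⟨v0, hv0⟩ := h.ne
  exact ⟨⟨⟨e v0, v0, rfl⟩, 0, fun t => hv0 (congrArg Subtype.val t)⟩⟩

theorem span (hi : Irr G V) (U : AddSubgroup V) (hU : U ≠ ⊥) :
    AddSubgroup.closure {x | ∃ a : G, ∃ u ∈ U, x = a • u} = ⊤ :=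
  (hi _ fun a v hv => by
    induction hv using AddSubgroup.closure_induction with
    | mem x hx => obtain ⟨b, u, hu, rfl⟩ := hx; exact AddSubgroup.subset_closure ⟨a * b, u, hu, (mul_smul _ _ _).symm⟩
    | zero => rw [smul_zero]; exact zero_mem _
    | add x y _ _ a b => rw [smul_add]; exact add_mem a b
    | neg x _ a => rw [smul_neg]; exact neg_mem a).resolve_left fun t => hU (eq_bot_iff.2 fun u hu =>
      t ▸ AddSubgroup.subset_closure ⟨1, u, hu, (one_smul _ _).symm⟩)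

theorem irr (h : Imp V H e) (hi : Irr G V) : letI := subAct h.inv; Irr H e.range := by
  letI := subAct h.inv
  intro U hU
  refine or_iff_not_imp_left.2 fun hU0 => eq_top_iff.2 fun w _ => ?_
  have : ∀ x ∈ AddSubgroup.closure {x | ∃ a : G, ∃ u ∈ U.map e.range.subtype, x = a • u},
      e x ∈ U.map e.range.subtype := fun x hx => by
    induction hx using AddSubgroup.closure_induction with
    | mem x hx =>
      obtain ⟨b, _, ⟨u, hu, rfl⟩, rfl⟩ := hx
      by_cases hb : b ∈ H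
      · rw [h.comm b hb, AddSubgroup.coe_subtype, h.fix _ u.2]; exact ⟨_, hU ⟨b, hb⟩ u hu, rfl⟩
      · rw [AddSubgroup.coe_subtype, h.orth' b hb _ u.2]; exact zero_mem _
    | zero => rw [map_zero]; exact zero_mem _
    | add x y _ _ a b => rw [map_add]; exact add_mem a b
    | neg x _ a => rw [map_neg]; exact neg_mem a
  obtain ⟨u, hu, t⟩ := this w (span hi _ (by rwa [Ne, AddSubgroup.map_eq_bot_iff_of_injective _ e.range.subtype_injective]) ▸ trivial)
  rw [h.fix _ w.2] at t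
  rwa [← Subtype.ext t]

theorem hout (H : Subgroup G) (a : G) : a⁻¹ * (QuotientGroup.mk a : G ⧸ H).out ∈ H := by
  obtain ⟨h, t⟩ := QuotientGroup.mk_out_eq_mul H a
  rw [t]; simp

theorem comp [Fintype (G ⧸ H)] (h : Imp V H e) (p : G ⧸ H → V) (hp : ∀ c, p c ∈ e.range) (a : G) :
    e (a⁻¹ • ∑ c : G ⧸ H, c.out • p c) = (a⁻¹ * (QuotientGroup.mk a : G ⧸ H).out) • p (QuotientGroup.mk a) := by
  classical
  rw [Finset.smul_sum, map_sum, Finset.sum_eq_single (QuotientGroup.mk a : G ⧸ H), ← mul_smul, h.comm _ (hout H a),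
    h.fix _ (hp _)]
  · intro c _ hc
    rw [← mul_smul]
    exact h.orth' _ (fun t => hc (by rw [← c.out_eq]; exact (QuotientGroup.eq.2 t).symm)) _ (hp c)
  · simp

theorem pow_le (h : Imp V H e) : Nat.card e.range ^ H.index ≤ Nat.card V := by
  haveI := Fintype.ofFinite (G ⧸ H)
  rw [index, ← Nat.card_fun]
  refine Nat.card_le_card_of_injective (fun p : G ⧸ H → e.range => ∑ c : G ⧸ H, c.out • (p c).1) fun p q t => funext fun c => ?_
  have t1 := h.comp (fun c => (p c).1) (fun c => (p c).2) c.out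
  have t2 := h.comp (fun c => (q c).1) (fun c => (q c).2) c.out
  rw [show (∑ c : G ⧸ H, c.out • (p c).1) = ∑ c : G ⧸ H, c.out • (q c).1 from t, t2] at t1
  simp only [QuotientGroup.out_eq', inv_mul_cancel, one_smul] at t1
  exact Subtype.ext t1.symm

theorem idx_lt (h : Imp V H e) : H.index < Nat.card V := by
  haveI := h.nontriv
  exact (Nat.lt_pow_self Finite.one_lt_card).trans_le h.pow_le

theorem triv (h : Imp V H e) (hi : Irr G V) {g : G} (hg : ∀ c : G ⧸ H, ∀ x ∈ e.range, g • c.out • x = c.out • x)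
    (x : V) : g • x = x := by
  obtain ⟨v0, hv0⟩ := h.ne
  have hx : x ∈ AddSubgroup.closure {x | ∃ a : G, ∃ u ∈ e.range, x = a • u} :=
    span hi e.range (fun t => hv0 (AddSubgroup.mem_bot.1 (t ▸ ⟨v0, rfl⟩))) ▸ trivial
  induction hx using AddSubgroup.closure_induction with
  | mem x hx =>
    obtain ⟨b, u, hu, rfl⟩ := hx
    have := hg (QuotientGroup.mk b) _ (h.inv ⟨_, H.inv_mem (hout H b)⟩ u hu)
    simpa [Subgroup.smul_def, ← mul_smul, mul_assoc] using this
  | zero => exact smul_zero _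
  | add x y _ _ a b => rw [smul_add, a, b]
  | neg x _ a => rw [smul_neg, a]

theorem base {ι κ : Type} (h : Imp V H e) (hi : Irr G V) (col : G → κ) (c1 : ∀ d, ∀ a ∈ H, col (d * a) = col d)
    (c2 : ∀ g, (∀ d, col (g * d) = col d) → g ∈ H.normalCore) (w : κ → ι → V) (hw : ∀ c i, w c i ∈ e.range)
    (r1 : ∀ c, ∀ a ∈ H, (∀ i, a • w c i = w c i) → ∀ x ∈ e.range, a • x = x)
    (r2 : ∀ c c', ∀ a ∈ H, (∀ i, a • w c i = w c' i) → c = c') : Bs G V ι := by
  haveI := Fintype.ofFinite (G ⧸ H)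
  have hD : ∀ a : G, col (QuotientGroup.mk a : G ⧸ H).out = col a := fun a => by
    rw [← c1 a _ (hout H a), mul_inv_cancel_left]
  refine ⟨fun i => ∑ c : G ⧸ H, c.out • w (col c.out) i, fun g hg => ?_⟩
  have k1 : ∀ a : G, ∀ i, (((QuotientGroup.mk a : G ⧸ H).out)⁻¹ * g⁻¹ * (QuotientGroup.mk (g * a) : G ⧸ H).out) •
      w (col (g * a)) i = w (col a) i := fun a i => by
    have t1 := h.comp (fun c => w (col c.out) i) (fun c => hw _ _) (g * a)
    rw [mul_inv_rev, mul_smul, inv_smul_eq_iff.2 (hg i).symm, h.comp (fun c => w (col c.out) i) (fun c => hw _ _)] at t1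
    simp only [hD] at t1
    rw [← inv_smul_eq_iff, ← mul_smul] at t1
    rw [← t1, ← mul_smul]; convert one_smul G _ using 2; group
  have hmem : ∀ a : G, ((QuotientGroup.mk a : G ⧸ H).out)⁻¹ * g⁻¹ * (QuotientGroup.mk (g * a) : G ⧸ H).out ∈ H :=
    fun a => by simpa [mul_assoc] using H.mul_mem (H.inv_mem (hout H a)) (hout H (g * a))
  have k2 : ∀ a, col (g * a) = col a := fun a => r2 _ _ _ (hmem a) (k1 a)
  have hg' := c2 g k2
  refine h.triv hi fun c x hx => ?_
  have m : (QuotientGroup.mk (g * c.out) : G ⧸ H) = c := by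
    conv_rhs => rw [← c.out_eq]
    exact QuotientGroup.eq.2 (by simpa [mul_assoc] using H.inv_mem (hg' c.out⁻¹))
  have t1 := k1 c.out
  have t3 := hmem c.out
  simp only [m, k2, QuotientGroup.out_eq'] at t1 t3
  have t4 := congrArg (fun y => (g * c.out) • y) (r1 _ _ t3 t1 x hx)
  simp only [← mul_smul] at t4 ⊢
  rw [← t4]; congr 1; group

theorem card_core (h : Imp V H e) (hi : Irr G V) (hf : ∀ g : G, (∀ v : V, g • v = v) → g = 1) :
    letI := subAct h.inv; Nat.card H.normalCore ≤ (kr H e.range).index ^ H.index := by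
  letI := subAct h.inv
  rw [index, index, ← Nat.card_fun]
  have m : ∀ (k : H.normalCore) (c : G ⧸ H), c.out⁻¹ * k * c.out ∈ H := fun k c => by simpa using k.2 c.out⁻¹
  refine Nat.card_le_card_of_injective (fun (k : H.normalCore) (c : G ⧸ H) =>
    (QuotientGroup.mk ⟨_, m k c⟩ : H ⧸ kr H e.range)) fun a b t => Subtype.ext ?_
  refine (inv_mul_eq_one.1 (hf _ (h.triv hi fun c x hx => ?_)))
  have t1 := congrArg Subtype.val (QuotientGroup.eq.1 (congrFun t c) ⟨x, hx⟩)
  replace t1 : ((c.out⁻¹ * a * c.out)⁻¹ * (c.out⁻¹ * b * c.out)) • x = x := t1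
  conv_rhs => rw [← t1]
  simp only [← mul_smul]; congr 1; group

end Imp

local notation "ρ" => DistribMulAction.toAddMonoidEnd G V

theorem imp_or_field [Nontrivial V] (hi : Irr G V) {Z : Subgroup G} [Z.Normal] (hZ : Z ≤ centralizer (Z : Set G)) :
    (∃ (H : Subgroup G) (e : V →+ V), Imp V H e) ∨ IsField (KK V Z) := by
  classical
  haveI : Finite (AddMonoid.End V) := DFunLike.finite (V →+ V)
  have h10 : (1 : AddMonoid.End V) ≠ 0 := fun e => by
    obtain ⟨w, hw⟩ := exists_ne (0 : V); exact hw (DFunLike.congr_fun e w)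
  obtain ⟨e, ⟨he, he1, he0⟩, hmin⟩ := (InvImage.wf (fun e : AddMonoid.End V => Nat.card (AddMonoidHom.range e))
    wellFounded_lt).has_min {e | e ∈ KK V Z ∧ e * e = e ∧ e ≠ 0} ⟨1, one_mem _, mul_one _, h10⟩
  have prim : ∀ f ∈ KK V Z, f * f = f → f * e = 0 ∨ f * e = e := fun f hf hf1 => or_iff_not_imp_left.2 fun h0 => by
    have h1 := hmin (f * e) ⟨mul_mem hf he, by
      rw [mul_assoc, ← mul_assoc e, KK_comm hZ he hf, mul_assoc f, he1, ← mul_assoc, hf1], h0⟩
    have h2 : AddMonoidHom.range (f * e) ≤ AddMonoidHom.range e := by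
      rintro _ ⟨v, rfl⟩; exact ⟨f v, DFunLike.congr_fun (KK_comm hZ he hf) v⟩
    have h3 := AddSubgroup.eq_of_le_of_card_ge h2 (not_lt.1 h1)
    refine AddMonoidHom.ext fun v => ?_
    obtain ⟨w, hw⟩ : e v ∈ AddMonoidHom.range (f * e) := h3 ▸ ⟨v, rfl⟩
    show f (e v) = e v
    rw [← hw]; exact DFunLike.congr_fun (by rw [← mul_assoc, hf1] : f * (f * e) = f * e) w
  have idem : ∀ a : G, cj V a e * cj V a e = cj V a e := fun a => by rw [← map_mul, he1]
  have prim' : ∀ a b : G, cj V a e * cj V b e = 0 ∨ cj V a e * cj V b e = cj V b e := fun a b => by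
    have : cj V a e * cj V b e = cj V b (cj V (b⁻¹ * a) e * e) := by rw [map_mul, cj_cj]; simp
    rcases prim _ (cj_mem (b⁻¹ * a) he) (idem _) with h | h <;> rw [this, h] <;> simp
  have orth : ∀ a b : G, cj V a e ≠ cj V b e → cj V a e * cj V b e = 0 := fun a b h =>
    (prim' a b).resolve_right fun h1 => (prim' b a).elim
      (fun h2 => he0 (by
        rw [KK_comm hZ (cj_mem _ he) (cj_mem _ he), h1] at h2
        rw [← cj_one (G := G) e, ← inv_mul_cancel b, ← cj_cj, h2, map_zero]))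
      fun h2 => h (by rw [← h2, KK_comm hZ (cj_mem _ he) (cj_mem _ he), h1])
  let H0 : Subgroup G :=
    { carrier := {g | cj V g e = e}
      one_mem' := cj_one e
      mul_mem' := fun {a b} ha hb => by show _ = _; rw [← cj_cj, hb, ha]
      inv_mem' := fun {a} ha => by show _ = _; nth_rewrite 1 [← ha]; rw [cj_cj, inv_mul_cancel, cj_one] }
  rcases eq_top_or_exists_le_coatom H0 with h | ⟨H, hH, h⟩
  · have hr : AddMonoidHom.range e = ⊤ := (hi _ (by
      rintro a _ ⟨v, rfl⟩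
      refine ⟨a • v, ?_⟩
      have := DFunLike.congr_fun (h ▸ trivial : a ∈ H0) (a • v)
      rw [cj_apply, inv_smul_smul] at this
      exact this.symm)).resolve_left fun t => he0 (AddMonoidHom.ext fun v => AddSubgroup.mem_bot.1 (t ▸ ⟨v, rfl⟩))
    have e1 : e = 1 := AddMonoidHom.ext fun v => by
      obtain ⟨w, rfl⟩ : v ∈ AddMonoidHom.range e := hr ▸ trivial
      exact DFunLike.congr_fun he1 w
    refine Or.inr ⟨⟨1, 0, fun t => h10 (congrArg Subtype.val t)⟩, fun a b => Subtype.ext (KK_comm hZ a.2 b.2), fun {a} ha => ?_⟩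
    obtain ⟨k, hk, t⟩ := exists_idem_pow a.1
    rcases prim _ (pow_mem a.2 k) t with t | t <;> rw [e1, mul_one] at t
    · exact (ha (Subtype.ext (nil_eq_zero hi hZ a.2 ⟨k, t⟩))).elim
    · obtain ⟨k, rfl⟩ := Nat.exists_eq_succ_of_ne_zero hk.ne'
      exact ⟨a ^ k, Subtype.ext (by rw [pow_succ'] at t; exact t)⟩
  · left
    haveI := Fintype.ofFinite H
    set S := Finset.univ.image fun h : H => cj V h.1 e with hS
    have mS : ∀ f, f ∈ S ↔ ∃ h ∈ H, cj V h e = f := fun f => by simp [hS]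
    have a1 : ∀ f ∈ S, (∑ f ∈ S, f) * f = f := fun f hf => by
      rw [Finset.sum_mul, Finset.sum_eq_single f]
      · obtain ⟨a, -, rfl⟩ := (mS f).1 hf; exact idem a
      · intro f' hf' t
        obtain ⟨a, -, rfl⟩ := (mS f).1 hf
        obtain ⟨b, -, rfl⟩ := (mS f').1 hf'
        exact orth _ _ t
      · exact fun t => (t hf).elim
    have a2 : ∀ h ∈ H, cj V h (∑ f ∈ S, f) = ∑ f ∈ S, f := fun h hh => by
      rw [map_sum]
      refine Finset.sum_bij (fun f _ => cj V h f) (fun f hf => ?_) (fun a _ b _ t => ?_) (fun f hf => ?_) fun _ _ => rfl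
      · obtain ⟨a, ha, rfl⟩ := (mS f).1 hf; exact (mS _).2 ⟨h * a, H.mul_mem hh ha, (cj_cj _ _ _).symm⟩
      · simpa [cj_cj, cj_one] using congrArg (cj V h⁻¹) t
      · obtain ⟨a, ha, rfl⟩ := (mS f).1 hf
        exact ⟨_, (mS _).2 ⟨h⁻¹ * a, H.mul_mem (H.inv_mem hh) ha, rfl⟩, by rw [cj_cj]; simp⟩
    refine ⟨H, (∑ f ∈ S, f : AddMonoid.End V), hH, fun v => ?_, ?_, fun h hh v => ?_, fun g hg v => ?_⟩
    · exact DFunLike.congr_fun (by rw [Finset.mul_sum]; exact Finset.sum_congr rfl a1 :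
        (∑ f ∈ S, f) * (∑ f ∈ S, f) = ∑ f ∈ S, f) v
    · by_contra! t
      exact he0 (by rw [← a1 e ((mS e).2 ⟨1, H.one_mem, cj_one e⟩)]; exact AddMonoidHom.ext fun v => t _)
    · have := DFunLike.congr_fun (a2 h hh) (h • v)
      rw [cj_apply, inv_smul_smul] at this
      exact this.symm
    · have : (∑ f ∈ S, f) * cj V g (∑ f ∈ S, f) = 0 := by
        rw [map_sum, Finset.sum_mul_sum]
        refine Finset.sum_eq_zero fun f hf => Finset.sum_eq_zero fun f' hf' => ?_
        obtain ⟨a, ha, rfl⟩ := (mS f).1 hf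
        obtain ⟨b, hb, rfl⟩ := (mS f').1 hf'
        rw [cj_cj]
        refine orth _ _ fun t => hg ?_
        have : a⁻¹ * (g * b) ∈ H0 := by show _ = _; rw [← cj_cj, ← t, cj_cj, inv_mul_cancel, cj_one]
        simpa using H.mul_mem (H.mul_mem ha (h this)) (H.inv_mem hb)
      have := DFunLike.congr_fun this (g • v)
      have t : ∀ r : AddMonoid.End V, cj V g r (g • v) = g • r v := fun r => by rw [cj_apply, inv_smul_smul]
      exact (congrArg _ (t _).symm).trans this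

/-! ### conjugation modules -/

/-- an abelian subgroup as an additive group -/
def AX (X : Subgroup G) (_ : ∀ a ∈ X, ∀ b ∈ X, a * b = b * a) : Type u := Additive X

namespace AX
variable {X : Subgroup G} {hc : ∀ a ∈ X, ∀ b ∈ X, a * b = b * a}

instance : AddCommGroup (AX X hc) :=
  { (inferInstance : AddGroup (Additive X)) with
    add_comm := fun a b => (Subtype.ext (hc _ a.toMul.2 _ b.toMul.2) : a.toMul * b.toMul = b.toMul * a.toMul) }
instance : Finite (AX X hc) := inferInstanceAs (Finite X)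
def val (a : AX X hc) : G := (Additive.toMul a : X).1
def mk (hc : ∀ a ∈ X, ∀ b ∈ X, a * b = b * a) (x : G) (hx : x ∈ X) : AX X hc := Additive.ofMul (⟨x, hx⟩ : X)
theorem val_mem (a : AX X hc) : a.val ∈ X := (Additive.toMul a : X).2
theorem ext {a b : AX X hc} (h : a.val = b.val) : a = b := (Subtype.ext h : (Additive.toMul a : X) = Additive.toMul b)
theorem val_add (a b : AX X hc) : (a + b).val = a.val * b.val := rfl
theorem val_zero : (0 : AX X hc).val = 1 := rfl
theorem val_neg (a : AX X hc) : (-a).val = a.val⁻¹ := rfl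
theorem val_mk (x : G) (hx : x ∈ X) : (mk hc x hx).val = x := rfl
theorem card : Nat.card (AX X hc) = Nat.card X := rfl

instance [hX : X.Normal] : DistribMulAction G (AX X hc) where
  smul g a := mk hc _ (hX.conj_mem _ a.val_mem g)
  one_smul a := ext (by show 1 * a.val * 1⁻¹ = a.val; simp)
  mul_smul g h a := ext (by show g * h * a.val * (g * h)⁻¹ = g * (h * a.val * h⁻¹) * g⁻¹; group)
  smul_zero g := ext (by show g * 1 * g⁻¹ = 1; simp)
  smul_add g a b := ext (by show g * (a.val * b.val) * g⁻¹ = g * a.val * g⁻¹ * (g * b.val * g⁻¹); group)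

theorem val_smul [X.Normal] (g : G) (a : AX X hc) : (g • a).val = g * a.val * g⁻¹ := rfl

theorem kr_eq [X.Normal] : kr G (AX X hc) = centralizer (X : Set G) := by
  ext g
  exact ⟨fun h x hx => (mul_inv_eq_iff_eq_mul.1 (congrArg val (h (mk hc x hx)))).symm,
    fun h a => ext (mul_inv_eq_iff_eq_mul.2 (h _ a.val_mem).symm)⟩

/-- the subgroup attached to an additive subgroup -/
def sub (U : AddSubgroup (AX X hc)) : Subgroup G where
  carrier := {x | ∃ a ∈ U, val a = x}
  one_mem' := ⟨0, U.zero_mem, rfl⟩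
  mul_mem' := by rintro _ _ ⟨a, ha, rfl⟩ ⟨b, hb, rfl⟩; exact ⟨a + b, U.add_mem ha hb, rfl⟩
  inv_mem' := by rintro _ ⟨a, ha, rfl⟩; exact ⟨-a, U.neg_mem ha, rfl⟩

theorem irr [X.Normal] (h : ∀ U : Subgroup G, U.Normal → U ≤ X → U = ⊥ ∨ U = X) : Irr G (AX X hc) := fun U hU => by
  rcases h (sub U) ⟨by rintro _ ⟨a, ha, rfl⟩ g; exact ⟨g • a, hU g a ha, rfl⟩⟩ (by rintro _ ⟨a, -, rfl⟩; exact a.val_mem)
    with t | t
  · exact Or.inl (eq_bot_iff.2 fun a ha => ext (mem_bot.1 (t ▸ ⟨a, ha, rfl⟩ : a.val ∈ (⊥ : Subgroup G))))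
  · refine Or.inr (eq_top_iff.2 fun a _ => ?_)
    obtain ⟨b, hb, e⟩ : a.val ∈ sub U := t.symm ▸ a.val_mem
    rwa [← ext e]

end AX

/-! ### primitive solvable permutation groups -/

theorem prim_struct [Group.IsSolvable G] {H : Subgroup G} (hH : H ≠ ⊤)
    (h1 : ∀ N : Subgroup G, N.Normal → N ≤ H → N = ⊥) (h2 : ∀ N : Subgroup G, N.Normal → N ≠ ⊥ → N ⊔ H = ⊤) :
    ∃ (M : Subgroup G) (_ : M.Normal) (hc : ∀ a ∈ M, ∀ b ∈ M, a * b = b * a), M ≠ ⊥ ∧ Irr G (AX M hc) ∧
      Nat.card M = H.index ∧ centralizer (M : Set G) = M ∧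
      ∀ (κ : Type) (c : AX M hc → κ), (∀ t, c t = c 0 → t = 0) → (∀ g : G, (∀ t, c (g • t) = c t) → ∀ t : AX M hc, g • t = t) →
        ∃ col : G → κ, (∀ d, ∀ a ∈ H, col (d * a) = col d) ∧ ∀ g, (∀ d, col (g * d) = col d) → g = 1 := by
  classical
  haveI : Group.IsSolvable (⊤ : Subgroup G) := inferInstance
  obtain ⟨M, hM, -, hM0, hc⟩ := Core.exists_abelian_normal_le_of_solvable (⊤ : Subgroup G)
    (fun e => hH (eq_top_iff.2 (e ▸ bot_le)))
  have hc' : ∀ a ∈ M, ∀ b ∈ M, a * b = b * a := fun a ha b hb =>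
    congrArg Subtype.val (hc.is_comm.comm (⟨a, ha⟩ : M) ⟨b, hb⟩)
  have dec : ∀ U : Subgroup G, U.Normal → U ≠ ⊥ → ∀ g, ∃ m ∈ U, ∃ h ∈ H, m * h = g := fun U hU h0 g =>
    mem_sup_of_normal_left.1 (h2 U hU h0 ▸ trivial : g ∈ U ⊔ H)
  have nrm : ∀ S : Subgroup G, S.Normal → (∀ m ∈ M, ∀ s ∈ S, m * s = s * m) → S ⊓ H = ⊥ := fun S hS hS' =>
    h1 _ ⟨fun t ht g => by
      obtain ⟨m, hm, h, hh, rfl⟩ := dec M hM hM0 g
      have e : m * h * t * (m * h)⁻¹ = h * t * h⁻¹ := by
        have := hS' m hm _ (hS.conj_mem t ht.1 h)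
        rw [show m * h * t * (m * h)⁻¹ = m * (h * t * h⁻¹) * m⁻¹ by group, this]; group
      rw [e]; exact ⟨hS.conj_mem t ht.1 h, H.mul_mem (H.mul_mem hh ht.2) (H.inv_mem hh)⟩⟩ inf_le_right
  have hMH := nrm M hM hc'
  have hCH := nrm (centralizer M) inferInstance fun m hm s hs => hs m hm
  have hMH' : ∀ a ∈ M, ∀ b ∈ M, ∀ h ∈ H, a = b * h → a = b := fun a ha b hb h hh e => by
    have : h ∈ M ⊓ H := ⟨by rw [show h = b⁻¹ * a by rw [e]; group]; exact M.mul_mem (M.inv_mem hb) ha, hh⟩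
    rw [hMH, mem_bot] at this
    rw [e, this, mul_one]
  choose m hm k hk hmk using dec M hM hM0
  have uq : ∀ a ∈ M, ∀ h ∈ H, m (a * h) = a := fun a ha h hh =>
    hMH' _ (hm _) _ ha (h * (k (a * h))⁻¹) (H.mul_mem hh (H.inv_mem (hk _))) (by rw [← mul_assoc, eq_mul_inv_iff_mul_eq, hmk])
  refine ⟨M, hM, hc', hM0, AX.irr fun U hU hUM => or_iff_not_imp_left.2 fun h0 => le_antisymm hUM fun x hx => ?_, ?_, ?_, ?_⟩
  · obtain ⟨a, ha, h, hh, e⟩ := dec U hU h0 x
    rwa [hMH' x hx a (hUM ha) h hh e.symm]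
  · refine Nat.card_congr (Equiv.ofBijective (fun m : M => (QuotientGroup.mk m.1 : G ⧸ H)) ⟨fun a b e => ?_, fun c => ?_⟩)
    · exact Subtype.ext (hMH' _ b.2 _ a.2 _ (QuotientGroup.eq.1 e) (by group)).symm
    · refine ⟨⟨m c.out, hm _⟩, ?_⟩
      conv_rhs => rw [← c.out_eq, ← hmk c.out]
      exact QuotientGroup.eq.2 (by simpa using hk _)
  · refine le_antisymm (fun g hg => ?_) fun a ha b hb => hc' b hb a ha
    have : k g ∈ centralizer (M : Set G) ⊓ H := ⟨by
      rw [show k g = (m g)⁻¹ * g by rw [eq_inv_mul_iff_mul_eq, hmk]]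
      exact (centralizer (M : Set G)).mul_mem ((centralizer (M : Set G)).inv_mem fun b hb => hc' b hb _ (hm g)) hg, hk g⟩
    rw [hCH, mem_bot] at this
    rw [← hmk g, this, mul_one]; exact hm g
  · intro κ c c1 c2
    refine ⟨fun g => c (AX.mk hc' _ (hm g)), fun d a ha => ?_, fun g hg => ?_⟩
    · refine congrArg c (AX.ext ?_)
      show m (d * a) = m d
      conv_lhs => rw [← hmk d, mul_assoc]
      exact uq _ (hm d) _ (H.mul_mem (hk d) ha)
    have m1 : m 1 = 1 := by simpa using uq 1 M.one_mem 1 H.one_mem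
    have t1 : m g = 1 := by
      have := hg 1
      beta_reduce at this
      rw [mul_one, show AX.mk hc' _ (hm 1) = 0 from AX.ext m1] at this
      exact congrArg AX.val (c1 _ this)
    have t2 : g ∈ H := by rw [← hmk g, t1, one_mul]; exact hk g
    have t3 : g ∈ centralizer (M : Set G) ⊓ H := ⟨AX.kr_eq (hc := hc') ▸ c2 g fun t => by
      have := hg t.val
      beta_reduce at this
      have e1 : m t.val = t.val := by simpa using uq _ t.val_mem 1 H.one_mem
      have e2 : m (g * t.val) = (g • t).val := by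
        rw [← uq _ (g • t).val_mem g t2, AX.val_smul]; congr 1; group
      rwa [show AX.mk hc' _ (hm t.val) = t from AX.ext e1, show AX.mk hc' _ (hm (g * t.val)) = g • t from AX.ext e2] at this, t2⟩
    rwa [hCH, mem_bot] at t3

theorem prim_quot [Group.IsSolvable G] {H : Subgroup G} (hH : IsCoatom H) :
    ∃ (M : Subgroup (G ⧸ H.normalCore)) (_ : M.Normal) (hc : ∀ a ∈ M, ∀ b ∈ M, a * b = b * a), M ≠ ⊥ ∧
      Irr (G ⧸ H.normalCore) (AX M hc) ∧ Nat.card M = H.index ∧ centralizer (M : Set (G ⧸ H.normalCore)) = M ∧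
      ∀ (κ : Type) (c : AX M hc → κ), (∀ t, c t = c 0 → t = 0) →
        (∀ g : G ⧸ H.normalCore, (∀ t, c (g • t) = c t) → ∀ t : AX M hc, g • t = t) →
        ∃ col : G → κ, (∀ d, ∀ a ∈ H, col (d * a) = col d) ∧ ∀ g, (∀ d, col (g * d) = col d) → g ∈ H.normalCore := by
  set K := H.normalCore
  have hK : K ≤ H := H.normalCore_le
  have hs := QuotientGroup.mk'_surjective K
  have hc : (H.map (QuotientGroup.mk' K)).comap (QuotientGroup.mk' K) = H := comap_map_eq_self (by simpa using hK)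
  obtain ⟨M, hM, hc', h0, h1, h2, h3, h4⟩ := prim_struct (G := G ⧸ K) (H := H.map (QuotientGroup.mk' K))
    (fun e => hH.1 (by rw [← hc, e, comap_top]))
    (fun N hN h => by
      have : N.comap (QuotientGroup.mk' K) ≤ K := normal_le_normalCore.2 ((comap_mono h).trans hc.le)
      refine eq_bot_iff.2 fun x hx => ?_
      obtain ⟨x, rfl⟩ := hs x
      exact (QuotientGroup.eq_one_iff x).2 (this hx))
    (fun N hN h => by
      have : N.comap (QuotientGroup.mk' K) ⊔ H = ⊤ := hH.2 _ (right_lt_sup.2 fun e => h (by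
        have : N.comap (QuotientGroup.mk' K) ≤ K := normal_le_normalCore.2 e
        refine eq_bot_iff.2 fun x hx => ?_
        obtain ⟨x, rfl⟩ := hs x
        exact (QuotientGroup.eq_one_iff x).2 (this hx)))
      rw [← map_comap_eq_self_of_surjective hs N, ← Subgroup.map_sup, this, map_top_of_surjective _ hs])
  refine ⟨M, hM, hc', h0, h1, by rw [h2, index_map_eq _ hs (by simpa using hK)], h3, fun κ c c1 c2 => ?_⟩
  obtain ⟨col, d1, d2⟩ := h4 κ c c1 c2
  refine ⟨fun g => col (QuotientGroup.mk' K g), fun d a ha => ?_, fun g hg => (QuotientGroup.eq_one_iff g).1 (d2 _ fun d => ?_)⟩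
  · beta_reduce; rw [map_mul]; exact d1 _ _ ⟨a, ha, rfl⟩
  · obtain ⟨d, rfl⟩ := hs d
    exact hg d

end Cfsg.Lib.Hall.B3
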