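import Cfsg.Agent.Lib.Hall.B3a

/-! # Bases of solvable linear groups: finite symplectic modules -/

set_option autoImplicit false
set_option linter.unusedSectionVars false
set_option linter.style.haveILetI false

namespace Cfsg.Lib.Hall.B3

open Cfsg Cfsg.Lib Subgroup Cfsg.Lib.Block.B2

universe u
variable {K : Type*} [Field K] {A : Type u} [AddCommGroup A] [Finite A]

theorem card_hom_le (K : Type*) [Field K] (S : Type*) [AddCommGroup S] [Finite S] :
    Finite (S →+ Additive Kˣ) ∧ Nat.card (S →+ Additive Kˣ) ≤ Nat.card S := by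
  classical
  let φ : (S →+ Additive Kˣ) → (Multiplicative S →* K) := fun f => (Units.coeHom K).comp (AddMonoidHom.toMultiplicativeLeft.symm.symm f)
  have h1 : Function.Injective φ := fun f g e => AddMonoidHom.ext fun s =>
    Additive.toMul.injective (Units.ext (DFunLike.congr_fun e (Multiplicative.ofAdd s)))
  have h2 := (linearIndependent_monoidHom (Multiplicative S) K).comp _ h1
  haveI := Fintype.ofFinite S
  haveI := h2.finite
  haveI := Fintype.ofFinite (S →+ Additive Kˣ)
  exact ⟨‹_›, by simpa [Nat.card_eq_fintype_card] using h2.fintype_card_le_finrank⟩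

abbrev Fm (K : Type*) [Field K] (A : Type u) [AddCommGroup A] := A →+ A →+ Additive Kˣ

structure Alt (β : Fm K A) : Prop where
  alt : ∀ x, β x x = 0
  nd : ∀ x, (∀ y, β x y = 0) → x = 0

variable {β : Fm K A}

def perp (β : Fm K A) (U : AddSubgroup A) : AddSubgroup A where
  carrier := {a | ∀ u ∈ U, β a u = 0}
  zero_mem' := fun u _ => by simp
  add_mem' := fun ha hb u hu => by simp [ha u hu, hb u hu]
  neg_mem' := fun ha u hu => by simp [ha u hu]

theorem Alt.skew (h : Alt β) (x y : A) : β x y = -β y x := by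
  have := h.alt (x + y)
  simp only [map_add, AddMonoidHom.add_apply, h.alt, zero_add, add_zero] at this
  exact eq_neg_of_add_eq_zero_right this

theorem Alt.index_perp (h : Alt β) (U : AddSubgroup A) : (perp β U).index = Nat.card U := by
  apply le_antisymm
  · let φ : A →+ (U →+ Additive Kˣ) := (AddMonoidHom.compHom' U.subtype).comp β
    have e : φ.ker = perp β U := by
      ext a; exact ⟨fun t u hu => DFunLike.congr_fun t ⟨u, hu⟩, fun t => AddMonoidHom.ext fun u => t u u.2⟩
    haveI := (card_hom_le K U).1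
    rw [← e, AddSubgroup.index_ker]
    exact (Nat.card_le_card_of_injective _ φ.range.subtype_injective).trans (card_hom_le K U).2
  · haveI := (card_hom_le K (A ⧸ perp β U)).1
    refine le_trans (Nat.card_le_card_of_injective (fun u : U => QuotientAddGroup.lift (perp β U) (β u.1)
      fun x hx => by rw [AddMonoidHom.mem_ker, h.skew, hx u u.2, neg_zero]) fun a b e => Subtype.ext ?_) (card_hom_le K _).2
    refine sub_eq_zero.1 (h.nd _ fun y => ?_)
    have : β a.1 y = β b.1 y := DFunLike.congr_fun e (QuotientAddGroup.mk y)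
    simp [this]

theorem Alt.card_perp (h : Alt β) (U : AddSubgroup A) : Nat.card U * Nat.card (perp β U) = Nat.card A := by
  rw [← h.index_perp, AddSubgroup.index_mul_card]

theorem Alt.isSquare (h : Alt β) : IsSquare (Nat.card A) := by
  obtain ⟨B, -, b1, hmax⟩ := Finite.exists_le_maximal (p := fun B : AddSubgroup A => B ≤ perp β B) (a := ⊥) bot_le
  have : perp β B = B := le_antisymm (fun c hc => hmax (y := B ⊔ AddSubgroup.zmultiples c) (fun x hx y hy => by
    obtain ⟨x, hx', _, ⟨i, rfl⟩, rfl⟩ := AddSubgroup.mem_sup.1 hx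
    obtain ⟨y, hy', _, ⟨j, rfl⟩, rfl⟩ := AddSubgroup.mem_sup.1 hy
    simp [b1 hx' y hy', hc y hy', h.skew x c, hc x hx', h.alt]) le_sup_left
      (AddSubgroup.mem_sup_right (AddSubgroup.mem_zmultiples c))) b1
  exact ⟨Nat.card B, by rw [← h.card_perp B, this]⟩

theorem Alt.isSquare_sub (h : Alt β) {W : AddSubgroup A} (hW : W ⊓ perp β W = ⊥) : IsSquare (Nat.card W) :=
  Alt.isSquare (β := (AddMonoidHom.compHom' W.subtype).comp (β.comp W.subtype))
    ⟨fun x => h.alt x.1, fun x hx => Subtype.ext (AddSubgroup.mem_bot.1 (hW ▸ ⟨x.2, fun u hu => hx ⟨u, hu⟩⟩))⟩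

theorem two_tor {t s : Additive Kˣ} (ht : 2 • t = 0) (hs : 2 • s = 0) (h1 : t ≠ 0) (h2 : s ≠ 0) : t = s := by
  have key : ∀ t : Additive Kˣ, 2 • t = 0 → t ≠ 0 → (t.toMul : K) = -1 := fun t ht h1 => by
    have : (t.toMul : K) ^ 2 = 1 := by rw [← Units.val_pow_eq_pow_val, ← toMul_nsmul, ht]; rfl
    exact (_root_.sq_eq_one_iff.1 this).resolve_left fun e => h1 (Additive.toMul.injective (Units.ext e))
  exact Additive.toMul.injective (Units.ext ((key t ht h1).trans (key s hs h2).symm))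

section act
variable {H : Type u} [Group H] [Finite H] [DistribMulAction H A]

variable (A) in
/-- `h - 1` -/
def dl (h : H) : A →+ A := DistribSMul.toAddMonoidHom A h - AddMonoidHom.id A
theorem dl_apply (h : H) (a : A) : dl A h a = h • a - a := rfl
theorem mem_fx {h : H} {a : A} : a ∈ fx A h ↔ h • a = a := Iff.rfl
theorem ker_dl (h : H) : (dl A h).ker = fx A h := by ext a; exact sub_eq_zero
theorem card_dl (h : H) : Nat.card (dl A h).range = (fx A h).index := by rw [← ker_dl, AddSubgroup.index_ker]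
theorem smul_dl (h : H) (a : A) : h • dl A h a = dl A h (h • a) := by simp [dl_apply, smul_sub]

variable (A) in
/-- the norm map -/
def nm (h : H) (s : ℕ) : A →+ A := ∑ i ∈ Finset.range s, DistribSMul.toAddMonoidHom A (h ^ i)
theorem nm_apply (h : H) (s : ℕ) (a : A) : nm A h s a = ∑ i ∈ Finset.range s, h ^ i • a := by
  simp [nm, AddMonoidHom.finsetSum_apply]
theorem nm_succ (h : H) (s : ℕ) (a : A) : nm A h (s + 1) a = nm A h s a + h ^ s • a := by
  simp [nm_apply, Finset.sum_range_succ]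
theorem nm_dl (h : H) (s : ℕ) (a : A) : nm A h s (dl A h a) = h ^ s • a - a := by
  induction s with
  | zero => simp [nm_apply]
  | succ s ih => rw [nm_succ, ih, dl_apply, smul_sub, ← mul_smul, pow_succ]; abel
theorem nm_smul (h : H) (s : ℕ) (a : A) : nm A h s (h • a) = h • nm A h s a := by
  simp only [nm_apply, Finset.smul_sum, ← mul_smul, ← pow_succ, ← pow_succ']
theorem nm_fix {h : H} {a : A} (ha : h • a = a) (s : ℕ) : nm A h s a = s • a := by
  induction s with
  | zero => simp [nm_apply]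
  | succ s ih => rw [nm_succ, ih, succ_nsmul, (MulAction.stabilizer H a).pow_mem ha s]
theorem nm_mem_fx {h : H} {s : ℕ} (hs : h ^ s = 1) (a : A) : nm A h s a ∈ fx A h := by
  have := nm_dl h s a
  rw [hs, one_smul, sub_self, dl_apply, map_sub, nm_smul, sub_eq_zero] at this
  exact this

theorem eq_zero_of_coprime {a : A} {s m : ℕ} (h1 : s • a = 0) (h2 : m • a = 0) (h : s.Coprime m) : a = 0 := by
  have := Nat.dvd_gcd (addOrderOf_dvd_of_nsmul_eq_zero h1) (addOrderOf_dvd_of_nsmul_eq_zero h2)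
  rwa [h, Nat.dvd_one, AddMonoid.addOrderOf_eq_one_iff] at this

theorem card_ker_nm {h : H} {s : ℕ} (hs : s.Coprime (Nat.card A)) : Nat.card (nm A h s).ker ≤ (fx A h).index := by
  have := card_mul_le' (U := (nm A h s).ker) (W := fx A h) (eq_bot_iff.2 fun a ha =>
    eq_zero_of_coprime ((nm_fix ha.2 s).symm.trans ha.1) card_nsmul_eq_zero' hs)
  rw [← (fx A h).index_mul_card] at this
  exact Nat.le_of_mul_le_mul_right this Nat.card_pos

theorem dvd_semireg (P : Subgroup H) (S : Set A) (h1 : ∀ g ∈ P, ∀ x ∈ S, g • x ∈ S)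
    (h2 : ∀ g ∈ P, ∀ x ∈ S, g • x = x → g = 1) : Nat.card P ∣ S.ncard :=
  Clifford.dvd_ncard_of_act (H := P) (fun a (x : A) => a.1 • x) (by simp) (fun a b x => by simp [mul_smul]) S
    (Set.toFinite _) (fun a => h1 a a.2) _ fun x hx => ⟨⊥, index_bot, fun a =>
      ⟨fun t => by rw [mem_bot.1 t]; simp, fun t => mem_bot.2 (Subtype.ext (h2 a a.2 x hx t))⟩⟩

theorem fix_of_zpow {h g : H} (hp : (orderOf h).Prime) (hg : g ∈ zpowers h) (h1 : g ≠ 1) {x : A} (hx : g • x = x) :
    h • x = x := by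
  haveI := Fact.mk hp
  have := (zpowers_eq_top_of_prime_card (G := zpowers h) (Nat.card_zpowers h) (g := ⟨g, hg⟩) (by simpa using h1))
  obtain ⟨k, hk⟩ : (⟨h, mem_zpowers h⟩ : zpowers h) ∈ zpowers (⟨g, hg⟩ : zpowers h) := this ▸ trivial
  rw [← show g ^ k = h from congrArg Subtype.val hk]
  exact (MulAction.stabilizer H x).zpow_mem hx k

/-- congruence for fixed points on an invariant subgroup -/
theorem dvd_sub_fx {h : H} (hp : (orderOf h).Prime) (U : AddSubgroup A) (hU : ∀ x ∈ U, h • x ∈ U) :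
    orderOf h ∣ Nat.card U - Nat.card ↥(U ⊓ fx A h) := by
  have hU' : ∀ n : ℕ, ∀ x ∈ U, h ^ n • x ∈ U := fun n x hx => by
    induction n with
    | zero => simpa using hx
    | succ n ih => rw [pow_succ', mul_smul]; exact hU _ ih
  have := dvd_semireg (zpowers h) ((U : Set A) \ (U ⊓ fx A h : AddSubgroup A)) (fun g hg x hx => by
    obtain ⟨n, rfl⟩ := (mem_powers_iff_mem_zpowers.2 hg : g ∈ Submonoid.powers h)
    refine ⟨hU' n x hx.1, fun t => hx.2 ⟨hx.1, ?_⟩⟩
    have : h • h ^ n • x = h ^ n • x := t.2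
    rw [← mul_smul, ← pow_succ', pow_succ, mul_smul] at this
    exact smul_left_cancel _ this) fun g hg x hx t => by_contra fun n => hx.2 ⟨hx.1, fix_of_zpow hp hg n t⟩
  rwa [Nat.card_zpowers, Set.ncard_sdiff (fun _ t => t.1), ← Nat.card_coe_set_eq, ← Nat.card_coe_set_eq] at this

theorem dvd_sub_fx' {h : H} (hp : (orderOf h).Prime) : orderOf h ∣ Nat.card A - Nat.card (fx A h) := by
  simpa using dvd_sub_fx hp (⊤ : AddSubgroup A) fun _ _ => trivial

variable (H) in
structure Sy (β : Fm K A) : Prop extends Alt β where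
  inv : ∀ (h : H) x y, β (h • x) (h • y) = β x y
  faith : ∀ h : H, (∀ a : A, h • a = a) → h = 1

namespace Sy

theorem adj (S : Sy H β) (h : H) (x y : A) : β (h • x) y = β x (h⁻¹ • y) := by rw [← S.inv h x, smul_inv_smul]

theorem mem_fx_of (S : Sy H β) {h : H} {x : A} (hx : ∀ a, β (dl A h a) x = 0) : h • x = x := by
  refine inv_smul_eq_iff.1 (sub_eq_zero.1 (S.nd _ fun a => ?_)) |>.symm
  have := hx a
  rw [dl_apply, map_sub, AddMonoidHom.sub_apply, S.adj, ← map_sub] at this
  rw [S.skew, this, neg_zero]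

theorem dl_fix (S : Sy H β) {h : H} {x : A} (hx : h • x = x) (a : A) : β (dl A h a) x = 0 := by
  rw [dl_apply, map_sub, AddMonoidHom.sub_apply, S.adj, inv_smul_eq_iff.2 hx.symm, sub_self]

theorem isSquare_fx (S : Sy H β) {h : H} {s : ℕ} (hs : h ^ s = 1) (hc : s.Coprime (Nat.card A)) :
    IsSquare (Nat.card (fx A h)) := by
  refine S.isSquare_sub (eq_bot_iff.2 fun x hx => S.nd _ fun y => ?_)
  have t1 := hx.2 _ (nm_mem_fx hs y)
  have t2 : β x (nm A h s y) = s • β x y := by
    rw [nm_apply, map_sum, Finset.sum_congr rfl fun i _ => (by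
      rw [← S.inv (h ^ i) x y, (MulAction.stabilizer H x).pow_mem hx.1 i] : β x (h ^ i • y) = β x y)]
    simp
  have t3 : Nat.card A • β x y = 0 := by rw [← map_nsmul, card_nsmul_eq_zero', map_zero]
  have := Nat.dvd_gcd (addOrderOf_dvd_of_nsmul_eq_zero (t2 ▸ t1)) (addOrderOf_dvd_of_nsmul_eq_zero t3)
  rwa [hc, Nat.dvd_one, AddMonoid.addOrderOf_eq_one_iff] at this

theorem fx_lt (S : Sy H β) {h : H} (h1 : h ≠ 1) : Nat.card (fx A h) < Nat.card A :=
  card_lt fun e => h1 (S.faith h fun a => (e ▸ trivial : a ∈ fx A h))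

end Sy

variable (β) in
/-- cyclic submodules of the commutator space are isotropic -/
def L4 (h : H) : Prop := ∀ a, β (dl A h a) (h • dl A h a) = 0

theorem Sy.l4 (S : Sy H β) {h : H} (hl : L4 β h) (a : A) : dl A h (h • h • dl A h a - dl A h a) = 0 := by
  have t : ∀ a', β (dl A h a') (h • dl A h a - h⁻¹ • dl A h a) = 0 := fun a' => by
    have := hl (a + a')
    simp only [map_add, smul_add, AddMonoidHom.add_apply, hl a, hl a', zero_add, add_zero] at this
    rw [map_sub, ← S.adj, S.skew (h • _), sub_neg_eq_add, this]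
  have := S.mem_fx_of t
  rw [dl_apply, sub_eq_zero]
  simpa [smul_sub] using congrArg (fun x => h • x) this

theorem Sy.l4_fix (S : Sy H β) {h : H} (hl : L4 β h) {s m : ℕ} (hs : h ^ s = 1) (ho : Odd s) (hc : s.Coprime m)
    {a : A} (ha : m • dl A h a = 0) : h • a = a := by
  set y := dl A h a with hy
  have n0 : nm A h s y = 0 := by rw [hy, nm_dl, hs, one_smul, sub_self]
  have k : ∀ w : A, m • w = 0 → nm A h s w = 0 → h • w = w → w = 0 := fun w h1 h2 h3 =>
    eq_zero_of_coprime ((nm_fix h3 s).symm.trans h2) h1 hc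
  have t1 : h • h • y - y = 0 := k _ (by rw [smul_sub, smul_comm m, smul_comm m, ha]; simp)
    (by rw [map_sub, nm_smul, nm_smul, n0]; simp) (sub_eq_zero.1 (S.l4 hl a))
  have t2 : h • y + y = 0 := k _ (by rw [smul_add, smul_comm m, ha]; simp) (by rw [map_add, nm_smul, n0]; simp)
    (by rw [smul_add, sub_eq_zero.1 t1, add_comm])
  obtain ⟨j, rfl⟩ := ho
  have t3 : h • y = y := by
    have : h ^ 2 • y = y := by rw [sq, mul_smul, sub_eq_zero.1 t1]
    conv_rhs => rw [← one_smul H y, ← hs, pow_succ', mul_smul, pow_mul, (MulAction.stabilizer H y).pow_mem this j]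
  exact sub_eq_zero.1 (k y ha n0 t3)

variable (β) in
/-- involutions of type `a` -/
structure TA (h : H) : Prop where
  sq : h * h = 1
  two : ∀ a, 2 • dl A h a = 0
  alt : ∀ a, β a (h • a) = 0

theorem TA.dl_dl {h : H} (t : TA β h) (a : A) : dl A h (dl A h a) = 0 := by
  have := t.two a
  rw [dl_apply, dl_apply, smul_sub, ← mul_smul, t.sq, one_smul]
  rw [dl_apply] at this
  rw [← neg_eq_zero, ← this]; abel

theorem TA.conj (S : Sy H β) {h : H} (t : TA β h) (g : H) : TA β (g * h * g⁻¹) :=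
  ⟨by rw [show g * h * g⁻¹ * (g * h * g⁻¹) = g * (h * h) * g⁻¹ by group, t.sq]; group, fun a => by
    have := congrArg (fun x => g • x) (t.two (g⁻¹ • a))
    simpa [dl_apply, smul_sub, mul_smul, smul_comm g 2] using this, fun a => by
    rw [mul_smul, mul_smul, ← S.inv g⁻¹, inv_smul_smul, t.alt]⟩

theorem TA.symm (S : Sy H β) {h : H} (t : TA β h) (a b : A) : β a (dl A h b) = β b (dl A h a) := by
  have e : β (dl A h a) b = β a (dl A h b) := by
    rw [dl_apply, dl_apply, map_sub, AddMonoidHom.sub_apply, S.adj, inv_eq_of_mul_eq_one_right t.sq, map_sub]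
  have : 2 • β b (dl A h a) = 0 := by rw [← map_nsmul, t.two, map_zero]
  rw [← e, S.skew, neg_eq_iff_add_eq_zero, ← two_nsmul, this]

theorem TA.alt' (S : Sy H β) {h : H} (t : TA β h) (a : A) : β a (dl A h a) = 0 := by
  rw [dl_apply, map_sub, t.alt, S.alt, sub_zero]

theorem TA.tor {h : H} (t : TA β h) (a b : A) : 2 • β a (dl A h b) = 0 := by rw [← map_nsmul, t.two, map_zero]

theorem TA.pair (S : Sy H β) {h : H} (t : TA β h) {a : A} (ha : h • a ≠ a) : ∃ b, β a (dl A h b) ≠ 0 := by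
  by_contra! e
  exact ha (S.mem_fx_of fun b => by rw [S.skew, e, neg_zero])

theorem two_mul_index_le {U W : AddSubgroup A} (h : U ≤ W) {x : A} (h1 : x ∈ W) (h2 : x ∉ U) : 2 * W.index ≤ U.index := by
  rw [← AddSubgroup.relIndex_mul_index h]
  refine Nat.mul_le_mul_right _ ?_
  have : U.relIndex W ≠ 1 := fun e => h2 (AddSubgroup.relIndex_eq_one.1 e h1)
  have : U.relIndex W ≠ 0 := AddSubgroup.index_ne_zero_of_finite
  omega

theorem index_le_two {φ : A →+ Additive Kˣ} (h : ∀ a, 2 • φ a = 0) : φ.ker.index ≤ 2 := by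
  classical
  rw [AddSubgroup.index_ker]
  refine (Nat.card_le_card_of_injective (fun x : φ.range => decide (x.1 = 0)) fun x y e => Subtype.ext ?_).trans (by simp)
  obtain ⟨_, a, rfl⟩ := x
  obtain ⟨_, b, rfl⟩ := y
  simp only [decide_eq_decide] at e
  by_cases t : φ a = 0
  · exact t.trans (e.1 t).symm
  · exact two_tor (h a) (h b) t fun t' => t (e.2 t')

theorem TA.sq_dvd {h : H} (t : TA β h) : (fx A h).index ^ 2 ∣ Nat.card A := by
  rw [← (fx A h).index_mul_card, _root_.sq]
  refine Nat.mul_dvd_mul_left _ ?_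
  rw [← card_dl]
  exact AddSubgroup.card_dvd_of_le (by rintro _ ⟨a, rfl⟩; exact sub_eq_zero.1 (t.dl_dl a))

theorem TA.cases (S : Sy H β) {h : H} (t : TA β h) (h1 : h ≠ 1) : (fx A h).index = 4 ∨ (16 ≤ (fx A h).index ∧
    ∃ a1 a2 a3 a4 : A, β a1 (dl A h a2) ≠ 0 ∧ β a3 (dl A h a4) ≠ 0 ∧ β a1 (dl A h a3) = 0 ∧ β a1 (dl A h a4) = 0 ∧
      β a2 (dl A h a3) = 0 ∧ β a2 (dl A h a4) = 0) := by
  classical
  obtain ⟨a1, h1⟩ : ∃ a : A, h • a ≠ a := by by_contra! e; exact h1 (S.faith h e)
  obtain ⟨a2, h2⟩ := t.pair S h1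
  let k : A → AddSubgroup A := fun a => ((β a).comp (dl A h)).ker
  have mk : ∀ a x, x ∈ k a ↔ β a (dl A h x) = 0 := fun _ _ => Iff.rfl
  have fk : ∀ a, fx A h ≤ k a := fun a x hx => (mk _ _).2 (by rw [dl_apply, show h • x = x from hx, sub_self, map_zero])
  have i1 : 2 * 1 ≤ (k a1).index := AddSubgroup.index_top (G := A) ▸ two_mul_index_le le_top (x := a2) trivial h2
  have i2 := two_mul_index_le (U := k a1 ⊓ k a2) inf_le_left (x := a1) (t.alt' S a1) fun e => h2 (t.symm S _ _ ▸ e.2)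
  by_cases e : k a1 ⊓ k a2 ≤ fx A h
  · left
    have := AddSubgroup.index_inf_le (H := k a1) (K := k a2)
    have := Nat.mul_le_mul (index_le_two (φ := (β a1).comp (dl A h)) (t.tor a1)) (index_le_two (φ := (β a2).comp (dl A h)) (t.tor a2))
    rw [← le_antisymm e (le_inf (fk _) (fk _))]
    simp only [k] at *
    omega
  right
  obtain ⟨a3, h3, h3'⟩ := SetLike.not_le_iff_exists.1 e
  obtain ⟨b, hb⟩ := t.pair S h3'
  have h31 : β a3 (dl A h a1) = 0 := t.symm S _ _ ▸ h3.1
  have h32 : β a3 (dl A h a2) = 0 := t.symm S _ _ ▸ h3.2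
  have h21 : β a2 (dl A h a1) ≠ 0 := t.symm S _ _ ▸ h2
  have dd : ∀ x y : Additive Kˣ, 2 • x = 0 → 2 • y = 0 → y ≠ 0 → x + (if x = 0 then 0 else y) = 0 := fun x y a b c => by
    split_ifs with d
    · simp [d]
    · rw [two_tor b a c d, ← two_nsmul, a]
  set a4 := b + (if β a1 (dl A h b) = 0 then 0 else a2) + (if β a2 (dl A h b) = 0 then 0 else a1)
  have q1 : β a1 (dl A h a4) = 0 := by
    simp only [a4, map_add, apply_ite (dl A h), apply_ite (β a1), map_zero, t.alt' S, ite_self, add_zero]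
    exact dd _ _ (t.tor _ _) (t.tor _ _) h2
  have q2 : β a2 (dl A h a4) = 0 := by
    simp only [a4, map_add, apply_ite (dl A h), apply_ite (β a2), map_zero, t.alt' S, ite_self, add_zero]
    exact dd _ _ (t.tor _ _) (t.tor _ _) h21
  have q3 : β a3 (dl A h a4) ≠ 0 := by
    simpa only [a4, map_add, apply_ite (dl A h), apply_ite (β a3), map_zero, h31, h32, ite_self, add_zero] using hb
  refine ⟨?_, a1, a2, a3, a4, h2, q3, h3.1, q1, h3.2, q2⟩
  have i3 := two_mul_index_le (U := k a1 ⊓ k a2 ⊓ k a3) inf_le_left (x := a4) ⟨q1, q2⟩ fun e => q3 e.2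
  have i4 := two_mul_index_le (U := k a1 ⊓ k a2 ⊓ k a3 ⊓ k a4) inf_le_left (x := a3) ⟨h3, t.alt' S a3⟩
    fun e => q3 (t.symm S _ _ ▸ e.2)
  have i5 := AddSubgroup.index_antitone (le_inf (le_inf (le_inf (fk a1) (fk a2)) (fk a3)) (fk a4))
  omega

end act

end Cfsg.Lib.Hall.B3
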