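import Cfsg.Agent.Lib.Hall.B3b
import Cfsg.Agent.Lib.Coprime.HallAut
import Cfsg.Agent.Lib.Small.Simple

/-! # Bases of solvable linear groups: counting special elements in symplectic groups -/

set_option autoImplicit false
set_option linter.unusedSectionVars false
set_option linter.style.haveILetI false

namespace Cfsg.Lib.Hall.B3

open Cfsg Cfsg.Lib Subgroup Cfsg.Lib.Block.B2

universe u
variable {K : Type*} [Field K] {A : Type u} [AddCommGroup A] [Finite A] {β : Fm K A}
  {H : Type u} [Group H] [Finite H] [DistribMulAction H A]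

theorem fx_inv (h : H) : fx A h⁻¹ = fx A h := by ext a; rw [mem_fx, mem_fx, inv_smul_eq_iff, eq_comm]

theorem card_fx_conj (g h : H) : Nat.card (fx A (g * h * g⁻¹)) = Nat.card (fx A h) :=
  Nat.card_congr
    { toFun := fun a => ⟨g⁻¹ • a.1, by have := a.2; rw [mem_fx, mul_smul, mul_smul, smul_eq_iff_eq_inv_smul] at this; exact this⟩
      invFun := fun a => ⟨g • a.1, by rw [mem_fx, mul_smul, mul_smul, inv_smul_smul, show h • a.1 = a.1 from a.2]⟩
      left_inv := fun a => Subtype.ext (smul_inv_smul _ _)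
      right_inv := fun a => Subtype.ext (inv_smul_smul _ _) }

theorem index_fx_conj (g h : H) : (fx A (g * h * g⁻¹)).index = (fx A h).index := by
  have := (fx A (g * h * g⁻¹)).index_mul_card
  rw [card_fx_conj, ← (fx A h).index_mul_card] at this
  exact Nat.eq_of_mul_eq_mul_right Nat.card_pos this

theorem Sy.card_transv (S : Sy H β) : {h : H | (fx A h).index = 2}.ncard ≤ Nat.card A - 1 := by
  have ex : ∀ h : H, (fx A h).index = 2 → ∃ y : A, y ≠ 0 ∧ (∀ a, dl A h a = 0 ∨ dl A h a = y) ∧ ∀ a, β y a = 0 ↔ dl A h a = 0 :=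
      fun h e => by
    rw [← card_dl] at e
    obtain ⟨y, hy, hy'⟩ := (Nat.card_eq_two_iff' (0 : (dl A h).range)).1 e
    have t : ∀ a, dl A h a = 0 ∨ dl A h a = y := fun a => or_iff_not_imp_left.2 fun n =>
      congrArg Subtype.val (hy' ⟨_, a, rfl⟩ fun e => n (congrArg Subtype.val e))
    refine ⟨y, fun e => hy (Subtype.ext e), t, fun a => ⟨fun e => sub_eq_zero.2 (S.mem_fx_of fun b => ?_), fun e => ?_⟩⟩
    · rcases t b with t | t <;> simp [t, e]
    · obtain ⟨_, b, rfl⟩ := y; exact S.dl_fix (sub_eq_zero.1 e) b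
  choose! y h1 h2 h3 using ex
  rw [← Set.ncard_univ, ← Set.ncard_sdiff_singleton_of_mem (Set.mem_univ (0 : A))]
  refine Set.ncard_le_ncard_of_injOn y (fun h hh => ⟨trivial, h1 h hh⟩) fun h hh g hg e => ?_
  refine inv_mul_eq_one.1 (S.faith _ fun a => ?_)
  rw [mul_smul, inv_smul_eq_iff, ← sub_left_inj (a := a), ← dl_apply, ← dl_apply]
  have t := (h3 h hh a).symm.trans (e ▸ h3 g hg a)
  rcases h2 h hh a with t1 | t1
  · rw [t1, t.1 t1]
  · rcases h2 g hg a with t2 | t2
    · rw [t2, t.2 t2]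
    · rw [t1, t2, e]

variable (β) in
def A2 (h : H) : Prop := TA β h ∧ (fx A h).index = 4

theorem A2.conj (S : Sy H β) {h : H} (t : A2 β h) (g : H) : A2 β (g * h * g⁻¹) := ⟨t.1.conj S g, (index_fx_conj g h).trans t.2⟩

theorem A2.ex {h : H} (t : A2 β h) : ∃ a : A, h • a ≠ a := by
  by_contra! e
  have := t.2
  rw [show fx A h = ⊤ from eq_top_iff.2 fun a _ => e a, AddSubgroup.index_top] at this
  omega

open Classical in
theorem A2.form (S : Sy H β) {h : H} (t : A2 β h) : ∃ a1 a2 : A, ∀ x, dl A h x =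
    (if β x (dl A h a2) = 0 then 0 else dl A h a1) + (if β x (dl A h a1) = 0 then 0 else dl A h a2) := by
  obtain ⟨a1, h1⟩ := t.ex
  obtain ⟨t, t4⟩ := t
  obtain ⟨a2, h2⟩ := t.pair S h1
  let k : A → AddSubgroup A := fun a => ((β a).comp (dl A h)).ker
  have fk : ∀ a, fx A h ≤ k a := fun a x hx => by
    show β a (dl A h x) = 0
    rw [dl_apply, show h • x = x from hx, sub_self, map_zero]
  have i1 : 2 * 1 ≤ (k a1).index := AddSubgroup.index_top (G := A) ▸ two_mul_index_le le_top (x := a2) trivial h2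
  have i2 := two_mul_index_le (U := k a1 ⊓ k a2) inf_le_left (x := a1) (t.alt' S a1) fun e => h2 (t.symm S _ _ ▸ e.2)
  have e : k a1 ⊓ k a2 ≤ fx A h := fun x hx => by_contra fun n => by
    have := two_mul_index_le (le_inf (fk a1) (fk a2)) hx n
    omega
  have h21 : β a2 (dl A h a1) ≠ 0 := t.symm S _ _ ▸ h2
  have dd : ∀ x y : Additive Kˣ, 2 • x = 0 → 2 • y = 0 → y ≠ 0 → x - (if x = 0 then 0 else y) = 0 := fun x y a b c => by
    split_ifs with d
    · simp [d]
    · rw [two_tor b a c d, sub_self]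
  refine ⟨a1, a2, fun x => ?_⟩
  have := e (x := x - (if β x (dl A h a2) = 0 then 0 else a1) - (if β x (dl A h a1) = 0 then 0 else a2)) ⟨?_, ?_⟩
  · rw [← ker_dl, AddMonoidHom.mem_ker, map_sub, map_sub, apply_ite (dl A h), apply_ite (dl A h), map_zero, sub_sub,
      sub_eq_zero] at this
    exact this
  · show β a1 (dl A h _) = 0
    simp only [map_sub, apply_ite (dl A h), apply_ite (β a1), map_zero, t.alt' S, ite_self, sub_zero, t.symm S a1 x]
    exact dd _ _ (t.tor _ _) (t.tor _ _) h2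
  · show β a2 (dl A h _) = 0
    simp only [map_sub, apply_ite (dl A h), apply_ite (β a2), map_zero, t.alt' S, ite_self, sub_zero, t.symm S a2 x]
    exact dd _ _ (t.tor _ _) (t.tor _ _) h21

theorem A2.tri (S : Sy H β) {h g : H} (t : A2 β h) (t' : TA β g) :
    (∀ x, dl A h (dl A g (dl A h x)) = 0) ∨ ∀ x, dl A h (dl A g (dl A h x)) = dl A h x := by
  classical
  obtain ⟨a1, a2, f⟩ := t.form S
  have s : ∀ x y, β (dl A g x) y = -β y (dl A g x) := fun x y => S.skew _ _
  by_cases d : β (dl A h a2) (dl A g (dl A h a1)) = 0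
  · have d' : β (dl A h a1) (dl A g (dl A h a2)) = 0 := t'.symm S _ _ ▸ d
    have e1 : dl A h (dl A g (dl A h a1)) = 0 := by rw [f]; simp [s, d, t'.alt' S]
    have e2 : dl A h (dl A g (dl A h a2)) = 0 := by rw [f]; simp [s, d', t'.alt' S]
    refine Or.inl fun x => ?_
    rw [f x]; split_ifs <;> simp [e1, e2]
  · have d' : β (dl A h a1) (dl A g (dl A h a2)) ≠ 0 := t'.symm S _ _ ▸ d
    have e1 : dl A h (dl A g (dl A h a1)) = dl A h a1 := by rw [f]; simp [s, d, t'.alt' S]
    have e2 : dl A h (dl A g (dl A h a2)) = dl A h a2 := by rw [f]; simp [s, d', t'.alt' S]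
    refine Or.inr fun x => ?_
    rw [f x]; split_ifs <;> simp [e1, e2]

theorem smul_eq_add_dl (h : H) (x : A) : h • x = x + dl A h x := by rw [dl_apply]; abel

theorem A2.prod (S : Sy H β) (e2 : ∀ a : A, a + a = 0) {h g : H} (t : A2 β h) (t' : A2 β g) :
    (h * g) ^ 4 = 1 ∨ ((h * g) ^ 3 = 1 ∧ (fx A (h * g)).index = 16) := by
  have e3 : ∀ a b : A, a + (a + b) = b := fun a b => by rw [← add_assoc, e2, zero_add]
  have z : ∀ {h g : H}, A2 β h → (∀ x, dl A h (dl A g (dl A h x)) = dl A h x) → (∀ x, dl A g (dl A h (dl A g x)) = 0) → False :=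
    fun {h g} t a b => by
      obtain ⟨x, hx⟩ := t.ex
      refine hx (sub_eq_zero.1 ?_)
      rw [← dl_apply, ← a x, ← a x, b, map_zero]
  have h1 := t.1.dl_dl
  have g1 := t'.1.dl_dl
  rcases t.tri S t'.1 with a | a <;> rcases t'.tri S t.1 with b | b
  · refine Or.inl (S.faith _ fun x => ?_)
    simp only [pow_succ, pow_zero, one_mul, mul_smul]
    simp only [smul_eq_add_dl, map_add, h1, g1, a, b, add_zero, map_zero]
    simp only [add_assoc, add_left_comm, add_comm, e2, e3, add_zero, zero_add]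
  · exact (z t' b a).elim
  · exact (z t a b).elim
  refine Or.inr ⟨S.faith _ fun x => ?_, ?_⟩
  · simp only [pow_succ, pow_zero, one_mul, mul_smul]
    simp only [smul_eq_add_dl, map_add, h1, g1, a, b, add_zero, map_zero]
    simp only [add_assoc, add_left_comm, add_comm, e2, e3, add_zero, zero_add]
  have e : fx A (h * g) = fx A g ⊓ fx A h := by
    ext x
    refine ⟨fun hx => ?_, fun hx => by rw [mem_fx, mul_smul, show g • x = x from hx.1, show h • x = x from hx.2]⟩
    have t1 : dl A g x = dl A h x := by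
      rw [mem_fx, mul_smul, smul_eq_iff_eq_inv_smul, inv_eq_of_mul_eq_one_right t.1.sq] at hx
      rw [dl_apply, dl_apply, hx]
    have t2 : dl A h x = 0 := by rw [← a, ← t1, g1, map_zero]
    exact ⟨sub_eq_zero.1 (t1.trans t2), sub_eq_zero.1 t2⟩
  rw [e, ← AddSubgroup.relIndex_mul_index inf_le_right, AddSubgroup.inf_relIndex_right, t.2, ← ker_dl g,
    AddSubgroup.relIndex_ker, show (fx A h).map (dl A g) = (dl A g).range from le_antisymm (AddSubgroup.map_le_range _ _) (by
      rintro _ ⟨x, rfl⟩; exact ⟨_, sub_eq_zero.1 (h1 (dl A g x)), b x⟩), card_dl, t'.2]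

theorem burnside (P : Subgroup H) [Fintype P] : Nat.card P ∣ ∑ g : P, Nat.card (fx A g.1) := by
  classical
  haveI := Fintype.ofFinite A
  haveI := Fintype.ofFinite (MulAction.orbitRel.Quotient P A)
  have := MulAction.sum_card_fixedBy_eq_card_orbits_mul_card_group P A
  simp only [← Nat.card_eq_fintype_card] at this
  exact ⟨_, this.trans (mul_comm _ _)⟩

variable (H β) in
structure St (m : ℕ) : Prop extends Sy H β where
  e2 : ∀ a : A, a + a = 0
  card : Nat.card A = 2 ^ m
  solv : Group.IsSolvable H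
  o2 : pCore 2 H = ⊥

variable {m : ℕ}

theorem St.fiber (S : St β H m) {t s s' : H} (ht : orderOf t = 3) (h1 : A2 β s) (h2 : A2 β (t * s)) (h3 : A2 β s')
    (h4 : A2 β (t * s')) : s' = s ∨ s' = t * s ∨ s' = t * t * s := by
  classical
  have t3 : t ^ 3 = 1 := ht ▸ pow_orderOf_eq_one t
  have t1 : t ≠ 1 := fun e => by simp [e] at ht
  have iv : ∀ s : H, A2 β s → A2 β (t * s) → s * t = t⁻¹ * s := fun s a b => by
    have := b.1.sq
    rw [mul_assoc, mul_eq_one_iff_eq_inv.1 this |>.symm.symm, ← mul_assoc s] at this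
    calc s * t = t⁻¹ * (t * s * (t * s)) * s⁻¹ := by group
      _ = t⁻¹ * s := by rw [b.1.sq, inv_eq_of_mul_eq_one_right a.1.sq]; group
  have i1 := iv s h1 h2
  have c : Commute t (s * s') := by
    have i2 := iv s' h3 h4
    have i3 : s * t⁻¹ = t * s := by rw [mul_inv_eq_iff_eq_mul, mul_assoc, i1]; group
    show _ = _
    rw [mul_assoc s, i2, ← mul_assoc, ← mul_assoc, i3]
  have h5 : A2 β (t * t * s) := by
    have := h1.conj S.toSy t
    rwa [mul_assoc, show s * t⁻¹ = t * s by rw [mul_inv_eq_iff_eq_mul, mul_assoc, i1]; group, ← mul_assoc] at this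
  set w := s * s'
  have p0 := h1.prod S.toSy S.e2 h3
  have p1 := h2.prod S.toSy S.e2 h3
  have p2 := h5.prod S.toSy S.e2 h3
  have pt := h2.prod S.toSy S.e2 h1
  rw [mul_assoc, h1.1.sq, mul_one] at pt
  rw [mul_assoc] at p1 p2
  by_contra! n
  have ns : ∀ x : H, x * s * (x * s) = 1 → s' ≠ x * s → x * w ≠ 1 := fun x a b e => b (by
    rw [← mul_assoc, mul_eq_one_iff_inv_eq, inv_eq_of_mul_eq_one_right a] at e; exact e.symm)
  have n0 : w ≠ 1 := by simpa using ns 1 (by simpa using h1.1.sq) (by simpa using n.1)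
  have n1 := ns t h2.1.sq n.2.1
  have n2 := ns (t * t) h5.1.sq n.2.2
  have f : ∀ x : H, x ^ 3 = 1 → x ^ 4 = 1 → x = 1 := fun x a b => by rwa [pow_succ, a, one_mul] at b
  have c2 : Commute (t * t) w := c.mul_left c
  have tt : (t * t) ^ 3 = 1 := by rw [← sq, ← pow_mul, mul_comm, pow_mul, t3, one_pow]
  have w3 : w ^ 3 = 1 := by
    rcases p0 with p0 | p0
    · rcases p1 with p1 | p1
      · rw [c.mul_pow, p0, mul_one] at p1; exact (t1 (f t t3 p1)).elim
      · have := p1.1; rwa [c.mul_pow, t3, one_mul] at this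
    · exact p0.1
  have q0 := (p0.resolve_left fun e => n0 (f _ w3 e)).2
  have q1 := (p1.resolve_left fun e => n1 (f _ (by rw [c.mul_pow, t3, w3, mul_one]) e)).2
  have q2 := (p2.resolve_left fun e => n2 (f _ (by rw [c2.mul_pow, tt, w3, mul_one]) e)).2
  have qt := (pt.resolve_left fun e => t1 (f _ t3 e)).2
  have el : ∀ g ∈ closure {t, w}, ∃ i < 3, ∃ j < 3, g = t ^ i * w ^ j := fun g hg => by
    have : ∃ i j : ℕ, g = t ^ i * w ^ j := by
      induction hg using closure_induction with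
      | mem x hx => rcases hx with rfl | rfl; exacts [⟨1, 0, by simp⟩, ⟨0, 1, by simp⟩]
      | one => exact ⟨0, 0, by simp⟩
      | mul x y _ _ a b =>
        obtain ⟨i, j, rfl⟩ := a; obtain ⟨k, l, rfl⟩ := b
        exact ⟨i + k, j + l, by rw [pow_add, pow_add, (c.pow_pow k j).symm.mul_mul_mul_comm]⟩
      | inv x _ a =>
        obtain ⟨i, j, rfl⟩ := a
        refine ⟨2 * i, 2 * j, inv_eq_of_mul_eq_one_right ?_⟩
        rw [(c.pow_pow _ j).symm.mul_mul_mul_comm, ← pow_add, ← pow_add, show i + 2 * i = 3 * i by ring,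
          show j + 2 * j = 3 * j by ring, pow_mul, pow_mul, t3, w3]; simp
    obtain ⟨i, j, rfl⟩ := this
    exact ⟨i % 3, Nat.mod_lt _ (by norm_num), j % 3, Nat.mod_lt _ (by norm_num), by
      rw [← pow_eq_pow_mod i t3, ← pow_eq_pow_mod j w3]⟩
  have iq : ∀ x y : H, x * y = 1 → (fx A y).index = 16 → (fx A x).index = 16 := fun x y a b => by
    rwa [eq_inv_of_mul_eq_one_left a, fx_inv]
  have id : ∀ g ∈ closure {t, w}, g ≠ 1 → (fx A g).index = 16 := fun g hg n => by
    obtain ⟨i, hi, j, hj, rfl⟩ := el g hg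
    interval_cases i <;> interval_cases j
    · simp at n
    · simpa using q0
    · exact iq _ w (by simpa [pow_succ] using w3) q0
    · simpa using qt
    · simpa using q1
    · exact iq _ _ (by rw [c2.symm.pow_left 2 |>.mul_mul_mul_comm, ← pow_succ, w3]; simpa [pow_succ, mul_assoc] using t3) q2
    · exact iq _ t (by simpa [pow_succ] using t3) qt
    · simpa [sq] using q2
    · exact iq _ _ (by rw [c.symm.pow_left 2 |>.mul_mul_mul_comm, ← pow_succ, ← pow_succ, w3, t3, mul_one]) q1
  set P := closure {t, w}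
  haveI := Fintype.ofFinite P
  haveI : Fact (Nat.Prime 3) := ⟨Nat.prime_three⟩
  have hP : IsPGroup 3 P := fun g => ⟨1, Subtype.ext (by
    obtain ⟨i, -, j, -, e⟩ := el g g.2
    rw [pow_one, SubgroupClass.coe_pow, e, (c.pow_pow i j).mul_pow, ← pow_mul, ← pow_mul, mul_comm i, mul_comm j, pow_mul,
      pow_mul, t3, w3]; simp)⟩
  obtain ⟨k, hk⟩ := hP.exists_card_eq
  have hz : zpowers t < P := lt_of_le_of_ne (zpowers_le_of_mem (subset_closure (by simp))) fun e => by
    have : w ∈ zpowers t := e ▸ subset_closure (by simp)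
    rw [mem_zpowers_iff_mem_range_orderOf, ht] at this
    simp only [Finset.mem_image, Finset.mem_range] at this
    obtain ⟨i, hi, e⟩ := this
    interval_cases i
    · exact n0 (by simpa using e.symm)
    · exact n2 (by rw [← e]; simpa [pow_succ] using t3)
    · exact n1 (by rw [← e, ← pow_succ', t3])
  have k2 : 2 ≤ k := by
    have : Nat.card (zpowers t) < Nat.card P := lt_of_le_of_ne (card_le_of_le hz.le) fun e => hz.ne (eq_of_le_of_card_ge hz.le e.ge)
    rw [Nat.card_zpowers, ht, hk] at this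
    by_contra! l; interval_cases k <;> omega
  have b := burnside (A := A) P
  have cA := (fx A t).index_mul_card
  rw [← Finset.add_sum_erase _ _ (Finset.mem_univ 1), Finset.sum_congr rfl (g := fun _ => Nat.card (fx A t)) fun g hg => by
    have := (fx A g.1).index_mul_card
    rw [id g g.2 (by simpa using hg), ← cA, qt] at this
    omega, Finset.sum_const, Finset.card_erase_of_mem (Finset.mem_univ _), Finset.card_univ, ← Nat.card_eq_fintype_card,
    show fx A (1 : P).1 = ⊤ from eq_top_iff.2 fun a _ => one_smul H a, AddSubgroup.card_top, ← cA, qt, smul_eq_mul] at b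
  have d9 : 9 ∣ Nat.card P := hk ▸ pow_dvd_pow 3 k2
  obtain ⟨l, hl⟩ := d9
  have l0 : 0 < l := Nat.pos_of_ne_zero fun e => by have := Nat.card_pos (α := P); omega
  have : 9 ∣ 15 * Nat.card (fx A t) := by
    have := (Dvd.intro _ hl.symm).trans b
    rw [hl, show 16 * Nat.card (fx A t) + (9 * l - 1) * Nat.card (fx A t) = 15 * Nat.card (fx A t) + 9 * (l * Nat.card (fx A t)) by
      obtain ⟨l, rfl⟩ := Nat.exists_eq_succ_of_ne_zero l0.ne'
      rw [show 9 * l.succ - 1 = 9 * l + 8 by omega, Nat.succ_eq_add_one]; ring] at this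
    exact (Nat.dvd_add_left (dvd_mul_right _ _)).1 this
  have d3 : 3 ∣ 2 ^ m := S.card ▸ (show 3 ∣ Nat.card (fx A t) by omega).trans (AddSubgroup.card_addSubgroup_dvd_card _)
  have := Nat.Prime.dvd_of_dvd_pow Nat.prime_three d3
  omega

local notation "𝐅" => fittingSubgroup H

theorem St.odd (S : St β H m) {g : H} (hg : g ∈ 𝐅) : Odd (orderOf g) := by
  have := Core.fitting_le_pPrimeCore_of_pCore_eq_bot Nat.prime_two S.o2 hg
  exact Nat.coprime_two_right.1 ((Core.coprime_card_pPrimeCore 2 H).coprime_dvd_left (orderOf_dvd_natCard _ this))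

theorem St.exists_f (S : St β H m) {s : H} (h1 : orderOf s = 2) : ∃ f ∈ 𝐅, f * s * f⁻¹ * s ≠ 1 ∧ f * s * f⁻¹ * s ∈ 𝐅 := by
  haveI := S.solv
  haveI := Core.fitting_normal H
  have h2 : s * s = 1 := by rw [← sq, ← h1, pow_orderOf_eq_one]
  by_contra! n
  have := S.odd (Core.centralizer_fitting_le (show s ∈ _ from fun f hf => by
    by_contra t
    refine n f hf (fun e => t ?_) ?_
    · rw [mul_eq_one_iff_eq_inv, inv_eq_of_mul_eq_one_right h2, mul_inv_eq_iff_eq_mul] at e; exact e
    · have := mul_mem hf (Normal.conj_mem inferInstance _ (inv_mem hf) s)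
      rwa [inv_eq_of_mul_eq_one_right h2, ← mul_assoc, ← mul_assoc] at this))
  rw [h1] at this
  exact absurd this (by decide)

theorem A2.ord {h : H} (t : A2 β h) : orderOf h = 2 :=
  orderOf_eq_prime (by rw [sq, t.1.sq]) fun e => by obtain ⟨a, ha⟩ := t.ex; simp [e] at ha

theorem St.card_A2 (S : St β H m) : {s : H | A2 β s}.ncard * 2 ≤
    {t : H | t ∈ pCore 3 H ∧ orderOf t = 3 ∧ (fx A t).index = 16}.ncard * 3 := by
  classical
  rw [Set.ncard_eq_toFinset_card _ (Set.toFinite _), Set.ncard_eq_toFinset_card _ (Set.toFinite _)]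
  refine Finset.card_mul_le_card_mul (fun s t => A2 β (t * s)) (fun s hs => ?_) fun t ht => ?_
  · replace hs : A2 β s := by simpa using hs
    obtain ⟨f, hf, h1, h2⟩ := S.exists_f hs.ord
    have o := S.odd h2
    have p := (hs.conj S.toSy f).prod S.toSy S.e2 hs
    set t := f * s * f⁻¹ * s with ht
    have p' := p.resolve_left fun e => h1 (orderOf_eq_one_iff.1 (Nat.Coprime.eq_one_of_dvd
      (Nat.Coprime.pow_right 2 (Nat.coprime_two_right.2 o)) (orderOf_dvd_of_pow_eq_one e)))
    haveI : Fact (Nat.Prime 3) := ⟨Nat.prime_three⟩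
    have o3 : orderOf t = 3 := orderOf_eq_prime p'.1 h1
    have m3 : t ∈ pCore 3 H := Core.le_pCore_of_le_fitting Nat.prime_three
      (Core.isPGroup_zpowers_of_orderOf (k := 1) (by rw [o3, pow_one])) (zpowers_le_of_mem h2) (mem_zpowers t)
    have a1 : t * s = f * s * f⁻¹ := by rw [ht, mul_assoc, hs.1.sq, mul_one]
    refine Finset.one_lt_card.2 ⟨t, by simp [m3, o3, p'.2, a1, hs.conj S.toSy f], t⁻¹, ?_, fun e => ?_⟩
    · have : t⁻¹ * s = s * (f * s * f⁻¹) * s⁻¹ := by
        rw [ht]; simp only [mul_inv_rev, inv_inv, inv_eq_of_mul_eq_one_right hs.1.sq, mul_assoc]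
      simp [m3, o3, p'.2, fx_inv, this, (hs.conj S.toSy f).conj S.toSy s]
    · have : t ^ 2 = 1 := by rw [sq]; nth_rewrite 2 [e]; simp
      have := orderOf_dvd_of_pow_eq_one this
      rw [o3] at this; omega
  · simp only [Set.Finite.mem_toFinset, Set.mem_ofPred_eq] at ht
    rcases Finset.eq_empty_or_nonempty (Finset.bipartiteBelow (fun s t => A2 β (t * s)) (Set.toFinite {s : H | A2 β s}).toFinset t)
      with e | ⟨s, hs⟩
    · simp [e]
    simp only [Finset.mem_bipartiteBelow, Set.Finite.mem_toFinset, Set.mem_ofPred_eq] at hs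
    refine (Finset.card_le_card (t := {s, t * s, t * t * s}) fun s' hs' => ?_).trans Finset.card_le_three
    simp only [Finset.mem_bipartiteBelow, Set.Finite.mem_toFinset, Set.mem_ofPred_eq] at hs'
    simpa using S.fiber ht.2.1 hs.1 hs.2 hs'.1 hs'.2

theorem Sy.rank2 (S : Sy H β) {b : ℕ} (hb : Squarefree b) (hA : Nat.card A = b * b) : Nat.card H ≤ b * (b * b - 1) ∨ b = 1 := by
  refine or_iff_not_imp_right.2 fun b1 => ?_
  have b0 : 0 < b := Nat.pos_of_ne_zero hb.ne_zero
  obtain ⟨x, hx⟩ := AddMonoid.exists_addOrderOf_eq_exponent (G := A) AddMonoid.ExponentExists.of_finite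
  have iso : AddSubgroup.zmultiples x ≤ perp β (AddSubgroup.zmultiples x) := by
    rintro _ ⟨i, rfl⟩ _ ⟨j, rfl⟩; simp [S.alt]
  have cp := S.card_perp (AddSubgroup.zmultiples x)
  have o : addOrderOf x = b := by
    apply Nat.dvd_antisymm
    · have := Nat.mul_dvd_mul_left (Nat.card (AddSubgroup.zmultiples x)) (AddSubgroup.card_dvd_of_le iso)
      rw [cp, hA, Nat.card_zmultiples, ← sq, ← sq] at this
      exact (Nat.pow_dvd_pow_iff two_ne_zero).1 this
    · rw [hx, ← Nat.prod_primeFactors_of_squarefree hb]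
      refine Finset.prod_primes_dvd _ (fun r hr => (Nat.prime_of_mem_primeFactors hr).prime) fun r hr => ?_
      haveI := Fact.mk (Nat.prime_of_mem_primeFactors hr)
      obtain ⟨y, hy⟩ := exists_prime_addOrderOf_dvd_card' (G := A) r (hA ▸ (Nat.dvd_of_mem_primeFactors hr).mul_right _)
      exact hy ▸ AddMonoid.addOrder_dvd_exponent y
  rw [Nat.card_zmultiples, o, hA] at cp
  have cp' := Nat.eq_of_mul_eq_mul_left b0 cp
  have ep : perp β (AddSubgroup.zmultiples x) = AddSubgroup.zmultiples x :=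
    (AddSubgroup.eq_of_le_of_card_ge iso (by rw [cp', Nat.card_zmultiples, o])).symm
  have mp : ∀ a, β x a = 0 → a ∈ AddSubgroup.zmultiples x := fun a ha => ep ▸ (by
    rintro _ ⟨j, rfl⟩; simp [S.skew a x, ha])
  haveI : Finite (β x).range := Finite.of_surjective _ (β x).rangeRestrict_surjective
  haveI : Finite (AddSubgroup.toSubgroup' (β x).range) := ‹_›
  obtain ⟨⟨g, y, hy⟩, hg⟩ := IsCyclic.exists_generator (α := AddSubgroup.toSubgroup' (β x).range)
  have gen : ∀ a, ∃ i j : ℤ, a = i • x + j • y := fun a => by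
    obtain ⟨j, hj⟩ := hg ⟨(β x a).toMul, a, rfl⟩
    have : β x a = j • β x y := by rw [hy]; exact (congrArg (fun z => Additive.ofMul z.1) hj).symm
    obtain ⟨i, hi⟩ := mp (a - j • y) (by simp [this])
    exact ⟨i, j, by rw [show i • x = _ from hi]; abel⟩
  rw [← (MulAction.stabilizer H x).index_mul_card, mul_comm, MulAction.index_stabilizer]
  refine Nat.mul_le_mul ?_ ?_
  · rw [← o, ← Nat.card_zmultiples]
    refine Nat.card_le_card_of_injective (fun h : MulAction.stabilizer H x => (⟨h.1 • y - y, mp _ (by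
      rw [map_sub, ← S.inv h.1 x y, show h.1 • x = x from h.2, sub_self])⟩ : AddSubgroup.zmultiples x)) fun h g e => ?_
    refine Subtype.ext (inv_mul_eq_one.1 (S.faith _ fun a => ?_))
    obtain ⟨i, j, rfl⟩ := gen a
    have : h.1 • y = g.1 • y := sub_left_inj.1 (Subtype.mk.inj e)
    rw [mul_smul, inv_smul_eq_iff, smul_add, smul_add, smul_comm _ i, smul_comm _ i, smul_comm _ j, smul_comm _ j, this,
      show h.1 • x = x from h.2, show g.1 • x = x from g.2]
  · rw [← hA, ← Set.ncard_univ, ← Set.ncard_sdiff_singleton_of_mem (Set.mem_univ (0 : A))]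
    refine Set.ncard_le_ncard ?_
    rintro _ ⟨h, rfl⟩
    exact ⟨trivial, fun e => b1 (by rw [← o, (smul_eq_zero_iff_eq h).1 e, addOrderOf_zero])⟩

end Cfsg.Lib.Hall.B3
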