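import Cfsg.Agent.Lib.Hall.B3c

/-! # Bases of solvable linear groups: small symplectic modules -/

set_option autoImplicit false
set_option linter.unusedSectionVars false
set_option linter.style.haveILetI false

namespace Cfsg.Lib.Hall.B3

open Cfsg Cfsg.Lib Subgroup Cfsg.Lib.Block.B2

universe u
variable {K : Type*} [Field K] {A : Type u} [AddCommGroup A] [Finite A] {β : Fm K A}
  {H : Type u} [Group H] [Finite H] [DistribMulAction H A] {m : ℕ}

local notation "𝐅" => fittingSubgroup H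

theorem St.card_dvd (S : St β H m) : Nat.card H ∣ ∏ i ∈ Finset.range m, (2 ^ m - 2 ^ i) := by
  haveI : Fact (Nat.Prime 2) := ⟨Nat.prime_two⟩
  let φ : H →* MulAut (Multiplicative A) :=
    { toFun h := AddEquiv.toMultiplicative (DistribMulAction.toAddEquiv A h)
      map_one' := by ext x; exact one_smul H x.toAdd
      map_mul' a b := by ext x; exact mul_smul a b x.toAdd }
  have h1 : Function.Injective φ := (injective_iff_map_eq_one φ).2 fun h e =>
    S.faith h fun a => DFunLike.congr_fun e (Multiplicative.ofAdd a)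
  have h2 : frattini (Multiplicative A) = ⊥ :=
    Core.frattini_eq_bot_of_elementary Nat.prime_two fun x => by rw [sq]; exact S.e2 x.toAdd
  have := Coprime.card_mulAut_dvd (P := Multiplicative A) (p := 2) (n := m) (r := m) S.card (by rw [h2, index_bot]; exact S.card)
  rw [Nat.sub_self, mul_zero, pow_zero, one_mul] at this
  exact (card_dvd_of_injective φ h1).trans this

theorem St.cval (S : St β H m) {h : H} (ho : Odd (orderOf h)) (h1 : h ≠ 1) : ∃ j, 2 * j < m ∧ Nat.card (fx A h) = 4 ^ j := by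
  obtain ⟨r, hr⟩ := S.isSquare_fx (pow_orderOf_eq_one h) (S.card ▸ (Nat.coprime_two_right.2 ho).pow_right m)
  have d : r ∣ 2 ^ m := S.card ▸ (Dvd.intro _ hr.symm).trans (AddSubgroup.card_addSubgroup_dvd_card _)
  obtain ⟨j, -, rfl⟩ := (Nat.dvd_prime_pow Nat.prime_two).1 d
  have := S.fx_lt h1
  rw [hr, S.card, ← pow_add] at this
  exact ⟨j, by have := (Nat.pow_lt_pow_iff_right one_lt_two).1 this; omega, by rw [hr, ← mul_pow]; rfl⟩

theorem St.card_dvd_fit (S : St β H m) : Nat.card H ∣ Nat.card 𝐅 * Nat.card (MulAut 𝐅) := by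
  haveI := S.solv
  haveI := Core.fitting_normal H
  rw [← (𝐅).card_mul_index]
  refine Nat.mul_dvd_mul_left _ ((index_dvd_of_le Core.centralizer_fitting_le).trans ?_)
  have := Small.relIndex_centralizer_dvd_card_mulAut (𝐅)
  rwa [normalizer_eq_top, relIndex_top_right] at this

theorem St.card_dvd_sf (S : St β H m) {n : ℕ} (h : Nat.card 𝐅 = n) (hs : Squarefree n) : Nat.card H ∣ n * n.totient := by
  haveI := Core.isNilpotent_fitting H
  haveI := IsZGroup.of_squarefree (h ▸ hs)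
  have := S.card_dvd_fit
  rwa [IsCyclic.card_mulAut, h] at this

theorem St.card_dvd_sq (S : St β H m) {p : ℕ} (hp : p.Prime) (h : Nat.card 𝐅 = p ^ 2) :
    Nat.card H ∣ p ^ 2 * ((p ^ 2 - 1) * (p ^ 2 - p)) := by
  haveI := Fact.mk hp
  obtain ⟨r, hr, e⟩ := (Nat.dvd_prime_pow hp).1 (h ▸ (frattini 𝐅).index_dvd_card)
  have := Coprime.card_mulAut_dvd h e
  refine S.card_dvd_fit.trans ?_
  rw [h]
  refine Nat.mul_dvd_mul_left _ (this.trans ?_)
  interval_cases r
  · simp
  · simp only [Finset.range_one, Finset.prod_singleton, pow_zero, pow_one, show 1 * (2 - 1) = 1 from rfl]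
    exact Dvd.dvd.mul_left ⟨1, by rw [mul_one, Nat.mul_sub_one, sq]⟩ _
  · simp [Finset.prod_range_succ]

theorem mem_pCore_of {t : H} (ht : t ∈ 𝐅) (hp : (orderOf t).Prime) : t ∈ pCore (orderOf t) H :=
  Core.le_pCore_of_le_fitting hp (Core.isPGroup_zpowers_of_orderOf (k := 1) (by rw [pow_one])) (zpowers_le_of_mem ht)
    (mem_zpowers t)

theorem cen {t : H} (ht : t ∈ 𝐅) (hp : (orderOf t).Prime) (h3 : ¬ orderOf t ^ 3 ∣ Nat.card H) {f : H} (hf : f ∈ 𝐅) :
    Commute f t := by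
  have m := mem_pCore_of ht hp
  refine Core.fitting_le_of_forall_pCore_le (K := centralizer {t}) (fun q hq x hx => ?_) hf t rfl |>.symm
  refine mem_centralizer_singleton_iff.2 (Eq.symm ?_)
  by_cases e : q = orderOf t
  · subst e
    haveI := Fact.mk hp
    obtain ⟨k, hk⟩ := (Core.isPGroup_pCore (orderOf t) H).exists_card_eq
    have : k ≤ 2 := by_contra fun l => h3 ((pow_dvd_pow _ (by omega)).trans (hk ▸ card_subgroup_dvd_card _))
    have : IsMulCommutative (pCore (orderOf t) H) := by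
      interval_cases k
      · haveI := (Nat.card_eq_one_iff_unique.1 hk).1; infer_instance
      · haveI := isCyclic_of_prime_card (hk.trans (pow_one _)); infer_instance
      · exact IsPGroup.isMulCommutative_of_card_eq_prime_sq hk
    exact congrArg Subtype.val (this.is_comm.comm (⟨t, m⟩ : pCore (orderOf t) H) ⟨x, hx⟩)
  · exact Core.pCore_le_centralizer_pCore_of_ne hp hq e hx t m

theorem exists_prime_pow {g : H} (h1 : g ≠ 1) : ∃ n : ℕ, (orderOf (g ^ n)).Prime := by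
  obtain ⟨s, hs, m, hm⟩ := Nat.exists_prime_and_dvd (mt orderOf_eq_one_iff.1 h1)
  have : 0 < m := Nat.pos_of_ne_zero fun t => (orderOf_pos g).ne' (by rw [hm, t, mul_zero])
  exact ⟨m, by rwa [orderOf_pow' _ this.ne', hm, Nat.gcd_eq_right (dvd_mul_left _ _), Nat.mul_div_cancel _ this]⟩

theorem semireg (U : AddSubgroup A) (h1 : ∀ f ∈ 𝐅, ∀ x ∈ U, f • x ∈ U) (h2 : ∀ g ∈ 𝐅, (orderOf g).Prime → fx A g ≤ U) :
    Nat.card 𝐅 ∣ Nat.card A - Nat.card U := by
  have := dvd_semireg 𝐅 (U : Set A)ᶜ (fun g hg x hx t => hx (by simpa using h1 _ (inv_mem hg) _ t)) fun g hg x hx t => by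
    by_contra n
    obtain ⟨k, hk⟩ := exists_prime_pow n
    exact hx (h2 _ (pow_mem hg k) hk ((MulAction.stabilizer H x).pow_mem t k))
  rwa [Set.ncard_compl, ← Nat.card_coe_set_eq] at this

theorem exists_fit {s : ℕ} (hs : s.Prime) (h : s ∣ Nat.card 𝐅) : ∃ t ∈ 𝐅, orderOf t = s := by
  haveI := Fact.mk hs
  obtain ⟨t, ht⟩ := exists_prime_orderOf_dvd_card' s h
  exact ⟨t, t.2, (orderOf_coe t).trans ht⟩

theorem St.fit_odd (S : St β H m) : ¬ 2 ∣ Nat.card 𝐅 := fun h => by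
  obtain ⟨t, ht, e⟩ := exists_fit Nat.prime_two h
  exact absurd (e ▸ S.odd ht) (by decide)

theorem comm_fx {g t : H} (c : Commute g t) : ∀ x ∈ fx A t, g • x ∈ fx A t := fun x hx => by
  rw [mem_fx, ← mul_smul, ← c.eq, mul_smul, show t • x = x from hx]

theorem mem_of_sylow {p : ℕ} (hp : p.Prime) (h : ¬ p * Nat.card (pCore p H) ∣ Nat.card H) {g : H} (hg : orderOf g = p) :
    g ∈ pCore p H := by
  refine (QuotientGroup.eq_one_iff g).1 (orderOf_eq_one_iff.1 ((hp.eq_one_or_self_of_dvd _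
    (hg ▸ orderOf_map_dvd (QuotientGroup.mk' _) g)).resolve_right fun e => h ?_))
  rw [← (pCore p H).index_mul_card]
  exact Nat.mul_dvd_mul_right (e.symm.dvd.trans (_root_.orderOf_dvd_natCard _)) _

theorem ncard_le_sub_one (P : Subgroup H) {T : Set H} (h : ∀ t ∈ T, t ∈ P ∧ t ≠ 1) : T.ncard ≤ Nat.card P - 1 := by
  rw [show Nat.card P = (P : Set H).ncard from rfl, ← Set.ncard_sdiff_singleton_of_mem P.one_mem]
  exact Set.ncard_le_ncard h

theorem St.inv_count (S : St β H m) {T : Set H} (h : ∀ s ∈ T, ∀ f ∈ 𝐅, s * f * s⁻¹ = f⁻¹) : T.ncard ≤ Nat.card 𝐅 := by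
  haveI := S.solv
  rcases T.eq_empty_or_nonempty with rfl | ⟨s0, h0⟩
  · simp
  refine Set.ncard_le_ncard_of_injOn (t := (𝐅 : Set H)) (fun s => s0⁻¹ * s) (fun s hs => Core.centralizer_fitting_le fun f hf => ?_)
    fun a _ b _ e => mul_left_cancel e
  rw [show f * (s0⁻¹ * s) = s0⁻¹ * (s0 * f * s0⁻¹) * s by group, h s0 h0 f hf, ← h s hs f hf]; group

theorem St.no3 (S : St β H m) (h : ¬ 3 ∣ Nat.card H) : {s : H | A2 β s}.ncard = 0 := by
  have := S.card_A2
  rw [show {t : H | t ∈ pCore 3 H ∧ orderOf t = 3 ∧ (fx A t).index = 16} = ∅ from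
    Set.eq_empty_of_forall_notMem fun t ht => h (ht.2.1 ▸ orderOf_dvd_natCard t)] at this
  simpa using this

theorem St.two (S : St β H 2) (h : ¬ 3 ∣ Nat.card H) : Nat.card H = 1 := by
  have d : Nat.card H ∣ 2 := Nat.Coprime.dvd_of_dvd_mul_left (Nat.Coprime.symm ((Nat.Prime.coprime_iff_not_dvd Nat.prime_three).2 h))
    (by simpa [Finset.prod_range_succ] using S.card_dvd)
  have : (⊤ : Subgroup H) ≤ pCore 2 H := Core.le_pCore (IsPGroup.of_card_dvd_pow (n := 1) (by simpa using d))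
  rw [S.o2, le_bot_iff] at this
  rw [← card_top, this, card_bot]

theorem card_fx_one {g : H} (h : Nat.card (fx A g) = 1) : fx A g = ⊥ := AddSubgroup.card_eq_one.1 h

theorem St.pv4 (S : St β H 4) {g : H} (hp : (orderOf g).Prime) (h2 : orderOf g ≠ 2) :
    (orderOf g = 3 ∧ (Nat.card (fx A g) = 1 ∨ Nat.card (fx A g) = 4)) ∨ (orderOf g = 5 ∧ Nat.card (fx A g) = 1) := by
  obtain ⟨j, h1, e⟩ := S.cval (hp.odd_of_ne_two h2) (fun e => hp.ne_one (orderOf_eq_one_iff.2 e))
  have d := dvd_sub_fx' (A := A) hp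
  rw [S.card, e] at d
  rw [e]
  generalize orderOf g = s at *
  have : j < 2 := by omega
  have := hp.two_le
  interval_cases j <;> have := Nat.le_of_dvd (by norm_num) d <;> interval_cases s <;> simp_all (config := {decide := true})

theorem St.n1 (S : St β H 4) (h : Nat.card (pCore 3 H) = 9) :
    {t : H | t ∈ pCore 3 H ∧ orderOf t = 3 ∧ (fx A t).index = 16}.ncard ≤ 4 := by
  classical
  set P := pCore 3 H
  haveI := Fintype.ofFinite P
  have od : ∀ g : P, Odd (orderOf g.1) := fun g => S.odd (Core.pCore_le_fitting Nat.prime_three g.2)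
  have cv : ∀ g : P, g ≠ 1 → Nat.card (fx A g.1) = 1 ∨ Nat.card (fx A g.1) = 4 := fun g n => by
    obtain ⟨j, h1, e⟩ := S.cval (od g) (by simpa using n)
    have : j < 2 := by omega
    interval_cases j <;> simp [e]
  have b := burnside (A := A) P
  set T := (Finset.univ.erase (1 : P)).filter fun g => Nat.card (fx A g.1) = 4 with hT
  have t8 : (Finset.univ.erase (1 : P)).card = 8 := by
    rw [Finset.card_erase_of_mem (Finset.mem_univ _), Finset.card_univ, ← Nat.card_eq_fintype_card, h]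
  rw [← Finset.add_sum_erase _ _ (Finset.mem_univ 1), Finset.sum_congr rfl
    (g := fun g => 1 + if Nat.card (fx A g.1) = 4 then 3 else 0) fun g hg => by
      rcases cv g (by simpa using hg) with e | e <;> simp [e], Finset.sum_add_distrib, ← Finset.sum_filter, ← hT,
    Finset.sum_const, Finset.sum_const, t8, show fx A (1 : P).1 = ⊤ from eq_top_iff.2 fun a _ => one_smul H a,
    AddSubgroup.card_top, S.card, h] at b
  have t1 : T.card ≠ 1 := fun e => by
    obtain ⟨g, hg⟩ := Finset.card_eq_one.1 e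
    have m : g ∈ T := hg ▸ Finset.mem_singleton_self g
    have m' : g⁻¹ ∈ T := by simpa [hT, fx_inv] using m
    rw [hg, Finset.mem_singleton] at m'
    have : g.1 ^ 2 = 1 := by rw [sq]; nth_rewrite 2 [← m']; simp
    have := Nat.Coprime.eq_one_of_dvd (Nat.coprime_two_right.2 (od g)) (orderOf_dvd_of_pow_eq_one this)
    exact (Finset.mem_erase.1 (Finset.mem_filter.1 m).1).1 (Subtype.ext (orderOf_eq_one_iff.1 this))
  have t2 := Finset.card_filter_add_card_filter_not (s := Finset.univ.erase (1 : P)) fun g => Nat.card (fx A g.1) = 4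
  refine le_trans (Set.ncard_le_ncard (t := Subtype.val '' ((Finset.univ.erase (1 : P)).filter
    fun g => ¬ Nat.card (fx A g.1) = 4 : Finset P)) fun t ht => ⟨⟨t, ht.1⟩, ?_, rfl⟩) ?_
  · have := (fx A t).index_mul_card
    rw [ht.2.2, S.card] at this
    simp only [Finset.coe_filter, Finset.mem_erase, Finset.mem_univ, and_true, Set.mem_ofPred_eq]
    exact ⟨fun e => by have := ht.2.1; rw [show t = 1 from congrArg Subtype.val e] at this; simp at this, by omega⟩
  · rw [Set.ncard_image_of_injective _ Subtype.val_injective, Set.ncard_coe_finset]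
    simp only [smul_eq_mul] at b
    rw [← hT] at t2
    omega

theorem St.c2 (S : St β H 4) (h : Nat.card 𝐅 = 9) {s : H} (h1 : orderOf s = 2) (h2 : ¬ TA β s) (h3 : (fx A s).index ≠ 2) :
    ∀ f ∈ 𝐅, s * f * s⁻¹ = f⁻¹ := fun f hf => by
  haveI := Core.fitting_normal H
  haveI : Fact (Nat.Prime 3) := ⟨Nat.prime_three⟩
  have cm : ∀ a ∈ 𝐅, ∀ b ∈ 𝐅, a * b = b * a := fun a ha b hb => congrArg Subtype.val
    ((IsPGroup.isMulCommutative_of_card_eq_prime_sq (p := 3) h).is_comm.comm (⟨a, ha⟩ : 𝐅) ⟨b, hb⟩)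
  have s2 : s * s = 1 := by rw [← sq, ← h1, pow_orderOf_eq_one]
  have m1 : s * f * s⁻¹ ∈ 𝐅 := Normal.conj_mem inferInstance _ hf s
  by_contra n
  obtain ⟨k, hk⟩ := exists_prime_pow (g := f * (s * f * s⁻¹)) fun e => n (eq_inv_of_mul_eq_one_right e)
  have c : Commute s ((f * (s * f * s⁻¹)) ^ k) := Commute.pow_right (by
    show _ = _
    rw [cm f hf _ m1, inv_eq_of_mul_eq_one_right s2]
    calc _ = s * s * f * s * f := by group
      _ = s * f * s * f * s := by
        rw [s2, one_mul, show s * f * s * f * s = (s * f * s⁻¹) * f * s by rw [inv_eq_of_mul_eq_one_right s2], ← cm f hf _ m1]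
        rw [mul_assoc f (s * f * s⁻¹), inv_mul_cancel_right, mul_assoc]) k
  have mg := pow_mem (mul_mem hf m1) k
  generalize (f * (s * f * s⁻¹)) ^ k = g at *
  have og := S.odd mg
  have ind := (fx A g).index_mul_card
  have cv : Nat.card (fx A g) = 1 ∨ Nat.card (fx A g) = 4 := by
    rcases S.pv4 hk (fun e => absurd (e ▸ og) (by decide)) with t | t
    exacts [t.2, Or.inl t.2]
  have neg : ∀ t : Additive Kˣ, ∀ x y, β x y + β x y = 0 := fun _ x y => by rw [← map_add, S.e2, map_zero]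
  rcases cv with cv | cv
  · refine h2 ⟨s2, fun a => by rw [two_nsmul, S.e2], fun a => ?_⟩
    obtain ⟨x, rfl⟩ : a ∈ (dl A g).range := by
      rw [AddSubgroup.eq_top_of_card_eq (dl A g).range (by rw [card_dl, ← ind, cv, mul_one])]; trivial
    have e1 : β (g • x) (s • g • x) = β x (s • x) := by rw [← mul_smul, c.eq, mul_smul, S.inv]
    have e2 : β x (s • g • x) = β (g • x) (s • x) := by
      rw [← S.inv s x, ← mul_smul, s2, one_smul, S.skew, neg_eq_iff_add_eq_zero, neg 0]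
    simp only [dl_apply, smul_sub, map_sub, AddMonoidHom.sub_apply, e1, e2]
    rw [sub_eq_zero, sub_eq_sub_iff_add_eq_add, neg 0, neg 0]
  have fixne : ∀ U : AddSubgroup A, Nat.card U = 4 → (∀ x ∈ U, s • x ∈ U) → ∃ x ∈ U, x ≠ 0 ∧ s • x = x := fun U e1 e2 => by
    have := dvd_sub_fx (h1 ▸ Nat.prime_two) U e2
    by_contra! t
    rw [h1, e1, show U ⊓ fx A s = ⊥ from eq_bot_iff.2 fun x hx => by_contra fun n => t x hx.1 n hx.2] at this
    simp at this
  have dis : ∀ x ∈ (dl A g).range, g • x = x → x = 0 := by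
    rintro _ ⟨x, rfl⟩ hx
    refine eq_zero_of_coprime (s := orderOf g) (m := 2) ?_ (by rw [two_nsmul, S.e2]) (Nat.coprime_two_right.2 og)
    rw [← nm_fix hx, nm_dl, pow_orderOf_eq_one, one_smul, sub_self]
  have cW : Nat.card (dl A g).range = 4 := by rw [card_dl]; rw [cv, S.card] at ind; omega
  obtain ⟨w, hw, w0, w1⟩ := fixne _ cW (by
    rintro _ ⟨x, rfl⟩; exact ⟨s • x, by rw [dl_apply, dl_apply, smul_sub, ← mul_smul, ← mul_smul, c.eq]⟩)
  obtain ⟨u, hu, u0, u1⟩ := fixne _ cv (comm_fx c)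
  have hgw : g • w ∈ (dl A g).range := by obtain ⟨x, rfl⟩ := hw; exact ⟨g • x, (smul_dl g x).symm⟩
  have i1 := two_mul_index_le (U := ⊥) (W := AddSubgroup.zmultiples w) bot_le (AddSubgroup.mem_zmultiples w) w0
  have zw : ∀ x ∈ AddSubgroup.zmultiples w, x = 0 ∨ x = w := by
    rintro _ ⟨i, rfl⟩
    rcases Int.even_or_odd' i with ⟨j, rfl | rfl⟩
    · left; show (2 * j) • w = 0; rw [mul_comm, mul_smul, two_zsmul, S.e2, smul_zero]
    · right; show (2 * j + 1) • w = w; rw [add_smul, mul_comm, mul_smul, two_zsmul, S.e2, smul_zero, zero_add, one_smul]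
  have i2 := two_mul_index_le (U := AddSubgroup.zmultiples w) (W := (dl A g).range ⊓ fx A s)
    (AddSubgroup.zmultiples_le_of_mem ⟨hw, w1⟩) (x := g • w) ⟨hgw, comm_fx c.symm w w1⟩ fun t =>
      (zw _ t).elim (fun e => w0 ((smul_eq_zero_iff_eq g).1 e)) fun e => w0 (dis w hw e)
  have i3 := two_mul_index_le (U := (dl A g).range ⊓ fx A s) (W := fx A s) inf_le_right (x := u) u1 fun t => u0 (dis u t.1 hu)
  rw [AddSubgroup.index_bot, S.card] at i1
  have := S.fx_lt (h := s) fun e => by simp [e] at h1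
  have t := (fx A s).index_mul_card
  have : (fx A s).index ≠ 1 := fun e => by rw [e] at t; omega
  have : (fx A s).index ≠ 0 := AddSubgroup.index_ne_zero_of_finite
  omega

theorem St.five (S : St β H 4) (h : Nat.card 𝐅 ∣ 5) {s : H} (h1 : orderOf s = 2) :
    Nat.card (fx A s) ≤ 4 ∧ ∀ f ∈ 𝐅, s * f * s⁻¹ = f⁻¹ := by
  obtain ⟨f, hf, t1, t2⟩ := S.exists_f h1
  have s2 : s * s = 1 := by rw [← sq, ← h1, pow_orderOf_eq_one]
  have o5 := (Nat.prime_five.eq_one_or_self_of_dvd _ ((orderOf_dvd_natCard _ t2).trans h)).resolve_left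
    (mt orderOf_eq_one_iff.1 t1)
  have c1 := card_fx_one ((S.pv4 (o5 ▸ Nat.prime_five) (by omega)).resolve_left (by omega)).2
  constructor
  · have := card_mul_le' (U := fx A (f * s * f⁻¹)) (W := fx A s) (eq_bot_iff.2 fun x hx => c1 ▸ (by
      rw [mem_fx, mul_smul, show s • x = x from hx.2]; exact hx.1))
    rw [card_fx_conj, S.card] at this
    nlinarith
  · have : zpowers (f * s * f⁻¹ * s) = 𝐅 := eq_of_le_of_card_ge (zpowers_le_of_mem t2)
      (by rw [Nat.card_zpowers, o5]; exact Nat.le_of_dvd (by norm_num) h)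
    rw [← this]
    rintro _ ⟨i, rfl⟩
    rw [← conj_zpow, ← inv_zpow]; congr 1
    simp only [mul_inv_rev, inv_inv, inv_eq_of_mul_eq_one_right s2, mul_assoc, s2, mul_one]

theorem key_p (p : ℕ) (hp : p.Prime) (k : ℕ) (h1 : p ∣ Nat.card H → p ∣ Nat.card 𝐅) (h2 : ¬ p ^ 2 ∣ Nat.card H)
    (h3 : p - 1 ≤ k) : {t : H | orderOf t = p}.ncard ≤ k := by
  haveI := Fact.mk hp
  obtain ⟨i, hi⟩ := (Core.isPGroup_pCore p H).exists_card_eq
  have : i < 2 := by_contra fun l => h2 ((pow_dvd_pow _ (by omega)).trans (hi.symm.dvd.trans (card_subgroup_dvd_card _)))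
  have l : Nat.card (pCore p H) - 1 ≤ k := by interval_cases i <;> simp [hi]; omega
  refine (ncard_le_sub_one (pCore p H) fun t ht => ⟨mem_of_sylow hp (fun l => h2 ?_) ht, fun e => hp.ne_one ?_⟩).trans l
  · obtain ⟨x, hx, e⟩ := exists_fit hp (h1 (ht.symm.dvd.trans (_root_.orderOf_dvd_natCard t)))
    subst e
    rw [sq]
    exact (Nat.mul_dvd_mul_left _ (orderOf_dvd_natCard _ (mem_pCore_of hx hp))).trans l
  · rw [← show orderOf t = p from ht, e, orderOf_one]

variable (H β) in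
structure F4 : Prop where
  card : Nat.card H ≤ 144
  n1 : {t : H | orderOf t = 3 ∧ (fx A t).index = 16}.ncard ≤ 4
  n3 : {t : H | orderOf t = 3}.ncard ≤ 8
  n5 : {t : H | orderOf t = 5}.ncard ≤ 4
  a2 : {s : H | A2 β s}.ncard ≤ 6
  c2 : ¬ 5 ∣ Nat.card H → {s : H | orderOf s = 2 ∧ ¬ TA β s ∧ (fx A s).index ≠ 2}.ncard ≤ 9
  no3 : ¬ 3 ∣ Nat.card H → Nat.card H ≤ 20 ∧ {s : H | orderOf s = 2}.ncard ≤ 5 ∧ ∀ s : H, orderOf s = 2 → Nat.card (fx A s) ≤ 4

theorem St.four (S : St β H 4) : F4 β H := by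
  have d : Nat.card H ∣ 20160 := by simpa [Finset.prod_range_succ] using S.card_dvd
  have dF : Nat.card 𝐅 ∣ Nat.card H := card_subgroup_dvd_card _
  have n2 := S.fit_odd
  have n7 : ¬ 7 ∣ Nat.card 𝐅 := fun h => by
    obtain ⟨t, -, e⟩ := exists_fit (by norm_num) h
    have := S.pv4 (g := t) (by rw [e]; norm_num) (by omega); omega
  have d45 : Nat.card 𝐅 ∣ 45 := Nat.Coprime.dvd_of_dvd_mul_left (m := 2 ^ 6 * 7) (Nat.Coprime.mul_right
    (((Nat.Prime.coprime_iff_not_dvd Nat.prime_two).2 n2).symm.pow_right _)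
    ((Nat.Prime.coprime_iff_not_dvd (by norm_num)).2 n7).symm) (dF.trans d)
  have d15 : 5 ∣ Nat.card 𝐅 → Nat.card 𝐅 ∣ 15 := fun h => by
    obtain ⟨t, ht, e⟩ := exists_fit Nat.prime_five h
    have c1 := card_fx_one ((S.pv4 (g := t) (e ▸ Nat.prime_five) (by omega)).resolve_left (by omega)).2
    have := semireg (H := H) (⊥ : AddSubgroup A) (fun f _ x hx => by rw [AddSubgroup.mem_bot.1 hx, smul_zero]; exact zero_mem _)
      fun g hg hp => (card_fx_one (by
        have := dvd_sub_fx (e ▸ Nat.prime_five) _ (comm_fx (A := A)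
          (cen ht (e ▸ Nat.prime_five) (by rw [e]; exact fun t => absurd (t.trans d) (by norm_num)) hg).symm)
        rw [e, c1, inf_bot_eq, AddSubgroup.card_bot] at this
        have := S.pv4 hp fun e => absurd (e ▸ S.odd hg) (by decide)
        omega)).le
    simpa [S.card] using this
  have o3 : Nat.card (pCore 3 H) ∣ Nat.card 𝐅 := card_dvd_of_le (Core.pCore_le_fitting Nat.prime_three)
  have key := key_p (H := H)
  have sub : ∀ P Q : H → Prop, {t | P t ∧ Q t}.ncard ≤ {t | P t}.ncard := fun P Q => Set.ncard_le_ncard fun _ h => h.1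
  have all : ∀ T : Set H, T.ncard ≤ Nat.card H := fun T => Set.ncard_le_card T
  have a2 : {s : H | A2 β s}.ncard * 2 ≤ {t : H | orderOf t = 3 ∧ (fx A t).index = 16}.ncard * 3 :=
    S.card_A2.trans (Nat.mul_le_mul_right _ (Set.ncard_le_ncard fun _ h => h.2))
  have pos : 0 < Nat.card H := Nat.card_pos
  have fv := fun h s => S.five h (s := s)
  have k25 : ¬ 5 ^ 2 ∣ Nat.card H := fun t => absurd (t.trans d) (by norm_num)
  have sm : ∀ n k, Nat.card 𝐅 = n → Nat.card H ∣ k → (k ≤ 120 ∧ 0 < k ∧ ¬ 9 ∣ k ∧ (3 ∣ k → 3 ∣ n) ∧ (5 ∣ k → 5 ∣ n) ∧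
      (¬ 5 ∣ n → k ≤ 9) ∧ (¬ 3 ∣ n → k ≤ 20 ∧ n ∣ 5)) → F4 β H := fun n k e h1 ⟨h2, h3, h4, h5, h6, h7, h8⟩ => by
    subst e
    have k3 := key 3 Nat.prime_three 2 (fun t => h5 (t.trans h1)) (fun t => h4 (t.trans h1)) le_rfl
    have l := Nat.le_of_dvd h3 h1
    have s1 := (sub (fun t => orderOf t = 3) fun t => (fx A t).index = 16).trans k3
    refine ⟨by omega, by omega, by omega, key 5 Nat.prime_five 4 (fun t => h6 (t.trans h1)) k25 le_rfl, by omega,
      fun t => (all _).trans (l.trans (h7 fun t' => t (t'.trans dF))), fun t => ?_⟩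
    have t' := h8 fun t' => t (t'.trans dF)
    exact ⟨l.trans t'.1, (S.inv_count fun s hs => (fv t'.2 s hs).2).trans (Nat.le_of_dvd (by norm_num) t'.2),
      fun s hs => (fv t'.2 s hs).1⟩
  have cases : Nat.card 𝐅 = 1 ∨ Nat.card 𝐅 = 3 ∨ Nat.card 𝐅 = 5 ∨ Nat.card 𝐅 = 15 ∨ Nat.card 𝐅 = 9 := by
    have := Nat.le_of_dvd (by norm_num) d45
    generalize Nat.card 𝐅 = n at *
    interval_cases n <;> simp_all (config := {decide := true})
  rcases cases with e | e | e | e | e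
  · exact sm 1 _ e (S.card_dvd_sf e squarefree_one) (by decide +kernel)
  · exact sm 3 _ e (S.card_dvd_sf e Nat.prime_three.squarefree) (by decide +kernel)
  · exact sm 5 _ e (S.card_dvd_sf e Nat.prime_five.squarefree) (by decide +kernel)
  · exact sm 15 _ e (S.card_dvd_sf e (by decide +kernel)) (by decide +kernel)
  have d1 : Nat.card H ∣ 144 := by simpa using Nat.dvd_gcd d (S.card_dvd_sq Nat.prime_three e)
  have e3 : Nat.card (pCore 3 H) = 9 := by
    rw [← e]; congr 2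
    exact le_antisymm (Core.pCore_le_fitting Nat.prime_three)
      (Core.le_pCore_of_le_fitting Nat.prime_three (IsPGroup.of_card (n := 2) e) le_rfl)
  have m3 : ∀ t : H, orderOf t = 3 → t ∈ pCore 3 H := fun t =>
    mem_of_sylow Nat.prime_three (by rw [e3]; exact fun t => absurd (t.trans d1) (by norm_num))
  have n1 : {t : H | orderOf t = 3 ∧ (fx A t).index = 16}.ncard ≤ 4 :=
    le_trans (Set.ncard_le_ncard fun t ht => And.intro (m3 t ht.1) ht) (S.n1 e3)
  refine ⟨Nat.le_of_dvd (by norm_num) d1, n1, ?_, key 5 Nat.prime_five 4 (fun t => absurd (t.trans d1) (by norm_num)) k25 le_rfl,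
    by omega, fun _ => e ▸ S.inv_count fun s hs => S.c2 e hs.1 hs.2.1 hs.2.2, fun t => (t ((e ▸ by norm_num : 3 ∣ _).trans dF)).elim⟩
  exact (ncard_le_sub_one (pCore 3 H) fun t ht => ⟨m3 t ht, fun e => by
    have : orderOf t = 3 := ht
    rw [e, orderOf_one] at this; omega⟩).trans (by rw [e3])

theorem St.pv (S : St β H m) {g : H} (hp : (orderOf g).Prime) (h2 : orderOf g ≠ 2) :
    ∃ j, 2 * j < m ∧ Nat.card (fx A g) = 4 ^ j ∧ orderOf g ∣ 2 ^ m - 4 ^ j := by
  obtain ⟨j, h1, e⟩ := S.cval (hp.odd_of_ne_two h2) (fun e => hp.ne_one (orderOf_eq_one_iff.2 e))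
  exact ⟨j, h1, e, S.card ▸ e ▸ dvd_sub_fx' (A := A) hp⟩

theorem prime_dvd_cases {s n : ℕ} (hs : s.Prime) (h : s ∣ n) (hn : n ≠ 0) : s ∈ n.primeFactorsList :=
  (Nat.mem_primeFactorsList hn).2 ⟨hs, h⟩

theorem St.fpf (S : St β H m) {t : H} (ht : t ∈ 𝐅) (hp : (orderOf t).Prime) (h3 : ¬ orderOf t ^ 3 ∣ Nat.card H)
    (c1 : Nat.card (fx A t) = 1) (h : ∀ j, 2 * j < m → orderOf t ∣ 4 ^ j - 1 → j = 0) : Nat.card 𝐅 ∣ 2 ^ m - 1 := by
  have := semireg (H := H) (⊥ : AddSubgroup A) (fun f _ x hx => by rw [AddSubgroup.mem_bot.1 hx, smul_zero]; exact zero_mem _)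
    fun g hg hq => (card_fx_one (by
      have := dvd_sub_fx hp _ (comm_fx (A := A) (cen ht hp h3 hg).symm)
      obtain ⟨j, h1, e, -⟩ := S.pv hq fun e => absurd (e ▸ S.odd hg) (by decide)
      rw [card_fx_one c1, inf_bot_eq, AddSubgroup.card_bot, e] at this
      rw [e, h j h1 this, pow_zero])).le
  simpa [S.card] using this

theorem dvd_of_primes {n a b : ℕ} (h : n ∣ a * b) (h' : ∀ s : ℕ, s.Prime → s ∣ n → ¬ s ∣ a) : n ∣ b :=
  Nat.Coprime.dvd_of_dvd_mul_left (Nat.coprime_of_dvd h') h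

theorem St.six (S : St β H 6) : {s : H | A2 β s}.ncard ≤ 120 ∧ (¬ 3 ∣ Nat.card H → Nat.card H ≤ 42) ∧
    (¬ 5 ∣ Nat.card H → Nat.card H ≤ 4017 → {s : H | A2 β s}.ncard ≤ 39 ∨ Nat.card H ≤ 2592) := by
  have d : Nat.card H ∣ 2 ^ 15 * 3 ^ 4 * 5 * 7 ^ 2 * 31 := by simpa [Finset.prod_range_succ] using S.card_dvd
  haveI : Fact (Nat.Prime 3) := ⟨Nat.prime_three⟩
  obtain ⟨i, hi⟩ := (Core.isPGroup_pCore 3 H).exists_card_eq
  have d3 : 3 ^ i ∣ Nat.card H := hi.symm.dvd.trans (card_subgroup_dvd_card _)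
  have i4 : i ≤ 4 := by_contra fun l => absurd (((pow_dvd_pow 3 (by omega : 5 ≤ i)).trans d3).trans d) (by norm_num)
  have a2 : {s : H | A2 β s}.ncard * 2 ≤ (3 ^ i - 1) * 3 := S.card_A2.trans (Nat.mul_le_mul_right _
    (hi ▸ ncard_le_sub_one _ fun t ht => ⟨ht.1, fun e => by have := ht.2.1; rw [e, orderOf_one] at this; omega⟩))
  refine ⟨by interval_cases i <;> omega, fun n3 => ?_, fun n5 l => ?_⟩
  · have pv : ∀ s : ℕ, s.Prime → s ∣ Nat.card 𝐅 → ∃ t ∈ 𝐅, orderOf t = s ∧ (s = 5 ∨ (s = 7 ∧ Nat.card (fx A t) = 1)) :=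
        fun s hs h => by
      obtain ⟨t, ht, e⟩ := exists_fit hs h
      obtain ⟨j, h1, h2, h3⟩ := S.pv (g := t) (e ▸ hs) fun e => absurd (e ▸ S.odd ht) (by decide)
      have s2 : s ≠ 2 := fun e => S.fit_odd (e ▸ h)
      have s3 : s ≠ 3 := fun e => n3 (e ▸ h.trans (card_subgroup_dvd_card _))
      have : j < 3 := by omega
      rw [e] at h3
      refine ⟨t, ht, e, ?_⟩
      interval_cases j <;> have := prime_dvd_cases hs h3 (by norm_num) <;> simp_all [Nat.primeFactorsList_ofNat]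
    have d1 : Nat.card 𝐅 ∣ 5 * 7 ^ 2 := dvd_of_primes (a := 2 ^ 15 * 3 ^ 4 * 31) ((card_subgroup_dvd_card _).trans (by simpa using d))
      fun s hs h => by obtain ⟨-, -, -, rfl | ⟨rfl, -⟩⟩ := pv s hs h <;> norm_num
    have d2 : Nat.card 𝐅 ∣ 7 ∨ Nat.card 𝐅 ∣ 5 := by
      by_cases h7 : 7 ∣ Nat.card 𝐅
      · obtain ⟨t, ht, e, c⟩ := pv 7 (by norm_num) h7
        have := S.fpf ht (e ▸ by norm_num) (by rw [e]; exact fun t => absurd (t.trans d) (by norm_num)) (by omega) fun j h1 h2 => by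
          have : j < 3 := by omega
          rw [e] at h2
          interval_cases j <;> omega
        exact Or.inl (by simpa using Nat.dvd_gcd d1 this)
      · exact Or.inr (dvd_of_primes (a := 7 ^ 2) (by rwa [mul_comm]) fun s hs h t =>
          h7 (((Nat.prime_dvd_prime_iff_eq hs (by norm_num)).1 (hs.dvd_of_dvd_pow t)) ▸ h))
    have f : ∀ n k, Nat.card 𝐅 = n → (Squarefree n ∧ n * n.totient = k ∧ 0 < k ∧ k ≤ 42) → Nat.card H ≤ 42 :=
      fun n k e h => (Nat.le_of_dvd h.2.2.1 (h.2.1 ▸ S.card_dvd_sf e h.1)).trans h.2.2.2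
    rcases d2 with d2 | d2 <;> rcases (Nat.dvd_prime (by norm_num)).1 d2 with e | e
    exacts [f 1 1 e (by decide +kernel), f 7 42 e (by decide +kernel), f 1 1 e (by decide +kernel), f 5 20 e (by decide +kernel)]
  by_cases h : i = 4
  swap
  · left; have : i ≤ 3 := by omega
    interval_cases i <;> omega
  rcases Set.eq_empty_or_nonempty {s : H | A2 β s} with e | ⟨s, hs⟩
  · simp [e]
  have d2 : 2 ∣ Nat.card H := hs.ord.symm.dvd.trans (_root_.orderOf_dvd_natCard s)
  subst h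
  obtain ⟨k, hk⟩ := d3
  rw [hk] at d l n5 d2 ⊢
  have : k ≤ 49 := by omega
  right
  interval_cases k <;> omega

theorem St.eight (S : St β H 8) (n3 : ¬ 3 ∣ Nat.card H) : Nat.card H ≤ 12000 := by
  have d : Nat.card H ∣ 2 ^ 28 * 3 ^ 5 * 5 ^ 2 * 7 ^ 2 * 17 * 31 * 127 := by simpa [Finset.prod_range_succ] using S.card_dvd
  have pv : ∀ t ∈ 𝐅, (orderOf t).Prime → (orderOf t = 5 ∧ (Nat.card (fx A t) = 1 ∨ Nat.card (fx A t) = 16)) ∨
      (orderOf t = 7 ∧ Nat.card (fx A t) = 4) ∨ (orderOf t = 17 ∧ Nat.card (fx A t) = 1) := fun t ht hs => by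
    have s2 : orderOf t ≠ 2 := fun e => absurd (e ▸ S.odd ht) (by decide)
    obtain ⟨j, h1, h2, h3⟩ := S.pv hs s2
    have s3 : orderOf t ≠ 3 := fun e => n3 (e.symm.dvd.trans (_root_.orderOf_dvd_natCard t))
    have : j < 4 := by omega
    generalize orderOf t = s at *
    interval_cases j <;> have := prime_dvd_cases hs h3 (by norm_num) <;> simp_all [Nat.primeFactorsList_ofNat]
  have d1 : Nat.card 𝐅 ∣ 5 ^ 2 * 7 ^ 2 * 17 := dvd_of_primes (a := 2 ^ 28 * 3 ^ 5 * 31 * 127)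
    ((card_subgroup_dvd_card _).trans (by simpa using d)) fun s hs h => by
      obtain ⟨t, ht, rfl⟩ := exists_fit hs h
      rcases pv t ht hs with e | e | e <;> rw [e.1] <;> norm_num
  have f : ∀ n k, Nat.card 𝐅 = n → (Squarefree n ∧ n * n.totient = k ∧ 0 < k ∧ k ≤ 12000) → Nat.card H ≤ 12000 :=
    fun n k e h => (Nat.le_of_dvd h.2.2.1 (h.2.1 ▸ S.card_dvd_sf e h.1)).trans h.2.2.2
  by_cases h7 : 7 ∣ Nat.card 𝐅
  · obtain ⟨t, ht, e⟩ := exists_fit (by norm_num) h7
    have hp : (orderOf t).Prime := e ▸ by norm_num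
    have c4 : Nat.card (fx A t) = 4 := by have := pv t ht hp; omega
    have cn := fun f => cen ht hp (by rw [e]; exact fun t => absurd (t.trans d) (by norm_num)) (f := f)
    have := semireg (H := H) (fx A t) (fun f hf => comm_fx (cn f hf)) fun g hg hq => by
      have t1 := dvd_sub_fx hq _ (comm_fx (A := A) (cn g hg))
      have t2 := dvd_sub_fx hp _ (comm_fx (A := A) (cn g hg).symm)
      have t3 := AddSubgroup.card_le_of_le (inf_le_left : fx A t ⊓ fx A g ≤ _)
      have t4 := AddSubgroup.card_le_of_le (inf_le_right : fx A t ⊓ fx A g ≤ _)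
      have t5 : 0 < Nat.card ↥(fx A t ⊓ fx A g) := Nat.card_pos
      rw [inf_comm, e] at t2
      refine (AddSubgroup.eq_of_le_of_card_ge (inf_le_right : fx A t ⊓ fx A g ≤ _) ?_).ge.trans inf_le_left
      rcases pv g hg hq with t | t | t <;> rw [t.1] at t1 <;> omega
    rw [S.card, c4] at this
    exact f 7 42 (Nat.dvd_antisymm (by simpa using Nat.dvd_gcd d1 this) h7) (by decide +kernel)
  have d2 : Nat.card 𝐅 ∣ 5 ^ 2 * 17 := dvd_of_primes (a := 7 ^ 2) (by simpa using d1) fun s hs h t =>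
    h7 (((Nat.prime_dvd_prime_iff_eq hs (by norm_num)).1 (hs.dvd_of_dvd_pow t)) ▸ h)
  by_cases h17 : 17 ∣ Nat.card 𝐅
  · obtain ⟨t, ht, e⟩ := exists_fit (by norm_num) h17
    have hp : (orderOf t).Prime := e ▸ by norm_num
    have := S.fpf ht hp (by rw [e]; exact fun t => absurd (t.trans d) (by norm_num)) (by have := pv t ht hp; omega)
      fun j h1 h2 => by
        have : j < 4 := by omega
        rw [e] at h2
        interval_cases j <;> omega
    have d3 : Nat.card 𝐅 ∣ 85 := by simpa using Nat.dvd_gcd d2 this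
    obtain ⟨k, hk⟩ := h17
    rw [hk] at d3
    rcases (Nat.dvd_prime Nat.prime_five).1 (Nat.dvd_of_mul_dvd_mul_left (by norm_num : 0 < 17) d3) with rfl | rfl
    exacts [f _ 272 hk (by decide +kernel), f _ 5440 hk (by decide +kernel)]
  have d3 : Nat.card 𝐅 ∣ 5 ^ 2 := dvd_of_primes (a := 17) (by rwa [mul_comm]) fun s hs h t =>
    h17 (((Nat.prime_dvd_prime_iff_eq hs (by norm_num)).1 t) ▸ h)
  obtain ⟨i, hi, e⟩ := (Nat.dvd_prime_pow Nat.prime_five).1 d3
  interval_cases i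
  exacts [f _ 1 e (by decide +kernel), f _ 20 e (by decide +kernel),
    Nat.le_of_dvd (by norm_num) (S.card_dvd_sq Nat.prime_five e)]

end Cfsg.Lib.Hall.B3
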