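import Cfsg.Agent.Lib.Hall.B3d

/-! # Bases of solvable linear groups: small symplectic modules of order divisible by three -/

set_option autoImplicit false
set_option linter.unusedSectionVars false
set_option linter.style.haveILetI false

namespace Cfsg.Lib.Hall.B3

open Cfsg Cfsg.Lib Subgroup Cfsg.Lib.Block.B2

universe u

section sm
variable {X Y : Type*} [Finite X] [Finite Y]

noncomputable def sm (P : X → Prop) (f : X → ℕ) : ℕ := ∑ x ∈ (Set.toFinite {x | P x}).toFinset, f x

theorem sm_le_sm {P Q : X → Prop} {f g : X → ℕ} (h : ∀ x, P x → Q x ∧ f x ≤ g x) : sm P f ≤ sm Q g :=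
  (Finset.sum_le_sum fun x hx => (h x (by simpa using hx)).2).trans
    (Finset.sum_le_sum_of_subset fun x hx => by simpa using (h x (by simpa using hx)).1)

theorem sm_const (P : X → Prop) (M : ℕ) : sm P (fun _ => M) = {x | P x}.ncard * M := by
  rw [sm, Finset.sum_const, Set.ncard_eq_toFinset_card _ (Set.toFinite _), smul_eq_mul]

theorem sm_le_mul {P : X → Prop} {f : X → ℕ} {M N : ℕ} (h : ∀ x, P x → f x ≤ M) (hN : {x | P x}.ncard ≤ N) : sm P f ≤ N * M :=
  (sm_le_sm fun x hx => ⟨hx, h x hx⟩).trans ((sm_const P M).trans_le (Nat.mul_le_mul_right _ hN))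

theorem sm_le_card {P : X → Prop} {f : X → ℕ} {M : ℕ} (h : ∀ x, P x → f x ≤ M) : sm P f ≤ Nat.card X * M :=
  sm_le_mul h (Set.ncard_le_card _)

theorem sm_split (P Q : X → Prop) (f : X → ℕ) : sm P f = sm (fun x => P x ∧ Q x) f + sm (fun x => P x ∧ ¬ Q x) f := by
  classical
  rw [sm, ← Finset.sum_filter_add_sum_filter_not _ Q]
  congr 1 <;> exact Finset.sum_congr (by ext; simp) fun _ _ => rfl

theorem sm_add (P : X → Prop) (f g : X → ℕ) : sm P (fun x => f x + g x) = sm P f + sm P g := Finset.sum_add_distrib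

theorem sm_mul (P : X → Prop) (f : X → ℕ) (c : ℕ) : sm P (fun x => f x * c) = sm P f * c := (Finset.sum_mul _ _ _).symm

theorem sm_fiber {P : X → Prop} {Q : Y → Prop} {f : X → ℕ} {g : Y → ℕ} (φ : X → Y) (h1 : ∀ x, P x → Q (φ x))
    (h2 : ∀ y, Q y → sm (fun x => P x ∧ φ x = y) f ≤ g y) : sm P f ≤ sm Q g := by
  classical
  rw [sm, ← Finset.sum_fiberwise_of_maps_to (t := (Set.toFinite {y | Q y}).toFinset) (g := φ) fun x hx => by
    simpa using h1 x (by simpa using hx)]
  refine Finset.sum_le_sum fun y hy => le_trans (le_of_eq ?_) (h2 y (by simpa using hy))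
  exact Finset.sum_congr (by ext; simp) fun _ _ => rfl

theorem sm_comm (P : X → Prop) (Q : Y → Prop) (f : X → Y → ℕ) :
    sm P (fun x => sm Q (f x)) = sm Q fun y => sm P fun x => f x y := Finset.sum_comm

theorem le_sm {P : X → Prop} (f : X → ℕ) {x : X} (h : P x) : f x ≤ sm P f :=
  Finset.single_le_sum (f := f) (fun _ _ => Nat.zero_le _) (by simpa using h)

theorem le_sm2 {P : X → Prop} (f : X → ℕ) {x y : X} (h : P x) (h' : P y) (n : x ≠ y) : f x + f y ≤ sm P f := by
  classical
  rw [← Finset.sum_pair n]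
  exact Finset.sum_le_sum_of_subset fun z hz => by
    rcases Finset.mem_insert.1 hz with rfl | hz
    · simpa using h
    · rw [Finset.mem_singleton.1 hz]; simpa using h'

end sm

variable {K : Type*} [Field K] {A : Type u} [AddCommGroup A] [Finite A] {β : Fm K A}
  {H : Type u} [Group H] [Finite H] [DistribMulAction H A]

/-- weights -/
noncomputable def wt {G : Type*} [Group G] (g : G) : ℕ := if orderOf g = 2 then 2 else 1
theorem wt_le {G : Type*} [Group G] (g : G) : wt g ≤ 2 := by unfold wt; split_ifs <;> omega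

variable (β) in
def TB (h : H) : Prop := (orderOf h).Prime ∧ L4 β h ∧ ∃ a, 2 • dl A h a ≠ 0

theorem neg_of_fx {h : H} (h2 : orderOf h = 2) {a : A} (e : h • (a + h • a) = a + h • a → a + h • a = 0) : h • a = -a :=
  eq_neg_of_add_eq_zero_right (e (by rw [smul_add, ← mul_smul, ← sq, ← h2, pow_orderOf_eq_one, one_smul, add_comm]))

theorem Sy.neg_le (S : Sy H β) : {h : H | orderOf h = 2 ∧ Nat.card (fx A h) = 1}.ncard ≤ 1 :=
  (Set.ncard_le_one (Set.toFinite _)).2 fun h hh g hg => inv_mul_eq_one.1 (S.faith _ fun a => by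
    have t : ∀ h : H, orderOf h = 2 ∧ Nat.card (fx A h) = 1 → h • a = -a := fun h hh =>
      neg_of_fx hh.1 fun e => AddSubgroup.mem_bot.1 (card_fx_one hh.2 ▸ e)
    rw [mul_smul, inv_smul_eq_iff, t h hh, t g hg])

theorem TB.ord (S : Sy H β) {h : H} (t : TB β h) {m : ℕ} (e : ∀ a : A, m • a = 0) : orderOf h = 2 ∨ orderOf h ∣ m := by
  by_contra! n
  obtain ⟨a, ha⟩ := t.2.2
  exact ha (by rw [dl_apply, S.l4_fix t.2.1 (pow_orderOf_eq_one h) (t.1.odd_of_ne_two n.1)
    ((Nat.Prime.coprime_iff_not_dvd t.1).2 n.2) (e _), sub_self, smul_zero])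

theorem TB.ne {h : H} (t : TB β h) : h ≠ 1 := fun e => t.1.ne_one (by rw [e, orderOf_one])

theorem index_le_sq {h : H} (e : ∀ a : A, 3 • a = 0) (h3 : orderOf h = 3) : (fx A h).index ≤ Nat.card (fx A h) ^ 2 := by
  let φ := (dl A h).comp (dl A h).range.subtype
  rw [← card_dl, ← φ.ker.index_mul_card, AddSubgroup.index_ker, sq]
  refine Nat.mul_le_mul (AddSubgroup.card_le_of_le ?_) (Nat.card_le_card_of_injective
    (fun x : φ.ker => (⟨x.1.1, sub_eq_zero.1 x.2⟩ : fx A h)) fun a b t => Subtype.ext (Subtype.ext (Subtype.mk.inj t)))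
  rintro _ ⟨⟨_, a, rfl⟩, rfl⟩
  have t : h • h • h • a = a := by rw [← mul_smul, ← mul_smul, ← pow_three', ← h3, pow_orderOf_eq_one, one_smul]
  show h • dl A h (dl A h a) = dl A h (dl A h a)
  simp only [dl_apply, smul_sub, t]
  linear_combination (norm := abel) e (h • a) - e (h • h • a)

theorem Sy.three (S : Sy H β) (e : ∀ a : A, 3 • a = 0) {k : ℕ} (hk : k = 1 ∨ k = 2) (hA : Nat.card A = 9 ^ k) :
    sm (TB β) (fun h : H => wt h * (fx A h).index) ≤ 2 * 9 ^ k + Nat.card H * (if k = 1 then 3 else 18) := by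
  rw [sm_split _ fun h => orderOf h = 2 ∧ Nat.card (fx A h) = 1]
  refine Nat.add_le_add ((sm_le_mul (N := 1) (fun h _ => Nat.mul_le_mul (wt_le h) ((Nat.le_of_dvd Nat.card_pos (fx A h).index_dvd_card).trans hA.le))
    ((Set.ncard_le_ncard fun _ t => t.2).trans S.neg_le)).trans (one_mul _).le) (sm_le_card fun h t => ?_)
  have i := (fx A h).index_mul_card
  have lt := S.fx_lt t.1.ne
  have d : Nat.card (fx A h) ∣ 3 ^ (2 * k) := by rw [pow_mul, show 3 ^ 2 = 9 from rfl, ← hA]; exact Dvd.intro_left _ i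
  obtain ⟨j, -, hj⟩ := (Nat.dvd_prime_pow Nat.prime_three).1 d
  rcases t.1.ord S e with o | o
  · obtain ⟨r, hr⟩ := S.isSquare_fx (pow_orderOf_eq_one h) (by rw [o, hA]; exact Nat.Coprime.pow_right _ (by norm_num))
    have n1 : Nat.card (fx A h) ≠ 1 := fun e => t.2 ⟨o, e⟩
    obtain ⟨l, -, rfl⟩ := (Nat.dvd_prime_pow Nat.prime_three).1 ((Dvd.intro _ hr.symm).trans d)
    rw [hr, hA] at i lt
    rw [hr] at n1
    have := wt_le h
    have : l < 2 := by
      by_contra! l2
      have := Nat.pow_le_pow_right (by norm_num : 0 < 3) l2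
      rcases hk with rfl | rfl <;> nlinarith
    rcases hk with rfl | rfl <;> interval_cases l <;> simp_all <;> nlinarith
  · have o3 := (Nat.prime_dvd_prime_iff_eq t.1.1 Nat.prime_three).1 o
    have := index_le_sq e o3
    rw [hj, hA] at i lt
    rw [hj] at this
    have : j < 4 := by
      by_contra! l2
      have := Nat.pow_le_pow_right (by norm_num : 0 < 3) l2
      rcases hk with rfl | rfl <;> omega
    rcases hk with rfl | rfl <;> interval_cases j <;> simp_all [wt] <;> omega

/-- torsion -/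
def tor (A : Type u) [AddCommGroup A] (r : ℕ) : AddSubgroup A where
  carrier := {a | r • a = 0}
  zero_mem' := smul_zero r
  add_mem' := fun {a b} ha hb => by show _ = _; rw [smul_add, ha, hb, add_zero]
  neg_mem' := fun {a} ha => by show _ = _; rw [smul_neg, ha, neg_zero]

theorem not_dvd_tor {r s : ℕ} (hs : s.Prime) (h : s.Coprime r) : ¬ s ∣ Nat.card (tor A r) := fun d => by
  haveI := Fact.mk hs
  obtain ⟨x, hx⟩ := exists_prime_addOrderOf_dvd_card' s d
  have : s ∣ r := hx ▸ addOrderOf_dvd_of_nsmul_eq_zero (Subtype.ext x.2)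
  exact hs.ne_one (h.eq_one_of_dvd this)

theorem Sy.six (S : Sy H β) (e : ∀ a : A, 6 • a = 0) (hA : Nat.card A = 36) :
    sm (TB β) (fun h : H => wt h * (fx A h).index) ≤ 27 * 72 + Nat.card H * 3 := by
  have m2 : ∀ a : A, 3 • a ∈ tor A 2 := fun a => by show _ = _; rw [← mul_smul]; exact e a
  have m3 : ∀ a : A, 2 • a ∈ tor A 3 := fun a => by show _ = _; rw [← mul_smul]; exact e a
  have c2 : Nat.card (tor A 2) ∣ 4 := dvd_of_primes (a := 3 ^ 2) (hA ▸ AddSubgroup.card_addSubgroup_dvd_card (tor A 2) :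
    _ ∣ 36) fun s hs h t => not_dvd_tor hs (by
      rw [(Nat.prime_dvd_prime_iff_eq hs Nat.prime_three).1 (hs.dvd_of_dvd_pow t)]; norm_num) h
  have c3 : Nat.card (tor A 3) ∣ 9 := dvd_of_primes (a := 2 ^ 2) (hA ▸ AddSubgroup.card_addSubgroup_dvd_card (tor A 3) :
    _ ∣ 36) fun s hs h t => not_dvd_tor hs (by
      rw [(Nat.prime_dvd_prime_iff_eq hs Nat.prime_two).1 (hs.dvd_of_dvd_pow t)]; norm_num) h
  have c4 : Nat.card (tor A 2) = 4 := by
    have := Nat.card_le_card_of_injective (fun a : A => ((⟨_, m2 a⟩, ⟨_, m3 a⟩) : tor A 2 × tor A 3)) fun a b t => by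
      simp only [Prod.mk.injEq, Subtype.mk.injEq] at t
      linear_combination (norm := abel) t.1 - t.2
    rw [Nat.card_prod, hA] at this
    have := Nat.le_of_dvd (by norm_num) c2
    have := Nat.le_of_dvd (by norm_num) c3
    nlinarith
  rw [sm_split _ fun h => orderOf h = 2]
  refine Nat.add_le_add (sm_le_mul (fun h _ => Nat.mul_le_mul (wt_le h) ((Nat.le_of_dvd Nat.card_pos (fx A h).index_dvd_card).trans hA.le)) ?_)
    (sm_le_card fun h t => ?_)
  · have ng : ∀ h : H, TB β h ∧ orderOf h = 2 → ∀ a ∈ tor A 3, h • a = -a := fun h t a ha => neg_of_fx t.2 fun hx => by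
      have mx : a + h • a ∈ tor A 3 := add_mem ha (by show _ = _; rw [smul_comm, show 3 • a = 0 from ha, smul_zero])
      generalize a + h • a = x at *
      by_contra x0
      obtain ⟨y, hy⟩ : ∃ y, β x y ≠ 0 := by by_contra! t; exact x0 (S.nd x t)
      have b3 : 3 • β x y = 0 := by rw [← AddMonoidHom.nsmul_apply, ← map_nsmul, show 3 • x = 0 from mx]; simp
      have my : 2 • (y + h • y) ∈ tor A 3 ⊓ fx A h := ⟨m3 _, AddSubgroup.nsmul_mem _ (by
        rw [mem_fx, smul_add, ← mul_smul, ← sq, ← t.2, pow_orderOf_eq_one, one_smul, add_comm]) _⟩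
      have ny : 2 • (y + h • y) ∉ AddSubgroup.zmultiples x := by
        rintro ⟨i, hi⟩
        have := congrArg (β x) hi
        rw [map_zsmul, S.alt, smul_zero, map_nsmul, map_add, show β x (h • y) = β x y by rw [← S.inv h x y, hx]] at this
        exact hy (by linear_combination (norm := abel) - this - b3)
      have le : AddSubgroup.zmultiples x ≤ tor A 3 ⊓ fx A h := AddSubgroup.zmultiples_le_of_mem ⟨mx, hx⟩
      have d1 := AddSubgroup.card_dvd_of_le le
      rw [Nat.card_zmultiples, addOrderOf_eq_prime (hp := ⟨Nat.prime_three⟩) mx x0] at d1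
      have d2 := (AddSubgroup.card_dvd_of_le (inf_le_left : tor A 3 ⊓ fx A h ≤ _)).trans c3
      have d3 : Nat.card ↥(tor A 3 ⊓ fx A h) ≠ 3 := fun e => ny (AddSubgroup.eq_of_le_of_card_ge le (by
        rw [e, Nat.card_zmultiples, addOrderOf_eq_prime (hp := ⟨Nat.prime_three⟩) mx x0]) ▸ my)
      have d4 := Nat.le_of_dvd (by norm_num) d2
      have : tor A 3 ≤ fx A h := (AddSubgroup.eq_of_le_of_card_ge inf_le_left ((Nat.le_of_dvd (by norm_num) c3).trans (by
        generalize Nat.card ↥(tor A 3 ⊓ fx A h) = n at *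
        interval_cases n <;> omega))).ge.trans inf_le_right
      obtain ⟨a, ha⟩ := t.1.2.2
      exact ha (by rw [← map_nsmul, dl_apply, show h • 2 • a = 2 • a from this (m3 a), sub_self])
    set T := {x : A // x ∈ tor A 2 ∧ x ≠ 0}
    have cT : Nat.card T = 3 := by
      have := Set.ncard_sdiff_singleton_of_mem (s := (tor A 2 : Set A)) (zero_mem _)
      rw [← Nat.card_coe_set_eq, ← Nat.card_coe_set_eq] at this
      exact this.trans (by rw [show Nat.card (tor A 2 : Set A) = 4 from c4])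
    refine le_trans (Set.ncard_le_ncard_of_injOn (t := Set.univ) (fun (h : H) (x : T) => (⟨h • x.1, by
      show _ = _; rw [smul_comm, show 2 • x.1 = 0 from x.2.1, smul_zero], fun t => x.2.2 ((smul_eq_zero_iff_eq h).1 t)⟩ : T))
      (fun _ _ => trivial) fun h hh g hg t => inv_mul_eq_one.1 (S.faith _ fun a => ?_)) (by rw [Set.ncard_univ, Nat.card_fun, cT]; norm_num)
    have t1 : h • 3 • a = g • 3 • a := by
      by_cases z : 3 • a = 0
      · simp [z]
      · exact Subtype.mk.inj (congrFun t ⟨_, m2 a, z⟩)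
    rw [mul_smul, inv_smul_eq_iff, show a = 3 • a - 2 • a by abel, smul_sub, smul_sub, t1, ng h hh _ (m3 a), ng g hg _ (m3 a)]
  · have o := (t.1.ord S e).resolve_left t.2
    have o3 : orderOf h = 3 := ((Nat.Prime.dvd_mul t.1.1 (m := 2) (n := 3)).1 o).elim
      (fun d => (t.2 ((Nat.prime_dvd_prime_iff_eq t.1.1 Nat.prime_two).1 d)).elim)
      (Nat.prime_dvd_prime_iff_eq t.1.1 Nat.prime_three).1
    have d1 := AddSubgroup.card_dvd_of_le (show tor A 2 ≤ fx A h from fun a ha => S.l4_fix t.1.2.1 (pow_orderOf_eq_one h)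
      (by rw [o3]; decide) (m := 2) (by rw [o3]; norm_num) (by rw [← map_nsmul, show 2 • a = 0 from ha, map_zero]))
    have d2 := dvd_sub_fx' (A := A) t.1.1
    have i := (fx A h).index_mul_card
    have lt := S.fx_lt t.1.ne
    have : 0 < Nat.card (fx A h) := Nat.card_pos
    rw [hA] at i lt
    rw [c4] at d1
    rw [o3, hA] at d2
    simp only [wt, t.2, if_false, one_mul]
    have : 12 ≤ Nat.card (fx A h) := by omega
    nlinarith

end Cfsg.Lib.Hall.B3
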