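import Cfsg.Agent.Lib.Hall.B3e

/-! # Bases of solvable linear groups: the primitive setting -/

set_option autoImplicit false
set_option linter.unusedSectionVars false
set_option linter.style.haveILetI false

namespace Cfsg.Lib.Hall.B3

open Cfsg Cfsg.Lib Subgroup Cfsg.Lib.Block.B2
open scoped commutatorElement

universe u
variable {G V : Type u} [Group G] [Finite G] [AddCommGroup V] [Finite V] [DistribMulAction G V]

local notation "𝐂" S => centralizer (SetLike.coe S)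

variable (V) in
structure PS {K : Type u} [Field K] [Module K V] (Z : Subgroup G) (ι : Z →* K) (E : Subgroup G) {A : Type u} [AddCommGroup A]
    [DistribMulAction G A] (π : G → A) (β : Fm K A) : Prop where
  solv : Group.IsSolvable G
  L : Lx V Z ι
  comm : Z ≤ 𝐂 Z
  le : Z ≤ E
  le' : E ≤ 𝐂 Z
  alt : Alt β
  mul : ∀ x ∈ E, ∀ y ∈ E, π (x * y) = π x + π y
  surj : ∀ a, ∃ x ∈ E, π x = a
  zero : ∀ x ∈ E, π x = 0 ↔ x ∈ Z
  conj : ∀ g, ∀ x ∈ E, π (g * x * g⁻¹) = g • π x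
  form : ∀ x ∈ E, ∀ y ∈ E, ∃ h : ⁅x, y⁆ ∈ Z, ι ⟨_, h⟩ = (β (π x) (π y)).toMul
  faith : ∀ g ∈ 𝐂 Z, (∀ a : A, g • a = a) → g ∈ E
  nd : ∀ U, Inv G A U → U ⊓ perp β U = ⊥
  fld : ∃ q0, 2 ≤ q0 ∧ q0 ^ (𝐂 Z).index = Nat.card K

theorem exists_E [Group.IsSolvable G] {K : Type*} [Field K] {Z : Subgroup G} [hZn : Z.Normal] {ι : Z →* K}
    (inj : Function.Injective ι) (comm : Z ≤ 𝐂 Z)
    (nondeg : ∀ U : Subgroup G, U.Normal → Z ≤ U → U ≤ (𝐂 Z) → U ⊓ (𝐂 U) ≤ Z) : ∃ E : Subgroup G, E.Normal ∧ Ex Z E := by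
  obtain ⟨E, -, ⟨hE, e1, e2, e3⟩, hmax⟩ := Finite.exists_le_maximal
    (p := fun E : Subgroup G => E.Normal ∧ Z ≤ E ∧ E ≤ (𝐂 Z) ∧ E ≤ cz Z E) (a := Z) ⟨hZn, le_rfl, comm, le_cz _⟩
  refine ⟨E, hE, e1, e2, e3, ?_⟩
  have t := le_sup_cent inj (U := E) (C := (𝐂 Z) ⊓ cz Z E) (le_inf e2 e3) inf_le_left inf_le_right (nondeg E hE e1 e2)
  refine t.trans (sup_le le_rfl ?_)
  set D := ((𝐂 Z) ⊓ cz Z E) ⊓ 𝐂 E
  refine Core.solvable_normal_induction (S := D) (fun M => M ≤ E) bot_le fun M hM hMD hM' => ?_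
  have t1 : M ≤ 𝐂 E := hMD.trans inf_le_right
  have t2 : M ≤ cz Z M := fun a ha => mem_cz.2 fun b hb =>
    nondeg E hE e1 e2 ⟨hM' (commutator_mem_commutator ha hb), t1 (commutator_le_left M M (commutator_mem_commutator ha hb))⟩
  have t3 : M ≤ cz Z E := t1.trans (cent_le_cz _)
  exact le_sup_right.trans (hmax (y := E ⊔ M) ⟨inferInstance, e1.trans le_sup_left,
    sup_le e2 (hMD.trans (inf_le_left.trans inf_le_left)),
    sup_le (cz_symm (sup_le e3 t3)) (cz_symm (sup_le (cz_symm t3) t2))⟩ le_sup_left)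

theorem fld_KK {Z : Subgroup G} [Z.Normal] (hf : ∀ g : G, (∀ v : V, g • v = v) → g = 1) (hK : IsField (KK V Z)) :
    ∃ q0, 2 ≤ q0 ∧ q0 ^ (𝐂 Z).index = Nat.card (KK V Z) := by
  letI := hK.toField
  haveI : Finite (AddMonoid.End V) := DFunLike.finite (V →+ V)
  letI : MulSemiringAction G (KK V Z) :=
    { smul g r := ⟨cj V g r.1, cj_mem g r.2⟩
      one_smul r := Subtype.ext (cj_one r.1)
      mul_smul a b r := Subtype.ext (cj_cj a b r.1).symm
      smul_zero g := Subtype.ext (map_zero (cj V g))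
      smul_add g a b := Subtype.ext (map_add (cj V g) a.1 b.1)
      smul_one g := Subtype.ext (map_one (cj V g))
      smul_mul g a b := Subtype.ext (map_mul (cj V g) a.1 b.1) }
  set φ := MulSemiringAction.toRingAut G (KK V Z)
  haveI : Finite φ.range := Finite.of_surjective _ φ.rangeRestrict_surjective
  haveI := Fintype.ofFinite φ.range
  have e : φ.ker = 𝐂 Z := by
    ext g
    refine ⟨fun h z hz => ?_, fun h => RingEquiv.ext fun r => Subtype.ext ?_⟩
    · have := congrArg Subtype.val (DFunLike.congr_fun (MonoidHom.mem_ker.1 h)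
        ⟨DistribMulAction.toAddMonoidEnd G V z, Subring.subset_closure ⟨⟨z, hz⟩, rfl⟩⟩)
      refine (mul_inv_eq_iff_eq_mul.1 (inv_mul_eq_one.1 (hf _ fun v => ?_)).symm).symm
      rw [mul_smul, inv_smul_eq_iff, mul_smul, mul_smul]
      exact DFunLike.congr_fun this v
    · show cj V g r.1 = r.1
      refine AddMonoidHom.ext fun v => ?_
      have := DFunLike.congr_fun (KK_cent h r.2) (g⁻¹ • v)
      exact this.trans (congrArg r.1 (smul_inv_smul g v))
  refine ⟨Nat.card (FixedPoints.subfield φ.range (KK V Z)), Finite.one_lt_card, ?_⟩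
  rw [← e, index_ker, Nat.card_eq_fintype_card (α := φ.range), ← FixedPoints.finrank_eq_card φ.range (KK V Z)]
  exact Module.natCard_eq_pow_finrank.symm

theorem exists_PS [Nontrivial V] [Group.IsSolvable G] (hi : Irr G V) (hf : ∀ g : G, (∀ v : V, g • v = v) → g = 1) :
    (∃ (H : Subgroup G) (e : V →+ V), Imp V H e) ∨ ∃ (K : Type u) (_ : Field K) (_ : Finite K) (_ : Module K V)
      (Z : Subgroup G) (_ : Z.Normal) (ι : Z →* K) (E : Subgroup G) (_ : E.Normal) (A : Type u) (_ : AddCommGroup A)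
      (_ : Finite A) (_ : DistribMulAction G A) (π : G → A) (β : Fm K A), PS V Z ι E π β := by
  classical
  obtain ⟨Z, -, ⟨hZ, hZ'⟩, hmax⟩ := Finite.exists_le_maximal
    (p := fun Z : Subgroup G => Z.Normal ∧ Z ≤ 𝐂 Z) (a := ⊥) ⟨inferInstance, bot_le⟩
  refine (imp_or_field hi hZ').imp_right fun hK => ?_
  letI := hK.toField
  haveI : Finite (AddMonoid.End V) := DFunLike.finite (V →+ V)
  let ι : Z →* KK V Z := ((DistribMulAction.toAddMonoidEnd G V).comp Z.subtype).codRestrict (KK V Z)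
    fun z => Subring.subset_closure ⟨z, rfl⟩
  have hL : Lx V Z ι := ⟨hf, fun _ _ => rfl, fun a ha k v => DFunLike.congr_fun (KK_cent ha k.2) v⟩
  have nondeg : ∀ U : Subgroup G, U.Normal → Z ≤ U → U ≤ (𝐂 Z) → U ⊓ (𝐂 U) ≤ Z := fun U hU h1 h2 =>
    le_inf h1 (le_centralizer_iff.1 h2) |> hmax ⟨inferInstance, inf_le_right.trans (centralizer_le inf_le_left)⟩
  obtain ⟨E, hEn, hE⟩ := exists_E hL.inj hZ' nondeg
  haveI hX := Normal.map hEn _ (QuotientGroup.mk'_surjective Z)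
  let A := AX (E.map (QuotientGroup.mk' Z)) hE.comm
  letI : DistribMulAction G A := DistribMulAction.compHom A (QuotientGroup.mk' Z)
  let π : G → A := fun x => if h : x ∈ E then AX.mk hE.comm _ ⟨x, h, rfl⟩ else 0
  have vπ : ∀ x ∈ E, (π x).val = QuotientGroup.mk' Z x := fun x hx => by simp only [π, dif_pos hx]; rfl
  have mul : ∀ x ∈ E, ∀ y ∈ E, π (x * y) = π x + π y := fun x hx y hy => AX.ext (by
    rw [AX.val_add, vπ _ (mul_mem hx hy), vπ _ hx, vπ _ hy, map_mul])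
  have surj : ∀ a, ∃ x ∈ E, π x = a := fun a => by
    obtain ⟨x, hx, e⟩ := a.val_mem
    exact ⟨x, hx, AX.ext ((vπ x hx).trans e)⟩
  have zero : ∀ x ∈ E, π x = 0 ↔ x ∈ Z := fun x hx =>
    ⟨fun h => (QuotientGroup.eq_one_iff x).1 ((vπ x hx).symm.trans (congrArg AX.val h)),
      fun h => AX.ext ((vπ x hx).trans ((QuotientGroup.eq_one_iff x).2 h))⟩
  have conj : ∀ g, ∀ x ∈ E, π (g * x * g⁻¹) = g • π x := fun g x hx => AX.ext (by
    rw [vπ _ (hEn.conj_mem x hx g), map_mul, map_mul, map_inv, ← vπ x hx]; rfl)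
  choose σ σ1 σ2 using surj
  have cm : ∀ x ∈ E, ∀ y ∈ E, ⁅x, y⁆ ∈ Z := fun x hx y hy => mem_cz.1 (hE.ab hx) y hy
  have ind : ∀ x ∈ E, ∀ y ∈ E, ⁅σ (π x), y⁆ = ⁅x, y⁆ := fun x hx y hy => by
    have t : x⁻¹ * σ (π x) ∈ Z := QuotientGroup.eq.1 (((vπ x hx).symm.trans (congrArg AX.val (σ2 _)).symm).trans (vπ _ (σ1 _)))
    rw [show σ (π x) = x * (x⁻¹ * σ (π x)) by group, comm_mul_left (hE.le' hx) (cm _ (hE.le t) y hy),
      commutatorElement_eq_one_iff_mul_comm.2 (hE.le' hy _ t), one_mul]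
  have ind' : ∀ x ∈ E, ∀ y ∈ E, ⁅x, σ (π y)⁆ = ⁅x, y⁆ := fun x hx y hy => by
    rw [← commutatorElement_inv, ind y hy x hx, commutatorElement_inv]
  let β : Fm (KK V Z) A := AddMonoidHom.mk' (fun a => AddMonoidHom.mk'
    (fun b => Additive.ofMul (ι.toHomUnits ⟨⁅σ a, σ b⁆, cm _ (σ1 a) _ (σ1 b)⟩)) fun b c => by
      rw [← ofMul_mul, ← map_mul]; congr 2; refine Subtype.ext ?_
      show ⁅σ a, σ (b + c)⁆ = ⁅σ a, σ b⁆ * ⁅σ a, σ c⁆
      rw [← comm_mul_right (hE.le' (σ1 b)) (cm _ (σ1 a) _ (σ1 c)), ← ind' _ (σ1 a) _ (mul_mem (σ1 b) (σ1 c)),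
        mul _ (σ1 b) _ (σ1 c), σ2, σ2]) fun a b => AddMonoidHom.ext fun c => by
      show Additive.ofMul (ι.toHomUnits ⟨⁅σ (a + b), σ c⁆, cm _ (σ1 _) _ (σ1 c)⟩) =
        Additive.ofMul (ι.toHomUnits ⟨⁅σ a, σ c⁆, cm _ (σ1 _) _ (σ1 c)⟩) +
        Additive.ofMul (ι.toHomUnits ⟨⁅σ b, σ c⁆, cm _ (σ1 _) _ (σ1 c)⟩)
      rw [add_comm (Additive.ofMul _), ← ofMul_mul, ← map_mul]; congr 2; refine Subtype.ext ?_
      show ⁅σ (a + b), σ c⁆ = ⁅σ b, σ c⁆ * ⁅σ a, σ c⁆
      rw [← comm_mul_left (hE.le' (σ1 a)) (cm _ (σ1 b) _ (σ1 c)), ← ind _ (mul_mem (σ1 a) (σ1 b)) _ (σ1 c),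
        mul _ (σ1 a) _ (σ1 b), σ2, σ2]
  have bz : ∀ a b, β a b = 0 ↔ σ a * σ b = σ b * σ a := fun a b => by
    rw [← commutatorElement_eq_one_iff_mul_comm]
    exact ⟨fun h => congrArg Subtype.val ((injective_iff_map_eq_one ι).1 hL.inj ⟨_, cm _ (σ1 a) _ (σ1 b)⟩
      (congrArg (fun t => (Additive.toMul t).val) h)), fun h => by
        show Additive.ofMul (ι.toHomUnits _) = 0
        rw [show (⟨⁅σ a, σ b⁆, cm _ (σ1 a) _ (σ1 b)⟩ : Z) = 1 from Subtype.ext h, map_one]; rfl⟩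
  have nd : ∀ U, Inv G A U → U ⊓ perp β U = ⊥ := fun U hU => eq_bot_iff.2 fun a ha => by
    let U' : Subgroup G :=
      { carrier := {x | x ∈ E ∧ π x ∈ U}
        one_mem' := ⟨E.one_mem, by rw [(zero _ E.one_mem).2 Z.one_mem]; exact U.zero_mem⟩
        mul_mem' := fun hx hy => ⟨mul_mem hx.1 hy.1, by rw [mul _ hx.1 _ hy.1]; exact U.add_mem hx.2 hy.2⟩
        inv_mem' := fun {x} hx => ⟨inv_mem hx.1, by
          have := mul _ (inv_mem hx.1) _ hx.1
          rw [inv_mul_cancel, (zero _ E.one_mem).2 Z.one_mem] at this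
          rw [eq_neg_of_add_eq_zero_left this.symm]; exact U.neg_mem hx.2⟩ }
    have := nondeg U' ⟨fun x hx g => ⟨hEn.conj_mem x hx.1 g, by rw [conj g x hx.1]; exact hU g _ hx.2⟩⟩
      (fun z hz => ⟨hE.le hz, by rw [(zero _ (hE.le hz)).2 hz]; exact U.zero_mem⟩) (fun x hx => hE.le' hx.1)
      (x := σ a) ⟨⟨σ1 a, by rw [σ2]; exact ha.1⟩, fun y hy => by
        have := commutatorElement_eq_one_iff_mul_comm.2 ((bz _ _).1 (ha.2 _ hy.2))
        rw [ind' _ (σ1 a) _ hy.1] at this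
        exact (commutatorElement_eq_one_iff_mul_comm.1 this).symm⟩
    rw [AddSubgroup.mem_bot, ← σ2 a]; exact (zero _ (σ1 a)).2 this
  refine ⟨KK V Z, inferInstance, inferInstance, inferInstance, Z, hZ, ι, E, hEn, A, inferInstance, inferInstance, inferInstance,
    π, β, ‹_›, hL, hZ', hE.le, hE.le', ⟨fun a => (bz a a).2 rfl, fun a ha => AddSubgroup.mem_bot.1
      (nd ⊤ (fun _ _ _ => trivial) ▸ ⟨trivial, fun u _ => ha u⟩)⟩, mul, fun a => ⟨σ a, σ1 a, σ2 a⟩, zero, conj,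
    fun x hx y hy => ⟨cm x hx y hy, ?_⟩, fun g hg h => hE.self ⟨hg, mem_cz.2 fun x hx => comm_mem_iff.2 ?_⟩, nd, fld_KK hf hK⟩
  · exact congrArg ι (Subtype.ext ((ind x hx y hy).symm.trans (ind' _ (σ1 _) y hy).symm))
  · have := congrArg AX.val (h (π x))
    rw [← vπ x hx]
    exact mul_inv_eq_iff_eq_mul.1 this

variable {K : Type u} [Field K] [Finite K] [Module K V] {Z : Subgroup G} [hZn : Z.Normal] {ι : Z →* K} {E : Subgroup G}
  [hEn : E.Normal] {A : Type u} [AddCommGroup A] [Finite A] [DistribMulAction G A] {π : G → A} {β : Fm K A}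

variable (Z A) in
abbrev HH : Subgroup (rp G A).range := (𝐂 Z).map (rp G A).rangeRestrict
variable (Z A) in
abbrev ph : (𝐂 Z) →* HH Z A := (rp G A).rangeRestrict.subgroupMap (𝐂 Z)
theorem ph_smul (g : 𝐂 Z) (a : A) : ph Z A g • a = g.1 • a := rfl
theorem ph_surj : Function.Surjective (ph Z A) := MonoidHom.subgroupMap_surjective _ _

namespace PS

theorem one (P : PS V Z ι E π β) : π 1 = 0 := (P.zero 1 E.one_mem).2 Z.one_mem
theorem inv (P : PS V Z ι E π β) {x : G} (hx : x ∈ E) : π x⁻¹ = -π x := by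
  have := P.mul _ (inv_mem hx) _ hx
  rw [inv_mul_cancel, P.one] at this
  exact eq_neg_of_add_eq_zero_left this.symm
theorem triv (P : PS V Z ι E π β) {x : G} (hx : x ∈ E) (a : A) : x • a = a := by
  obtain ⟨y, hy, rfl⟩ := P.surj a
  rw [← P.conj x y hy, P.mul _ (mul_mem hx hy) _ (inv_mem hx), P.mul _ hx _ hy, P.inv hx]; abel
theorem pow (P : PS V Z ι E π β) {x : G} (hx : x ∈ E) (n : ℕ) : π (x ^ n) = n • π x := by
  induction n with
  | zero => simp [P.one]
  | succ n ih => rw [pow_succ, P.mul _ (pow_mem hx n) _ hx, ih, succ_nsmul]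

theorem bz (P : PS V Z ι E π β) {x y : G} (hx : x ∈ E) (hy : y ∈ E) : β (π x) (π y) = 0 ↔ x * y = y * x := by
  obtain ⟨h, e⟩ := P.form x hx y hy
  rw [← commutatorElement_eq_one_iff_mul_comm]
  refine ⟨fun t => congrArg Subtype.val ((injective_iff_map_eq_one ι).1 P.L.inj ⟨_, h⟩ (by rw [e, t]; rfl)), fun t => ?_⟩
  rw [show (⟨_, h⟩ : Z) = 1 from Subtype.ext t, map_one] at e
  exact Additive.toMul.injective (Units.ext e.symm)

theorem sy (P : PS V Z ι E π β) : Sy (HH Z A) β :=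
  ⟨P.alt, fun h a b => by
    obtain ⟨g, rfl⟩ := ph_surj h
    obtain ⟨x, hx, rfl⟩ := P.surj a
    obtain ⟨y, hy, rfl⟩ := P.surj b
    rw [ph_smul, ph_smul, ← P.conj _ _ hx, ← P.conj _ _ hy]
    obtain ⟨h1, e1⟩ := P.form _ hx _ hy
    obtain ⟨h2, e2⟩ := P.form _ (hEn.conj_mem _ hx g) _ (hEn.conj_mem _ hy g)
    refine Additive.toMul.injective (Units.ext (e2.symm.trans (Eq.trans (congrArg ι (Subtype.ext ?_)) e1)))
    show ⁅g.1 * x * g.1⁻¹, g.1 * y * g.1⁻¹⁆ = ⁅x, y⁆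
    rw [← conjugate_commutatorElement, ← g.2 _ h1, mul_inv_cancel_right], fun h e => Subtype.ext (im_faith _ e)⟩

theorem ph_eq (P : PS V Z ι E π β) {g : 𝐂 Z} : ph Z A g = 1 ↔ g.1 ∈ E :=
  ⟨fun h => P.faith g g.2 fun a => by rw [← ph_smul, h, one_smul], fun h => P.sy.faith _ fun a => P.triv h a⟩

theorem card_A (P : PS V Z ι E π β) : Nat.card A = Z.relIndex E := by
  let φ : E →* Multiplicative A := MonoidHom.mk' (fun x => Multiplicative.ofAdd (π x)) fun x y => P.mul _ x.2 _ y.2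
  have : φ.ker = Z.subgroupOf E := by ext x; exact P.zero x x.2
  rw [relIndex, ← this, index_ker, MonoidHom.range_eq_top.2 fun a => by
    obtain ⟨x, hx, e⟩ := P.surj a.toAdd; exact ⟨⟨x, hx⟩, e⟩, card_top]; rfl

theorem card_C (P : PS V Z ι E π β) : Nat.card (𝐂 Z) = Nat.card Z * Nat.card A * Nat.card (HH Z A) := by
  have : Nat.card (HH Z A) = E.relIndex (𝐂 Z) := by
    rw [relIndex, show E.subgroupOf (𝐂 Z) = (ph Z A).ker by ext g; exact P.ph_eq.symm, index_ker,
      MonoidHom.range_eq_top.2 ph_surj, card_top]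
  rw [this, P.card_A, mul_assoc, relIndex_mul_relIndex _ _ _ P.le P.le', ← relIndex_bot_left, ← relIndex_bot_left,
    relIndex_mul_relIndex _ _ _ bot_le P.comm]

theorem card_Z (P : PS V Z ι E π β) : Nat.card Z ∣ Nat.card K - 1 := by
  rw [← Nat.card_units]
  exact card_dvd_of_injective ι.toHomUnits fun a b e => P.L.inj (congrArg Units.val e)

theorem prime_dvd (P : PS V Z ι E π β) {r : ℕ} (hr : r.Prime) (hd : r ∣ Nat.card A) : r ∣ Nat.card Z := by
  haveI := Fact.mk hr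
  obtain ⟨a, ha⟩ := exists_prime_addOrderOf_dvd_card' r hd
  obtain ⟨b, hb⟩ : ∃ b, β a b ≠ 0 := by
    by_contra! t; rw [P.alt.nd a t, addOrderOf_zero] at ha; exact hr.ne_one ha.symm
  obtain ⟨x, hx, rfl⟩ := P.surj a
  obtain ⟨y, hy, rfl⟩ := P.surj b
  obtain ⟨h, e⟩ := P.form x hx y hy
  have : (⟨_, h⟩ : Z) ^ r = 1 := P.L.inj (by
    rw [map_pow, e, map_one, ← Units.val_pow_eq_pow_val, ← toMul_nsmul, ← AddMonoidHom.nsmul_apply, ← map_nsmul, ← ha,
      addOrderOf_nsmul_eq_zero]; simp)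
  rw [← orderOf_eq_prime this fun t => hb ((P.bz hx hy).2 (commutatorElement_eq_one_iff_mul_comm.1 (congrArg Subtype.val t)))]
  exact _root_.orderOf_dvd_natCard _

theorem cr (P : PS V Z ι E π β) : CR G A := fun U hU => by
  refine ⟨perp β U, fun g a ha u hu => ?_, P.nd U hU, AddSubgroup.eq_top_of_card_eq _ (le_antisymm
    (AddSubgroup.card_le_card_addGroup _) ?_)⟩
  · obtain ⟨x, hx, rfl⟩ := P.surj a
    obtain ⟨y, hy, e⟩ := P.surj (g⁻¹ • u)
    have := (P.bz hx hy).1 (ha _ (e ▸ hU _ _ hu))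
    rw [← smul_inv_smul g u, ← e, ← P.conj _ _ hx, ← P.conj _ _ hy, P.bz (hEn.conj_mem _ hx g) (hEn.conj_mem _ hy g)]
    simp [mul_assoc, ← mul_assoc x, this]
  · rw [← P.alt.card_perp U, ← Nat.card_prod]
    refine Nat.card_le_card_of_injective (fun p : U × perp β U => (⟨p.1.1 + p.2.1, AddSubgroup.add_mem_sup p.1.2 p.2.2⟩ :
      ↥(U ⊔ perp β U))) fun a b e => ?_
    have e1 : a.1.1 - b.1.1 = b.2.1 - a.2.1 := by rw [sub_eq_sub_iff_add_eq_add, Subtype.mk.inj e, add_comm]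
    have : a.1.1 - b.1.1 ∈ U ⊓ perp β U := ⟨U.sub_mem a.1.2 b.1.2, e1 ▸ (perp β U).sub_mem b.2.2 a.2.2⟩
    rw [P.nd U hU, AddSubgroup.mem_bot] at this
    exact Prod.ext (Subtype.ext (sub_eq_zero.1 this)) (Subtype.ext (sub_eq_zero.1 (e1 ▸ this)).symm)

theorem sqf (P : PS V Z ι E π β) (r : ℕ) (a : A) (k : ℕ) (h : r ^ k • a = 0) : r • a = 0 := by
  have key : ∀ a : A, r • r • a = 0 → r • a = 0 := fun a h => by
    let U : AddSubgroup A := tor A r ⊓ (nsmulAddMonoidHom r).range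
    have := P.nd U (by
      rintro g _ ⟨h1, b, rfl⟩
      exact ⟨by
        show r • g • r • b = 0
        rw [smul_comm, show r • r • b = 0 from h1, smul_zero], g • b, smul_comm _ _ _⟩)
    exact AddSubgroup.mem_bot.1 (this ▸ ⟨⟨h, a, rfl⟩, fun u hu => by
      rw [map_nsmul, AddMonoidHom.nsmul_apply, ← map_nsmul, show r • u = 0 from hu.1, map_zero]⟩)
  induction k generalizing a with
  | zero => rw [show a = 0 by simpa using h, smul_zero]
  | succ k ih => exact key a (ih _ (by rwa [← mul_smul, ← pow_succ]))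

theorem st (P : PS V Z ι E π β) {m : ℕ} (h : Nat.card A = 2 ^ m) : St β (HH Z A) m := by
  haveI := P.solv
  haveI := im_solv (G := G) (V := A)
  haveI : Fact (Nat.Prime 2) := ⟨Nat.prime_two⟩
  haveI : (HH Z A).Normal := Normal.map inferInstance _ (rp G A).rangeRestrict_surjective
  refine ⟨P.sy, fun a => by rw [← two_nsmul]; exact P.sqf 2 a m (h ▸ card_nsmul_eq_zero'), h, inferInstance, ?_⟩
  set O := pCore 2 (rp G A).range
  let U : AddSubgroup A :=
    { carrier := {a | ∀ p ∈ O, p • a = a}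
      zero_mem' := fun p _ => smul_zero p
      add_mem' := fun ha hb p hp => by rw [smul_add, ha p hp, hb p hp]
      neg_mem' := fun ha p hp => by rw [smul_neg, ha p hp] }
  obtain ⟨W, h1, h2, h3⟩ := P.cr U fun g a ha p hp => by
    have := ha _ (Normal.conj_mem' inferInstance p hp ((rp G A).rangeRestrict g))
    rwa [mul_smul, mul_smul, inv_smul_eq_iff] at this
  have hW : W = ⊥ := by
    by_contra n
    have h1' : Inv O A W := fun p a ha => by
      obtain ⟨g, e⟩ := (rp G A).rangeRestrict_surjective p.1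
      have := h1 g a ha
      rwa [← im_smul, e] at this
    letI := subAct h1'
    have d : 2 ∣ Nat.card W := by
      obtain ⟨i, -, e⟩ := (Nat.dvd_prime_pow Nat.prime_two).1 (h ▸ W.card_addSubgroup_dvd_card)
      exact e ▸ dvd_pow_self 2 fun t => n (AddSubgroup.card_eq_one.1 (by rw [e, t, pow_zero]))
    obtain ⟨w, hw, w0⟩ := (Core.isPGroup_pCore 2 (rp G A).range).exists_fixed_point_of_prime_dvd_card_of_fixed_point W d
      (a := 0) fun p => smul_zero p
    exact w0 (Subtype.ext (AddSubgroup.mem_bot.1 (h2 ▸ ⟨fun p hp => congrArg Subtype.val (hw ⟨p, hp⟩), w.2⟩)).symm)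
  rw [hW, sup_bot_eq] at h3
  refine eq_bot_iff.2 fun p hp => P.sy.faith p fun a => (h3 ▸ trivial : a ∈ U) p.1 (Core.map_subtype_pCore_le _ ⟨p, hp, rfl⟩)

theorem dvd_dim [Nontrivial V] (P : PS V Z ι E π β) {b : ℕ} (hb : Nat.card A = b * b) : b ∣ Module.finrank K V := by
  classical
  haveI := Fintype.ofFinite A
  haveI := Fintype.ofFinite E
  choose σ σ1 σ2 using P.surj
  let T : E →* (V →ₗ[K] V) :=
    { toFun x := { toFun v := x.1 • v, map_add' := smul_add _, map_smul' := P.L.lin _ (P.le' x.2) }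
      map_one' := LinearMap.ext fun v => one_smul G v
      map_mul' x y := LinearMap.ext fun v => mul_smul x.1 y.1 v }
  let R : Submodule K (V →ₗ[K] V) :=
    { carrier := {f | ∀ x, T x * f = f * T x}
      zero_mem' := fun x => by simp
      add_mem' := fun ha hb x => by rw [mul_add, add_mul, ha, hb]
      smul_mem' := fun c f hf x => by rw [mul_smul_comm, smul_mul_assoc, hf] }
  let χ : A → (E →* K) := fun a => (Units.coeHom K).comp (MonoidHom.mk' (fun x : E => (β a (π x)).toMul) fun x y => by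
    rw [Subgroup.coe_mul, P.mul _ x.2 _ y.2, map_add, toMul_add])
  have rel : ∀ x y : E, T x * T y = χ (π x) y • (T y * T x) := fun x y => LinearMap.ext fun v => by
    obtain ⟨h, e⟩ := P.form _ x.2 _ y.2
    show x.1 • y.1 • v = ((β (π x) (π y)).toMul : K) • y.1 • x.1 • v
    rw [← e, ← P.L.smul, ← mul_smul, ← mul_smul, ← mul_smul]; congr 1; simp [commutatorElement_def]
  have χi : Function.Injective χ := fun a b e => sub_eq_zero.1 (P.alt.nd _ fun c => by
    have := DFunLike.congr_fun e ⟨σ c, σ1 c⟩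
    rw [map_sub, AddMonoidHom.sub_apply, sub_eq_zero, ← σ2 c]
    exact Additive.toMul.injective (Units.ext this))
  let S : A → E := fun a => ⟨σ a, σ1 a⟩
  let Φ : (A → R) →ₗ[K] (V →ₗ[K] V) := ∑ a, (LinearMap.mulLeft K (T (S a))) ∘ₗ R.subtype ∘ₗ LinearMap.proj a
  have Φa : ∀ f, Φ f = ∑ a, T (S a) * (f a).1 := fun f => by simp [Φ, LinearMap.sum_apply]
  have i1 : Function.Injective Φ := (injective_iff_map_eq_zero Φ).2 fun f e => funext fun a => Subtype.ext (by
    have h2 := Fintype.linearIndependent_iff.1 ((linearIndependent_monoidHom E K).comp _ χi)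
    have t : ∀ φ : Module.Dual K (V →ₗ[K] V), φ (T (S a) * (f a).1) = 0 := fun φ => by
      refine h2 (fun a => φ (T (S a) * (f a).1)) (funext fun x => ?_) a
      have t1 : T x⁻¹ * Φ f * T x = ∑ a, χ a x • (T (S a) * (f a).1) := by
        rw [Φa, Finset.mul_sum, Finset.sum_mul]
        refine Finset.sum_congr rfl fun a _ => ?_
        rw [mul_assoc, mul_assoc, ← (f a).2 x, ← mul_assoc (T (S a)), rel, show π (S a) = a from σ2 a, smul_mul_assoc,
          mul_smul_comm, mul_assoc (T x), ← mul_assoc, ← map_mul, inv_mul_cancel, map_one, one_mul]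
      have t3 := congrArg φ t1
      rw [e, mul_zero, zero_mul, map_zero, map_sum] at t3
      rw [Finset.sum_apply, Pi.zero_apply, t3]
      exact Finset.sum_congr rfl fun j _ => by rw [map_smul, smul_eq_mul, mul_comm]; rfl
    have := congrArg (T (S a)⁻¹ * ·) ((Module.forall_dual_apply_eq_zero_iff K _).1 t)
    simpa [← mul_assoc, ← map_mul] using this)
  have c0 : (Fintype.card A : K) ≠ 0 := by
    obtain ⟨p, hp⟩ := CharP.exists K
    have pp := CharP.char_is_prime K p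
    rw [Ne, CharP.cast_eq_zero_iff K p, ← Nat.card_eq_fintype_card]
    intro d
    have d1 := (P.prime_dvd pp d).trans P.card_Z
    haveI := Fintype.ofFinite K
    obtain ⟨n, -, e⟩ := FiniteField.card K p
    have d2 : p ∣ Nat.card K := by rw [Nat.card_eq_fintype_card, e]; exact dvd_pow_self _ n.ne_zero
    have := Nat.dvd_sub d2 d1
    rw [Nat.sub_sub_self Nat.card_pos] at this
    exact pp.ne_one (Nat.dvd_one.1 this)
  have cS : ∀ x y : E, π x = π y → ∀ f : V →ₗ[K] V, T x * f * T x⁻¹ = T y * f * T y⁻¹ := fun x y e f => by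
    have z : (x * y⁻¹).1 ∈ Z := (P.zero _ (x * y⁻¹).2).1 (by rw [Subgroup.coe_mul, P.mul _ x.2 _ y⁻¹.2, coe_inv, P.inv y.2, e]; simp)
    have : ∀ f : V →ₗ[K] V, T (x * y⁻¹) * f = f * T (x * y⁻¹) := fun f => LinearMap.ext fun v => by
      show (x * y⁻¹).1 • f v = f ((x * y⁻¹).1 • v)
      rw [P.L.smul ⟨_, z⟩, P.L.smul ⟨_, z⟩, map_smul]
    obtain ⟨w, rfl⟩ : ∃ w, x = w * y := ⟨x * y⁻¹, by group⟩
    rw [mul_inv_cancel_right] at this
    rw [map_mul, mul_inv_rev, map_mul, mul_assoc (T w), ← mul_assoc, mul_assoc (T w),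
      this, mul_assoc, ← map_mul, mul_inv_cancel, map_one, mul_one]
  have i2 : Function.Surjective Φ := fun f => by
    refine ⟨fun a => ⟨(Fintype.card A : K)⁻¹ • (Fintype.card A : K)⁻¹ • (Fintype.card A : K) •
      ∑ c, T (S c) * (T (S a)⁻¹ * f) * T (S c)⁻¹, R.smul_mem _ (R.smul_mem _ (R.smul_mem _ fun x => ?_))⟩, ?_⟩
    · rw [Finset.mul_sum, Finset.sum_mul]
      refine Fintype.sum_equiv (Equiv.addLeft (π x)) _ _ fun c => ?_
      rw [Equiv.coe_addLeft, ← cS (x * S c) (S (π x + c)) (by rw [Subgroup.coe_mul, P.mul _ x.2 _ (σ1 c), σ2, σ2]),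
        map_mul, mul_inv_rev, map_mul]
      simp only [mul_assoc]
      rw [← map_mul T x⁻¹, inv_mul_cancel, map_one, mul_one]
    rw [Φa]
    simp only [inv_smul_smul₀ c0, mul_smul_comm, ← Finset.smul_sum, Finset.mul_sum]
    rw [inv_smul_eq_iff₀ c0, Finset.sum_comm, Finset.sum_eq_single 0]
    · rw [Finset.sum_congr rfl (g := fun _ => f) fun a _ => by
        rw [cS (S 0) 1 ((σ2 0).trans P.one.symm)]; simp [← mul_assoc, ← map_mul]]
      simp [Nat.cast_smul_eq_nsmul]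
    · intro c _ hc
      rw [Finset.sum_congr rfl (g := fun a => χ a (S c) • (T (S c) * f * T (S c)⁻¹)) fun a _ => by
        rw [← mul_assoc, ← mul_assoc, rel, show π (S a) = a from σ2 a, smul_mul_assoc, smul_mul_assoc, mul_assoc (T (S c)),
          ← mul_assoc (T (S a)), ← map_mul, mul_inv_cancel, map_one, one_mul], ← Finset.sum_smul]
      let ψ : Multiplicative A →* K := (Units.coeHom K).comp (MonoidHom.mk' (fun a => (β a.toAdd c).toMul) fun x y => by
        rw [toAdd_mul, map_add, AddMonoidHom.add_apply, toMul_add])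
      have := sum_hom_units_eq_zero ψ fun e => hc (P.alt.nd c fun y => by
        rw [P.alt.skew, neg_eq_zero]; exact Additive.toMul.injective (Units.ext (DFunLike.congr_fun e (Multiplicative.ofAdd y))))
      rw [show ∑ a, χ a (S c) = 0 from Eq.trans (Fintype.sum_equiv Multiplicative.ofAdd _ _ fun a => by
        show ((β a (π (σ c))).toMul : K) = _; rw [σ2]; rfl) this, zero_smul]
    · simp
  have := (LinearEquiv.ofBijective Φ ⟨i1, i2⟩).finrank_eq
  rw [Module.finrank_pi_fintype, Module.finrank_linearMap, Finset.sum_const, Finset.card_univ, ← Nat.card_eq_fintype_card, hb,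
    smul_eq_mul, ← sq, ← sq] at this
  exact (Nat.pow_dvd_pow_iff two_ne_zero).1 ⟨_, this.symm⟩

end PS

end Cfsg.Lib.Hall.B3
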