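import Cfsg.Agent.Lib.Hall.B3f

/-! # Bases of solvable linear groups: fixed spaces in the primitive setting -/

set_option autoImplicit false
set_option linter.unusedSectionVars false
set_option linter.style.haveILetI false

namespace Cfsg.Lib.Hall.B3

open Cfsg Cfsg.Lib Subgroup Cfsg.Lib.Block.B2
open scoped commutatorElement

universe u
variable {G V : Type u} [Group G] [Finite G] [AddCommGroup V] [Finite V] [DistribMulAction G V]

local notation "𝐂" S => centralizer (SetLike.coe S)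

variable (V) in
def eg (y : G) (ε : ℤˣ) : AddSubgroup V where
  carrier := {v | y • v = ε • v}
  zero_mem' := by simp
  add_mem' := fun {a b} ha hb => by show _ = _; rw [smul_add, smul_add, ha, hb]
  neg_mem' := fun {a} ha => by show _ = _; rw [smul_neg, smul_neg, ha]

theorem mem_eg {y : G} {ε : ℤˣ} {v : V} : v ∈ eg V y ε ↔ y • v = ε • v := Iff.rfl
theorem smul_u (y : G) (ε : ℤˣ) (v : V) : y • ε • v = ε • y • v := by
  rcases Int.units_eq_one_or ε with rfl | rfl <;> simp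

theorem eg_split (t2 : ∀ v : V, v + v = 0 → v = 0) {y : G} (hy : y * y = 1) {U : AddSubgroup V} (hU : ∀ v ∈ U, y • v ∈ U) :
    Nat.card U = Nat.card ↥(U ⊓ eg V y 1) * Nat.card ↥(U ⊓ eg V y (-1)) := by
  have yy : ∀ v : V, y • y • v = v := fun v => by rw [← mul_smul, hy, one_smul]
  rw [← Nat.card_prod]
  apply le_antisymm
  · refine Nat.card_le_card_of_injective (fun v : U => ((⟨v.1 + y • v.1, U.add_mem v.2 (hU _ v.2), mem_eg.2 (by
      rw [smul_add, yy, one_smul, add_comm])⟩, ⟨v.1 - y • v.1, U.sub_mem v.2 (hU _ v.2), mem_eg.2 (by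
      rw [smul_sub, yy]; simp)⟩) : ↥(U ⊓ eg V y 1) × ↥(U ⊓ eg V y (-1)))) fun a b e => Subtype.ext ?_
    have e1 : a.1 + y • a.1 = b.1 + y • b.1 := Subtype.mk.inj (congrArg Prod.fst e)
    have e2 : a.1 - y • a.1 = b.1 - y • b.1 := Subtype.mk.inj (congrArg Prod.snd e)
    exact sub_eq_zero.1 (t2 _ (by linear_combination (norm := abel) e1 + e2))
  · refine Nat.card_le_card_of_injective (fun p : ↥(U ⊓ eg V y 1) × ↥(U ⊓ eg V y (-1)) =>
      (⟨p.1.1 + p.2.1, U.add_mem p.1.2.1 p.2.2.1⟩ : U)) fun a b e => ?_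
    have e1 : a.1.1 + a.2.1 = b.1.1 + b.2.1 := Subtype.mk.inj e
    have e2 := congrArg (y • ·) e1
    simp only [smul_add, mem_eg.1 a.1.2.2, mem_eg.1 a.2.2.2, mem_eg.1 b.1.2.2, mem_eg.1 b.2.2.2, one_smul, Units.neg_smul] at e2
    exact Prod.ext (Subtype.ext (sub_eq_zero.1 (t2 _ (by linear_combination (norm := abel) e1 + e2))))
      (Subtype.ext (sub_eq_zero.1 (t2 _ (by linear_combination (norm := abel) e1 - e2))))

theorem card_of_smul (x : G) {S T : AddSubgroup V} (h : ∀ v, x • v ∈ T ↔ v ∈ S) : Nat.card S = Nat.card T :=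
  Nat.card_congr
    { toFun := fun v => ⟨x • v.1, (h _).2 v.2⟩
      invFun := fun v => ⟨x⁻¹ • v.1, (h _).1 (by rw [smul_inv_smul]; exact v.2)⟩
      left_inv := fun v => Subtype.ext (inv_smul_smul _ _)
      right_inv := fun v => Subtype.ext (smul_inv_smul _ _) }

theorem eg_tr {x y : G} {c : ℤˣ} (r : ∀ v : V, y • x • v = c • x • y • v) (ε : ℤˣ) (v : V) :
    x • v ∈ eg V y (c * ε) ↔ v ∈ eg V y ε := by
  rw [mem_eg, mem_eg, r, mul_smul, smul_left_cancel_iff, ← smul_u, smul_left_cancel_iff]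

theorem eg_comm {x y : G} (r : x * y = y * x) (ε : ℤˣ) (v : V) : x • v ∈ eg V y ε ↔ v ∈ eg V y ε := by
  simpa using eg_tr (c := 1) (fun v => by rw [one_smul, ← mul_smul, ← mul_smul, r]) ε v

theorem quad (t2 : ∀ v : V, v + v = 0 → v = 0) {g x1 x2 y1 y2 : G} {U : AddSubgroup V} (u1 : ∀ v, x1 • v ∈ U ↔ v ∈ U)
    (u2 : ∀ v, x2 • v ∈ U ↔ v ∈ U) (u3 : ∀ v ∈ U, y1 • v ∈ U) (u4 : ∀ v ∈ U, y2 • v ∈ U) (s1 : y1 * y1 = 1) (s2 : y2 * y2 = 1)
    (r11 : x1 * y1 = y1 * x1) (r22 : x2 * y2 = y2 * x2) (r12 : ∀ v : V, y2 • x1 • v = (-1 : ℤˣ) • x1 • y2 • v)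
    (r21 : ∀ v : V, y1 • x2 • v = (-1 : ℤˣ) • x2 • y1 • v) (g1 : g * x1 = x1 * y1 * g) (g2 : g * x2 = x2 * y2 * g)
    (c1 : y1 * g = g * y1) (c2 : y2 * g = g * y2) (c3 : y1 * y2 = y2 * y1) (δ : ℤˣ) :
    Nat.card ↥(U ⊓ eg V g δ) = Nat.card ↥(U ⊓ eg V y1 1 ⊓ eg V y2 1 ⊓ eg V g δ) ^ 3 *
      Nat.card ↥(U ⊓ eg V y1 1 ⊓ eg V y2 1 ⊓ eg V g (-δ)) := by
  have k : ∀ {x y : G}, g * x = x * y * g → y * g = g * y → ∀ (ε δ : ℤˣ) (v : V), v ∈ eg V y ε →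
      (x • v ∈ eg V g (ε * δ) ↔ v ∈ eg V g δ) := fun {x y} a b ε δ v hv => by
    rw [mem_eg, mem_eg, ← mul_smul g, a, mul_assoc, b, mul_smul, mul_smul, mem_eg.1 hv, ← smul_u, smul_left_cancel_iff,
      smul_u, mul_smul, smul_left_cancel_iff]
  let N : ℤˣ → ℤˣ → ℤˣ → ℕ := fun a b d => Nat.card ↥(U ⊓ eg V y1 a ⊓ eg V y2 b ⊓ eg V g d)
  have t1 : ∀ a b d, N a b d = N a (-b) (a * d) := fun a b d => card_of_smul x1 fun v => by
    simp only [AddSubgroup.mem_inf, u1, eg_comm r11, ← neg_one_mul b, eg_tr r12]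
    exact and_congr_right fun h => k g1 c1 _ _ _ h.1.2
  have t3 : ∀ a b d, N a b d = N (-a) b (b * d) := fun a b d => card_of_smul x2 fun v => by
    simp only [AddSubgroup.mem_inf, u2, eg_comm r22, ← neg_one_mul a, eg_tr r21]
    exact and_congr_right fun h => k g2 c2 _ _ _ h.2
  have sp : ∀ a, Nat.card ↥(U ⊓ eg V g δ ⊓ eg V y1 a) = N a 1 δ * N a (-1) δ := fun a => by
    rw [eg_split t2 s2 (U := U ⊓ eg V g δ ⊓ eg V y1 a) fun v hv =>
      ⟨⟨u4 _ hv.1.1, (eg_comm c2 _ _).2 hv.1.2⟩, (eg_comm c3.symm _ _).2 hv.2⟩]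
    simp only [N, inf_right_comm _ (eg V g δ)]
  rw [eg_split t2 s1 (U := U ⊓ eg V g δ) fun v hv => ⟨u3 _ hv.1, (eg_comm c1 _ _).2 hv.2⟩, sp, sp]
  have e1 := t1 1 1 δ
  have e2 := t3 1 1 δ
  have e3 := (t3 1 1 (-δ)).trans (t1 _ _ _)
  simp only [one_mul, neg_mul, neg_neg] at e1 e2 e3
  rw [← e1, ← e2, ← e3]
  simp only [N]; ring

variable {K : Type u} [Field K] [Finite K] [Module K V] {Z : Subgroup G} [hZn : Z.Normal] {ι : Z →* K} {E : Subgroup G}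
  [hEn : E.Normal] {A : Type u} [AddCommGroup A] [Finite A] [DistribMulAction G A] {π : G → A} {β : Fm K A}

theorem cube' (h : Lx V Z ι) {x y : G} (hx : x ∈ 𝐂 Z) (hy : y ∈ 𝐂 Z) (h1 : ⁅y, x⁆ ∈ Z)
    (h2 : ι ⟨_, h1⟩ ^ 2 ≠ 1) : Nat.card (fx V y) ^ 3 ≤ Nat.card V := by
  set u := ι ⟨_, h1⟩ with hu
  have u1 : u - 1 ≠ 0 := fun e => h2 (by linear_combination (u + 1) * e)
  have u0 : u ≠ 0 := ((Group.isUnit _).map ι).ne_zero
  have u2 : u + 1 ≠ 0 := fun e => h2 (by linear_combination (u - 1) * e)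
  have s1 : ∀ v : V, y • x • v = u • x • y • v := fun v => by
    rw [hu, ← h.smul, ← mul_smul, ← mul_smul, ← mul_smul]; congr 1; simp [commutatorElement_def]
  let φ : fx V y × fx V y × fx V y →+ V :=
    { toFun p := p.1.1 + x • p.2.1.1 + x • x • p.2.2.1
      map_zero' := by simp
      map_add' a b := by simp only [Prod.fst_add, Prod.snd_add, AddSubgroup.coe_add, smul_add]; abel }
  rw [pow_succ', sq, ← Nat.card_prod, ← Nat.card_prod]
  refine Nat.card_le_card_of_injective φ ((injective_iff_map_eq_zero φ).2 fun ⟨⟨a, ha⟩, ⟨b, hb⟩, ⟨c, hc⟩⟩ e1 => ?_)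
  replace e1 : a + x • b + x • x • c = 0 := e1
  replace ha : y • a = a := ha
  have hb' : y • x • b = u • x • b := by rw [s1, show y • b = b from hb]
  have hc' : y • x • x • c = u • u • x • x • c := by rw [s1, s1, show y • c = c from hc, h.lin x hx]
  have e2 := congrArg (fun v => y • v) e1
  simp only [smul_add, smul_zero, ha, hb', hc'] at e2
  have e3 := congrArg (fun v => y • v) e2
  simp only [smul_add, smul_zero, ha, h.lin y hy, hb', hc'] at e3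
  have t1 : (u * (u - 1) ^ 2 * (u + 1)) • x • x • c = 0 := by
    generalize x • x • c = c', x • b = b' at *
    linear_combination (norm := module) e3 - (u + 1) • e2 + u • e1
  have t2 := (smul_eq_zero.1 t1).resolve_left (by simp [u0, u1, u2])
  rw [t2] at e1 e2
  have t3 : (u - 1) • x • b = 0 := by
    generalize x • b = b' at *
    linear_combination (norm := module) e2 - e1
  have t4 := (smul_eq_zero.1 t3).resolve_left u1
  rw [t4, add_zero, add_zero] at e1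
  simp only [smul_eq_zero_iff_eq] at t2 t4
  simp [e1, t2, t4]

variable (V) in
def big (g : G) : Prop := Nat.card V < Nat.card (fx V g) ^ 2

theorem big.meet {g g' : G} (h : big V g) (h' : big V g') : ∃ v : V, v ≠ 0 ∧ g • v = v ∧ g' • v = v := by
  by_contra! t
  have := card_mul_le' (U := fx V g) (W := fx V g') (eq_bot_iff.2 fun v hv => by_contra fun n => t v n hv.1 hv.2)
  unfold big at h h'
  rcases le_total (Nat.card (fx V g)) (Nat.card (fx V g')) with l | l <;> nlinarith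

theorem big.conj {g : G} (h : big V g) (x : G) : big V (x * g * x⁻¹) := by unfold big; rwa [card_fx_conj]

theorem cm_mem (g : G) {x : G} (hx : x ∈ E) : ⁅g, x⁆ ∈ E := mul_mem (hEn.conj_mem x hx g) (inv_mem hx)

namespace PS

theorem dlc (P : PS V Z ι E π β) (g : G) {x : G} (hx : x ∈ E) : π ⁅g, x⁆ = g • π x - π x := by
  rw [commutatorElement_def, P.mul _ (hEn.conj_mem x hx g) _ (inv_mem hx), P.conj g x hx, P.inv hx, sub_eq_add_neg]

theorem b2 (P : PS V Z ι E π β) {g : G} (h : big V g) {y : G} (hy : y ∈ E) (e : g • π y = π y) : g * y = y * g := by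
  by_contra n
  have : ⁅g, y⁆ ∈ Z := (P.zero _ (cm_mem g hy)).1 (by rw [P.dlc g hy, e, sub_self])
  exact h.not_ge (P.L.fx_sq (commutatorElement_inv g y ▸ inv_mem this) (Ne.symm n))

theorem b1 (P : PS V Z ι E π β) {g : G} (hg : g ∈ E) (h1 : g ∉ Z) : ¬ big V g := fun h =>
  h1 ((P.zero g hg).1 (P.alt.nd _ fun a => by
    obtain ⟨y, hy, rfl⟩ := P.surj a
    exact (P.bz hg hy).2 (P.b2 h hy (P.triv hg _))))

theorem b3 (P : PS V Z ι E π β) {g : 𝐂 Z} (h : big V g.1) : L4 β (ph Z A g) := fun a => by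
  obtain ⟨x, hx, rfl⟩ := P.surj a
  have m := cm_mem g.1 hx
  rw [dl_apply, ph_smul, ph_smul, ← P.dlc _ hx, ← P.conj _ _ m, P.bz m (hEn.conj_mem _ m _)]
  obtain ⟨v, v0, v1, v2⟩ := h.meet (h.conj x)
  have s1 : g.1 ∈ MulAction.stabilizer G v := v1
  have s2 : ⁅g.1, x⁆ ∈ MulAction.stabilizer G v := by
    rw [show ⁅g.1, x⁆ = g.1 * (x * g.1 * x⁻¹)⁻¹ by simp [commutatorElement_def, mul_assoc]]
    exact mul_mem s1 (inv_mem v2)
  obtain ⟨z, -⟩ := P.form _ m _ (hEn.conj_mem _ m g)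
  by_contra n
  exact v0 (P.L.fpf z (fun e => n (commutatorElement_eq_one_iff_mul_comm.1 e))
    (mul_mem (mul_mem (mul_mem s2 (mul_mem (mul_mem s1 s2) (inv_mem s1))) (inv_mem s2))
      (inv_mem (mul_mem (mul_mem s1 s2) (inv_mem s1))) : _ ∈ MulAction.stabilizer G v))

theorem fx_comm (g x : G) : Nat.card (fx V g) ^ 2 ≤ Nat.card V * Nat.card (fx V ⁅g, x⁆) := by
  rw [← commutatorElement_inv, fx_inv]; exact fx_sq g x

theorem b4 (P : PS V Z ι E π β) {g : G} (hg : g ∈ 𝐂 Z) (h1 : g ∉ Z) : Nat.card (fx V g) ^ 4 ≤ Nat.card V ^ 3 := by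
  by_cases t : g ∈ E
  · have := not_lt.1 (P.b1 t h1)
    calc _ = (Nat.card (fx V g) ^ 2) ^ 2 := by ring
      _ ≤ Nat.card V ^ 2 := Nat.pow_le_pow_left this 2
      _ ≤ _ := Nat.pow_le_pow_right Nat.card_pos (by norm_num)
  obtain ⟨a, ha⟩ : ∃ a : A, g • a ≠ a := by by_contra! e; exact t (P.faith g hg e)
  obtain ⟨x, hx, rfl⟩ := P.surj a
  have := not_lt.1 (P.b1 (cm_mem g hx) fun z => ha (sub_eq_zero.1 (by rw [← P.dlc g hx, P.zero _ (cm_mem g hx)]; exact z)))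
  calc _ = (Nat.card (fx V g) ^ 2) ^ 2 := by ring
    _ ≤ (Nat.card V * Nat.card (fx V ⁅g, x⁆)) ^ 2 := Nat.pow_le_pow_left (fx_comm g x) 2
    _ ≤ _ := by rw [mul_pow, pow_succ _ 2]; exact Nat.mul_le_mul_left _ this

theorem b5 (P : PS V Z ι E π β) {g : G} {a : A} (ha : 2 • (g • a - a) ≠ 0) : Nat.card (fx V g) ^ 6 ≤ Nat.card V ^ 4 := by
  obtain ⟨x, hx, rfl⟩ := P.surj a
  obtain ⟨b, hb⟩ : ∃ b, β (2 • (g • π x - π x)) b ≠ 0 := by by_contra! e; exact ha (P.alt.nd _ e)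
  obtain ⟨y, hy, rfl⟩ := P.surj b
  obtain ⟨z, e⟩ := P.form _ (cm_mem g hx) _ hy
  have := cube' P.L (P.le' hy) (P.le' (cm_mem g hx)) z fun t => hb (Additive.toMul.injective (Units.ext (by
    rwa [e, P.dlc g hx, ← Units.val_pow_eq_pow_val, ← toMul_nsmul, ← AddMonoidHom.nsmul_apply, ← map_nsmul] at t)))
  calc _ = (Nat.card (fx V g) ^ 2) ^ 3 := by ring
    _ ≤ (Nat.card V * Nat.card (fx V ⁅g, x⁆)) ^ 3 := Nat.pow_le_pow_left (fx_comm g x) 3
    _ ≤ _ := by rw [mul_pow, pow_succ _ 3]; exact Nat.mul_le_mul_left _ this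

theorem inv2 (P : PS V Z ι E π β) {g : G} (h : big V g) (g2 : g * g = 1) (t : ∀ a : A, 2 • (g • a - a) = 0) {x : G} (hx : x ∈ E) :
    ⁅g, x⁆ * g = g * ⁅g, x⁆ ∧ ⁅g, x⁆ * ⁅g, x⁆ = 1 ∧ x * ⁅g, x⁆ = ⁅g, x⁆ * x := by
  have gi : g⁻¹ = g := inv_eq_of_mul_eq_one_right g2
  have e1 := P.b2 h (cm_mem g hx) (by
    rw [P.dlc g hx, smul_sub, ← mul_smul, g2, one_smul]; linear_combination (norm := abel) - t (π x))
  have e2 := P.b2 h (pow_mem hx 2) (by rw [P.pow hx, smul_comm, ← sub_eq_zero, ← smul_sub, t])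
  have e3 : ⁅g, x⁆ * ⁅g, x⁆ = 1 := by
    have : g * ⁅g, x⁆ * g⁻¹ = ⁅g, x⁆⁻¹ := by
      rw [commutatorElement_inv, commutatorElement_def, commutatorElement_def, gi, ← mul_assoc, ← mul_assoc, ← mul_assoc, g2, one_mul]
    rw [e1, mul_inv_cancel_right] at this
    nth_rewrite 1 [this]; exact inv_mul_cancel _
  refine ⟨e1.symm, e3, ?_⟩
  have e4 : x * g * x⁻¹ = g * ⁅g, x⁆ := by
    rw [commutatorElement_def, gi, ← mul_assoc, ← mul_assoc, ← mul_assoc, g2, one_mul]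
  have e5 : g = g * ⁅g, x⁆ * (x * ⁅g, x⁆ * x⁻¹) := by
    calc g = x * (x * g * x⁻¹) * x⁻¹ := by
          rw [show x * (x * g * x⁻¹) * x⁻¹ = x ^ 2 * g * (x ^ 2)⁻¹ by simp [sq, mul_assoc], ← e2, mul_inv_cancel_right]
      _ = (x * g * x⁻¹) * (x * ⁅g, x⁆ * x⁻¹) := by nth_rewrite 1 [e4]; group
      _ = _ := by rw [e4]
  rw [mul_assoc g, left_eq_mul, mul_eq_one_iff_inv_eq, inv_eq_of_mul_eq_one_right e3, eq_mul_inv_iff_mul_eq] at e5
  exact e5.symm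

theorem ord2 (P : PS V Z ι E π β) {g : 𝐂 Z} (h : big V g.1) (hp : (orderOf g.1).Prime) (h1 : g.1 ∉ Z)
    (t : ∀ a, 2 • dl A (ph Z A g) a = 0) : orderOf g.1 = 2 := by
  by_contra n
  have o := hp.odd_of_ne_two n
  exact P.b1 (P.ph_eq.1 (P.sy.faith _ fun a => P.sy.l4_fix (P.b3 h) (s := orderOf g.1) (by
    rw [← map_pow, orderOf_coe, pow_orderOf_eq_one, map_one]) o (Nat.coprime_two_right.2 o) (t a))) h1 h

theorem b6 (P : PS V Z ι E π β) {g : 𝐂 Z} (h : big V g.1) (o : orderOf g.1 = 2)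
    (t : ∀ a, 2 • dl A (ph Z A g) a = 0) : TA β (ph Z A g) := by
  have g2 : g.1 * g.1 = 1 := by rw [← sq, ← o, pow_orderOf_eq_one]
  refine ⟨by rw [← map_mul, show g * g = 1 from Subtype.ext g2, map_one], t, fun a => ?_⟩
  obtain ⟨x, hx, rfl⟩ := P.surj a
  have := (P.bz hx (cm_mem g.1 hx)).2 (P.inv2 h g2 t hx).2.2
  rwa [P.dlc _ hx, map_sub, P.alt.alt, sub_zero] at this

theorem t2 (P : PS V Z ι E π β) (h : 2 ∣ Nat.card A) (v : V) (e : v + v = 0) : v = 0 := by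
  haveI : Fact (Nat.Prime 2) := ⟨Nat.prime_two⟩
  obtain ⟨z, hz⟩ := exists_prime_orderOf_dvd_card' 2 (P.prime_dvd Nat.prime_two h)
  have h1 := P.L.ne_one (z := z) fun e => by simp [e] at hz
  have h2 : ι z = -1 := (sq_eq_one_iff.1 (by rw [← map_pow, ← hz, pow_orderOf_eq_one, map_one])).resolve_left h1
  have : (ι z - 1) • v = 0 := by rw [h2, sub_smul, neg_smul, one_smul, ← neg_add', e, neg_zero]
  exact (smul_eq_zero.1 this).resolve_left (sub_ne_zero.2 h1)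

theorem neg (P : PS V Z ι E π β) {x y : G} (hx : x ∈ E) (hy : y ∈ E) (h1 : β (π x) (π y) ≠ 0) (h2 : 2 • β (π x) (π y) = 0)
    (v : V) : y • x • v = (-1 : ℤˣ) • x • y • v := by
  obtain ⟨z, e⟩ := P.form x hx y hy
  have : ι ⟨_, z⟩ = -1 := (sq_eq_one_iff.1 (by rw [e, ← Units.val_pow_eq_pow_val, ← toMul_nsmul, h2]; rfl)).resolve_left
    fun t => h1 (Additive.toMul.injective (Units.ext (e.symm.trans t)))
  have t := P.L.smul ⟨_, z⟩ (y • x • v)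
  rw [this, ← mul_smul, ← mul_smul, show ⁅x, y⁆ * y * x = x * y by simp [commutatorElement_def], mul_smul] at t
  simp [t]

theorem b7 (P : PS V Z ι E π β) {g : 𝐂 Z} (h : big V g.1) (o : orderOf g.1 = 2) (t : TA β (ph Z A g))
    (i : (fx A (ph Z A g)).index ≠ 4) (h1 : ph Z A g ≠ 1) : Nat.card (fx V g.1) ^ 8 ≤ Nat.card V ^ 5 := by
  obtain ⟨i16, a1, a2, a3, a4, b12, b34, b13, b14, b23, b24⟩ := (t.cases P.sy h1).resolve_left i
  have g2 : g.1 * g.1 = 1 := by rw [← sq, ← o, pow_orderOf_eq_one]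
  have t2 := P.t2 (by
    by_contra n
    exact b12 (by rw [eq_zero_of_coprime (t.two a2) card_nsmul_eq_zero' ((Nat.Prime.coprime_iff_not_dvd Nat.prime_two).2 n), map_zero]))
  choose σ σ1 σ2 using P.surj
  let y : A → G := fun a => ⁅g.1, σ a⁆
  have y1 : ∀ a, y a ∈ E := fun a => cm_mem _ (σ1 a)
  have y2 : ∀ a, π (y a) = dl A (ph Z A g) a := fun a => by rw [P.dlc _ (σ1 a), σ2]; rfl
  have y3 := fun a => P.inv2 h g2 t.two (σ1 a)
  have c1 : ∀ a b, β a (dl A (ph Z A g) b) = 0 → σ a * y b = y b * σ a := fun a b e => (P.bz (σ1 a) (y1 b)).1 (by rwa [σ2, y2])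
  have c2 : ∀ a b, y a * y b = y b * y a := fun a b => (P.bz (y1 a) (y1 b)).1 (by
    rw [y2, y2, t.symm P.sy, t.dl_dl, map_zero])
  have c3 : ∀ a b, β a (dl A (ph Z A g) b) ≠ 0 → ∀ v : V, y b • σ a • v = (-1 : ℤˣ) • σ a • y b • v := fun a b e =>
    P.neg (σ1 a) (y1 b) (by rwa [σ2, y2]) (by rw [σ2, y2, t.tor])
  have c4 : ∀ a, g.1 * σ a = σ a * y a * g := fun a => by rw [(y3 a).2.2]; simp [commutatorElement_def]
  have q1 := quad t2 (U := ⊤) (fun _ => Iff.rfl) (fun _ => Iff.rfl) (fun _ _ => trivial) (fun _ _ => trivial)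
    (y3 a1).2.1 (y3 a2).2.1 (y3 a1).2.2 (y3 a2).2.2 (c3 _ _ b12) (c3 _ _ (t.symm P.sy _ _ ▸ b12)) (c4 a1) (c4 a2)
    (y3 a1).1 (y3 a2).1 (c2 _ _)
  have iv : ∀ x : G, x * y a1 = y a1 * x → x * y a2 = y a2 * x → ∀ v, x • v ∈ ⊤ ⊓ eg V (y a1) 1 ⊓ eg V (y a2) 1 ↔
      v ∈ ⊤ ⊓ eg V (y a1) 1 ⊓ eg V (y a2) 1 := fun x e1 e2 v => by simp [eg_comm e1, eg_comm e2]
  have q2 := quad t2 (iv _ (c1 _ _ (t.symm P.sy _ _ ▸ b13)) (c1 _ _ (t.symm P.sy _ _ ▸ b23)))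
    (iv _ (c1 _ _ (t.symm P.sy _ _ ▸ b14)) (c1 _ _ (t.symm P.sy _ _ ▸ b24))) (fun v => (iv _ (c2 a3 _) (c2 _ _) v).2)
    (fun v => (iv _ (c2 a4 _) (c2 _ _) v).2) (y3 a3).2.1 (y3 a4).2.1 (y3 a3).2.2 (y3 a4).2.2 (c3 _ _ b34)
    (c3 _ _ (t.symm P.sy _ _ ▸ b34)) (c4 a3) (c4 a4) (y3 a3).1 (y3 a4).1 (c2 _ _)
  have e := eg_split t2 g2 (U := ⊤) fun _ _ => trivial
  have e1 : fx V g.1 = ⊤ ⊓ eg V g.1 1 := by ext v; simp [mem_eg, mem_fx]
  rw [AddSubgroup.card_top] at e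
  rw [e1, e, q1, q1, neg_neg, q2, q2 (-1), neg_neg]
  have k : ∀ p r : ℕ, 0 < r → ((p ^ 3 * r) ^ 3 * (r ^ 3 * p)) ^ 8 ≤
      ((p ^ 3 * r) ^ 3 * (r ^ 3 * p) * ((r ^ 3 * p) ^ 3 * (p ^ 3 * r))) ^ 5 := fun p r h =>
    calc _ = p ^ 80 * r ^ 48 := by ring
      _ ≤ p ^ 80 * r ^ 80 := Nat.mul_le_mul_left _ (Nat.pow_le_pow_right h (by norm_num))
      _ = _ := by ring
  exact k _ _ Nat.card_pos

theorem b8 (P : PS V Z ι E π β) (h : HH Z A) : {g : 𝐂 Z | big V g.1 ∧ ph Z A g = h}.ncard ≤ (fx A h).index := by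
  rcases Set.eq_empty_or_nonempty {g : 𝐂 Z | big V g.1 ∧ ph Z A g = h} with e | ⟨g0, b0, rfl⟩
  · simp [e]
  have m : ∀ g : 𝐂 Z, ph Z A g = ph Z A g0 → g0.1⁻¹ * g.1 ∈ E := fun g e =>
    (P.ph_eq (g := g0⁻¹ * g)).1 (by rw [map_mul, map_inv, e, inv_mul_cancel])
  have c := P.alt.card_perp (fx A (ph Z A g0))
  rw [← (fx A (ph Z A g0)).card_mul_index] at c
  rw [← Nat.eq_of_mul_eq_mul_left Nat.card_pos c]
  refine Set.ncard_le_ncard_of_injOn (t := perp β (fx A (ph Z A g0))) (fun g => π (g0.1⁻¹ * g.1)) (fun g hg a ha => ?_)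
    fun g hg g' hg' e => ?_
  · obtain ⟨y, hy, rfl⟩ := P.surj a
    have e1 := P.b2 b0 hy ha
    have e2 := P.b2 hg.1 hy (by rw [← ph_smul, hg.2]; exact ha)
    exact (P.bz (m g hg.2) hy).2 ((Commute.inv_left e1).mul_left e2)
  · have z : g.1⁻¹ * g'.1 ∈ Z := by
      have := P.mul _ (inv_mem (m g hg.2)) _ (m g' hg'.2)
      rw [P.inv (m g hg.2), show π (g0.1⁻¹ * g.1) = π (g0.1⁻¹ * g'.1) from e, neg_add_cancel,
        P.zero _ (mul_mem (inv_mem (m g hg.2)) (m g' hg'.2))] at this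
      simpa [mul_assoc] using this
    obtain ⟨v, v0, v1, v2⟩ := hg.1.meet hg'.1
    refine Subtype.ext (inv_mul_eq_one.1 (by_contra fun n => v0 (P.L.fpf z n ?_)))
    rw [mul_smul, v2, inv_smul_eq_iff, v1]

theorem b9 (P : PS V Z ι E π β) (h : HH Z A) (s : ℕ) : {g : 𝐂 Z | g.1 ^ s = 1 ∧ ph Z A g = h}.ncard ≤
    Nat.card (nm A h s).ker * {z : Z | z ^ s = 1}.ncard := by
  rcases Set.eq_empty_or_nonempty {g : 𝐂 Z | g.1 ^ s = 1 ∧ ph Z A g = h} with e | ⟨g0, b0, rfl⟩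
  · simp [e]
  have m : ∀ g : 𝐂 Z, ph Z A g = ph Z A g0 → g.1 * g0.1⁻¹ ∈ E := fun g e =>
    (P.ph_eq (g := g * g0⁻¹)).1 (by rw [map_mul, map_inv, e, mul_inv_cancel])
  have k : ∀ x ∈ E, ∀ n : ℕ, (x * g0) ^ n * (g0.1 ^ n)⁻¹ ∈ E ∧ π ((x * g0) ^ n * (g0.1 ^ n)⁻¹) = nm A (ph Z A g0) n (π x) :=
      fun x hx n => by
    induction n with
    | zero => simp [P.one, nm_apply]
    | succ n ih =>
      have := hEn.conj_mem x hx (g0.1 ^ n)
      rw [show (x * g0) ^ (n + 1) * (g0.1 ^ (n + 1))⁻¹ = (x * g0) ^ n * (g0.1 ^ n)⁻¹ * (g0.1 ^ n * x * (g0.1 ^ n)⁻¹) by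
        rw [pow_succ, pow_succ']; group]
      exact ⟨mul_mem ih.1 this, by rw [P.mul _ ih.1 _ this, ih.2, nm_succ, P.conj _ _ hx, ← map_pow]; rfl⟩
  rw [← Nat.mul_one (Set.ncard _), ← sm_const, show Nat.card (nm A (ph Z A g0) s).ker = Set.ncard {a | a ∈ (nm A (ph Z A g0) s).ker}
    from rfl, ← sm_const]
  refine sm_fiber (fun g => π (g.1 * g0.1⁻¹)) (fun g hg => ?_) fun a _ => ?_
  · have := (k _ (m g hg.2) s).2
    rw [inv_mul_cancel_right, hg.1, b0, inv_one, one_mul, P.one] at this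
    exact this.symm
  rw [sm_const, mul_one]
  rcases Set.eq_empty_or_nonempty {g : 𝐂 Z | (g.1 ^ s = 1 ∧ ph Z A g = ph Z A g0) ∧ π (g.1 * g0.1⁻¹) = a} with e | ⟨g1, b1⟩
  · simp [e]
  have z : ∀ g : 𝐂 Z, (g.1 ^ s = 1 ∧ ph Z A g = ph Z A g0) ∧ π (g.1 * g0.1⁻¹) = a → g.1 * g1.1⁻¹ ∈ Z := fun g hg => by
    have := P.mul _ (m g hg.1.2) _ (inv_mem (m g1 b1.1.2))
    rw [P.inv (m g1 b1.1.2), hg.2, b1.2, add_neg_cancel, P.zero _ (mul_mem (m g hg.1.2) (inv_mem (m g1 b1.1.2)))] at this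
    simpa [mul_assoc] using this
  classical
  refine Set.ncard_le_ncard_of_injOn (fun g => if h : g.1 * g1.1⁻¹ ∈ Z then ⟨_, h⟩ else 1) (fun g hg => ?_) fun g hg g' hg' e => ?_
  · simp only [dif_pos (z g hg), Set.mem_ofPred_eq]
    refine Subtype.ext ?_
    have c : Commute (g.1 * g1.1⁻¹) g1.1 := g1.2 _ (z g hg)
    have := c.mul_pow s
    rwa [inv_mul_cancel_right, hg.1.1, b1.1.1, mul_one, eq_comm] at this
  · simp only [dif_pos (z g hg), dif_pos (z g' hg'), Subtype.mk.injEq, mul_left_inj] at e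
    exact Subtype.ext e

end PS

end Cfsg.Lib.Hall.B3
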