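import Cfsg.Agent.Lib.Hall.B3g

/-! # Bases of solvable linear groups: counting, and the Pálfy–Wolf bound -/

set_option autoImplicit false
set_option linter.unusedSectionVars false
set_option linter.style.haveILetI false

namespace Cfsg.Lib.Hall.B3

open Cfsg Cfsg.Lib Subgroup Cfsg.Lib.Block.B2
open scoped commutatorElement

universe u
variable {G V : Type u} [Group G] [Finite G] [AddCommGroup V] [Finite V] [DistribMulAction G V]

local notation "𝐂" S => centralizer (SetLike.coe S)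

theorem wt_inv (g : G) : wt g⁻¹ = wt g := by simp [wt]

theorem two_le_sm {P : G → Prop} {g : G} (hg : P g) (hi : P g⁻¹) (h1 : g ≠ 1) : 2 ≤ sm P wt := by
  by_cases o : orderOf g = 2
  · exact le_trans (by simp [wt, o]) (le_sm wt hg)
  · refine le_trans ?_ (le_sm2 wt hg hi fun e => o (orderOf_eq_prime (by rw [sq]; nth_rewrite 2 [e]; simp) h1))
    simp [wt, o]

theorem sm_ite {X : Type*} [Finite X] (P Q : X → Prop) [DecidablePred Q] (f : X → ℕ) :
    sm P (fun x => if Q x then f x else 0) = sm (fun x => P x ∧ Q x) f := by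
  classical
  rw [sm, ← Finset.sum_filter]; exact Finset.sum_congr (by ext; simp) fun _ _ => rfl

theorem sm_sub {X : Type*} [Finite X] (S : X → Prop) (P : X → Prop) (f : X → ℕ) :
    sm (fun x => P x ∧ S x) f = sm (fun x : {x // S x} => P x.1) fun x => f x.1 :=
  (Finset.sum_bij (fun x _ => x.1) (fun x hx => by simpa using ⟨by simpa using hx, x.2⟩) (fun _ _ _ _ e => Subtype.ext e)
    (fun x hx => by simp at hx; exact ⟨⟨x, hx.2⟩, by simpa using hx.1, rfl⟩) fun _ _ => rfl).symm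

variable {K : Type u} [Field K] [Finite K] [Module K V] {Z : Subgroup G} [hZn : Z.Normal] {ι : Z →* K} {E : Subgroup G}
  [hEn : E.Normal] {A : Type u} [AddCommGroup A] [Finite A] [DistribMulAction G A] {π : G → A} {β : Fm K A}

theorem exists_pg (L : Lx V Z ι) {κ : Type} (nb : ¬ Bs G V κ) {t : κ → V} (h0 : ∃ i, t i ≠ 0) :
    ∃ g : G, (orderOf g).Prime ∧ g ∉ Z ∧ ∀ i, g • t i = t i := by
  simp only [Bs, not_exists, not_forall] at nb
  obtain ⟨g, h1, x, h2⟩ := nb t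
  obtain ⟨n, hn⟩ := exists_prime_pow (g := g) fun e => h2 (by simp [e])
  obtain ⟨i, hi⟩ := h0
  have f : ∀ i, g ^ n • t i = t i := fun i => (MulAction.stabilizer G _).pow_mem (h1 i) n
  exact ⟨g ^ n, hn, fun z => hi (L.fpf z (fun e => hn.ne_one (by rw [e, orderOf_one])) (f i)), f⟩

theorem count (L : Lx V Z ι) {κ : Type} [Finite κ] (nb : ¬ Bs G V κ) (T : (κ → V) → Prop) (h0 : ∀ t, T t → ∃ i, t i ≠ 0) :
    {t | T t}.ncard * 2 ≤ sm (fun g : G => (orderOf g).Prime ∧ g ∉ Z) fun g => wt g * {t | T t ∧ ∀ i, t i ∈ fx V g}.ncard := by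
  classical
  rw [← sm_const]
  refine (sm_le_sm (Q := T) (g := fun t => sm (fun g : G => (orderOf g).Prime ∧ g ∉ Z) fun g => if ∀ i, t i ∈ fx V g then wt g else 0)
    fun t ht => ⟨ht, ?_⟩).trans (le_of_eq ?_)
  · obtain ⟨g, h1, h2, h3⟩ := exists_pg L nb (h0 t ht)
    rw [sm_ite]
    exact two_le_sm (g := g) ⟨⟨h1, h2⟩, h3⟩ ⟨⟨by rwa [orderOf_inv], by rwa [inv_mem_iff]⟩, by rw [fx_inv]; exact h3⟩
      fun e => h2 (e ▸ Z.one_mem)
  · rw [sm_comm]
    exact Finset.sum_congr rfl fun g _ => by beta_reduce; rw [sm_ite, sm_const, mul_comm]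

/-- the fixed space as a subspace -/
def fs (L : Lx V Z ι) (g : 𝐂 Z) : Submodule K V where
  toAddSubmonoid := (fx V g.1).toAddSubmonoid
  smul_mem' c v hv := by show _ = _; rw [L.lin _ g.2, show g.1 • v = v from hv]
noncomputable def dm (L : Lx V Z ι) (g : 𝐂 Z) : ℕ := Module.finrank K (fs L g)
theorem card_fx (L : Lx V Z ι) (g : 𝐂 Z) : Nat.card (fx V g.1) = Nat.card K ^ dm L g :=
  Module.natCard_eq_pow_finrank (K := K) (V := fs L g)
theorem dm_le (L : Lx V Z ι) {g : 𝐂 Z} {i j : ℕ} (h : Nat.card (fx V g.1) ^ i ≤ Nat.card V ^ j) (hi : 0 < i) :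
    dm L g ≤ j * Module.finrank K V / i := by
  rw [card_fx L, Module.natCard_eq_pow_finrank (K := K) (V := V), ← pow_mul, ← pow_mul,
    Nat.pow_le_pow_iff_right Finite.one_lt_card] at h
  exact (Nat.le_div_iff_mul_le hi).2 (mul_comm j _ ▸ h)

theorem semi (L : Lx V Z ι) {g : G} (hg : g ∉ 𝐂 Z) : Nat.card (fx V g) ^ 2 ≤ Nat.card V := by
  simp only [mem_centralizer_iff, not_forall] at hg
  obtain ⟨z, hz, t⟩ := hg
  exact L.fx_sq (mem_cz.1 (le_cz ⊤ hz) g trivial) t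

theorem master (L : Lx V Z ι) {κ : Type} [Finite κ] (nb : ¬ Bs G V κ) (T : (κ → V) → Prop) (h0 : ∀ t, T t → ∃ i, t i ≠ 0)
    (Φ : ℕ → ℕ) (h1 : ∀ W : Submodule K V, {t | T t ∧ ∀ i, t i ∈ W}.ncard ≤ Φ (Module.finrank K W)) (Ψ : ℕ)
    (h2 : ∀ U : AddSubgroup V, Nat.card U ^ 2 ≤ Nat.card V → {t | T t ∧ ∀ i, t i ∈ U}.ncard ≤ Ψ) :
    {t | T t}.ncard * 2 ≤ ((𝐂 Z).index - 1) * Nat.card (𝐂 Z) * (2 * Ψ) +
      sm (fun g : 𝐂 Z => (orderOf g.1).Prime ∧ g.1 ∉ Z) fun g => wt g.1 * Φ (dm L g) := by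
  refine (count L nb T h0).trans ?_
  rw [sm_split _ fun g => g ∈ 𝐂 Z, add_comm, sm_sub (· ∈ 𝐂 Z)]
  refine Nat.add_le_add (sm_le_mul (fun g hg => Nat.mul_le_mul (wt_le g) (h2 _ (semi L hg.2))) ?_)
    (sm_le_sm fun g hg => ⟨hg, Nat.mul_le_mul_left _ (h1 (fs L g))⟩)
  refine (Set.ncard_le_ncard (t := ((𝐂 Z : Subgroup G) : Set G)ᶜ) fun g hg => hg.2).trans (le_of_eq ?_)
  rw [Set.ncard_compl, ← (𝐂 Z).index_mul_card, Nat.sub_mul, one_mul]; rfl

namespace PS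

theorem ord_ph (P : PS V Z ι E π β) {g : 𝐂 Z} (hp : (orderOf g.1).Prime) (h : g.1 ∉ E) : orderOf (ph Z A g) = orderOf g.1 :=
  (hp.eq_one_or_self_of_dvd _ (orderOf_coe g ▸ orderOf_map_dvd _ g)).resolve_left fun e => h (P.ph_eq.1 (orderOf_eq_one_iff.1 e))

theorem big_fib (P : PS V Z ι E π β) (R : (𝐂 Z) → Prop) (Q : HH Z A → Prop) (c : ℕ)
    (h : ∀ g : 𝐂 Z, R g → (orderOf g.1).Prime ∧ g.1 ∉ Z ∧ big V g.1 ∧ Q (ph Z A g)) :
    sm R (fun g => wt g.1 * c) ≤ sm Q (fun h => wt h * (fx A h).index) * c := by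
  rw [← sm_mul]
  refine sm_fiber (ph Z A) (fun g hg => (h g hg).2.2.2) fun x _ => ?_
  rw [mul_comm (wt x), mul_assoc]
  refine sm_le_mul (fun g hg => le_of_eq ?_) (le_trans (Set.ncard_le_ncard fun g hg => And.intro (h g hg.1).2.2.1 hg.2) (P.b8 x))
  obtain ⟨a, b, c, -⟩ := h g hg.1
  rw [← hg.2, wt, wt, P.ord_ph a fun e => P.b1 e b c]

theorem big_sum (P : PS V Z ι E π β) {b : ℕ} (hb : Nat.card A = b * b) (Φ : ℕ → ℕ) (hΦ : Monotone Φ) :
    sm (fun g : 𝐂 Z => ((orderOf g.1).Prime ∧ g.1 ∉ Z) ∧ big V g.1) (fun g => wt g.1 * Φ (dm P.L g)) ≤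
      sm (TB β) (fun h : HH Z A => wt h * (fx A h).index) * Φ (2 * Module.finrank K V / 3) +
      {h : HH Z A | A2 β h}.ncard * 8 * Φ (3 * Module.finrank K V / 4) +
      (if 16 ∣ b then Nat.card (HH Z A) * (2 * b) else 0) * Φ (5 * Module.finrank K V / 8) := by
  rw [sm_split _ fun g => ∀ a, 2 • dl A (ph Z A g) a = 0, add_comm, add_assoc]
  refine Nat.add_le_add ((sm_le_sm fun g hg => ⟨hg, Nat.mul_le_mul_left _ (hΦ ?_)⟩).trans (P.big_fib _ _ _ fun g hg =>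
    ⟨hg.1.1.1, hg.1.1.2, hg.1.2, ?_, P.b3 hg.1.2, not_forall.1 hg.2⟩)) ?_
  · obtain ⟨a, ha⟩ := not_forall.1 hg.2
    have := dm_le P.L (P.b5 (g := g.1) ha) (by norm_num)
    omega
  · rw [P.ord_ph hg.1.1.1 fun e => P.b1 e hg.1.1.2 hg.1.2]; exact hg.1.1.1
  have o : ∀ g : 𝐂 Z, (((orderOf g.1).Prime ∧ g.1 ∉ Z) ∧ big V g.1) ∧ (∀ a, 2 • dl A (ph Z A g) a = 0) →
      orderOf g.1 = 2 ∧ TA β (ph Z A g) ∧ ph Z A g ≠ 1 := fun g hg =>
    ⟨P.ord2 hg.1.2 hg.1.1.1 hg.1.1.2 hg.2, P.b6 hg.1.2 (P.ord2 hg.1.2 hg.1.1.1 hg.1.1.2 hg.2) hg.2,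
      fun e => P.b1 (P.ph_eq.1 e) hg.1.1.2 hg.1.2⟩
  rw [sm_split _ fun g => (fx A (ph Z A g)).index = 4]
  refine Nat.add_le_add ((sm_le_sm fun g hg => ⟨hg, Nat.mul_le_mul_left _ (hΦ (dm_le P.L (P.b4 g.2 hg.1.1.1.2) (by norm_num)))⟩).trans
    ((P.big_fib _ (A2 β) _ fun g hg => ⟨hg.1.1.1.1, hg.1.1.1.2, hg.1.1.2, (o g hg.1).2.1, hg.2⟩).trans
      (Nat.mul_le_mul_right _ (sm_le_mul (fun h t => ?_) le_rfl)))) ?_
  · rw [t.2]; exact Nat.mul_le_mul_right 4 (wt_le h)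
  refine (sm_le_sm fun g hg => ⟨hg, Nat.mul_le_mul_left _ (hΦ (dm_le P.L (P.b7 hg.1.1.2 (o g hg.1).1 (o g hg.1).2.1 hg.2
    (o g hg.1).2.2) (by norm_num)))⟩).trans ((P.big_fib _ (fun h => TA β h ∧ 16 ≤ (fx A h).index ∧ 16 ∣ b) _ fun g hg =>
      ⟨hg.1.1.1.1, hg.1.1.1.2, hg.1.1.2, (o g hg.1).2.1, ?_⟩).trans (Nat.mul_le_mul_right _ ?_))
  · obtain ⟨-, t, n⟩ := o g hg.1
    have i := ((t.cases P.sy n).resolve_left hg.2).1
    have d := (Nat.pow_dvd_pow_iff two_ne_zero).1 (t.sq_dvd.trans (hb.trans (sq b).symm).dvd)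
    refine ⟨i, dvd_trans ?_ d⟩
    rw [← card_dl] at i ⊢
    haveI : Fact (Nat.Prime 2) := ⟨Nat.prime_two⟩
    obtain ⟨j, e⟩ := (IsPGroup.iff_card (p := 2) (G := Multiplicative (dl A (ph Z A g)).range)).1
      fun ⟨_, a, rfl⟩ => ⟨1, Subtype.ext (t.two a)⟩
    replace e : Nat.card (dl A (ph Z A g)).range = 2 ^ j := e
    rw [e] at i ⊢
    exact pow_dvd_pow 2 (show 4 ≤ j from (Nat.pow_le_pow_iff_right one_lt_two).1 i)
  split_ifs with d
  · exact sm_le_card fun h t => Nat.mul_le_mul (wt_le h) (Nat.le_of_dvd (Nat.pos_of_ne_zero fun e => by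
      have : 0 < Nat.card A := Nat.card_pos
      simp [hb, e] at this) ((Nat.pow_dvd_pow_iff two_ne_zero).1 (t.1.sq_dvd.trans (hb.trans (sq b).symm).dvd)))
  · exact (sm_le_card (M := 0) fun h t => (d t.2.2).elim).trans (mul_zero _).le

theorem small_sum (P : PS V Z ι E π β) (Φ : ℕ → ℕ) (hΦ : Monotone Φ) :
    sm (fun g : 𝐂 Z => ((orderOf g.1).Prime ∧ g.1 ∉ Z) ∧ ¬ big V g.1) (fun g => wt g.1 * Φ (dm P.L g)) ≤
      sm (fun g : 𝐂 Z => (orderOf g.1).Prime ∧ g.1 ∉ Z) (fun g => wt g.1) * Φ (Module.finrank K V / 2) := by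
  rw [← sm_mul]
  exact sm_le_sm fun g hg => ⟨hg.1, Nat.mul_le_mul_left _ (hΦ (by
    simpa using dm_le P.L (j := 1) (by simpa using not_lt.1 hg.2) two_pos))⟩

theorem A2_dvd {H : Type u} [Group H] [Finite H] [DistribMulAction H A] {h : H} (t : A2 β h) : 16 ∣ Nat.card A := by
  have := t.1.sq_dvd; rwa [t.2] at this

end PS

theorem fz {q0 f q z : ℕ} (h0 : 2 ≤ q0) (h : q0 ^ f = q) (hz : z ≤ q - 1) (f0 : f ≠ 0) : 8 * (f * z) ≤ 3 * q ^ 2 := by
  have h1 : 2 ^ f ≤ q := h ▸ Nat.pow_le_pow_left h0 f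
  obtain ⟨q, rfl⟩ : ∃ r, q = r + 1 := ⟨q - 1, by have := Nat.two_pow_pos f; omega⟩
  rw [Nat.add_sub_cancel] at hz
  rcases Nat.lt_or_ge f 3 with l | l
  · interval_cases f
    · omega
    · nlinarith
    · nlinarith
  have : 8 * f ≤ 3 * 2 ^ f := by
    clear h h1 f0
    induction f, l using Nat.le_induction with
    | base => norm_num
    | succ f hf ih => have := @Nat.lt_two_pow_self f; rw [pow_succ]; omega
  nlinarith

theorem ind_pow (b0 i c r s : ℕ) (h0 : c * b0 ^ i ≤ r ^ b0 * s) (h1 : (b0 + 1) ^ i ≤ r * b0 ^ i) (hb : 0 < b0) {b : ℕ} (h : b0 ≤ b) :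
    c * b ^ i ≤ r ^ b * s := by
  induction b, h using Nat.le_induction with
  | base => exact h0
  | succ b h ih =>
    have t1 : (b0 * (b + 1)) ^ i ≤ ((b0 + 1) * b) ^ i := Nat.pow_le_pow_left (by nlinarith) _
    rw [mul_pow, mul_pow] at t1
    have t2 : (b + 1) ^ i ≤ r * b ^ i := Nat.le_of_mul_le_mul_left (c := b0 ^ i)
      (t1.trans ((Nat.mul_le_mul_right _ h1).trans_eq (by ring))) (by positivity)
    calc _ ≤ r * (c * b ^ i) := (Nat.mul_le_mul_left _ t2).trans_eq (by ring)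
      _ ≤ r * (r ^ b * s) := Nat.mul_le_mul_left _ ih
      _ = _ := by ring

theorem pw_num {q0 f q z b a n : ℕ} (h0 : 2 ≤ q0) (h : q0 ^ f = q) (hz : z ∣ q - 1) (f0 : f ≠ 0) (b2 : 2 ≤ b) (bn : b ≤ n)
    (hp : ∀ r : ℕ, r.Prime → r ∣ b → r ∣ z) (ha : 24 ^ 4 * a ^ 12 ≤ (b * b) ^ 27) (a6 : b = 2 → a ≤ 6) :
    24 ^ 4 * (f * (z * (b * b) * a)) ^ 12 ≤ (q ^ n) ^ 27 := by
  have q2 : 2 ≤ q := h ▸ h0.trans (Nat.le_self_pow f0 _)
  have z1 := Nat.le_of_dvd (by omega) hz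
  have k := fz h0 h z1 f0
  have q3 : 3 ≤ q := by
    obtain ⟨r, hr, d⟩ := Nat.exists_prime_and_dvd (n := b) (by omega)
    have := Nat.le_of_dvd (by omega) ((hp r hr d).trans hz)
    have := hr.two_le
    omega
  refine le_trans ?_ (Nat.pow_le_pow_left (Nat.pow_le_pow_right (by omega) bn) 27)
  have g : (f * z) ^ 4 * b ^ 26 ≤ q ^ (9 * b) → 24 ^ 4 * (f * (z * (b * b) * a)) ^ 12 ≤ (q ^ b) ^ 27 := fun t =>
    calc _ = (f * z) ^ 12 * b ^ 24 * (24 ^ 4 * a ^ 12) := by ring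
      _ ≤ (f * z) ^ 12 * b ^ 24 * (b * b) ^ 27 := Nat.mul_le_mul_left _ ha
      _ = ((f * z) ^ 4 * b ^ 26) ^ 3 := by ring
      _ ≤ (q ^ (9 * b)) ^ 3 := Nat.pow_le_pow_left t 3
      _ = _ := by ring
  have g' : ∀ q1, q1 ≤ q → 81 * b ^ 26 ≤ 4096 * q1 ^ (9 * b - 8) → (f * z) ^ 4 * b ^ 26 ≤ q ^ (9 * b) := fun q1 l t => by
    have t1 := Nat.pow_le_pow_left k 4
    have t2 := t.trans (Nat.mul_le_mul_left _ (Nat.pow_le_pow_left l _))
    rw [show 9 * b = 8 + (9 * b - 8) by omega, pow_add]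
    refine Nat.le_of_mul_le_mul_left (c := 4096 * 81) ?_ (by norm_num)
    calc _ = (8 * (f * z)) ^ 4 * (81 * b ^ 26) := by ring
      _ ≤ (3 * q ^ 2) ^ 4 * (4096 * q ^ (9 * b - 8)) := Nat.mul_le_mul t1 t2
      _ = _ := by ring
  by_cases b5 : 5 ≤ b
  · refine g (g' 3 q3 (Nat.le_of_mul_le_mul_left (c := 3 ^ 8) ?_ (by norm_num)))
    have := ind_pow 5 26 (3 ^ 8 * 81) (3 ^ 9) 4096 (by norm_num) (by norm_num) (by norm_num) b5
    rw [mul_left_comm _ 4096, ← pow_add, show 8 + (9 * b - 8) = 9 * b by omega, pow_mul]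
    linarith
  have e3 : q = 3 → f = 1 ∧ z ≤ 2 := fun e => ⟨((Nat.prime_three.pow_eq_iff).1 (h.trans e)).2, by omega⟩
  have p2 := hp 2 Nat.prime_two
  have p3 := hp 3 Nat.prime_three
  interval_cases b
  · by_cases e : q = 3
    · obtain ⟨rfl, t⟩ := e3 e
      have := a6 rfl
      rw [e]
      calc _ ≤ 24 ^ 4 * (1 * (2 * (2 * 2) * 6)) ^ 12 := by gcongr
        _ ≤ _ := by norm_num
    · exact g (g' 5 (by have := (p2 (by norm_num)).trans hz; omega) (by norm_num))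
  · exact g (g' 4 (by have := (p3 (by norm_num)).trans hz; omega) (by norm_num))
  · by_cases e : q = 3
    · obtain ⟨rfl, t⟩ := e3 e
      refine g ?_
      rw [e]
      calc _ ≤ (1 * 2) ^ 4 * 4 ^ 26 := by gcongr
        _ ≤ _ := by norm_num
    · exact g (g' 4 (by omega) (by norm_num))

def PW (n : ℕ) : Prop := ∀ (G V : Type u) [Group G] [Finite G] [AddCommGroup V] [Finite V] [DistribMulAction G V]
  [Group.IsSolvable G] [Nontrivial V], Nat.card V < n → CR G V → 24 ^ 4 * (kr G V).index ^ 12 ≤ Nat.card V ^ 27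

theorem pw2_of (ih : PW.{u} (Nat.card V)) [Group.IsSolvable G] (h : CR G V) (hi : ¬ Irr G V) :
    24 ^ 8 * (kr G V).index ^ 12 ≤ Nat.card V ^ 27 := by
  obtain ⟨U, W, hU, hW, u1, w1, u0, w0, h2, h3⟩ := not_irr h hi
  letI := subAct hU
  letI := subAct hW
  haveI := (AddSubgroup.nontrivial_iff_ne_bot U).2 u0
  haveI := (AddSubgroup.nontrivial_iff_ne_bot W).2 w0
  calc _ ≤ 24 ^ 8 * ((kr G U).index * (kr G W).index) ^ 12 := Nat.mul_le_mul_left _ (Nat.pow_le_pow_left (idx_sum hU hW h3) _)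
    _ = (24 ^ 4 * (kr G U).index ^ 12) * (24 ^ 4 * (kr G W).index ^ 12) := by ring
    _ ≤ _ := Nat.mul_le_mul (ih G U (card_lt u1) (h.sub hU)) (ih G W (card_lt w1) (h.sub hW))
    _ ≤ _ := by rw [← mul_pow]; exact Nat.pow_le_pow_left (card_mul_le' h2) _

theorem PS.card_H (P : PS V Z ι E π β) : Nat.card (HH Z A) ≤ (kr G A).index :=
  card_im (G := G) (V := A) ▸ card_le_card_group _

theorem PS.q2 (P : PS V Z ι E π β) : 2 ≤ Nat.card K := Finite.one_lt_card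

theorem PS.bb [Nontrivial V] (P : PS V Z ι E π β) {b : ℕ} (hb : Nat.card A = b * b) : 0 < b ∧ b ≤ Module.finrank K V ∧
    (∀ r : ℕ, r.Prime → r ∣ b → r ∣ Nat.card Z) ∧ Nat.card A < Nat.card V := by
  have b0 : 0 < b := Nat.pos_of_ne_zero fun e => by
    have : 0 < Nat.card A := Nat.card_pos
    simp [hb, e] at this
  have bn := Nat.le_of_dvd Module.finrank_pos (P.dvd_dim hb)
  have hp : ∀ r : ℕ, r.Prime → r ∣ b → r ∣ Nat.card Z := fun r h d => P.prime_dvd h (hb ▸ d.mul_left _)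
  refine ⟨b0, bn, hp, ?_⟩
  by_cases b1 : b = 1
  · rw [hb, b1]; exact Finite.one_lt_card
  obtain ⟨r, hr, d⟩ := Nat.exists_prime_and_dvd b1
  have := Nat.le_of_dvd (by have := P.q2; omega) ((hp r hr d).trans P.card_Z)
  have := hr.two_le
  rw [hb, Module.natCard_eq_pow_finrank (K := K) (V := V)]
  calc b * b < 3 ^ b := by
        rcases Nat.lt_or_ge b 2 with l | l
        · omega
        · have := ind_pow 2 2 2 3 1 (by norm_num) (by norm_num) (by norm_num) l; nlinarith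
    _ ≤ _ := (Nat.pow_le_pow_left (by omega) b).trans (Nat.pow_le_pow_right (by omega) bn)

theorem pw_all (n : ℕ) : PW.{u} n := by
  induction n with
  | zero => intro G V _ _ _ _ _ _ _ h; omega
  | succ n ih =>
  intro G V _ _ _ _ _ _ _ hn hcr
  by_cases t : Nat.card V < n
  · exact ih G V t hcr
  obtain rfl : n = Nat.card V := by omega
  by_cases hi : Irr G V
  swap
  · exact le_trans (Nat.mul_le_mul_right _ (by norm_num)) (pw2_of ih hcr hi)
  rw [← card_im]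
  haveI := im_solv (G := G) (V := V)
  replace hi := im_irr hi
  have hf := im_faith (G := G) (V := V)
  generalize_proofs at *
  set G' := (rp G V).range
  rcases exists_PS hi hf with ⟨H, e, h⟩ | ⟨K, _, _, _, Z, _, ι, E, _, A, _, _, _, π, β, P⟩
  · letI := subAct h.inv
    haveI := h.nontriv
    have h1 := ih H e.range (card_lt h.ne_top) (h.irr hi).cr
    have h2 : 24 ^ 4 * H.normalCore.index ^ 12 ≤ (24 ^ 4) ^ H.index := by
      by_cases l : 5 ≤ H.index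
      · obtain ⟨M, _, hc, M0, i, c1, c2, -⟩ := prim_quot h.co
        haveI : Nontrivial (AX M hc) := (nontrivial_iff_ne_bot M).2 M0
        have := ih _ (AX M hc) (by rw [AX.card, c1]; exact h.idx_lt) i.cr
        rw [AX.kr_eq, c2, AX.card, c1] at this
        have t := ind_pow 5 39 1 (24 ^ 4) 1 (by norm_num) (by norm_num) (by norm_num) l
        rw [index, ← M.index_mul_card, c1, mul_pow, ← mul_assoc]
        refine (Nat.mul_le_mul_right _ this).trans ?_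
        rw [← pow_add]; simpa using t
      · have : H.normalCore.index ≤ H.index.factorial := by
          rw [normalCore_eq_ker, index_ker, index_eq_card, ← Nat.card_perm]
          exact card_le_card_group _
        have i1 : H.index ≠ 1 := fun e => h.co.1 (index_eq_one.1 e)
        have i0 : H.index ≠ 0 := index_ne_zero_of_finite
        refine (Nat.mul_le_mul_left _ (Nat.pow_le_pow_left this _)).trans ?_
        generalize H.index = m at *
        interval_cases m <;> simp_all [Nat.factorial]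
    calc _ = 24 ^ 4 * H.normalCore.index ^ 12 * Nat.card H.normalCore ^ 12 := by rw [← H.normalCore.index_mul_card]; ring
      _ ≤ (24 ^ 4) ^ H.index * ((kr H e.range).index ^ H.index) ^ 12 :=
        Nat.mul_le_mul h2 (Nat.pow_le_pow_left (h.card_core hi hf) _)
      _ = (24 ^ 4 * (kr H e.range).index ^ 12) ^ H.index := by ring
      _ ≤ (Nat.card e.range ^ 27) ^ H.index := Nat.pow_le_pow_left h1 _
      _ ≤ _ := by rw [← pow_mul, mul_comm, pow_mul]; exact Nat.pow_le_pow_left h.pow_le _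
  obtain ⟨b, hb⟩ := P.alt.isSquare
  obtain ⟨b0, bn, hp, lt⟩ := P.bb hb
  obtain ⟨q0, q1, q2⟩ := P.fld
  rw [← (𝐂 Z).index_mul_card, P.card_C, hb, Module.natCard_eq_pow_finrank (K := K) (V := V)]
  by_cases b1 : b = 1
  · subst b1
    haveI : Subsingleton A := (Nat.card_eq_one_iff_unique.1 hb).1
    haveI : Subsingleton (HH Z A) := ⟨fun x y => inv_mul_eq_one.1 (P.sy.faith _ fun a => Subsingleton.elim _ _)⟩
    have k := fz q1 q2 (Nat.le_of_dvd (by have := P.q2; omega) P.card_Z) index_ne_zero_of_finite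
    rw [Nat.card_unique (α := HH Z A), mul_one, mul_one, mul_one]
    refine le_trans ?_ (Nat.pow_le_pow_left (Nat.le_self_pow (by omega) _) 27)
    refine Nat.le_of_mul_le_mul_left (c := 8 ^ 12) ?_ (by norm_num)
    have t := Nat.pow_le_pow_left P.q2 3
    calc _ = 24 ^ 4 * (8 * ((𝐂 Z).index * Nat.card Z)) ^ 12 := by ring
      _ ≤ 24 ^ 4 * (3 * Nat.card K ^ 2) ^ 12 := Nat.mul_le_mul_left _ (Nat.pow_le_pow_left k _)
      _ = (24 ^ 4 * 3 ^ 12) * Nat.card K ^ 24 := by ring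
      _ ≤ (8 ^ 12 * Nat.card K ^ 3) * Nat.card K ^ 24 := Nat.mul_le_mul_right _ (by omega)
      _ = _ := by ring
  haveI : Nontrivial A := Finite.one_lt_card_iff_nontrivial.1 (by nlinarith [Nat.pos_of_ne_zero (show b - 1 ≠ 0 by omega), show b - 1 + 1 = b by omega])
  refine pw_num q1 q2 P.card_Z index_ne_zero_of_finite (by omega) bn hp (hb ▸ le_trans (Nat.mul_le_mul_left _
    (Nat.pow_le_pow_left P.card_H _)) (ih G' A lt P.cr)) fun e => ?_
  subst e
  simpa using P.sy.rank2 Nat.prime_two.squarefree hb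

theorem PS.pw (P : PS V Z ι E π β) {b : ℕ} (hb : Nat.card A = b * b) (b2 : 2 ≤ b) : 24 ^ 4 * Nat.card (HH Z A) ^ 12 ≤ b ^ 54 := by
  haveI := P.solv
  haveI : Nontrivial A := Finite.one_lt_card_iff_nontrivial.1 (by nlinarith)
  have := pw_all _ G A (Nat.lt_succ_self _) P.cr
  rw [hb, ← sq, ← pow_mul] at this
  exact le_trans (Nat.mul_le_mul_left _ (Nat.pow_le_pow_left P.card_H _)) this

theorem PS.pw2 (P : PS V Z ι E π β) (hb : Nat.card A = 12 * 12) : Nat.card (HH Z A) ≤ 8640 := by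
  haveI := P.solv
  have := pw2_of (pw_all _) P.cr fun hi => by
    rcases hi (tor A 2) (fun g a ha => by show _ = _; rw [smul_comm, show 2 • a = 0 from ha, smul_zero]) with e | e
    · obtain ⟨a, ha⟩ := exists_prime_addOrderOf_dvd_card' (G := A) (hp := ⟨Nat.prime_two⟩) 2 (by rw [hb]; norm_num)
      have : a ∈ tor A 2 := ha ▸ addOrderOf_nsmul_eq_zero a
      rw [e, AddSubgroup.mem_bot] at this
      simp [this] at ha
    · exact not_dvd_tor (A := A) (r := 2) Nat.prime_three (by norm_num) (by rw [e, AddSubgroup.card_top, hb]; norm_num)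
  by_contra! l
  have t : 8641 ^ 12 ≤ _ := Nat.pow_le_pow_left (l.trans_le P.card_H) 12
  rw [hb] at this
  omega

end Cfsg.Lib.Hall.B3
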