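import Cfsg.Agent.Lib.Hall.B3h
import Mathlib.LinearAlgebra.Matrix.GeneralLinearGroup.Card

/-! # Bases of solvable linear groups: the master inequalities -/

set_option autoImplicit false
set_option linter.unusedSectionVars false
set_option linter.style.haveILetI false

namespace Cfsg.Lib.Hall.B3

open Cfsg Cfsg.Lib Subgroup Cfsg.Lib.Block.B2
open scoped commutatorElement

structure In (k b q f z a n M S ρ : ℕ) : Prop where
  H : (q ^ (k * n) - 1) * 2 ≤ (f - 1) * (z * (b * b) * a) * (2 * q ^ ((k * n + 1) / 2)) + (M * q ^ (k * (n / 2)) +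
    (S * q ^ (k * (2 * n / 3)) + ρ * 8 * q ^ (k * (3 * n / 4)) + (if 16 ∣ b then a * (2 * b) else 0) * q ^ (k * (5 * n / 8))))
  k23 : k = 2 ∨ k = 3
  fq : ∃ q0, 2 ≤ q0 ∧ q0 ^ f = q
  hz : z ∣ q - 1
  q2 : 2 ≤ q
  hM : M ≤ z * (b * b) * a * 2

def FF (k q1 n1 j0 j1 : ℕ) (Y0 Y1 Y2 Y4 Y3 : ℚ) : ℚ :=
  2 / q1 ^ (k * n1) + Y0 / q1 ^ (k * n1 / 2 - j0) + Y1 / q1 ^ (k * (n1 - n1 / 2) - j1) + Y2 / q1 ^ (k * (n1 - 2 * n1 / 3)) +
    Y4 / q1 ^ (k * (n1 - 3 * n1 / 4)) + Y3 / q1 ^ (k * (n1 - 5 * n1 / 8))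

theorem term {X q q1 e j c N : ℕ} {Y : ℚ} (hX : (X : ℚ) ≤ Y * q ^ j) (h : e + j + c ≤ N) (h1 : q1 ≤ q) (h0 : 0 < q1) :
    (X * q ^ e : ℚ) ≤ Y / q1 ^ c * q ^ N := by
  have q0 : (0 : ℚ) < q := by exact_mod_cast h0.trans_le h1
  have hY : 0 ≤ Y := nonneg_of_mul_nonneg_left ((Nat.cast_nonneg X).trans hX) (by positivity)
  rw [div_mul_eq_mul_div, le_div_iff₀ (by positivity)]
  calc (X * q ^ e * q1 ^ c : ℚ) ≤ Y * q ^ j * q ^ e * q ^ c := by gcongr
    _ = Y * q ^ (e + j + c) := by ring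
    _ ≤ _ := by gcongr; exact_mod_cast h0.trans_le h1

theorem In.core {k b q f z a n M S ρ : ℕ} (I : In k b q f z a n M S ρ) {q1 n1 j0 j1 : ℕ} {Y0 Y1 Y2 Y4 Y3 : ℚ} (h1 : q1 ≤ q)
    (h0 : 0 < q1) (hn : n1 ≤ n) (j0' : j0 ≤ k * n1 / 2) (j1' : j1 ≤ k * (n1 - n1 / 2))
    (y0 : (((f - 1) * (z * (b * b) * a) * 2 : ℕ) : ℚ) ≤ Y0 * q ^ j0) (y1 : (M : ℚ) ≤ Y1 * q ^ j1) (y2 : (S : ℚ) ≤ Y2)
    (y4 : ((ρ * 8 : ℕ) : ℚ) ≤ Y4) (y3 : ((if 16 ∣ b then a * (2 * b) else 0 : ℕ) : ℚ) ≤ Y3) :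
    2 ≤ FF k q1 n1 j0 j1 Y0 Y1 Y2 Y4 Y3 := by
  have q0 : (0 : ℚ) < q := by exact_mod_cast h0.trans_le h1
  have H := I.H
  rw [Nat.sub_mul, tsub_le_iff_left, ← mul_assoc] at H
  have H' := (Nat.cast_le (α := ℚ)).2 H
  simp only [Nat.cast_add, Nat.cast_mul (_ * 2), Nat.cast_mul M, Nat.cast_mul S, Nat.cast_mul (ρ * 8), Nat.cast_mul (ite _ _ _),
    Nat.cast_pow, Nat.cast_mul (q ^ _), Nat.cast_ofNat, one_mul] at H'
  have t := term (X := 2) (Y := 2) (j := 0) (e := 0) (c := k * n1) (N := k * n) (by simp) (by simpa using Nat.mul_le_mul_left k hn) h1 h0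
  have t0 := term (e := (k * n + 1) / 2) (c := k * n1 / 2 - j0) (N := k * n) y0 (by rcases I.k23 with rfl | rfl <;> omega) h1 h0
  have t1 := term (e := k * (n / 2)) (c := k * (n1 - n1 / 2) - j1) (N := k * n) y1 (by rcases I.k23 with rfl | rfl <;> omega) h1 h0
  have t2 := term (j := 0) (e := k * (2 * n / 3)) (c := k * (n1 - 2 * n1 / 3)) (N := k * n) (by simpa using y2)
    (by rcases I.k23 with rfl | rfl <;> omega) h1 h0
  have t4 := term (j := 0) (e := k * (3 * n / 4)) (c := k * (n1 - 3 * n1 / 4)) (N := k * n) (by rwa [pow_zero, mul_one] : _ ≤ Y4 * _)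
    (by rcases I.k23 with rfl | rfl <;> omega) h1 h0
  have t3 := term (j := 0) (e := k * (5 * n / 8)) (c := k * (n1 - 5 * n1 / 8)) (N := k * n) (by rwa [pow_zero, mul_one] : _ ≤ Y3 * _)
    (by rcases I.k23 with rfl | rfl <;> omega) h1 h0
  refine le_of_mul_le_mul_right ?_ (pow_pos q0 (k * n))
  simp only [FF, add_mul]
  simp only [pow_zero, Nat.cast_ofNat, mul_one] at t
  linarith

def F1 (k b q1 n1 a0 ρ0 S0 w : ℕ) : ℚ :=
  FF k q1 n1 2 1 (2 * (b * b) * a0 / w) (2 * (b * b) * a0) S0 (ρ0 * 8) (if 16 ∣ b then a0 * (2 * b) else 0)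

def fm (q : ℕ) : ℕ := if q = 4 ∨ q = 9 ∨ q = 25 then 2 else if q = 8 ∨ q = 27 then 3 else if q = 16 then 4 else if q = 32 then 5 else 1

def F2 (k b q n1 a0 ρ0 S0 M0 : ℕ) : ℚ :=
  FF k q n1 0 0 ((fm q - 1) * ((q - 1) * (b * b) * a0) * 2 : ℕ) M0 S0 (ρ0 * 8) (if 16 ∣ b then a0 * (2 * b) else 0)

theorem fm_le {q0 f q : ℕ} (h0 : 2 ≤ q0) (h : q0 ^ f = q) (q2 : 2 ≤ q) (hq : q < 34) : f ≤ fm q := by
  have h1 : 2 ^ f ≤ q := h ▸ Nat.pow_le_pow_left h0 f
  have h2 : f < 6 := by by_contra! l; have := Nat.pow_le_pow_right two_pos l; omega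
  have h3 : q0 < 34 := (Nat.le_self_pow (by rintro rfl; rw [pow_zero] at h; omega) _).trans_lt (h ▸ hq)
  have : ∀ q0 < 34, ∀ f < 6, 2 ≤ q0 → q0 ^ f < 34 → f ≤ fm (q0 ^ f) := by decide +kernel
  exact h ▸ this q0 h3 f h2 h0 (h ▸ hq)

theorem In.w4 {k b q f z a n M S ρ : ℕ} (I : In k b q f z a n M S ρ) : 4 * (f - 1) ≤ q := by
  obtain ⟨q0, h0, h⟩ := I.fq
  refine le_trans ?_ (h ▸ Nat.pow_le_pow_left h0 f)
  rcases f with _ | _ | f
  · simp
  · simp
  · have := @Nat.lt_two_pow_self f; rw [pow_succ, pow_succ]; omega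

theorem In.w9 {k b q f z a n M S ρ : ℕ} (I : In k b q f z a n M S ρ) (ho : ¬ 2 ∣ q) : 9 * (f - 1) ≤ q := by
  obtain ⟨q0, h0, h⟩ := I.fq
  rcases f with _ | _ | f
  · simp
  · simp
  have : q0 ≠ 2 := by rintro rfl; exact ho (h ▸ dvd_pow_self 2 (by omega))
  refine le_trans ?_ (h ▸ Nat.pow_le_pow_left (show 3 ≤ q0 by omega) _)
  have := Nat.lt_pow_self (a := 3) (n := f) (by norm_num); rw [pow_succ, pow_succ]; omega

theorem cite {b a a0 : ℕ} (h : a ≤ a0) : ((if 16 ∣ b then a * (2 * b) else 0 : ℕ) : ℚ) ≤ if 16 ∣ b then (a0 : ℚ) * (2 * b) else 0 := by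
  split_ifs
  · push_cast; gcongr
  · simp

theorem In.gen1 {k b q f z a n M S ρ : ℕ} (I : In k b q f z a n M S ρ) (q1 n1 a0 ρ0 S0 w : ℕ) (h1 : q1 ≤ q) (hn : n1 ≤ n)
    (ha : a ≤ a0) (hρ : ρ ≤ ρ0) (hS : S ≤ S0) (hw : w * (f - 1) ≤ q) (h : 0 < q1 ∧ 2 ≤ n1 ∧ 0 < w ∧ F1 k b q1 n1 a0 ρ0 S0 w < 2) :
    False := by
  obtain ⟨h0, n2, w0, h⟩ := h
  have z1 : z ≤ q := (Nat.le_of_dvd (by have := I.q2; omega) I.hz).trans (Nat.sub_le _ _)
  refine h.not_ge (I.core h1 h0 hn (by rcases I.k23 with rfl | rfl <;> omega) (by rcases I.k23 with rfl | rfl <;> omega) ?_ ?_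
    (by exact_mod_cast hS) (by push_cast; gcongr) (cite ha))
  · rw [div_mul_eq_mul_div, le_div_iff₀ (by positivity)]
    norm_cast
    calc _ = (w * (f - 1)) * z * (2 * (b * b) * a) := by ring
      _ ≤ q * q * (2 * (b * b) * a0) := by gcongr
      _ = _ := by ring
  · norm_cast
    calc _ ≤ z * (b * b) * a * 2 := I.hM
      _ ≤ q * (b * b) * a0 * 2 := by gcongr
      _ = _ := by ring

theorem In.gen2 {k b q f z a n M S ρ : ℕ} (I : In k b q f z a n M S ρ) (n1 a0 ρ0 S0 M0 : ℕ) (hq : q < 34) (hn : n1 ≤ n)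
    (ha : a ≤ a0) (hρ : ρ ≤ ρ0) (hS : S ≤ S0) (hM : M ≤ M0) (h : F2 k b q n1 a0 ρ0 S0 M0 < 2) : False := by
  obtain ⟨q0, h0, e⟩ := I.fq
  have := fm_le h0 e I.q2 hq
  have z1 : z ≤ q - 1 := Nat.le_of_dvd (by have := I.q2; omega) I.hz
  refine h.not_ge (I.core le_rfl (by have := I.q2; omega) hn (Nat.zero_le _) (Nat.zero_le _) ?_ (by simpa using hM)
    (by exact_mod_cast hS) (by push_cast; gcongr) (cite ha))
  rw [pow_zero, mul_one, Nat.cast_le]; gcongr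

theorem In.M' {k b q f z a n M S ρ : ℕ} (I : In k b q f z a n M S ρ) {a0 : ℕ} (ha : a ≤ a0) : M ≤ (q - 1) * (b * b) * a0 * 2 := by
  have z1 : z ≤ q - 1 := Nat.le_of_dvd (by have := I.q2; omega) I.hz
  exact I.hM.trans (by gcongr)

theorem In.gen2' {k b q f z a n M S ρ : ℕ} (I : In k b q f z a n M S ρ) (n1 a0 ρ0 S0 : ℕ) (hq : q < 34) (hn : n1 ≤ n)
    (ha : a ≤ a0) (hρ : ρ ≤ ρ0) (hS : S ≤ S0) (h : F2 k b q n1 a0 ρ0 S0 ((q - 1) * (b * b) * a0 * 2) < 2) : False :=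
  I.gen2 n1 a0 ρ0 S0 _ hq hn ha hρ hS (I.M' ha) h

theorem In.large {k b q f z a n M S ρ : ℕ} (I : In k b q f z a n M S ρ) (hb : 56 ≤ b) (q3 : 3 ≤ q) (hn : b ≤ n)
    (ha : 24 ^ 4 * a ^ 12 ≤ b ^ 54) (a0 : 0 < a) (hρ : ρ ≤ a) (hS : S ≤ a * (2 * (b * b))) : False := by
  refine I.gen1 3 b a a _ 4 q3 hn le_rfl hρ hS I.w4 ⟨by norm_num, by omega, by norm_num, ?_⟩
  have k : ∀ (Y : ℚ) (c : ℕ), 0 ≤ Y → b / 2 - 2 ≤ c → Y / (3 : ℕ) ^ c ≤ Y / 3 ^ (b / 2 - 2) := fun Y c h l => by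
    push_cast; gcongr; norm_num
  have t1 : 8 * a ^ 2 ≤ b ^ 9 := (Nat.pow_le_pow_iff_left (n := 6) (by norm_num)).1 (by
    rw [mul_pow, ← pow_mul, ← pow_mul]; norm_num; omega)
  have t2 := ind_pow 56 13 487 3 1 (by norm_num) (by norm_num) (by norm_num) hb
  have t3 : 4 * (b * b) * a < 3 ^ (b / 2 - 2) := lt_of_pow_lt_pow_left₀ 2 (Nat.zero_le _) (by
    have : 3 ^ b ≤ 3 ^ 5 * (3 ^ (b / 2 - 2)) ^ 2 := by rw [← pow_mul, ← pow_add]; exact Nat.pow_le_pow_right (by norm_num) (by omega)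
    have : 0 < b ^ 13 := by positivity
    have : (4 * (b * b) * a) ^ 2 ≤ 2 * b ^ 13 :=
      calc _ = 2 * b ^ 4 * (8 * a ^ 2) := by ring
        _ ≤ 2 * b ^ 4 * b ^ 9 := Nat.mul_le_mul_left _ t1
        _ = _ := by ring
    omega)
  have t4 : (4 * (b * b) * a : ℚ) < 3 ^ (b / 2 - 2) := by exact_mod_cast t3
  have b1 : (56 : ℚ) ≤ b := by exact_mod_cast hb
  have a1 : (1 : ℚ) ≤ a := by exact_mod_cast a0
  have c : (if 16 ∣ b then (a : ℚ) * (2 * b) else 0) ≤ a * (2 * b) := by split_ifs; exacts [le_rfl, by positivity]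
  have c0 : 0 ≤ (if 16 ∣ b then (a : ℚ) * (2 * b) else 0) := by split_ifs <;> positivity
  unfold F1 FF
  refine lt_of_le_of_lt (add_le_add (add_le_add (add_le_add (add_le_add (add_le_add (k _ _ ?_ ?_) (k _ _ ?_ ?_)) (k _ _ ?_ ?_))
    (k _ _ ?_ ?_)) (k _ _ ?_ ?_)) (k _ _ c0 ?_)) ?_
  any_goals positivity
  any_goals rcases I.k23 with rfl | rfl <;> omega
  simp only [← add_div]
  rw [div_lt_iff₀ (by positivity)]
  push_cast
  nlinarith [mul_le_mul b1 a1 zero_le_one (by positivity), mul_le_mul_of_nonneg_right b1 (show (0 : ℚ) ≤ b * a by positivity)]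

def rd (b : ℕ) : ℕ := ∏ r ∈ (Finset.range 56).filter fun r => r.Prime ∧ r ∣ b, r
theorem rd_dvd {b z : ℕ} (h : ∀ r : ℕ, r.Prime → r ∣ b → r ∣ z) : rd b ∣ z :=
  Finset.prod_primes_dvd _ (fun r hr => (Finset.mem_filter.1 hr).2.1.prime) fun r hr =>
    h r (Finset.mem_filter.1 hr).2.1 (Finset.mem_filter.1 hr).2.2

def tb (b : ℕ) : ℕ := [0, 0, 7, 48, 177, 484, 1100, 2202, 4016, 6823, 10963, 16834, 24902, 35700, 49831, 67973, 90880, 119384,
  154403, 196934, 248064, 308970, 380918, 465269, 563482, 677110, 807810, 957340, 1127562, 1320445, 1538066,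
  1782613, 2056385, 2361795, 2701373, 3077767, 3493742, 3952185, 4456108, 5008645, 5613058, 6272735, 6991194,
  7772086, 8619193, 9536431, 10527853, 11597648, 12750145, 13989814, 15321264, 16749250, 18278671, 19914573,
  21662147, 23526736].getD b 0

theorem tb_le {a b : ℕ} (hb : b < 56) (h : 24 ^ 4 * a ^ 12 ≤ b ^ 54) : a ≤ tb b := by
  have : ∀ b < 56, b ^ 54 < 24 ^ 4 * (tb b + 1) ^ 12 := by decide +kernel
  by_contra! l
  exact (this b hb).not_ge ((Nat.mul_le_mul_left _ (Nat.pow_le_pow_left l _)).trans h)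

universe u
variable {G V : Type u} [Group G] [Finite G] [AddCommGroup V] [Finite V] [DistribMulAction G V]

local notation "𝐂" S => centralizer (SetLike.coe S)

variable {K : Type u} [Field K] [Finite K] [Module K V] {Z : Subgroup G} [hZn : Z.Normal] {ι : Z →* K} {E : Subgroup G}
  [hEn : E.Normal] {A : Type u} [AddCommGroup A] [Finite A] [DistribMulAction G A] {π : G → A} {β : Fm K A}

theorem ncard_tup {κ : Type} [Finite κ] (T : (κ → V) → Prop) (U : Set V) :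
    {t | T t ∧ ∀ i, t i ∈ U}.ncard = Nat.card {s : κ → U // T fun i => (s i).1} :=
  Nat.card_congr
    { toFun := fun t => ⟨fun i => ⟨t.1 i, t.2.2 i⟩, t.2.1⟩
      invFun := fun s => ⟨fun i => (s.1 i).1, s.2, fun i => (s.1 i).2⟩
      left_inv := fun _ => rfl
      right_inv := fun _ => rfl }

theorem ncard_tup_le {k : ℕ} (T : (Fin k → V) → Prop) (U : Set V) : {t | T t ∧ ∀ i, t i ∈ U}.ncard ≤ Nat.card U ^ k := by
  rw [ncard_tup]
  exact (Nat.card_le_card_of_injective _ Subtype.val_injective).trans (by simp [Nat.card_fun])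

variable (Z) in
noncomputable abbrev MM : ℕ := sm (fun g : 𝐂 Z => (orderOf g.1).Prime ∧ g.1 ∉ Z) fun g => wt g.1
variable (Z β) in
noncomputable abbrev SS : ℕ := sm (TB β) fun h : HH Z A => wt h * (fx A h).index
variable (Z β) in
noncomputable abbrev RR : ℕ := {h : HH Z A | A2 β h}.ncard

theorem PS.sum (P : PS V Z ι E π β) {b : ℕ} (hb : Nat.card A = b * b) (Φ : ℕ → ℕ) (hΦ : Monotone Φ) :
    sm (fun g : 𝐂 Z => (orderOf g.1).Prime ∧ g.1 ∉ Z) (fun g => wt g.1 * Φ (dm P.L g)) ≤ MM Z * Φ (Module.finrank K V / 2) +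
      (SS Z β * Φ (2 * Module.finrank K V / 3) + RR Z β * 8 * Φ (3 * Module.finrank K V / 4) +
      (if 16 ∣ b then Nat.card (HH Z A) * (2 * b) else 0) * Φ (5 * Module.finrank K V / 8)) := by
  rw [sm_split _ fun g => big V g.1, add_comm]
  exact Nat.add_le_add (P.small_sum Φ hΦ) (P.big_sum hb Φ hΦ)

theorem PS.inn (P : PS V Z ι E π β) {b : ℕ} (hb : Nat.card A = b * b) {k : ℕ} (hk : k = 2 ∨ k = 3) (nb : ¬ Bs G V (Fin k)) :
    In k b (Nat.card K) (𝐂 Z).index (Nat.card Z) (Nat.card (HH Z A)) (Module.finrank K V) (MM Z) (SS Z β) (RR Z β) := by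
  have hN := Module.natCard_eq_pow_finrank (K := K) (V := V)
  refine ⟨?_, hk, P.fld, P.card_Z, P.q2, by rw [← hb, ← P.card_C]; exact sm_le_card fun g _ => wt_le _⟩
  have := master P.L nb (· ≠ 0) (fun t ht => Function.ne_iff.1 ht) (fun d => Nat.card K ^ (k * d))
    (fun W => (ncard_tup_le _ (W : Set V)).trans (by
      rw [show Nat.card (W : Set V) = Nat.card W from rfl, Module.natCard_eq_pow_finrank (K := K) (V := W), ← pow_mul, mul_comm]))
    (Nat.card K ^ ((k * Module.finrank K V + 1) / 2)) fun U hU => (ncard_tup_le _ (U : Set V)).trans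
      ((Nat.pow_le_pow_iff_left two_ne_zero).1 (by
        rw [← pow_mul, mul_comm, pow_mul]
        refine (Nat.pow_le_pow_left hU k).trans ?_
        rw [hN, ← pow_mul, ← pow_mul]
        exact Nat.pow_le_pow_right Nat.card_pos (by rw [mul_comm]; omega)))
  rw [P.card_C, hb, show {t : Fin k → V | t ≠ 0} = {0}ᶜ from rfl, Set.ncard_compl, Set.ncard_singleton, Nat.card_fun, hN,
    Nat.card_fin, ← pow_mul, mul_comm (Module.finrank K V)] at this
  exact this.trans (Nat.add_le_add_left (P.sum hb _ fun x y h => Nat.pow_le_pow_right Nat.card_pos (Nat.mul_le_mul_left _ h)) _)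

def LI (q k d : ℕ) : ℕ := ∏ i : Fin k, (q ^ d - q ^ i.val)

theorem card_li (k : ℕ) : Nat.card {s : Fin k → V // LinearIndependent K s} = LI (Nat.card K) k (Module.finrank K V) := by
  haveI := Fintype.ofFinite K
  haveI := Fintype.ofFinite V
  by_cases h : k ≤ Module.finrank K V
  · rw [card_linearIndependent h, LI, Nat.card_eq_fintype_card]
  · haveI : IsEmpty {s : Fin k → V // LinearIndependent K s} := ⟨fun s => h (by simpa using s.2.fintype_card_le_finrank)⟩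
    rw [Nat.card_of_isEmpty, LI, Finset.prod_eq_zero (Finset.mem_univ (⟨_, not_le.1 h⟩ : Fin k)) (Nat.sub_self _)]

theorem LI_mono (q k : ℕ) (h : 0 < q) : Monotone (LI q k) := fun _ _ l =>
  Finset.prod_le_prod' fun _ _ => Nat.sub_le_sub_right (Nat.pow_le_pow_right h l) _

theorem li_master (L : Lx V Z ι) {k : ℕ} (hk : 0 < k) (nb : ¬ Bs G V (Fin k)) {s : ℕ} (hs : Nat.card V < (s + 1) ^ 2) :
    LI (Nat.card K) k (Module.finrank K V) * 2 ≤ ((𝐂 Z).index - 1) * Nat.card (𝐂 Z) * (2 * (s - 1).descFactorial k) +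
      sm (fun g : 𝐂 Z => (orderOf g.1).Prime ∧ g.1 ∉ Z) fun g => wt g.1 * LI (Nat.card K) k (dm L g) := by
  rw [← card_li]
  refine master L nb (fun t => LinearIndependent K t) (fun t ht => ⟨⟨0, hk⟩, LinearIndependent.ne_zero _ ht⟩) _ (fun W => ?_) _ fun U hU => ?_
  · refine (ncard_tup _ (W : Set V)).trans_le ?_
    rw [← card_li]
    exact Nat.card_le_card_of_injective (fun s => ⟨s.1, LinearIndependent.of_comp W.subtype s.2⟩) fun a b e =>
      Subtype.ext (Subtype.mk.inj e)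
  · classical
    have l : Nat.card U ≤ s := Nat.le_of_lt_succ (lt_of_pow_lt_pow_left₀ 2 (Nat.zero_le _) (hU.trans_lt hs))
    haveI := Fintype.ofFinite ((U : Set V) \ {0} : Set V)
    refine (Nat.card_le_card_of_injective (fun t : {t | LinearIndependent K t ∧ ∀ i, t i ∈ U} =>
      (⟨fun i => ⟨t.1 i, t.2.2 i, t.2.1.ne_zero i⟩, fun i j e => t.2.1.injective (Subtype.mk.inj e)⟩ :
        Fin k ↪ ((U : Set V) \ {0} : Set V))) fun a b e => Subtype.ext (funext fun i => Subtype.mk.inj (DFunLike.congr_fun e i))).trans ?_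
    rw [Nat.card_eq_fintype_card, Fintype.card_embedding_eq, Fintype.card_fin, ← Nat.card_eq_fintype_card, Nat.card_coe_set_eq,
      Set.ncard_sdiff_singleton_of_mem U.zero_mem]
    exact Nat.descFactorial_le _ (Nat.sub_le_sub_right l 1)

theorem PS.li (P : PS V Z ι E π β) {b : ℕ} (hb : Nat.card A = b * b) {k : ℕ} (hk : 0 < k) (nb : ¬ Bs G V (Fin k)) {s n q : ℕ}
    (hn : Module.finrank K V = n) (hq : Nat.card K = q) (hs : q ^ n < (s + 1) ^ 2) :
    LI q k n * 2 ≤ ((𝐂 Z).index - 1) * (Nat.card Z * (b * b) * Nat.card (HH Z A)) * (2 * (s - 1).descFactorial k) +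
      (MM Z * LI q k (n / 2) + (SS Z β * LI q k (2 * n / 3) + RR Z β * 8 * LI q k (3 * n / 4) +
      (if 16 ∣ b then Nat.card (HH Z A) * (2 * b) else 0) * LI q k (5 * n / 8))) := by
  subst hn hq
  rw [← hb, ← P.card_C]
  exact (li_master P.L hk nb (by rwa [Module.natCard_eq_pow_finrank (K := K)])).trans
    (Nat.add_le_add_left (P.sum hb _ (LI_mono _ _ Nat.card_pos)) _)

theorem PS.SS_le (P : PS V Z ι E π β) {b : ℕ} (hb : Nat.card A = b * b) : SS Z β ≤ Nat.card (HH Z A) * (2 * (b * b)) :=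
  sm_le_card fun h _ => Nat.mul_le_mul (wt_le h) ((Nat.le_of_dvd Nat.card_pos (fx A h).index_dvd_card).trans hb.le)

theorem PS.SS_zero (P : PS V Z ι E π β) {m : ℕ} (h : Nat.card A = 2 ^ m) : SS Z β ≤ 0 :=
  (sm_le_card (M := 0) fun _ ⟨_, _, a, t⟩ => (t (by rw [two_nsmul, (P.st h).e2])).elim).trans (mul_zero _).le

theorem RR_zero {b : ℕ} (hb : Nat.card A = b * b) (h : ¬ 4 ∣ b) : RR Z β ≤ 0 := by
  rw [RR, Set.eq_empty_of_forall_notMem (s := {h : HH Z A | A2 β h}) fun x t => h ((Nat.pow_dvd_pow_iff two_ne_zero).1 (by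
    have := PS.A2_dvd t; rwa [hb, ← sq] at this)), Set.ncard_empty]

theorem cz_le (L : Lx V Z ι) {s : ℕ} (hs : 0 < s) : {z : Z | z ^ s = 1}.ncard ≤ s := by
  classical
  haveI := isCyclic_of_injective_ringHom ι L.inj
  haveI := Fintype.ofFinite Z
  simpa [Set.ncard_eq_toFinset_card'] using IsCyclic.card_pow_eq_one_le (α := Z) hs

theorem cz_one {s : ℕ} (hs : s.Prime) (h : ¬ s ∣ Nat.card Z) : {z : Z | z ^ s = 1}.ncard ≤ 1 :=
  (Set.ncard_le_ncard fun z hz => orderOf_eq_one_iff.1 ((hs.eq_one_or_self_of_dvd _ (orderOf_dvd_of_pow_eq_one hz)).resolve_right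
    fun e => h (e.symm.dvd.trans (_root_.orderOf_dvd_natCard z)))).trans (Set.ncard_singleton (1 : Z)).le

namespace PS

theorem lift2 (P : PS V Z ι E π β) {m : ℕ} (hA : Nat.card A = 2 ^ m) (h : HH Z A) :
    {g : 𝐂 Z | g.1 ^ 2 = 1 ∧ ph Z A g = h}.ncard ≤ Nat.card (fx A h) * 2 := by
  refine (P.b9 h 2).trans (Nat.mul_le_mul (AddSubgroup.card_le_of_le fun a ha => ?_) (cz_le P.L two_pos))
  have : a + h • a = 0 := by simpa [nm_apply, Finset.sum_range_succ] using ha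
  exact add_left_cancel (this.trans ((P.st hA).e2 a).symm)

theorem ordE (P : PS V Z ι E π β) {m : ℕ} (hA : Nat.card A = 2 ^ m) {g : G} (hg : g ∈ E) (hp : (orderOf g).Prime) (h : g ∉ Z) :
    orderOf g = 2 := by_contra fun n => h ((P.zero g hg).1 (eq_zero_of_coprime (by rw [← P.pow hg, pow_orderOf_eq_one, P.one])
      ((two_nsmul (π g)).trans ((P.st hA).e2 _)) (Nat.coprime_two_right.2 (hp.odd_of_ne_two n))))

theorem lift_odd (P : PS V Z ι E π β) {m : ℕ} (hA : Nat.card A = 2 ^ m) {h : HH Z A} (h1 : h ≠ 1) (h2 : orderOf h ≠ 2)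
    (hp : (orderOf h).Prime) : sm (fun g : 𝐂 Z => ((orderOf g.1).Prime ∧ g.1 ∉ Z) ∧ ph Z A g = h) (fun g => wt g.1) ≤
      (fx A h).index * {z : Z | z ^ orderOf h = 1}.ncard := by
  have o : ∀ g : 𝐂 Z, ((orderOf g.1).Prime ∧ g.1 ∉ Z) ∧ ph Z A g = h → orderOf g.1 = orderOf h := fun g hg => by
    rw [← hg.2, P.ord_ph hg.1.1 fun e => h1 (hg.2 ▸ P.ph_eq.2 e)]
  refine (sm_le_mul (M := 1) (fun g hg => by simp [wt, o g hg, h2]) (le_trans (Set.ncard_le_ncard fun g hg => And.intro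
    (by rw [← o g hg, pow_orderOf_eq_one]) hg.2) (P.b9 h (orderOf h)))).trans ?_
  rw [mul_one]
  exact Nat.mul_le_mul_right _ (card_ker_nm (hA ▸ (Nat.coprime_two_right.2 (hp.odd_of_ne_two h2)).pow_right m))

theorem lift_prime (P : PS V Z ι E π β) {h : HH Z A} (h1 : h ≠ 1) (hp : ¬ (orderOf h).Prime) (f : (𝐂 Z) → ℕ) :
    sm (fun g : 𝐂 Z => ((orderOf g.1).Prime ∧ g.1 ∉ Z) ∧ ph Z A g = h) f ≤ 0 :=
  (sm_le_card (M := 0) fun g hg => (hp (by
    rw [← hg.2, P.ord_ph hg.1.1 fun e => h1 (hg.2 ▸ P.ph_eq.2 e)]; exact hg.1.1)).elim).trans (mul_zero _).le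

theorem lift_two (P : PS V Z ι E π β) {m : ℕ} (hA : Nat.card A = 2 ^ m) {h : HH Z A} (h1 : h = 1 ∨ orderOf h = 2) :
    {g : 𝐂 Z | ((orderOf g.1).Prime ∧ g.1 ∉ Z) ∧ ph Z A g = h}.ncard ≤ Nat.card (fx A h) * 2 := by
  refine le_trans (Set.ncard_le_ncard fun g hg => And.intro ?_ hg.2) (P.lift2 hA h)
  by_cases e : g.1 ∈ E
  · rw [← P.ordE hA e hg.1.1 hg.1.2, pow_orderOf_eq_one]
  · rw [← h1.resolve_left fun t => e (P.ph_eq.1 (hg.2.trans t)), ← hg.2, P.ord_ph hg.1.1 e, pow_orderOf_eq_one]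

theorem idx4 (P : PS V Z ι E π β) {m : ℕ} (hA : Nat.card A = 2 ^ m) {h : HH Z A} (h1 : h ≠ 1) (h2 : (fx A h).index ≠ 2) :
    4 ≤ (fx A h).index := by
  obtain ⟨j, -, e⟩ := (Nat.dvd_prime_pow Nat.prime_two).1 (hA ▸ (fx A h).index_dvd_card)
  have : (fx A h).index ≠ 1 := fun e => h1 (P.sy.faith _ fun a => (AddSubgroup.index_eq_one.1 e ▸ trivial : a ∈ fx A h))
  rw [e] at this h2 ⊢
  rcases j with _ | _ | j
  · simp at this
  · simp at h2
  · rw [pow_succ, pow_succ]; have := Nat.two_pow_pos j; omega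

open Classical in
theorem MM_le (P : PS V Z ι E π β) {m : ℕ} (hA : Nat.card A = 2 ^ m) : MM Z ≤ Nat.card A * (4 +
    {h : HH Z A | orderOf h = 2 ∧ (fx A h).index = 2}.ncard + {h : HH Z A | (orderOf h).Prime}.ncard) +
    sm (fun h : HH Z A => (orderOf h).Prime ∧ orderOf h ≠ 2 ∧ orderOf h ∣ Nat.card Z) (fun h => (orderOf h - 1) * Nat.card A) := by
  refine (sm_fiber (Q := fun _ => True) (g := fun h => (((if h = 1 then 4 * Nat.card A else 0) +
    if orderOf h = 2 ∧ (fx A h).index = 2 then Nat.card A else 0) + if (orderOf h).Prime then Nat.card A else 0) +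
    if (orderOf h).Prime ∧ orderOf h ≠ 2 ∧ orderOf h ∣ Nat.card Z then (orderOf h - 1) * Nat.card A else 0) (ph Z A)
    (fun _ _ => trivial) fun h _ => ?_).trans (le_of_eq ?_)
  · have i := (fx A h).index_mul_card
    by_cases h1 : h = 1
    · have := sm_le_mul (fun g _ => wt_le g.1) (P.lift_two hA (Or.inl h1))
      have := AddSubgroup.card_le_card_addGroup (fx A h)
      simp only [h1, if_true] at *
      omega
    by_cases hp : (orderOf h).Prime
    swap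
    · exact (P.lift_prime h1 hp _).trans (Nat.zero_le _)
    by_cases h2 : orderOf h = 2
    · have := sm_le_mul (fun g _ => wt_le g.1) (P.lift_two hA (Or.inr h2))
      by_cases e : (fx A h).index = 2
      · simp only [h1, h2, e, Nat.prime_two, if_true, if_false, and_self] at *
        omega
      · have := Nat.mul_le_mul_right (Nat.card (fx A h)) (P.idx4 hA h1 e)
        simp only [h1, h2, e, Nat.prime_two, if_true, if_false, and_false] at *
        omega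
    have := P.lift_odd hA h1 h2 hp
    have l := Nat.le_of_dvd Nat.card_pos (fx A h).index_dvd_card
    by_cases d : orderOf h ∣ Nat.card Z
    · have := this.trans (Nat.mul_le_mul l (cz_le P.L hp.pos))
      simp only [h1, h2, hp, d, if_true, if_false, false_and, ne_eq, not_false_eq_true, and_self, Nat.sub_mul, one_mul]
      have := Nat.le_mul_of_pos_left (Nat.card A) hp.pos
      rw [mul_comm (Nat.card A)] at *
      omega
    · have := this.trans (Nat.mul_le_mul l (cz_one hp d))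
      simp only [hp, if_true]
      omega
  · simp only [sm_add, sm_ite, sm_const, true_and, Set.ofPred_eq_eq_singleton, Set.ncard_singleton]
    ring

theorem MM2 (P : PS V Z ι E π β) {m : ℕ} (hA : Nat.card A = 2 ^ m) (hz : Nat.card Z ∣ 4) :
    MM Z ≤ 2 ^ m * (4 + (2 ^ m - 1) + Nat.card (HH Z A)) := by
  refine P.MM_le hA |>.trans ?_
  rw [show sm _ _ = 0 from Nat.le_zero.1 ((sm_le_card (M := 0) fun h t => (t.2.1 ((Nat.prime_dvd_prime_iff_eq t.1 Nat.prime_two).1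
    (t.1.dvd_of_dvd_pow (n := 2) (t.2.2.trans hz)))).elim).trans (mul_zero _).le), add_zero, ← hA]
  exact Nat.mul_le_mul_left _ (Nat.add_le_add (Nat.add_le_add_left ((Set.ncard_le_ncard fun _ t => t.2).trans P.sy.card_transv) _)
    (Set.ncard_le_card _))

theorem cen (P : PS V Z ι E π β) : ∃ z ∈ Z, ∀ g : G, ∀ v : V, v ≠ 0 → g • v = v → g • z • v = z • v → g ∈ 𝐂 Z := by
  haveI := isCyclic_of_injective_ringHom ι P.L.inj
  obtain ⟨z0, hz0⟩ := IsCyclic.exists_generator (α := Z)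
  refine ⟨z0, z0.2, fun g v hv e1 e2 z hz => ?_⟩
  have t1 : z0.1⁻¹ * (g * z0 * g⁻¹) = 1 := by_contra fun t => hv (P.L.fpf (Z.mul_mem (Z.inv_mem z0.2) (hZn.conj_mem _ z0.2 g)) t
    (by rw [mul_smul, mul_smul, mul_smul, inv_smul_eq_iff.2 e1.symm, e2, inv_smul_smul]))
  obtain ⟨k, t⟩ := hz0 ⟨z, hz⟩
  obtain rfl : z0.1 ^ k = z := congrArg Subtype.val t
  exact (Commute.zpow_right (mul_inv_eq_iff_eq_mul.1 (inv_mul_eq_one.1 t1).symm) k).symm

theorem one' [Nontrivial V] (P : PS V Z ι E π β) (h : Nat.card A = 1) : Bs G V (Fin 2) := by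
  haveI : Subsingleton A := (Nat.card_eq_one_iff_unique.1 h).1
  obtain ⟨z, -, hz⟩ := P.cen
  obtain ⟨v, hv⟩ := exists_ne (0 : V)
  refine ⟨![v, z • v], fun g e x => ?_⟩
  have t := P.faith g (hz g v hv (e 0) (e 1)) fun a => Subsingleton.elim _ _
  rw [(by_contra fun n => hv (P.L.fpf ((P.zero g t).1 (Subsingleton.elim _ _)) n (e 0)) : g = 1), one_smul]

end PS

theorem Bs.three (h : Bs G V (Fin 2)) : Bs G V (Fin 3) := by
  obtain ⟨v, h⟩ := h
  exact ⟨![v 0, v 1, 0], fun g e => h g (Fin.forall_fin_two.2 ⟨e 0, e 1⟩)⟩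

theorem PS.dim2 (P : PS V Z ι E π β) (h : Module.finrank K V = 2) : Bs G V (Fin 3) := by
  obtain ⟨z, -, hz⟩ := P.cen
  let b := Module.finBasisOfFinrankEq K V h
  refine ⟨![b 0, b 1, z • b 0], fun g e x => ?_⟩
  have t := hz g _ (b.ne_zero 0) (e 0) (e 2)
  rw [← b.sum_repr x, Fin.sum_univ_two, smul_add, P.L.lin g t, P.L.lin g t, show g • b 0 = b 0 from e 0, show g • b 1 = b 1 from e 1]

end Cfsg.Lib.Hall.B3
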