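import Cfsg.Agent.Lib.Hall.B3i
import Cfsg.Agent.Lib.Hall.FC5
import Mathlib.LinearAlgebra.Matrix.Module

/-! # Bases of size three for solvable completely reducible linear groups -/

set_option autoImplicit false
set_option linter.unusedSectionVars false
set_option linter.style.haveILetI false

namespace Cfsg.Lib.Hall.B3

open Cfsg Cfsg.Lib Subgroup Cfsg.Lib.Block.B2
open scoped commutatorElement Matrix.Module

universe u
variable {G V : Type u} [Group G] [Finite G] [AddCommGroup V] [Finite V] [DistribMulAction G V]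

local notation "𝐂" S => centralizer (SetLike.coe S)

def ta (b : ℕ) : ℕ := if Squarefree b then min (tb b) (b * (b * b - 1)) else tb b
def chk (k b q1 n1 w : ℕ) : Prop := 0 < q1 ∧ 2 ≤ n1 ∧ 0 < w ∧
  F1 k b q1 n1 (ta b) (if 4 ∣ b then ta b else 0) (if rd b = 2 then 0 else ta b * (2 * (b * b))) w < 2
instance (k b q1 n1 w : ℕ) : Decidable (chk k b q1 n1 w) := by unfold chk; infer_instance

section prim
variable {K : Type u} [Field K] [Finite K] [Module K V] {Z : Subgroup G} [hZn : Z.Normal] {ι : Z →* K} {E : Subgroup G}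
  [hEn : E.Normal] {A : Type u} [AddCommGroup A] [Finite A] [DistribMulAction G A] {π : G → A} {β : Fm K A}

theorem PS.ta (P : PS V Z ι E π β) {b : ℕ} (hb : Nat.card A = b * b) (b2 : 2 ≤ b) (b56 : b < 56) : Nat.card (HH Z A) ≤ ta b := by
  have := tb_le b56 (P.pw hb b2)
  unfold B3.ta
  split_ifs with h
  · exact le_min this ((P.sy.rank2 h hb).resolve_right (by omega))
  · exact this

theorem PS.bulk (P : PS V Z ι E π β) {b k q f z n M q1 n1 w : ℕ} (hb : Nat.card A = b * b) (b2 : 2 ≤ b) (b56 : b < 56)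
    (I : In k b q f z (Nat.card (HH Z A)) n M (SS Z β) (RR Z β)) (h1 : q1 ≤ q) (hn : n1 ≤ n) (hw : w * (f - 1) ≤ q)
    (h : chk k b q1 n1 w) : False := by
  have a := P.ta hb b2 b56
  refine I.gen1 q1 n1 _ _ _ w h1 hn a ?_ ?_ hw h <;> split_ifs with t
  · exact (Set.ncard_le_card _).trans a
  · exact RR_zero hb t
  · obtain ⟨m, -, e⟩ := (by decide +kernel : ∀ b < 56, 0 < b → rd b = 2 → ∃ m < 12, b * b = 2 ^ m) b b56 (by omega) t
    exact P.SS_zero (hb.trans e)
  · exact (P.SS_le hb).trans (Nat.mul_le_mul_right _ a)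

theorem PS.SS3 (P : PS V Z ι E π β) {k : ℕ} (hk : k = 1 ∨ k = 2) (hA : Nat.card A = 9 ^ k) :
    SS Z β ≤ 2 * 9 ^ k + Nat.card (HH Z A) * (if k = 1 then 3 else 18) :=
  P.sy.three (fun a => P.sqf 3 a (2 * k) (by rw [pow_mul, show 3 ^ 2 = 9 from rfl, ← hA]; exact card_nsmul_eq_zero')) hk hA

theorem PS.large [Nontrivial V] (P : PS V Z ι E π β) {b k : ℕ} (hb : Nat.card A = b * b) (b56 : 56 ≤ b) (hk : k = 2 ∨ k = 3) :
    Bs G V (Fin k) := by
  by_contra nb
  obtain ⟨-, bn, hp, -⟩ := P.bb hb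
  obtain ⟨r, hr, d⟩ := Nat.exists_prime_and_dvd (n := b) (by omega)
  have := Nat.le_of_dvd (by have := P.q2; omega) ((hp r hr d).trans P.card_Z)
  have := hr.two_le
  exact (P.inn hb hk nb).large b56 (by omega) bn (P.pw hb (by omega)) Nat.card_pos (Set.ncard_le_card _) (P.SS_le hb)

theorem PS.prim3 [Nontrivial V] (P : PS V Z ι E π β) : Bs G V (Fin 3) := by
  obtain ⟨b, hb⟩ := P.alt.isSquare
  obtain ⟨b0, bn, hp, -⟩ := P.bb hb
  by_cases b1 : b = 1
  · exact (P.one' (by rw [hb, b1])).three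
  by_cases b56 : 56 ≤ b
  · exact P.large hb b56 (Or.inr rfl)
  by_contra nb
  have I := P.inn hb (Or.inr rfl) nb
  have q2 := P.q2
  have hr := (rd_dvd hp).trans P.card_Z
  have hq : rd b + 1 ≤ Nat.card K := by have := Nat.le_of_dvd (by omega) hr; omega
  have key := (by decide +kernel : ∀ b < 56, 2 ≤ b → chk 3 b (rd b + 1) (2 * b) 4 ∧
    (chk 3 b (rd b + 1) b 4 ∨ b = 2 ∨ b = 3 ∨ b = 4 ∨ b = 8 ∨ b = 9)) b (by omega) (by omega)
  have bk := fun q1 n1 => P.bulk (q1 := q1) (n1 := n1) (w := 4) hb (by omega) (by omega) I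
  by_cases l : 2 * b ≤ Module.finrank K V
  · exact bk _ _ hq l I.w4 key.1
  have hn : Module.finrank K V = b := by
    obtain ⟨m, e⟩ := P.dvd_dim hb
    rw [e] at l bn ⊢
    rcases m with _ | _ | m
    · omega
    · omega
    · exact (l (by nlinarith)).elim
  have a := P.ta hb (by omega) (by omega)
  obtain ⟨q0, f1, f2⟩ := P.fld
  have z1 := Nat.le_of_dvd (by omega) P.card_Z
  rcases key.2 with h | rfl | rfl | rfl | rfl | rfl
  · exact bk _ _ hq bn I.w4 h
  · exact nb (P.dim2 hn)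
  · replace a : _ ≤ 24 := a.trans_eq (by decide +kernel)
    replace hr : 3 ∣ _ := hr
    by_cases l : 9 ≤ Nat.card K
    · exact bk 9 3 l bn I.w4 (by decide +kernel)
    rcases (by omega : Nat.card K = 4 ∨ Nat.card K = 7) with e | e
    · have := P.li hb three_pos nb (s := 8) hn e (by norm_num)
      have f : _ ≤ 2 := e ▸ fm_le f1 f2 q2 (by omega)
      rw [show LI 4 3 3 = 181440 by decide, show LI 4 3 (3 / 2) = 0 by decide, show LI 4 3 (2 * 3 / 3) = 0 by decide,
        show Nat.descFactorial (8 - 1) 3 = 210 by decide] at this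
      have t : ((𝐂 Z).index - 1) * (Nat.card Z * (3 * 3) * Nat.card (HH Z A)) ≤ 1 * (3 * (3 * 3) * 24) := by gcongr <;> omega
      omega
    · exact I.gen2' 3 24 0 _ (by omega) bn a (RR_zero hb (by norm_num)) ((P.SS_le hb).trans (Nat.mul_le_mul_right _ a))
        (by rw [e]; decide +kernel)
  · have F := (P.st (m := 4) hb).four
    replace hr : 2 ∣ _ := hr
    by_cases l : 7 ≤ Nat.card K
    · exact I.gen1 7 4 144 6 0 4 l bn F.card F.a2 (P.SS_zero (m := 4) hb) I.w4 (by decide +kernel)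
    rcases (by omega : Nat.card K = 3 ∨ Nat.card K = 5) with e | e
    · have := P.li hb three_pos nb (s := 9) hn e (by norm_num)
      have f : _ ≤ 1 := e ▸ fm_le f1 f2 q2 (by omega)
      rw [show LI 3 3 4 = 449280 by decide, show LI 3 3 (4 / 2) = 0 by decide,
        show LI 3 3 (3 * 4 / 4) = 11232 by decide, Nat.sub_eq_zero_of_le f] at this
      have : RR Z β ≤ 6 := F.a2
      omega
    · exact I.gen2' 4 144 6 0 (by omega) bn F.card F.a2 (P.SS_zero (m := 4) hb) (by rw [e]; decide +kernel)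
  · have F := (P.st (m := 6) hb).six.1
    replace a : _ ≤ 4016 := a.trans_eq (by decide +kernel)
    replace hr : 2 ∣ _ := hr
    by_cases l : 5 ≤ Nat.card K
    · exact I.gen1 5 8 _ 120 0 4 l bn a F (P.SS_zero (m := 6) hb) I.w4 (by decide +kernel)
    have e : Nat.card K = 3 := by omega
    exact I.gen2 8 _ 120 0 (2 ^ 6 * (4 + (2 ^ 6 - 1) + 4016)) (by omega) bn a F (P.SS_zero (m := 6) hb)
      ((P.MM2 (m := 6) hb (P.card_Z.trans (by rw [e]; norm_num))).trans (by gcongr)) (by rw [e]; decide +kernel)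
  · replace a : _ ≤ 6823 := a.trans_eq (by decide +kernel)
    exact I.gen1 4 9 _ 0 (2 * 9 ^ 2 + 6823 * 18) 4 hq bn a (RR_zero hb (by norm_num))
      ((P.SS3 (k := 2) (Or.inr rfl) hb).trans (by gcongr; norm_num)) I.w4 (by decide +kernel)

end prim

theorem perf {H : Type*} [Group H] [Group.IsSolvable H] (S : Set H) (h : ∀ x ∈ S, ∃ y ∈ S, ∃ z ∈ S, x = ⁅y, z⁆) : ∀ x ∈ S, x = 1 := by
  obtain ⟨n, hn⟩ := Group.IsSolvable.solvable (G := H)
  have : ∀ n, ∀ x ∈ S, x ∈ derivedSeries H n := fun n => by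
    induction n with
    | zero => exact fun _ _ => trivial
    | succ n ih =>
      intro x hx
      obtain ⟨y, hy, z, hz, rfl⟩ := h x hx
      exact commutator_mem_commutator (ih y hy) (ih z hz)
  exact fun x hx => mem_bot.1 (hn ▸ this n x hx)

theorem perf_act {H Γ X : Type u} [Group H] [Group.IsSolvable H] [Group Γ] [Finite X] [MulAction H X] [MulAction Γ X]
    (c : ∀ (a : H) (γ : Γ) (x : X), a • γ • x = γ • a • x) (fr : ∀ (a : H) (x : X), a • x = x → a = 1) (S : Set Γ)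
    (h : ∀ x ∈ S, ∃ y ∈ S, ∃ z ∈ S, x = ⁅y, z⁆) (h4 : Nat.card (MulAction.orbitRel.Quotient H X) < 5) :
    ∀ s ∈ S, ∀ x : X, s • x = x := by
  letI : MulAction Γ (MulAction.orbitRel.Quotient H X) :=
    { smul γ := Quotient.map' (γ • ·) fun x y ⟨a, e⟩ => ⟨a, by rw [← e]; exact c a γ y⟩
      one_smul q := Quotient.inductionOn' q fun x => congrArg Quotient.mk'' (one_smul Γ x)
      mul_smul a b q := Quotient.inductionOn' q fun x => congrArg Quotient.mk'' (mul_smul a b x) }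
  haveI := solvable_of_card_lt_sixty _ (Equiv.Perm (MulAction.orbitRel.Quotient H X)) rfl (by
    rw [Nat.card_perm]; exact (Nat.factorial_le (Nat.le_of_lt_succ h4)).trans_lt (by decide))
  have k := perf (MulAction.toPermHom Γ (MulAction.orbitRel.Quotient H X) '' S) (by
    rintro _ ⟨x, hx, rfl⟩
    obtain ⟨y, hy, z, hz, rfl⟩ := h x hx
    exact ⟨_, ⟨y, hy, rfl⟩, _, ⟨z, hz, rfl⟩, map_commutatorElement _ _ _⟩)
  intro s hs x
  have k' : ∀ s ∈ S, ∃ a : H, a⁻¹ • x = s • x := fun s hs => by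
    obtain ⟨a, e⟩ := Quotient.exact' (DFunLike.congr_fun (k _ ⟨s, hs, rfl⟩) (Quotient.mk'' x))
    exact ⟨a⁻¹, by rw [inv_inv]; exact e⟩
  obtain ⟨a, e⟩ := k' s hs
  rw [← e, perf {a : H | ∃ s ∈ S, a⁻¹ • x = s • x} (by
    rintro a ⟨s, hs, e⟩
    obtain ⟨y, hy, z, hz, rfl⟩ := h s hs
    obtain ⟨a1, e1⟩ := k' y hy
    obtain ⟨a2, e2⟩ := k' z hz
    refine ⟨a1, ⟨y, hy, e1⟩, a2, ⟨z, hz, e2⟩, (inv_mul_eq_one.1 (fr _ x ?_))⟩
    have e3 : a1 • x = y⁻¹ • x := by rw [eq_inv_smul_iff, ← c, ← e1, smul_inv_smul]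
    have e4 : a2 • x = z⁻¹ • x := by rw [eq_inv_smul_iff, ← c, ← e2, smul_inv_smul]
    simp only [commutatorElement_def, mul_smul] at e ⊢
    simp only [e2, c, e1, e4, e3, e, smul_inv_smul, inv_smul_smul]) a ⟨s, hs, e⟩, inv_one, one_smul]

theorem mat_comm {n : ℕ} (a : G) (m : Matrix (Fin n) (Fin n) ℤ) (t : Fin n → V) : a • m • t = m • a • t :=
  funext fun i => by simp [Matrix.Module.smul_def, Finset.smul_sum, smul_comm a]

def tv (p : {p : Fin 3 × Fin 3 // p.1 ≠ p.2}) : (Matrix (Fin 3) (Fin 3) ℤ)ˣ :=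
  ⟨1 + Matrix.single p.1.1 p.1.2 1, 1 - Matrix.single p.1.1 p.1.2 1, by revert p; decide +kernel, by revert p; decide +kernel⟩

theorem five [Group.IsSolvable G] [Nontrivial V] (hf : ∀ g : G, (∀ v : V, g • v = v) → g = 1) (h : Bs G V (Fin 3)) :
    ∃ w : Fin 5 → Fin 3 → V, (∀ c, ∀ a : G, (∀ i, a • w c i = w c i) → a = 1) ∧
      ∀ c c', ∀ a : G, (∀ i, a • w c i = w c' i) → c = c' := by
  let X := {t : Fin 3 → V // ∀ a : G, a • t = t → a = 1}
  letI : MulAction G X :=
    { smul g t := ⟨g • t.1, fun a e => by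
        have := t.2 (g⁻¹ * a * g) (by rw [mul_smul, mul_smul, e, inv_smul_smul])
        rwa [mul_assoc, inv_mul_eq_one, right_eq_mul] at this⟩
      one_smul t := Subtype.ext (one_smul G t.1)
      mul_smul a b t := Subtype.ext (mul_smul a b t.1) }
  by_cases l : Nat.card (MulAction.orbitRel.Quotient G X) < 5
  · letI : MulAction (ULift.{u} (Matrix (Fin 3) (Fin 3) ℤ)ˣ) X :=
      { smul m t := ⟨m.down.1 • t.1, fun a e => t.2 a (by
          rw [mat_comm] at e
          have := congrArg (m.down⁻¹.1 • ·) e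
          simpa only [← mul_smul, Units.inv_mul, one_smul] using this)⟩
        one_smul t := Subtype.ext (one_smul _ t.1)
        mul_smul a b t := Subtype.ext (mul_smul a.down.1 b.down.1 t.1) }
    have := perf_act (H := G) (X := X) (fun a γ x => Subtype.ext (mat_comm a γ.down.1 x.1))
      (fun a x e => x.2 a (congrArg Subtype.val e)) (Set.range fun p => ULift.up (tv p)) (by
        rintro _ ⟨p, rfl⟩
        obtain ⟨p1, p2, e⟩ := (by decide +kernel : ∀ p, ∃ p1 p2, tv p = tv p1 * tv p2 * (tv p1)⁻¹ * (tv p2)⁻¹) p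
        exact ⟨_, ⟨p1, rfl⟩, _, ⟨p2, rfl⟩, congrArg ULift.up e⟩) l
    have z : ∀ t : X, t.1 = 0 := fun t => funext fun j => by
      obtain ⟨i, hi⟩ := exists_ne j
      have := congrFun (congrArg Subtype.val (this _ ⟨⟨(i, j), hi⟩, rfl⟩ t)) i
      replace this : ((1 + Matrix.single i j 1 : Matrix (Fin 3) (Fin 3) ℤ) • t.1) i = t.1 i := this
      rw [add_smul, one_smul, Matrix.Module.single_smul] at this
      simpa using this
    obtain ⟨t, ht⟩ := h
    obtain ⟨v, hv⟩ := exists_ne (0 : V)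
    have t0 := z ⟨t, fun a e => hf a (ht a (congrFun e))⟩
    exact (hv (congrFun (z ⟨fun _ => v, fun a _ => hf a (ht a fun i => by rw [show t = 0 from t0]; simp)⟩) 0)).elim
  haveI := Fintype.ofFinite (MulAction.orbitRel.Quotient G X)
  obtain ⟨e⟩ := Function.Embedding.nonempty_of_card_le (α := Fin 5) (β := MulAction.orbitRel.Quotient G X)
    (by simpa [Nat.card_eq_fintype_card] using l)
  refine ⟨fun c => (e c).out.1, fun c a h => (e c).out.2 a (funext h), fun c c' a h => e.injective ?_⟩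
  rw [← (e c).out_eq', ← (e c').out_eq']
  exact (Quotient.sound' (MulAction.orbitRel_apply.2 ⟨a, Subtype.ext (funext h)⟩)).symm

theorem col5 (h : Bs G V (Fin 3)) : ∃ c : V → Fin 5, (∀ t, c t = c 0 → t = 0) ∧ ∀ g : G, (∀ t, c (g • t) = c t) → ∀ t : V, g • t = t := by
  classical
  obtain ⟨v, h⟩ := h
  refine ⟨fun t => if t = 0 then 0 else if t = v 0 then 1 else if t = v 1 then 2 else if t = v 2 then 3 else 4, fun t e => ?_,
    fun g e => h g fun i => ?_⟩
  · by_contra n; simp only [n, if_true, if_false] at e; split_ifs at e <;> simp at e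
  · have := e (v i)
    fin_cases i <;> simp only [Fin.zero_eta, Fin.mk_one, Fin.reduceFinMk, if_true] at this ⊢ <;> split_ifs at this <;> simp_all

theorem Imp.bs {H : Subgroup G} {e : V →+ V} (h : Imp V H e) [Group.IsSolvable G] (hi : Irr G V) {ι κ : Type}
    (hc : ∀ (M : Subgroup (G ⧸ H.normalCore)) (_ : M.Normal) (hc : ∀ a ∈ M, ∀ b ∈ M, a * b = b * a), Nat.card M = H.index →
      Irr (G ⧸ H.normalCore) (AX M hc) → ∃ c : AX M hc → κ, (∀ t, c t = c 0 → t = 0) ∧
        ∀ g : G ⧸ H.normalCore, (∀ t, c (g • t) = c t) → ∀ t : AX M hc, g • t = t)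
    (hw : letI := subAct h.inv; ∃ w : κ → ι → e.range, (∀ c, ∀ a : (rp H e.range).range, (∀ i, a • w c i = w c i) → a = 1) ∧
      ∀ c c', ∀ a : (rp H e.range).range, (∀ i, a • w c i = w c' i) → c = c') : Bs G V ι := by
  letI := subAct h.inv
  obtain ⟨M, _, hc', -, i, c1, -, t⟩ := prim_quot h.co
  obtain ⟨c, d1, d2⟩ := hc M _ hc' c1 i
  obtain ⟨col, e1, e2⟩ := t κ c d1 d2
  obtain ⟨w, w1, w2⟩ := hw
  refine h.base hi col e1 e2 (fun c i => (w c i).1) (fun c i => (w c i).2) (fun c a ha t x hx => ?_) fun c c' a ha t =>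
    w2 c c' ((rp H e.range).rangeRestrict ⟨a, ha⟩) fun i => Subtype.ext (t i)
  have := w1 c ((rp H e.range).rangeRestrict ⟨a, ha⟩) fun i => Subtype.ext (t i)
  exact congrArg Subtype.val ((im_smul (⟨a, ha⟩ : H) (⟨x, hx⟩ : e.range)).symm.trans (by rw [this, one_smul]))

theorem Bs.im {ι : Type} (h : Bs G V ι) : Bs (rp G V).range V ι := by
  obtain ⟨v, h⟩ := h
  refine ⟨v, fun g => ?_⟩
  obtain ⟨g, rfl⟩ := (rp G V).rangeRestrict_surjective g
  exact h g

theorem base3 (n : ℕ) : ∀ (G V : Type u) [Group G] [Finite G] [AddCommGroup V] [Finite V] [DistribMulAction G V]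
    [Group.IsSolvable G], Nat.card V < n → CR G V → Bs G V (Fin 3) := by
  induction n with
  | zero => intro G V _ _ _ _ _ _ h; omega
  | succ n ih =>
  intro G V _ _ _ _ _ _ hn hcr
  by_cases hi : Irr G V
  swap
  · obtain ⟨U, W, hU, hW, u1, w1, -, -, h2, h3⟩ := not_irr hcr hi
    letI := subAct hU
    letI := subAct hW
    exact bs_sum hU hW h2 h3 (ih G U (by have := card_lt u1; omega) (hcr.sub hU)) (ih G W (by have := card_lt w1; omega) (hcr.sub hW))
  rcases subsingleton_or_nontrivial V with _ | _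
  · exact ⟨0, fun _ _ _ => Subsingleton.elim _ _⟩
  refine Bs.of_im ?_
  haveI := im_solv (G := G) (V := V)
  rcases exists_PS (im_irr hi) im_faith with ⟨H, e, h⟩ | ⟨K, _, _, _, Z, _, ι, E, _, A, _, _, _, π, β, P⟩
  · letI := subAct h.inv
    haveI := h.nontriv
    haveI := im_solv (G := H) (V := e.range)
    exact h.bs (im_irr hi) (fun M _ hc c i => col5 (ih _ _ (by rw [AX.card, c]; have := h.idx_lt; omega) i.cr))
      (five im_faith (ih H e.range (by have := card_lt h.ne_top; omega) (h.irr (im_irr hi)).cr).im)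
  · exact P.prim3

end Cfsg.Lib.Hall.B3
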