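import Cfsg.Agent.Lib.Hall.B3j

/-! # Bases of size two for coprime solvable linear groups: the four-dimensional case over the field of order five -/

set_option autoImplicit false
set_option linter.unusedSectionVars false
set_option linter.style.haveILetI false

namespace Cfsg.Lib.Hall.B3

open Cfsg Cfsg.Lib Subgroup Cfsg.Lib.Block.B2
open scoped commutatorElement

universe u
variable {G V : Type u} [Group G] [Finite G] [AddCommGroup V] [Finite V] [DistribMulAction G V]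

local notation "𝐂" S => centralizer (SetLike.coe S)

variable {K : Type u} [Field K] [Finite K] [Module K V] {Z : Subgroup G} [hZn : Z.Normal] {ι : Z →* K} {E : Subgroup G}
  [hEn : E.Normal] {A : Type u} [AddCommGroup A] [Finite A] [DistribMulAction G A] {π : G → A} {β : Fm K A}

variable (V) in
def ek (y : G) (c : K) : AddSubgroup V where
  carrier := {v | y • v = c • v}
  zero_mem' := by simp
  add_mem' := fun {a b} ha hb => by show _ = _; rw [smul_add, smul_add, ha, hb]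
  neg_mem' := fun {a} ha => by show _ = _; rw [smul_neg, smul_neg, ha]
theorem mem_ek {y : G} {c : K} {v : V} : v ∈ ek V y c ↔ y • v = c • v := Iff.rfl

theorem ek_half (L : Lx V Z ι) (t2 : ∀ v : V, v + v = 0 → v = 0) {x y : G} (hx : x ∈ 𝐂 Z) {c : K} (hc : c ≠ 0) {U : AddSubgroup V}
    (hU : ∀ v ∈ U, x • v ∈ U) (r : ∀ v : V, y • x • v = (-1 : ℤˣ) • x • y • v) : Nat.card ↥(U ⊓ ek V y c) ^ 2 ≤ Nat.card U := by
  let φ : ↥(U ⊓ ek V y c) × ↥(U ⊓ ek V y c) →+ U :=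
    { toFun p := ⟨p.1.1 + x • p.2.1, U.add_mem p.1.2.1 (hU _ p.2.2.1)⟩
      map_zero' := by simp
      map_add' a b := Subtype.ext (by simp only [Prod.fst_add, Prod.snd_add, AddSubgroup.coe_add, smul_add]; abel) }
  rw [sq, ← Nat.card_prod]
  refine Nat.card_le_card_of_injective φ ((injective_iff_map_eq_zero φ).2 fun ⟨⟨a, ha⟩, ⟨b, hb⟩⟩ e => ?_)
  have e1 : a + x • b = 0 := congrArg Subtype.val e
  have e2 := congrArg (y • ·) e1
  simp only [smul_add, smul_zero, r, mem_ek.1 ha.2, mem_ek.1 hb.2, L.lin x hx, Units.neg_smul, one_smul] at e2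
  have : a = 0 := (smul_eq_zero.1 (t2 (c • a) (by
    generalize x • b = b' at e1 e2
    linear_combination (norm := module) e2 + c • e1))).resolve_left hc
  rw [this, zero_add, smul_eq_zero_iff_eq] at e1
  simp [this, e1]

theorem ek_ex (L : Lx V Z ι) {y : G} (hy : y ∈ 𝐂 Z) {c : K} (hc : c ≠ 0) (h : ∀ v : V, y • y • v = (c * c) • v) {U : AddSubgroup V}
    (h1 : ∀ v ∈ U, y • v ∈ U) (h2 : ∀ v ∈ U, c • v ∈ U) {v : V} (hv : v ∈ U) (v0 : v ≠ 0) :
    ∃ c' : K, c' ≠ 0 ∧ ∃ w ∈ U ⊓ ek V y c', w ≠ 0 := by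
  by_cases e : y • v + c • v = 0
  · exact ⟨-c, neg_ne_zero.2 hc, v, ⟨hv, mem_ek.2 (by rw [neg_smul]; exact eq_neg_of_add_eq_zero_left e)⟩, v0⟩
  · exact ⟨c, hc, _, ⟨U.add_mem (h1 v hv) (h2 v hv), mem_ek.2 (by rw [smul_add, h, L.lin y hy, smul_add, mul_smul, add_comm])⟩, e⟩

namespace PS

theorem sqZ (P : PS V Z ι E π β) (hA : Nat.card A = 2 ^ 4) {x : G} (hx : x ∈ E) : x ^ 2 ∈ Z :=
  (P.zero _ (pow_mem hx 2)).1 (by rw [P.pow hx, two_nsmul, (P.st hA).e2])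

theorem pow4 (P : PS V Z ι E π β) (hA : Nat.card A = 2 ^ 4) (hz : Nat.card Z ∣ 4) {x : G} (hx : x ∈ E) : x ^ 4 = 1 := by
  have z4 : ∀ z ∈ Z, z ^ 4 = 1 := fun z h => orderOf_dvd_iff_pow_eq_one.1 ((Z.orderOf_dvd_natCard h).trans hz)
  have m4 : ∀ x ∈ E, x ^ 4 ∈ Z := fun x hx => by have := pow_mem (P.sqZ hA hx) 2; rwa [← pow_mul] at this
  have k : ∀ x ∈ E, ∀ y ∈ E, (x * y) ^ 4 = x ^ 4 * y ^ 4 := fun x hx y hy => by
    obtain ⟨c, -⟩ := P.form y hy x hx
    have c2 : ⁅y, x⁆ ^ 2 = 1 := by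
      rw [← comm_pow (P.le' hx) c]; exact commutatorElement_eq_one_iff_mul_comm.2 (P.le' hy _ (P.sqZ hA hx)).symm
    have e : (x * y) ^ 2 = ⁅y, x⁆ * (x ^ 2 * y ^ 2) := by
      rw [show (x * y) ^ 2 = x * ⁅y, x⁆ * (x * y ^ 2) by simp [commutatorElement_def, sq, mul_assoc], ← P.le' hx _ c]
      simp [sq, mul_assoc]
    rw [show 4 = 2 * 2 from rfl, pow_mul, e, Commute.mul_pow (P.comm (mul_mem (P.sqZ hA hx) (P.sqZ hA hy)) _ c), c2, one_mul,
      Commute.mul_pow (P.comm (P.sqZ hA hy) _ (P.sqZ hA hx)), pow_mul, pow_mul]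
  choose σ σ1 σ2 using P.surj
  have w : ∀ x ∈ E, σ (π x) ^ 4 = x ^ 4 := fun x hx => by
    have z : x⁻¹ * σ (π x) ∈ Z := (P.zero _ (mul_mem (inv_mem hx) (σ1 _))).1 (by
      rw [P.mul _ (inv_mem hx) _ (σ1 _), P.inv hx, σ2, neg_add_cancel])
    rw [← mul_inv_cancel_left x (σ _), k _ hx _ (P.le z), z4 _ z, mul_one]
  let φ : A →+ Additive Kˣ := AddMonoidHom.mk' (fun a => Additive.ofMul (ι.toHomUnits ⟨σ a ^ 4, m4 _ (σ1 a)⟩)) fun a b => by
    rw [← ofMul_mul, ← map_mul]; congr 2; refine Subtype.ext ?_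
    show σ (a + b) ^ 4 = σ a ^ 4 * σ b ^ 4
    rw [← k _ (σ1 a) _ (σ1 b), ← w _ (mul_mem (σ1 a) (σ1 b)), P.mul _ (σ1 a) _ (σ1 b), σ2, σ2]
  have mk : ∀ x ∈ E, π x ∈ φ.ker ↔ x ^ 4 = 1 := fun x hx => ⟨fun h => (w x hx).symm.trans (congrArg Subtype.val
    ((injective_iff_map_eq_one ι).1 P.L.inj ⟨_, m4 _ (σ1 _)⟩ (congrArg (fun t => (Additive.toMul t).val) h))), fun h => by
      show Additive.ofMul (ι.toHomUnits _) = 0
      rw [show (⟨σ (π x) ^ 4, m4 _ (σ1 _)⟩ : Z) = 1 from Subtype.ext ((w x hx).trans h), map_one]; rfl⟩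
  have i := index_le_two (φ := φ) fun a => by rw [← map_nsmul, two_nsmul, (P.st hA).e2, map_zero]
  have s := P.alt.isSquare_sub (P.nd φ.ker fun g a ha => by
    obtain ⟨x, hx, rfl⟩ := P.surj a
    rw [← P.conj g x hx, mk _ (hEn.conj_mem x hx g), conj_pow, (mk x hx).1 ha]; simp)
  have c := φ.ker.index_mul_card
  have i0 : φ.ker.index ≠ 0 := AddSubgroup.index_ne_zero_of_finite
  have i2 : φ.ker.index ≠ 2 := fun e => by
    rw [e, hA] at c
    rw [show Nat.card φ.ker = 8 by omega] at s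
    exact absurd s (by decide +kernel)
  exact (mk x hx).1 (AddSubgroup.index_eq_one.1 (show φ.ker.index = 1 by omega) ▸ trivial)

theorem sqE (P : PS V Z ι E π β) (hA : Nat.card A = 2 ^ 4) (hq : Nat.card K = 5) {y : G} (hy : y ∈ E) :
    ∃ c : K, c ≠ 0 ∧ ∀ v : V, y • y • v = (c * c) • v := by
  haveI := Fintype.ofFinite K
  have h4 := P.pow4 hA (by have := P.card_Z; rwa [hq] at this) hy
  have s : ∀ v : V, y • y • v = ι ⟨_, P.sqZ hA hy⟩ • v := fun v => by rw [← P.L.smul, ← mul_smul, ← sq]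
  rcases sq_eq_one_iff.1 (show ι ⟨_, P.sqZ hA hy⟩ ^ 2 = 1 by
    rw [← map_pow, ← map_one ι]; exact congrArg ι (Subtype.ext ((pow_mul y 2 2).symm.trans h4))) with e | e
  · exact ⟨1, one_ne_zero, by simpa [e] using s⟩
  · obtain ⟨c, hc⟩ := (FiniteField.isSquare_neg_one_iff (F := K)).2 (by rw [← Nat.card_eq_fintype_card, hq]; norm_num)
    exact ⟨c, fun t => by simp [t] at hc, by simpa only [e, hc] using s⟩

theorem notr [Nontrivial V] (P : PS V Z ι E π β) (hA : Nat.card A = 2 ^ 4) (hq : Nat.card K = 5) (hN : Nat.card V = 625) {g : 𝐂 Z}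
    (g2 : g.1 ^ 2 = 1) (i : (fx A (ph Z A g)).index = 2) : False := by
  classical
  haveI := Fintype.ofFinite K
  have hz : Nat.card Z ∣ 4 := by have := P.card_Z; rwa [hq] at this
  have e2 := (P.st hA).e2
  have tt : ∀ a b, 2 • β a b = 0 := fun a b => by rw [← map_nsmul, two_nsmul, e2, map_zero]
  have t2 := P.t2 (by rw [hA]; norm_num)
  obtain ⟨a, ha⟩ : ∃ a, a ∉ fx A (ph Z A g) := by
    by_contra! t; rw [(AddSubgroup.eq_top_iff' _).2 t] at i; simp at i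
  obtain ⟨x, hx, rfl⟩ := P.surj a
  have mY := cm_mem g.1 hx
  have πY : π ⁅g.1, x⁆ = dl A (ph Z A g) (π x) := P.dlc _ hx
  have nc : β (π x) (π ⁅g.1, x⁆) ≠ 0 := fun e => ha (sub_eq_zero.1 (P.alt.nd (dl A (ph Z A g) (π x)) fun b => by
    by_cases hb : b ∈ fx A (ph Z A g)
    · exact P.sy.dl_fix hb _
    · have := P.sy.dl_fix ((AddSubgroup.add_mem_iff_of_index_two i).2 (iff_of_false hb ha)) (π x)
      rwa [map_add, P.alt.skew _ (π x), ← πY, e, neg_zero, add_zero, πY] at this))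
  set Y := ⁅g.1, x⁆ with hY
  have gi : g.1⁻¹ = g.1 := inv_eq_of_mul_eq_one_right (sq g.1 ▸ g2)
  have w2 : (g.1 * x) ^ 2 = Y * x ^ 2 := by rw [hY, commutatorElement_def, gi]; simp [sq, mul_assoc]
  have mY' : (g.1 * x) ^ 2 ∈ E := w2 ▸ mul_mem mY (pow_mem hx 2)
  have πY' : π ((g.1 * x) ^ 2) = π Y := by rw [w2, P.mul _ mY _ (pow_mem hx 2), (P.zero _ (pow_mem hx 2)).2 (P.sqZ hA hx), add_zero]
  have w4 : ∀ v : V, (g.1 * x) ^ 4 • v = -v := fun v => by
    have e1 : Y * x * Y * x = x * x := by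
      have := g.2 _ (P.sqZ hA hx)
      rw [hY, commutatorElement_def, inv_mul_cancel_right, show g.1 * x * g.1⁻¹ * (g.1 * x * g.1⁻¹ * x⁻¹) * x = g.1 * x ^ 2 * g.1⁻¹ by
        simp [sq, mul_assoc], ← this, mul_inv_cancel_right, sq]
    have e4 := P.neg hx mY nc (tt _ _) (x⁻¹ • v)
    rw [show 4 = 2 * 2 from rfl, pow_mul, w2, Commute.mul_pow (P.le' mY _ (P.sqZ hA hx)).symm, ← pow_mul, P.pow4 hA hz hx, mul_one, sq,
      mul_smul]
    rw [smul_inv_smul] at e4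
    rw [e4, Units.neg_smul, one_smul, smul_neg, neg_inj]
    have e6 := congrArg (· • x⁻¹ • v) (mul_right_cancel e1)
    simpa only [mul_smul, smul_inv_smul] using e6
  have wC : g.1 * x ∈ 𝐂 Z := mul_mem g.2 (P.le' hx)
  choose σ σ1 σ2 using P.surj
  have cZ : ∀ u ∈ E, π u ∈ fx A (ph Z A g) → ⁅g.1 * x, u⁆ ∈ Z := fun u hu h => (P.zero _ (cm_mem _ hu)).1 (by
    rw [P.dlc _ hu, mul_smul, P.triv hx, sub_eq_zero]; exact h)
  let ψ : fx A (ph Z A g) →+ Additive Kˣ := AddMonoidHom.mk' (fun a => Additive.ofMul (ι.toHomUnits ⟨_, cZ _ (σ1 a) (by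
    rw [σ2]; exact a.2)⟩)) fun a b => by
      rw [← ofMul_mul, ← map_mul]; congr 2; refine Subtype.ext ?_
      show ⁅g.1 * x, σ (a + b)⁆ = ⁅g.1 * x, σ a⁆ * ⁅g.1 * x, σ b⁆
      have z : (σ a * σ b)⁻¹ * σ (a + b) ∈ Z := (P.zero _ (mul_mem (inv_mem (mul_mem (σ1 _) (σ1 _))) (σ1 _))).1 (by
        rw [P.mul _ (inv_mem (mul_mem (σ1 _) (σ1 _))) _ (σ1 _), P.inv (mul_mem (σ1 _) (σ1 _)), P.mul _ (σ1 _) _ (σ1 _), σ2, σ2, σ2,
          neg_add_cancel])
      have z1 := commutatorElement_eq_one_iff_mul_comm.2 (wC _ z).symm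
      rw [← comm_mul_right (P.le' (σ1 _)) (cZ _ (σ1 b) (by rw [σ2]; exact b.2)), ← mul_inv_cancel_left (σ a * σ b) (σ (a + b)),
        comm_mul_right (P.le' (mul_mem (σ1 _) (σ1 _))) (z1 ▸ Z.one_mem), z1, mul_one]
  obtain ⟨a, ha1, ha2⟩ : ∃ a ∈ ψ.ker, a.1 ∉ perp β (fx A (ph Z A g)) := by
    by_contra! t
    have c1 := Nat.card_le_card_of_injective (fun a : ψ.ker => (⟨a.1.1, t _ a.2⟩ : perp β (fx A (ph Z A g))))
      fun a b e => Subtype.ext (Subtype.ext (Subtype.mk.inj e))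
    have c2 := P.alt.card_perp (fx A (ph Z A g))
    have c3 := (fx A (ph Z A g)).index_mul_card
    have c4 := ψ.ker.index_mul_card
    have c5 := Nat.mul_le_mul_right (Nat.card ψ.ker) (index_le_two (φ := ψ) fun a => by
      rw [← map_nsmul, show 2 • a = 0 from Subtype.ext ((two_nsmul _).trans (e2 _)), map_zero])
    rw [i, hA] at c3
    rw [show Nat.card (fx A (ph Z A g)) = 8 by omega, hA] at c2
    omega
  have cu : g.1 * x * σ a = σ a * (g.1 * x) := commutatorElement_eq_one_iff_mul_comm.1 (congrArg Subtype.val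
    ((injective_iff_map_eq_one ι).1 P.L.inj ⟨_, cZ _ (σ1 a) (by rw [σ2]; exact a.2)⟩ (congrArg (fun t => (Additive.toMul t).val) ha1)))
  obtain ⟨b, hb1, hb2⟩ : ∃ b ∈ fx A (ph Z A g), β a b ≠ 0 := by by_contra! t; exact ha2 t
  have ekc : ∀ {s y : G} (c : K), s ∈ (𝐂 Z) → s * y = y * s → ∀ v ∈ ek V y c, s • v ∈ ek V y c := fun c hs e v hv =>
    mem_ek.2 (by rw [← mul_smul, ← e, mul_smul, mem_ek.1 hv, P.L.lin _ hs])
  have eks : ∀ {y : G} (c k : K), y ∈ (𝐂 Z) → ∀ v ∈ ek V y c, k • v ∈ ek V y c := fun c k hy v hv =>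
    mem_ek.2 (by rw [P.L.lin _ hy, mem_ek.1 hv, smul_comm])
  obtain ⟨v, v0⟩ := exists_ne (0 : V)
  obtain ⟨c, c0, hc⟩ := P.sqE hA hq mY'
  obtain ⟨c, c0, v, hv, v0⟩ := ek_ex P.L (P.le' mY') c0 hc (U := ⊤) (fun _ _ => trivial) (fun _ _ => trivial) trivial v0
  obtain ⟨d, d0, hd⟩ := P.sqE hA hq (σ1 a)
  obtain ⟨d, d0, v, hv, v0⟩ := ek_ex P.L (P.le' (σ1 a)) d0 hd (ekc c (P.le' (σ1 a)) (Commute.pow_left cu 2).symm)
    (eks c d (P.le' mY')) hv.2 v0
  have h1 := ek_half P.L t2 (P.le' hx) c0 (U := ⊤) (fun _ _ => trivial) (P.neg hx mY' (πY' ▸ nc) (tt _ _))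
  have h2 := ek_half P.L t2 (P.le' (σ1 b)) d0 (ekc c (P.le' (σ1 b)) ((P.bz mY' (σ1 b)).1 (by
    rw [πY', πY, σ2]; exact P.sy.dl_fix hb1 _)).symm) (P.neg (σ1 b) (σ1 a) (by rwa [σ2, σ2, P.alt.skew, neg_ne_zero]) (tt _ _))
  rw [top_inf_eq, AddSubgroup.card_top, hN] at h1
  have h3 : Nat.card ↥(ek V ((g.1 * x) ^ 2) c ⊓ ek V (σ a) d) ≤ Nat.card K := by
    rw [hq]; by_contra! l
    exact absurd ((Nat.pow_le_pow_left ((Nat.pow_le_pow_left l 2).trans h2) 2).trans h1) (by norm_num)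
  obtain ⟨μ, e⟩ := (Function.Injective.bijective_of_nat_card_le (f := fun k : K => (⟨k • v, eks _ k (P.le' mY') v hv.1,
    eks _ k (P.le' (σ1 a)) v hv.2⟩ : ↥(ek V ((g.1 * x) ^ 2) c ⊓ ek V (σ a) d)))
    (fun k l e => smul_left_injective K v0 (Subtype.mk.inj e)) h3).2
    ⟨(g.1 * x) • v, ekc c wC (Commute.self_pow _ 2) v hv.1, ekc d wC cu v hv.2⟩
  replace e : μ • v = (g.1 * x) • v := Subtype.mk.inj e
  have μ0 : μ ≠ 0 := fun t => v0 ((smul_eq_zero_iff_eq _).1 (by rw [← e, t, zero_smul]))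
  have μ4 := FiniteField.pow_card_sub_one_eq_one μ μ0
  rw [← Nat.card_eq_fintype_card, hq] at μ4
  have := w4 v
  simp only [pow_succ, pow_zero, one_mul, mul_smul _ (g.1 * x), ← e, P.L.lin _ wC, smul_smul] at this
  rw [show μ * μ * μ * μ = μ ^ (5 - 1) by ring, μ4, one_smul] at this
  exact v0 (t2 v (add_eq_zero_iff_eq_neg.2 this))

end PS

theorem count1 (L : Lx V Z ι) (nb : ¬ Bs G V (Fin 2)) {v : V} (v0 : v ≠ 0) (W : AddSubgroup V) :
    (Nat.card V - Nat.card W) * 2 ≤ sm (fun g : G => ((orderOf g).Prime ∧ g ∉ Z) ∧ g • v = v)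
      fun g => wt g * (Nat.card (fx V g) - Nat.card ↥(fx V g ⊓ W)) := by
  classical
  rw [show Nat.card W = (W : Set V).ncard from rfl, ← Set.ncard_compl, show (W : Set V)ᶜ = {w | w ∉ W} from rfl, ← sm_const]
  refine (sm_le_sm (Q := (· ∉ W)) (g := fun w => sm (fun g : G => ((orderOf g).Prime ∧ g ∉ Z) ∧ g • v = v)
    fun g => if g • w = w then wt g else 0) fun w hw => ⟨hw, ?_⟩).trans (le_of_eq ?_)
  · obtain ⟨g, h1, h2, h3⟩ := exists_pg L nb (t := ![v, w]) ⟨0, v0⟩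
    rw [sm_ite]
    exact two_le_sm (g := g) ⟨⟨⟨h1, h2⟩, h3 0⟩, h3 1⟩ ⟨⟨⟨by rwa [orderOf_inv], by rwa [inv_mem_iff]⟩,
      inv_smul_eq_iff.2 (h3 0).symm⟩, inv_smul_eq_iff.2 (h3 1).symm⟩ fun e => h2 (e ▸ Z.one_mem)
  · rw [sm_comm]
    refine Finset.sum_congr rfl fun g _ => ?_
    beta_reduce
    rw [sm_ite, sm_const, mul_comm, show Nat.card (fx V g) = (fx V g : Set V).ncard from rfl,
      show Nat.card ↥(fx V g ⊓ W) = ((fx V g ⊓ W : AddSubgroup V) : Set V).ncard from rfl, ← Set.ncard_sdiff fun _ t => t.1]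
    congr 2; ext w; simp [mem_fx, and_comm]

theorem sm_bij {X : Type*} [Finite X] {P : X → Prop} (f : X → ℕ) (τ : X → X) (h1 : ∀ x, P x → P (τ x)) (h2 : ∀ x, τ (τ x) = x) :
    sm P f = sm P fun x => f (τ x) :=
  Finset.sum_bij' (fun x _ => τ x) (fun x _ => τ x) (fun x hx => by simpa using h1 x (by simpa using hx))
    (fun x hx => by simpa using h1 x (by simpa using hx)) (fun x _ => h2 x) (fun x _ => h2 x) fun x _ => by rw [h2]

theorem PS.q5 [Nontrivial V] (P : PS V Z ι E π β) (hA : Nat.card A = 2 ^ 4) (hq : Nat.card K = 5) (hn : Module.finrank K V = 4)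
    (h5 : ¬ 5 ∣ Nat.card (HH Z A)) : Bs G V (Fin 2) := by
  classical
  by_contra nb
  have hN : Nat.card V = 625 := by rw [Module.natCard_eq_pow_finrank (K := K), hq, hn]; rfl
  have hz : Nat.card Z ∣ 4 := by have := P.card_Z; rwa [hq] at this
  have hC : ∀ g : G, g ∈ 𝐂 Z := by
    obtain ⟨q0, -, e⟩ := P.fld
    rw [index_eq_one.1 ((Nat.prime_five.pow_eq_iff).1 (e.trans hq)).2]; exact fun _ => trivial
  have e2 : ∀ (h : HH Z A) (a : A), 2 • dl A h a = 0 := fun h a => (two_nsmul _).trans ((P.st hA).e2 _)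
  have cv : ∀ g : G, g ∉ Z → (big V g ∧ Nat.card (fx V g) = 125) ∨
      (¬ big V g ∧ (Nat.card (fx V g) ≤ 5 ∨ Nat.card (fx V g) = 25)) := fun g hg => by
    have t := dm_le P.L (g := ⟨g, hC g⟩) (P.b4 (hC g) hg) (by norm_num)
    have e := card_fx P.L ⟨g, hC g⟩
    rw [hn] at t
    rw [big, hN, show Nat.card (fx V g) = _ from e, hq]
    generalize dm P.L ⟨g, hC g⟩ = d at t
    have : d ≤ 3 := t
    interval_cases d <;> norm_num
  have o2 : ∀ g : G, (orderOf g).Prime → g ∉ Z → big V g → orderOf g = 2 := fun g h1 h2 h3 =>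
    P.ord2 (g := ⟨g, hC g⟩) h3 h1 h2 (e2 _)
  let ψ : G → ℕ := fun g => wt g * if big V g then 100 else Nat.card (fx V g) - 5
  have s1 : ∀ v : V, v ≠ 0 → 1200 ≤ sm (fun g : G => ((orderOf g).Prime ∧ g ∉ Z) ∧ g • v = v) ψ := fun v v0 => by
    let S := (Submodule.span K {v}).toAddSubgroup
    have cS : Nat.card S = 5 := by
      rw [show Nat.card S = Nat.card (Submodule.span K {v}) from rfl, Module.natCard_eq_pow_finrank (K := K), finrank_span_singleton v0,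
        hq, pow_one]
    have lS : ∀ g : G, g • v = v → S ≤ fx V g := fun g e =>
      (Submodule.span_le (p := fs P.L ⟨g, hC g⟩)).2 (Set.singleton_subset_iff.2 e)
    by_cases h : ∃ g, (((orderOf g).Prime ∧ g ∉ Z) ∧ g • v = v) ∧ big V g
    · obtain ⟨g0, h0, b0⟩ := h
      have c0 := ((cv g0 h0.1.2).resolve_right fun t => t.1 b0).2
      have := count1 P.L nb v0 (fx V g0)
      have t : sm (fun g : G => ((orderOf g).Prime ∧ g ∉ Z) ∧ g • v = v) (fun g => wt g * (Nat.card (fx V g) - Nat.card ↥(fx V g ⊓ fx V g0))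
          + if g = g0 then 200 else 0) ≤ sm _ ψ := sm_le_sm fun g hg => ⟨hg, by
        by_cases e : g = g0
        · simp [e, ψ, b0, wt, o2 g0 h0.1.1 h0.1.2 b0]
        simp only [e, if_false, add_zero, ψ]
        refine Nat.mul_le_mul_left _ ?_
        split_ifs with b
        · have := card_mul_le (fx V g) (fx V g0)
          rw [((cv g hg.1.2).resolve_right fun t => t.1 b).2, c0, hN] at *
          omega
        · have := AddSubgroup.card_le_of_le (le_inf (lS g hg.2) (lS g0 h0.2))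
          omega⟩
      rw [sm_add] at t
      have := le_sm (P := fun g : G => ((orderOf g).Prime ∧ g ∉ Z) ∧ g • v = v) (fun g => if g = g0 then 200 else 0) h0
      rw [hN, c0] at *
      simp only [if_true] at this
      omega
    · have := count1 P.L nb v0 S
      rw [hN, cS] at this
      refine le_trans (by norm_num) (this.trans (sm_le_sm fun g hg => ⟨hg, ?_⟩))
      simp only [ψ, if_neg fun b => h ⟨g, hg, b⟩, inf_eq_right.2 (lS g hg.2), cS, le_refl]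
  let χ : (𝐂 Z) → ℕ := fun g => (Nat.card (fx V g.1) - 1) * ψ g.1
  have s2 : 624 * 1200 ≤ sm (fun g : 𝐂 Z => (orderOf g.1).Prime ∧ g.1 ∉ Z) χ := by
    have t : {v : V | v ≠ 0}.ncard = 624 := by
      rw [show {v : V | v ≠ 0} = {0}ᶜ from rfl, Set.ncard_compl, Set.ncard_singleton, hN]
    rw [← t, ← sm_const, ← sm_sub (· ∈ 𝐂 Z) (fun g => (orderOf g).Prime ∧ g ∉ Z) fun g => (Nat.card (fx V g) - 1) * ψ g]
    refine (sm_le_sm (Q := fun v : V => v ≠ 0) (g := fun v => sm (fun g : G => ((orderOf g).Prime ∧ g ∉ Z) ∧ g ∈ 𝐂 Z)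
      fun g => if g • v = v then ψ g else 0) fun v hv => ⟨hv, (s1 v hv).trans ?_⟩).trans (le_of_eq ?_)
    · rw [sm_ite]; exact sm_le_sm fun g hg => ⟨⟨⟨hg.1, hC g⟩, hg.2⟩, le_rfl⟩
    rw [sm_comm]
    refine Finset.sum_congr rfl fun g _ => ?_
    beta_reduce
    rw [sm_ite, sm_const, show Nat.card (fx V g) = (fx V g : Set V).ncard from rfl, ← Set.ncard_sdiff_singleton_of_mem (zero_mem _)]
    congr 2; ext w; simp [mem_fx, and_comm]
  have x1 : ∀ g : 𝐂 Z, g.1 ∉ Z → ¬ big V g.1 → χ g ≤ wt g.1 * 480 := fun g h1 h2 => by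
    simp only [χ, ψ, h2, if_false]
    rcases ((cv g h1).resolve_left fun t => h2 t.1).2 with e | e
    · simp [Nat.sub_eq_zero_of_le e]
    · rw [e]; omega
  have x2 : ∀ g : 𝐂 Z, g.1 ∉ Z → ¬ big V g.1 → χ g ≤ 960 := fun g h1 h2 => (x1 g h1 h2).trans (Nat.mul_le_mul_right 480 (wt_le g.1))
  have F := (P.st hA).four
  generalize e0 : 624 * 1200 = N0 at s2
  refine absurd (s2.trans (sm_fiber (Q := fun _ => True) (g := fun h : HH Z A => ((((if h = 1 then 30720 else 0) +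
    if A2 β h then 99200 else 0) + if orderOf h = 2 ∧ ¬ TA β h ∧ (fx A h).index ≠ 2 then 7680 else 0) +
    if orderOf h = 3 then 1920 else 0) + if orderOf h = 3 ∧ (fx A h).index = 16 then 5760 else 0) (ph Z A) (fun _ _ => trivial)
    fun h _ => ?_)) ?_
  swap
  · simp only [sm_add, sm_ite, sm_const, true_and, Set.ofPred_eq_eq_singleton, Set.ncard_singleton]
    have := F.a2
    have := F.c2 h5
    have := F.n3
    have := F.n1
    omega
  have i := (fx A h).index_mul_card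
  by_cases h1 : h = 1
  · have := sm_le_mul (f := χ) (fun g hg => x2 g hg.1.2 (P.b1 (P.ph_eq.1 (hg.2.trans h1)) hg.1.2)) (P.lift_two hA (Or.inl h1))
    have := AddSubgroup.card_le_card_addGroup (fx A h)
    simp only [h1, if_true] at *
    omega
  by_cases hp : (orderOf h).Prime
  swap
  · exact (P.lift_prime h1 hp _).trans (Nat.zero_le _)
  have nE : ∀ g : 𝐂 Z, ph Z A g = h → g.1 ∉ E := fun g e t => h1 (e ▸ P.ph_eq.2 t)
  by_cases h2 : orderOf h = 2
  swap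
  · have h3 := ((P.st hA).pv4 hp h2).resolve_right fun t => h5 (t.1.symm.dvd.trans (_root_.orderOf_dvd_natCard h))
    have t := (P.lift_odd hA h1 h2 hp).trans (Nat.mul_le_mul_left _ (cz_one hp fun d => by
      have := d.trans hz; rw [h3.1] at this; omega))
    have t' : sm (fun g : 𝐂 Z => ((orderOf g.1).Prime ∧ g.1 ∉ Z) ∧ ph Z A g = h) χ ≤ _ := (sm_le_sm fun g hg => ⟨hg, x1 g hg.1.2 fun b =>
      h2 (by rw [← hg.2, P.ord_ph hg.1.1 (nE g hg.2), o2 _ hg.1.1 hg.1.2 b])⟩).trans (sm_mul _ (fun g : 𝐂 Z => wt g.1) 480).le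
    rcases h3.2 with e | e <;> rw [e, hA] at i
    · simp only [h3.1, show (fx A h).index = 16 by omega, if_true, and_self] at *
      omega
    · simp only [h3.1, if_true]
      omega
  have g2 : ∀ g : 𝐂 Z, ((orderOf g.1).Prime ∧ g.1 ∉ Z) ∧ ph Z A g = h → g.1 ^ 2 = 1 := fun g hg => by
    rw [← h2, ← hg.2, P.ord_ph hg.1.1 (nE g hg.2), pow_orderOf_eq_one]
  by_cases i2 : (fx A h).index = 2
  · refine (sm_le_card (M := 0) fun g hg => ?_).trans (by simp)
    exact (P.notr hA hq hN (g2 g hg) (hg.2 ▸ i2)).elim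
  have i4 := Nat.mul_le_mul_right (Nat.card (fx A h)) (P.idx4 hA h1 i2)
  by_cases ta : TA β h
  swap
  · have := sm_le_mul (P := fun g : 𝐂 Z => ((orderOf g.1).Prime ∧ g.1 ∉ Z) ∧ ph Z A g = h) (f := χ)
      (fun g hg => x2 g hg.1.2 fun b => ta (hg.2 ▸ P.b6 b (o2 _ hg.1.1 hg.1.2 b) (e2 _))) (P.lift_two hA (Or.inr h2))
    simp only [h2, ta, i2, ne_eq, not_false_eq_true, and_self, if_true]
    omega
  have a2 : A2 β h := ⟨ta, (ta.cases P.sy h1).resolve_right fun t => by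
    have := Nat.le_of_dvd Nat.card_pos ta.sq_dvd; nlinarith [t.1]⟩
  obtain ⟨z, hz2⟩ := exists_prime_orderOf_dvd_card' (hp := ⟨Nat.prime_two⟩) 2 (P.prime_dvd Nat.prime_two (by rw [hA]; norm_num))
  have z2 : z.1 * z.1 = 1 := by rw [← sq, ← hz2, ← orderOf_coe, pow_orderOf_eq_one]
  let τ : (𝐂 Z) → (𝐂 Z) := fun g => ⟨z.1, P.comm z.2⟩ * g
  have τ2 : ∀ g, τ (τ g) = g := fun g => Subtype.ext (by simp [τ, ← mul_assoc, z2])
  have τ1 : ∀ g : 𝐂 Z, g.1 ^ 2 = 1 ∧ ph Z A g = h → (τ g).1 ^ 2 = 1 ∧ ph Z A (τ g) = h := fun g hg =>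
    ⟨by rw [show (τ g).1 = z.1 * g.1 from rfl, Commute.mul_pow (g.2 _ z.2), hg.1, sq, z2, one_mul],
      by rw [map_mul, P.ph_eq.2 (P.le z.2), one_mul, hg.2]⟩
  have x3 : ∀ g : 𝐂 Z, ph Z A g = h → ph Z A (τ g) = h → big V g.1 → χ g + χ (τ g) ≤ 24800 := fun g e e' b => by
    have c0 := ((cv g fun t => nE g e (P.le t)).resolve_right fun t => t.1 b).2
    have := card_mul_le' (U := fx V g.1) (W := fx V (τ g).1) (eq_bot_iff.2 fun v hv => P.L.fpf z.2 (fun t => by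
      rw [show z = 1 from Subtype.ext t, orderOf_one] at hz2; omega) (by
        have : (z.1 * g.1) • v = v := hv.2
        rwa [mul_smul, show g.1 • v = v from hv.1] at this))
    rw [c0, hN] at this
    have nb : ¬ big V (τ g).1 := fun b => by
      have := ((cv _ fun t => nE _ e' (P.le t)).resolve_right fun t => t.1 b).2
      omega
    have := wt_le g.1
    simp only [χ, ψ, b, nb, if_true, if_false, c0, Nat.sub_eq_zero_of_le (show Nat.card (fx V (τ g).1) ≤ 5 by omega)]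
    omega
  have t := sm_le_mul (P := fun g : 𝐂 Z => g.1 ^ 2 = 1 ∧ ph Z A g = h) (f := fun g => χ g + χ (τ g)) (M := 24800) (fun g hg => by
    by_cases b : big V g.1
    · exact x3 g hg.2 (τ1 g hg).2 b
    by_cases b' : big V (τ g).1
    · have := x3 (τ g) (τ1 g hg).2 (by rw [τ2]; exact hg.2) b'
      rw [τ2] at this; omega
    have := x2 g (fun t => nE g hg.2 (P.le t)) b
    have := x2 _ (fun t => nE _ (τ1 g hg).2 (P.le t)) b'
    omega) (P.lift2 hA h)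
  rw [sm_add, ← sm_bij χ τ τ1 τ2] at t
  have t' : sm (fun g : 𝐂 Z => ((orderOf g.1).Prime ∧ g.1 ∉ Z) ∧ ph Z A g = h) χ ≤
    sm (fun g : 𝐂 Z => g.1 ^ 2 = 1 ∧ ph Z A g = h) χ := sm_le_sm fun g hg => ⟨⟨g2 g hg, hg.2⟩, le_rfl⟩
  simp only [a2, if_true]
  omega

end Cfsg.Lib.Hall.B3
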