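import Cfsg.Agent.Lib.Hall.B3k

/-! # Bases of size two for coprime solvable linear groups -/

set_option autoImplicit false
set_option linter.unusedSectionVars false
set_option linter.style.haveILetI false

namespace Cfsg.Lib.Hall.B3

open Cfsg Cfsg.Lib Subgroup Cfsg.Lib.Block.B2
open scoped commutatorElement Matrix.Module

universe u
variable {G V : Type u} [Group G] [Finite G] [AddCommGroup V] [Finite V] [DistribMulAction G V]

local notation "𝐂" S => centralizer (SetLike.coe S)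

theorem In.w24 {k b q f z a n M S ρ : ℕ} (I : In k b q f z a n M S ρ) (ho : ¬ 2 ∣ q) (h3 : ¬ 3 ∣ q) : 24 * (f - 1) ≤ q := by
  obtain ⟨q0, h0, h⟩ := I.fq
  rcases f with _ | _ | f
  · simp
  · simp
  have : ¬ 2 ∣ q0 := fun d => ho (h ▸ d.pow (by omega))
  have : ¬ 3 ∣ q0 := fun d => h3 (h ▸ d.pow (by omega))
  refine le_trans ?_ (h ▸ Nat.pow_le_pow_left (show 5 ≤ q0 by omega) _)
  have := Nat.lt_pow_self (a := 5) (n := f) (by norm_num); rw [pow_succ, pow_succ]; omega

section prim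
variable {K : Type u} [Field K] [Finite K] [Module K V] {Z : Subgroup G} [hZn : Z.Normal] {ι : Z →* K} {E : Subgroup G}
  [hEn : E.Normal] {A : Type u} [AddCommGroup A] [Finite A] [DistribMulAction G A] {π : G → A} {β : Fm K A}

theorem PS.M4 (P : PS V Z ι E π β) (hA : Nat.card A = 2 ^ 4) : MM Z ≤ 2864 + if 5 ∣ Nat.card Z then 256 else 0 := by
  have F := (P.st hA).four
  have t := P.MM_le hA
  have t1 : {h : HH Z A | orderOf h = 2 ∧ (fx A h).index = 2}.ncard ≤ _ := (Set.ncard_le_ncard fun _ t => t.2).trans P.sy.card_transv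
  have t2 := (Set.ncard_le_card {h : HH Z A | (orderOf h).Prime}).trans F.card
  rw [sm_split _ fun h => orderOf h = 3] at t
  have t3 := sm_le_mul (P := fun h : HH Z A => ((orderOf h).Prime ∧ orderOf h ≠ 2 ∧ orderOf h ∣ Nat.card Z) ∧ orderOf h = 3)
    (f := fun h => (orderOf h - 1) * Nat.card A) (M := 32) (fun h t => by rw [t.2, hA]; norm_num)
    ((Set.ncard_le_ncard fun _ t => t.2).trans F.n3)
  have o : ∀ h : HH Z A, ((orderOf h).Prime ∧ orderOf h ≠ 2 ∧ orderOf h ∣ Nat.card Z) ∧ ¬ orderOf h = 3 → orderOf h = 5 :=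
    fun h t => (((P.st hA).pv4 t.1.1 t.1.2.1).resolve_left fun e => t.2 e.1).1
  rw [hA] at t1
  split_ifs with d
  · have t4 := sm_le_mul (f := fun h : HH Z A => (orderOf h - 1) * Nat.card A) (M := 64) (fun h t => by rw [o h t, hA]; norm_num)
      ((Set.ncard_le_ncard o).trans F.n5)
    rw [hA] at t t3 t4
    omega
  · have t4 := sm_le_card (P := fun h : HH Z A => ((orderOf h).Prime ∧ orderOf h ≠ 2 ∧ orderOf h ∣ Nat.card Z) ∧ ¬ orderOf h = 3)
      (f := fun h : HH Z A => (orderOf h - 1) * Nat.card A) (M := 0) fun h t => (d (o h t ▸ t.1.2.2)).elim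
    rw [hA] at t t3 t4
    omega

theorem PS.M43 (P : PS V Z ι E π β) (hA : Nat.card A = 2 ^ 4) (hz : Nat.card Z ∣ 2) (h3 : ¬ 3 ∣ Nat.card (HH Z A)) : MM Z ≤ 208 := by
  have F := (P.st hA).four
  obtain ⟨-, f1, f2⟩ := F.no3 h3
  have t := P.MM_le hA
  rw [Nat.le_zero.1 ((sm_le_card (M := 0) fun h t => (t.2.1 ((Nat.prime_dvd_prime_iff_eq t.1 Nat.prime_two).1
    (t.2.2.trans hz))).elim).trans (mul_zero _).le), Set.eq_empty_of_forall_notMem (s := {h : HH Z A | orderOf h = 2 ∧ _}) fun h t => by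
      have := f2 h t.1
      have i := (fx A h).index_mul_card
      rw [t.2, hA] at i
      omega, Set.ncard_empty, hA] at t
  have := (Set.ncard_le_ncard (s := {h : HH Z A | (orderOf h).Prime}) (t := {h | orderOf h = 2} ∪ {h | orderOf h = 5}) fun h t =>
    or_iff_not_imp_left.2 fun n => (((P.st hA).pv4 t n).resolve_left fun e =>
      h3 (e.1.symm.dvd.trans (_root_.orderOf_dvd_natCard h))).1).trans (Set.ncard_union_le _ _)
  have := F.n5
  omega

theorem PS.prim2 [Nontrivial V] (P : PS V Z ι E π β) (hc : (Nat.card G).Coprime (Nat.card V)) (ho : ¬ 2 ∣ Nat.card V) :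
    Bs G V (Fin 2) := by
  obtain ⟨b, hb⟩ := P.alt.isSquare
  obtain ⟨b0, bn, hp, -⟩ := P.bb hb
  by_cases b1 : b = 1
  · exact P.one' (by rw [hb, b1])
  by_cases b56 : 56 ≤ b
  · exact P.large hb b56 (Or.inl rfl)
  by_contra nb
  have I := P.inn hb (Or.inl rfl) nb
  have q2 := P.q2
  have dq : Nat.card K ∣ Nat.card V := by
    rw [Module.natCard_eq_pow_finrank (K := K) (V := V)]; exact dvd_pow_self _ (by omega)
  have o : ¬ 2 ∣ Nat.card K := fun d => ho (d.trans dq)
  have co : ∀ r : ℕ, r ≠ 1 → r ∣ Nat.card K → ¬ r ∣ Nat.card (HH Z A) := fun r h d d' =>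
    h (Nat.eq_one_of_dvd_coprimes hc ((d'.trans (P.card_C ▸ dvd_mul_left _ _)).trans (card_subgroup_dvd_card _)) (d.trans dq))
  have c3 := co 3 (by norm_num)
  have w := I.w9 o
  have hr := (rd_dvd hp).trans P.card_Z
  have hq : (if 2 ∣ rd b then rd b else 2 * rd b) + 1 ≤ Nat.card K := by
    have : (if 2 ∣ rd b then rd b else 2 * rd b) ∣ Nat.card K - 1 := by
      split_ifs with t
      · exact hr
      · exact ((Nat.Prime.coprime_iff_not_dvd Nat.prime_two).2 t).mul_dvd_of_dvd_of_dvd (by omega) hr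
    have := Nat.le_of_dvd (by omega) this; omega
  have key := (by decide +kernel : ∀ b < 56, 2 ≤ b → (chk 2 b ((if 2 ∣ rd b then rd b else 2 * rd b) + 1) (2 * b) 9 ∨
    b = 2 ∨ b = 4 ∨ b = 8) ∧ (chk 2 b ((if 2 ∣ rd b then rd b else 2 * rd b) + 1) b 9 ∨
      b = 2 ∨ b = 3 ∨ b = 4 ∨ b = 6 ∨ b = 8 ∨ b = 9 ∨ b = 12 ∨ b = 16)) b (by omega) (by omega)
  have bk := fun q1 n1 => P.bulk (q1 := q1) (n1 := n1) (w := 9) hb (by omega) (by omega) I
  have a := P.ta hb (by omega) (by omega)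
  obtain ⟨q0, f1, f2⟩ := P.fld
  have z1 := Nat.le_of_dvd (by omega) P.card_Z
  by_cases l : 2 * b ≤ Module.finrank K V
  · rcases key.1 with h | rfl | rfl | rfl
    · exact bk _ _ hq l w h
    · by_cases l' : 5 ≤ Nat.card K
      · exact bk 5 4 l' l w (by decide +kernel)
      · exact I.gen2' 4 _ 0 0 (by omega) l a (RR_zero hb (by norm_num)) (P.SS_zero (m := 2) hb)
          (by rw [show Nat.card K = 3 by omega]; decide +kernel)
    · have F := (P.st (m := 4) hb).four
      by_cases l' : 5 ≤ Nat.card K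
      · exact I.gen1 5 8 144 6 0 9 l' l F.card F.a2 (P.SS_zero (m := 4) hb) w (by decide +kernel)
      · have e : Nat.card K = 3 := by omega
        exact I.gen2' 8 20 0 0 (by omega) l (F.no3 (c3 e.symm.dvd)).1 ((P.st (m := 4) hb).no3 (c3 e.symm.dvd)).le
          (P.SS_zero (m := 4) hb) (by rw [e]; decide +kernel)
    · exact I.gen1 3 16 _ 120 0 9 (by omega) l a (P.st (m := 6) hb).six.1 (P.SS_zero (m := 6) hb) w (by decide +kernel)
  have hn : Module.finrank K V = b := by
    obtain ⟨m, e⟩ := P.dvd_dim hb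
    rw [e] at l bn ⊢
    rcases m with _ | _ | m
    · omega
    · omega
    · exact (l (by nlinarith)).elim
  rcases key.2 with h | rfl | rfl | rfl | rfl | rfl | rfl | rfl | rfl
  · exact bk _ _ hq bn w h
  · have := P.li hb two_pos nb (s := Nat.card K) hn rfl (by nlinarith)
    have t : 4 * Nat.card (HH Z A) * ((𝐂 Z).index - 1) ≤ Nat.card K := by
      by_cases d : 3 ∣ Nat.card K
      · rw [(P.st (m := 2) hb).two (c3 d)]; exact I.w4
      · replace a : _ ≤ 6 := a.trans_eq (by decide +kernel)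
        exact le_trans (Nat.mul_le_mul_right _ (by omega)) (I.w24 o d)
    simp only [LI, Fin.prod_univ_two, Nat.reduceDiv, Nat.reduceMul, Fin.val_zero, Fin.val_one, pow_one, Nat.sub_self, mul_zero, add_zero,
      pow_zero] at this
    obtain ⟨r, e⟩ : ∃ r, Nat.card K = r + 2 := ⟨Nat.card K - 2, by omega⟩
    rw [e] at this t z1
    have e1 : (r + 2) ^ 2 - 1 = (r + 1) * (r + 3) := Nat.sub_eq_of_eq_add (by ring)
    have e2 : (r + 2) ^ 2 - (r + 2) = (r + 1) * (r + 2) := Nat.sub_eq_of_eq_add (by ring)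
    rw [e1, e2, show r + 2 - 1 = r + 1 by omega, show (r + 1).descFactorial 2 = r * (r + 1) by simp [Nat.descFactorial]] at this
    rw [show r + 2 - 1 = r + 1 by omega] at z1
    have := this.trans (show _ ≤ (r + 2) * (r + 1) * (2 * (r * (r + 1))) from Nat.mul_le_mul_right _
      (le_trans (le_of_eq (by ring)) (Nat.mul_le_mul t z1)))
    nlinarith [Nat.zero_le (r ^ 3), Nat.zero_le (r ^ 2)]
  · replace a : _ ≤ 24 := a.trans_eq (by decide +kernel)
    replace hr : 3 ∣ _ := hr
    have S : SS Z β ≤ 90 := (P.SS3 (k := 1) (Or.inl rfl) hb).trans (by simp only [if_true]; omega)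
    by_cases l : 34 ≤ Nat.card K
    · exact bk 34 3 l bn w (by decide +kernel)
    by_cases e : Nat.card K = 7
    · have := P.li hb two_pos nb (s := 18) hn e (by norm_num)
      have f : _ ≤ 1 := e ▸ fm_le f1 f2 q2 (by omega)
      have := RR_zero (Z := Z) (β := β) hb (by norm_num)
      rw [show LI 7 2 3 = 114912 by decide, show LI 7 2 (3 / 2) = 0 by decide, show LI 7 2 (2 * 3 / 3) = 2016 by decide,
        Nat.sub_eq_zero_of_le f] at *
      omega
    · exact I.gen2' 3 24 0 90 (by omega) bn a (RR_zero hb (by norm_num)) S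
        ((by decide +kernel : ∀ q < 34, 13 ≤ q → ¬ 2 ∣ q → 3 ∣ q - 1 → F2 2 3 q 3 24 0 90 ((q - 1) * (3 * 3) * 24 * 2) < 2) _
          (by omega) (by omega) o hr)
  · have F := (P.st (m := 4) hb).four
    have S := P.SS_zero (m := 4) hb
    have R : RR Z β ≤ 6 := F.a2
    have M := P.M4 hb
    by_cases l : 34 ≤ Nat.card K
    · exact I.gen1 34 4 144 6 0 9 l bn F.card R S w (by decide +kernel)
    by_cases l' : 15 ≤ Nat.card K
    · exact I.gen2' 4 144 6 0 (by omega) bn F.card R S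
        ((by decide +kernel : ∀ q < 34, 15 ≤ q → ¬ 2 ∣ q → F2 2 4 q 4 144 6 0 ((q - 1) * (4 * 4) * 144 * 2) < 2) _ (by omega) l' o)
    rcases (by omega : Nat.card K = 3 ∨ Nat.card K = 5 ∨ Nat.card K = 7 ∨ Nat.card K = 9 ∨ Nat.card K = 11 ∨ Nat.card K = 13)
      with e | e | e | e | e | e
    · have t := P.li hb two_pos nb (s := 9) hn e (by norm_num)
      have f : _ ≤ 1 := e ▸ fm_le f1 f2 q2 (by omega)
      have R : RR Z β = 0 := (P.st (m := 4) hb).no3 (c3 e.symm.dvd)
      have := P.M43 hb (by have := P.card_Z; rwa [e] at this) (c3 e.symm.dvd)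
      rw [show LI 3 2 4 = 6240 by decide, show LI 3 2 (4 / 2) = 48 by decide, Nat.sub_eq_zero_of_le f, R, if_neg (by norm_num)] at t
      omega
    · exact nb (P.q5 hb e hn (co 5 (by norm_num) e.symm.dvd))
    · have := P.li hb two_pos nb (s := 49) hn e (by norm_num)
      have f : _ ≤ 1 := e ▸ fm_le f1 f2 q2 (by omega)
      rw [if_neg fun d => by have := d.trans P.card_Z; omega] at M
      rw [show LI 7 2 4 = 5745600 by decide, show LI 7 2 (4 / 2) = 2016 by decide, show LI 7 2 (3 * 4 / 4) = 114912 by decide,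
        Nat.sub_eq_zero_of_le f, if_neg (by norm_num)] at this
      omega
    · have d : 3 ∣ Nat.card K := by omega
      exact I.gen2' 4 20 0 0 (by omega) bn (F.no3 (c3 d)).1 ((P.st (m := 4) hb).no3 (c3 d)).le S (by rw [e]; decide +kernel)
    all_goals exact I.gen2 4 144 6 0 3120 (by omega) bn F.card R S (M.trans (by split_ifs <;> omega)) (by rw [e]; decide +kernel)
  · replace a : _ ≤ 210 := a.trans_eq (by decide +kernel)
    replace hr : 6 ∣ _ := hr
    by_cases l : 13 ≤ Nat.card K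
    · exact bk 13 6 l bn w (by decide +kernel)
    · exact I.gen2' 6 210 0 2574 (by omega) bn a (RR_zero hb (by norm_num)) ((P.sy.six (fun a => P.sqf 6 a 2 (by
        rw [show 6 ^ 2 = 6 * 6 from rfl, ← hb]; exact card_nsmul_eq_zero')) hb).trans (by omega))
        (by rw [show Nat.card K = 7 by omega]; decide +kernel)
  · obtain ⟨F1, F2, F3⟩ := (P.st (m := 6) hb).six
    replace a : _ ≤ 4016 := a.trans_eq (by decide +kernel)
    have S := P.SS_zero (m := 6) hb
    by_cases l : 7 ≤ Nat.card K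
    · exact I.gen1 7 8 _ 120 0 9 l bn a F1 S w (by decide +kernel)
    rcases (by omega : Nat.card K = 3 ∨ Nat.card K = 5) with e | e
    · exact I.gen2' 8 42 0 0 (by omega) bn (F2 (c3 e.symm.dvd)) ((P.st (m := 6) hb).no3 (c3 e.symm.dvd)).le S
        (by rw [e]; decide +kernel)
    have M := P.MM2 (m := 6) hb (by have := P.card_Z; rwa [e] at this)
    rcases F3 (co 5 (by norm_num) e.symm.dvd) (by omega) with t | t
    · exact I.gen2 8 _ 39 0 (2 ^ 6 * (4 + (2 ^ 6 - 1) + 4016)) (by omega) bn a t S (M.trans (by gcongr)) (by rw [e]; decide +kernel)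
    · exact I.gen2 8 _ 120 0 (2 ^ 6 * (4 + (2 ^ 6 - 1) + 2592)) (by omega) bn t F1 S (M.trans (by gcongr)) (by rw [e]; decide +kernel)
  · replace a : _ ≤ 6823 := a.trans_eq (by decide +kernel)
    exact I.gen1 7 9 _ 0 (2 * 9 ^ 2 + 6823 * 18) 9 hq bn a (RR_zero hb (by norm_num))
      ((P.SS3 (k := 2) (Or.inr rfl) hb).trans (by gcongr; norm_num)) w (by decide +kernel)
  · have a := P.pw2 hb
    exact I.gen1 7 12 _ _ _ 9 hq bn a ((Set.ncard_le_card _).trans a) ((P.SS_le hb).trans (Nat.mul_le_mul_right _ a)) w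
      (by decide +kernel)
  · by_cases l : 5 ≤ Nat.card K
    · exact bk 5 16 l bn w (by decide +kernel)
    have d : 3 ∣ Nat.card K := by omega
    exact I.gen1 3 16 12000 0 0 9 hq bn ((P.st (m := 8) hb).eight (c3 d)) ((P.st (m := 8) hb).no3 (c3 d)).le
      (P.SS_zero (m := 8) hb) w (by decide +kernel)

end prim

theorem sub3 (h3 : ¬ 3 ∣ Nat.card G) (h3' : ¬ 3 ∣ Nat.card V) (h : Bs G V (Fin 3)) :
    ∃ B : Set V, 0 ∉ B ∧ ∀ g : G, (∀ t, g • t ∈ B ↔ t ∈ B) → ∀ x : V, g • x = x := by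
  by_contra! nb
  have tri : ∀ g : G, (∀ x : V, g • g • g • x = x) → ∀ x : V, g • x = x := fun g h => by
    obtain ⟨m, hm⟩ := exists_pow_eq_self_of_coprime (((Nat.Prime.coprime_iff_not_dvd Nat.prime_three).2 h3).coprime_dvd_right
      (_root_.orderOf_dvd_natCard g))
    rw [← hm]; exact (kr G V).pow_mem (fun x => by rw [pow_three, mul_smul, mul_smul, h]) m
  have s1 : ∀ a : V, ¬ ∀ g : G, g • a = a → ∀ x : V, g • x = x := fun a r => by
    by_cases e : a = 0
    · obtain ⟨g, -, x, t⟩ := nb ∅ (by simp); exact t (r g (by simp [e]) x)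
    · obtain ⟨g, t1, x, t⟩ := nb {a} (by simpa using Ne.symm e); exact t (r g ((t1 a).2 rfl) x)
  have s2 : ∀ a c : V, ¬ ∀ g : G, g • a = a → g • c = c → ∀ x : V, g • x = x := by
    have k : ∀ a c : V, (∀ g : G, g • a = a → g • c = c → ∀ x : V, g • x = x) → a ≠ c ∧ ∃ g : G, g • a = c ∧ g • c = a := fun a c r => by
      have n1 : a ≠ 0 := fun e => s1 c fun g t => r g (by simp [e]) t
      have n2 : c ≠ 0 := fun e => s1 a fun g t => r g t (by simp [e])
      have n3 : a ≠ c := fun e => s1 c fun g t => r g (e ▸ t) t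
      obtain ⟨g, t1, x, t⟩ := nb {a, c} (by simp [n1.symm, n2.symm])
      refine ⟨n3, g, ?_⟩
      rcases (t1 a).2 (by simp) with e | e <;> rcases (t1 c).2 (by simp) with e' | e'
      · exact (n3 (smul_left_cancel g (e.trans e'.symm))).elim
      · exact (t (r g e e' x)).elim
      · exact ⟨e, e'⟩
      · exact (n3 (smul_left_cancel g (e.trans e'.symm))).elim
    intro a c r
    obtain ⟨n, g, e1, e2⟩ := k a c r
    obtain ⟨-, g', e3, e4⟩ := k a (-a - c) fun g t t' => r g t (by rw [smul_sub, smul_neg, t, sub_right_inj] at t'; exact t')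
    have e5 : g' • c = c := by rw [smul_sub, smul_neg, e3] at e4; linear_combination (norm := abel) - e4
    have e6 : g • (-a - c) = -a - c := by rw [smul_sub, smul_neg, e1, e2]; abel
    have := tri (g * g') (fun x => by
      simpa only [mul_smul] using r (g * g' * (g * g') * (g * g')) (by simp only [mul_smul, e1, e2, e3, e4, e5, e6])
        (by simp only [mul_smul, e1, e2, e3, e4, e5, e6]) x) c
    rw [mul_smul, e5, e2] at this
    exact n this
  have s3 : ∀ t : Fin 3 → V, (∀ g : G, g • t = t → ∀ x : V, g • x = x) → ∃ g : G,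
      (g • t = (!![1, 0, 0; 0, 0, 1; 0, 1, 0] : Matrix _ _ ℤ) • t ∨ g • t = (!![0, 0, 1; 0, 1, 0; 1, 0, 0] : Matrix _ _ ℤ) • t ∨
        g • t = (!![0, 1, 0; 1, 0, 0; 0, 0, 1] : Matrix _ _ ℤ) • t) ∧ g • t ≠ t := fun t r => by
    have r' : ∀ g : G, g • t 0 = t 0 → g • t 1 = t 1 → g • t 2 = t 2 → ∀ x : V, g • x = x := fun g a b c =>
      r g (funext fun i => by fin_cases i; exacts [a, b, c])
    have n0 : t 0 ≠ 0 := fun e => s2 _ _ fun g a b => r' g (by simp [e]) a b
    have n1 : t 1 ≠ 0 := fun e => s2 _ _ fun g a b => r' g a (by simp [e]) b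
    have n2 : t 2 ≠ 0 := fun e => s2 _ _ fun g a b => r' g a b (by simp [e])
    have m0 : t 0 ≠ t 1 := fun e => s2 _ _ fun g a b => r' g (e ▸ a) a b
    have m1 : t 0 ≠ t 2 := fun e => s2 _ _ fun g a b => r' g (e ▸ b) a b
    have m2 : t 1 ≠ t 2 := fun e => s2 _ _ fun g a b => r' g a (e ▸ b) b
    obtain ⟨g, t1, x, t2⟩ := nb {t 0, t 1, t 2} (by simp [n0.symm, n1.symm, n2.symm])
    refine ⟨g, ?_, fun e => t2 (r g e x)⟩
    have j0 := fun e => m0 (smul_left_cancel g e)
    have j1 := fun e => m1 (smul_left_cancel g e)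
    have j2 := fun e => m2 (smul_left_cancel g e)
    have c3 : g • g • g • t 0 = t 0 → g • g • g • t 1 = t 1 → g • g • g • t 2 = t 2 → False := fun a b c =>
      t2 (tri g (fun x => by
        have := r' (g * g * g) (by simp only [mul_smul, a]) (by simp only [mul_smul, b]) (by simp only [mul_smul, c]) x
        simpa only [mul_smul] using this) x)
    suffices (g • t 0 = t 0 ∧ g • t 1 = t 2 ∧ g • t 2 = t 1) ∨ (g • t 0 = t 2 ∧ g • t 1 = t 1 ∧ g • t 2 = t 0) ∨
        (g • t 0 = t 1 ∧ g • t 1 = t 0 ∧ g • t 2 = t 2) by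
      simpa [funext_iff, Fin.forall_fin_succ, Matrix.Module.smul_apply, Fin.sum_univ_three] using this
    rcases (t1 (t 0)).2 (by simp) with a | a | a <;> rcases (t1 (t 1)).2 (by simp) with b | b | b <;>
      rcases (t1 (t 2)).2 (by simp) with c | c | c <;>
    first
    | exact (j0 (a.trans b.symm)).elim
    | exact (j1 (a.trans c.symm)).elim
    | exact (j2 (b.trans c.symm)).elim
    | exact Or.inl ⟨a, b, c⟩
    | exact Or.inr (Or.inl ⟨a, b, c⟩)
    | exact Or.inr (Or.inr ⟨a, b, c⟩)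
    | exact (t2 (r' g a b c x)).elim
    | (replace a : _ = _ := a; replace b : _ = _ := b; replace c : _ = _ := c
       exact (c3 (by simp only [a, b, c]) (by simp only [a, b, c]) (by simp only [a, b, c])).elim)
  obtain ⟨t, r⟩ := h
  replace r : ∀ g : G, g • t = t → ∀ x : V, g • x = x := fun g e => r g (congrFun e)
  let Gd : Matrix (Fin 3) (Fin 3) ℤ → Prop := fun S => ∃ g : G, g • t = S • t ∧ g • t ≠ t
  have cl : ∀ U W : Matrix (Fin 3) (Fin 3) ℤ, W * U = 1 → Gd (W * !![1, 0, 0; 0, 0, 1; 0, 1, 0] * U) ∨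
      Gd (W * !![0, 0, 1; 0, 1, 0; 1, 0, 0] * U) ∨ Gd (W * !![0, 1, 0; 1, 0, 0; 0, 0, 1] * U) := fun U W e => by
    have k : ∀ (g : G) (s : Fin 3 → V), g • U • t = s → g • t = W • s := fun g s h => by
      rw [← h, mat_comm, ← mul_smul, e, one_smul]
    obtain ⟨g, t1, t2⟩ := s3 (U • t) fun g h => r g (by rw [k g _ h, ← mul_smul, e, one_smul])
    have n : g • t ≠ t := fun e => t2 (by rw [mat_comm, e])
    simp only [Gd, mul_smul]
    exact t1.imp (fun h => ⟨g, k g _ h, n⟩) (Or.imp (fun h => ⟨g, k g _ h, n⟩) fun h => ⟨g, k g _ h, n⟩)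
  have cf : ∀ {S S' : Matrix (Fin 3) (Fin 3) ℤ}, Gd S → Gd S' → S' * S * (S' * S) * (S' * S) = 1 ∧
      (S - 1) * (S' * S - 1) * (S' * S) * (S' * S) * (S' * S - 1) + (S - 1) + (S - 1) + (S - 1) = 0 → False := by
    rintro S S' ⟨g, e, n⟩ ⟨g', e', -⟩ ⟨c1, c2⟩
    have t1 : (g * g') • t = (S' * S) • t := by rw [mul_smul, e', mat_comm, e, mul_smul]
    have t2 := tri (g * g') fun x => by
      simpa only [mul_smul] using r (g * g' * (g * g') * (g * g')) (by
        rw [mul_smul, mul_smul _ (g * g'), t1, mat_comm, t1, mat_comm, mat_comm, t1, ← mul_smul, ← mul_smul, c1, one_smul]) x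
    have t3 : (S' * S - 1) • t = 0 := by rw [sub_smul, ← t1, one_smul, sub_eq_zero]; exact funext fun i => t2 _
    have t4 := congrArg (· • t) c2
    simp only [add_smul, mul_smul _ (S' * S - 1) t, t3, smul_zero, zero_add, zero_smul, sub_smul S, one_smul, ← e] at t4
    exact n (funext fun i => sub_eq_zero.1 (eq_zero_of_coprime (s := 3) (by rw [three_nsmul, ← add_assoc]; exact congrFun t4 i)
      card_nsmul_eq_zero' ((Nat.Prime.coprime_iff_not_dvd Nat.prime_three).2 h3')))
  rcases cl !![0, 0, 1; 0, 1, 1; 1, 1, 1] !![0, -1, 1; -1, 1, 0; 1, 0, 0] (by decide +kernel) with h0 | h0 | h0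
  · rcases cl !![0, 0, 1; 1, 0, 1; 1, 1, 0] !![-1, 1, 0; 1, -1, 1; 1, 0, 0] (by decide +kernel) with h1 | h1 | h1
    · exact cf h1 h0 (by decide +kernel)
    · exact cf h1 h0 (by decide +kernel)
    · rcases cl !![1, 0, 0; 1, 0, 1; 1, 1, 1] !![1, 0, 0; 0, -1, 1; -1, 1, 0] (by decide +kernel) with h2 | h2 | h2
      · rcases cl !![0, 1, 1; 1, 0, 0; 1, 1, 0] !![0, 1, 0; 0, -1, 1; 1, 1, -1] (by decide +kernel) with h3 | h3 | h3
        · exact cf h3 h0 (by decide +kernel)
        · exact cf h3 h2 (by decide +kernel)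
        · exact cf h3 h2 (by decide +kernel)
      · exact cf h2 h0 (by decide +kernel)
      · exact cf h2 h1 (by decide +kernel)
  · rcases cl !![0, 1, 0; 1, 1, 0; 1, 1, 1] !![-1, 1, 0; 1, 0, 0; 0, -1, 1] (by decide +kernel) with h1 | h1 | h1
    · exact cf h1 h0 (by decide +kernel)
    · rcases cl !![0, 1, 1; 1, 0, 0; 1, 0, 1] !![0, 1, 0; 1, 1, -1; 0, -1, 1] (by decide +kernel) with h2 | h2 | h2
      · exact cf h2 h1 (by decide +kernel)
      · rcases cl !![0, 1, 1; 1, 0, 0; 1, 1, 0] !![0, 1, 0; 0, -1, 1; 1, 1, -1] (by decide +kernel) with h3 | h3 | h3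
        · exact cf h3 h0 (by decide +kernel)
        · exact cf h3 h2 (by decide +kernel)
        · exact cf h3 h1 (by decide +kernel)
      · exact cf h2 h0 (by decide +kernel)
    · exact cf h1 h0 (by decide +kernel)
  · rcases cl !![0, 0, 1; 1, 0, 1; 1, 1, 1] !![-1, 1, 0; 0, -1, 1; 1, 0, 0] (by decide +kernel) with h1 | h1 | h1
    · rcases cl !![0, 1, 0; 0, 1, 1; 1, 1, 1] !![0, -1, 1; 1, 0, 0; -1, 1, 0] (by decide +kernel) with h2 | h2 | h2
      · rcases cl !![0, 1, 0; 1, 0, 1; 1, 1, 0] !![-1, 0, 1; 1, 0, 0; 1, 1, -1] (by decide +kernel) with h3 | h3 | h3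
        · exact cf h3 h2 (by decide +kernel)
        · exact cf h3 h0 (by decide +kernel)
        · exact cf h3 h2 (by decide +kernel)
      · exact cf h2 h1 (by decide +kernel)
      · exact cf h2 h0 (by decide +kernel)
    · exact cf h1 h0 (by decide +kernel)
    · exact cf h1 h0 (by decide +kernel)

theorem col3 (h3 : ¬ 3 ∣ Nat.card G) (h3' : ¬ 3 ∣ Nat.card V) (h : Bs G V (Fin 3)) :
    ∃ c : V → Fin 3, (∀ t, c t = c 0 → t = 0) ∧ ∀ g : G, (∀ t, c (g • t) = c t) → ∀ t : V, g • t = t := by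
  classical
  obtain ⟨B, h0, h⟩ := sub3 h3 h3' h
  refine ⟨fun t => if t = 0 then 0 else if t ∈ B then 1 else 2, fun t e => ?_, fun g e => h g fun t => ?_⟩
  · by_contra n; simp only [n, if_true, if_false] at e; split_ifs at e <;> simp at e
  · have := e t
    by_cases z : t = 0
    · simp [z]
    simp only [smul_eq_zero_iff_eq, z, if_false] at this
    split_ifs at this <;> simp_all

theorem pairs [Nontrivial V] (hf : ∀ g : G, (∀ v : V, g • v = v) → g = 1) {p r : ℕ} (hp : p.Prime) (hV : ∀ v : V, p • v = 0)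
    (hG : ¬ p ∣ Nat.card G) (hr : r ≤ p) (h : Bs G V (Fin 2)) :
    ∃ w : Fin r → Fin 2 → V, (∀ c, ∀ a : G, (∀ i, a • w c i = w c i) → a = 1) ∧
      ∀ c c', ∀ a : G, (∀ i, a • w c i = w c' i) → c = c' := by
  obtain ⟨x, y, x0, h⟩ : ∃ x y : V, x ≠ 0 ∧ ∀ a : G, a • x = x → a • y = y → a = 1 := by
    obtain ⟨v, h⟩ := h
    replace h := fun a e1 e2 => hf a (h a (Fin.forall_fin_two.2 ⟨e1, e2⟩))
    by_cases e : v 0 = 0
    · by_cases e' : v 1 = 0
      · obtain ⟨x, hx⟩ := exists_ne (0 : V)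
        exact ⟨x, 0, hx, fun a _ _ => h a (by simp [e]) (by simp [e'])⟩
      · exact ⟨_, _, e', fun a s t => h a t s⟩
    · exact ⟨_, _, e, h⟩
  have k : ∀ (c c' : Fin r) (a : G), a • x = x → a • (y + c.1 • x) = y + c'.1 • x → a = 1 := fun c c' a e1 e2 => by
    have t : ∀ n : ℕ, a ^ n • y = y + n • (c'.1 • x - c.1 • x) := fun n => by
      induction n with
      | zero => simp
      | succ n ih =>
        rw [smul_add, smul_comm, e1, ← eq_sub_iff_add_eq] at e2
        rw [pow_succ', mul_smul, ih, smul_add, e2, smul_comm a, smul_sub a, smul_comm a, smul_comm a, e1, succ_nsmul]; abel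
    have := h (a ^ p) ((MulAction.stabilizer G x).pow_mem e1 p) (by rw [t, hV, add_zero])
    exact orderOf_eq_one_iff.1 ((hp.eq_one_or_self_of_dvd _ (orderOf_dvd_of_pow_eq_one this)).resolve_right
      fun e => hG (e.symm.dvd.trans (_root_.orderOf_dvd_natCard a)))
  refine ⟨fun c => ![x, y + c.1 • x], fun c a e => k c c a (e 0) (e 1), fun c c' a e => Fin.ext ?_⟩
  have t : y + c.1 • x = y + c'.1 • x := by have := e 1; rwa [k c c' a (e 0) (e 1), one_smul] at this
  have o : addOrderOf x = p := addOrderOf_eq_prime (hp := ⟨hp⟩) (hV x) x0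
  exact nsmul_injOn_Iio_addOrderOf (x := x) (by rw [o]; exact c.2.trans_le hr) (by rw [o]; exact c'.2.trans_le hr) (add_left_cancel t)

theorem base2 (n : ℕ) : ∀ (G V : Type u) [Group G] [Finite G] [AddCommGroup V] [Finite V] [DistribMulAction G V]
    [Group.IsSolvable G], Nat.card V < n → (Nat.card G).Coprime (Nat.card V) → CR G V → Bs G V (Fin 2) := by
  induction n with
  | zero => intro G V _ _ _ _ _ _ h; omega
  | succ n ih =>
  intro G V _ _ _ _ _ _ hn hc hcr
  by_cases hi : Irr G V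
  swap
  · obtain ⟨U, W, hU, hW, u1, w1, -, -, h2, h3⟩ := not_irr hcr hi
    letI := subAct hU
    letI := subAct hW
    exact bs_sum hU hW h2 h3 (ih G U (by have := card_lt u1; omega) (hc.coprime_dvd_right U.card_addSubgroup_dvd_card) (hcr.sub hU))
      (ih G W (by have := card_lt w1; omega) (hc.coprime_dvd_right W.card_addSubgroup_dvd_card) (hcr.sub hW))
  rcases subsingleton_or_nontrivial V with _ | _
  · exact ⟨0, fun _ _ _ => Subsingleton.elim _ _⟩
  by_cases ho : 2 ∣ Nat.card V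
  · obtain ⟨v, w, h⟩ := ih_all _ G V (Nat.coprime_two_right.1 (hc.coprime_dvd_right ho)) (Nat.lt_succ_self _) hcr
    exact ⟨![v, w], fun g e => h g (e 0) (e 1)⟩
  obtain ⟨p, hp, d⟩ := Nat.exists_prime_and_dvd (n := Nat.card V) Finite.one_lt_card.ne'
  have hV : ∀ v : V, p • v = 0 := fun v => by
    obtain ⟨a, ha⟩ := exists_prime_addOrderOf_dvd_card' (hp := ⟨hp⟩) p d
    exact ((hi (tor V p) fun g a ha => by show _ = _; rw [smul_comm, show p • a = 0 from ha, smul_zero]).resolve_left fun e => by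
      have : a ∈ tor V p := ha ▸ addOrderOf_nsmul_eq_zero a
      rw [e, AddSubgroup.mem_bot] at this
      exact hp.ne_one (by rw [← ha, this, addOrderOf_zero])).ge (AddSubgroup.mem_top v)
  refine Bs.of_im ?_
  haveI := im_solv (G := G) (V := V)
  have hc' := hc.coprime_dvd_left (card_dvd_of_surjective _ (rp G V).rangeRestrict_surjective)
  rcases exists_PS (im_irr hi) im_faith with ⟨H, e, h⟩ | ⟨K, _, _, _, Z, _, ι, E, _, A, _, _, _, π, β, P⟩
  · letI := subAct h.inv
    haveI := h.nontriv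
    haveI := im_solv (G := H) (V := e.range)
    have np : ∀ m, m ∣ Nat.card (rp G V).range → ¬ p ∣ m := fun m a b => hp.ne_one (Nat.eq_one_of_dvd_coprimes hc' (b.trans a) d)
    have k := fun r (hr : r ≤ p) => pairs im_faith hp (fun v => Subtype.ext (hV v.1))
      (np _ ((card_dvd_of_surjective _ (rp H e.range).rangeRestrict_surjective).trans H.card_subgroup_dvd_card)) hr
      (ih H e.range (by have := card_lt h.ne_top; omega) ((hc'.coprime_dvd_left H.card_subgroup_dvd_card).coprime_dvd_right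
        e.range.card_addSubgroup_dvd_card) (h.irr (im_irr hi)).cr).im
    by_cases p3 : p = 3
    · subst p3
      exact h.bs (im_irr hi) (fun M _ hc c i => col3 (np _ (card_quotient_dvd_card _))
        (np _ (by rw [AX.card, c]; exact H.index_dvd_card)) (base3 _ _ _ (Nat.lt_succ_self _) i.cr)) (k 3 le_rfl)
    · exact h.bs (im_irr hi) (fun M _ hc c i => col5 (base3 _ _ _ (Nat.lt_succ_self _) i.cr))
        (k 5 (hp.five_le_of_ne_two_of_ne_three (fun e => ho (e ▸ d)) p3))
  · exact P.prim2 hc' ho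

end Cfsg.Lib.Hall.B3
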