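import Cfsg.Agent.Lib.Hall.B3l
import Cfsg.Agent.Lib.Coprime.CharAction
import Cfsg.Agent.Lib.Core.PSolvable

/-! # Coprime solvable operator groups have bases of size two -/

set_option autoImplicit false
set_option linter.unusedSectionVars false
set_option linter.style.haveILetI false

namespace Cfsg.Lib.Hall.B3

open Cfsg Cfsg.Lib Subgroup Cfsg.Lib.Block.B2 Cfsg.Lib.Coprime

universe u

theorem marks {A X Y : Type u} [Group A] [Finite A] [Finite X] [Finite Y] (s : X → Subgroup A) (t : Y → Subgroup A)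
    (h : ∀ B, Nat.card {x // B ≤ s x} = Nat.card {y // B ≤ t y}) (B : Subgroup A) :
    Nat.card {x // s x = B} = Nat.card {y // t y = B} := by
  classical
  haveI := Fintype.ofFinite (Subgroup A)
  have k : ∀ {X : Type u} [Finite X] (s : X → Subgroup A) (B : Subgroup A), Nat.card {x // B ≤ s x} =
      Nat.card {x // s x = B} + ∑ C with B < C, Nat.card {x // s x = C} := fun {X} _ s B => by
    haveI := Fintype.ofFinite X
    simp only [Nat.card_eq_fintype_card, Fintype.card_subtype]
    rw [← Finset.card_filter_add_card_filter_not (fun x => s x = B), Finset.filter_filter, Finset.filter_filter,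
      Finset.card_eq_sum_card_fiberwise (f := s) (s := Finset.filter (fun x => B ≤ s x ∧ ¬ s x = B) _) (t := {C | B < C})
        fun x hx => by simp at hx; simpa using lt_of_le_of_ne hx.1 (Ne.symm hx.2)]
    congr 1
    · congr 1; ext x; simpa using fun e => e.ge
    · refine Finset.sum_congr rfl fun C hC => congrArg _ ?_
      ext x; simp at hC; simpa using fun e => ⟨e ▸ hC.le, e ▸ hC.ne'⟩
  induction B using WellFoundedGT.induction with | ind B ih =>
  have := h B
  rw [k, k, Finset.sum_congr rfl fun C hC => ih C (Finset.mem_filter.1 hC).2] at this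
  exact Nat.add_right_cancel this

def st {A L : Type u} [Group A] [Group L] (ψ : A →* MulAut L) (v : L × L) : Subgroup A :=
  (MulAction.stabilizer _ v.1 ⊓ MulAction.stabilizer _ v.2).comap ψ

theorem card_st {A L : Type u} [Group A] [Group L] (ψ : A →* MulAut L) (B : Subgroup A) :
    Nat.card {v // B ≤ st ψ v} = Nat.card (actFix ψ B) ^ 2 := by
  rw [sq, ← Nat.card_prod]
  exact Nat.card_congr
    { toFun := fun v => (⟨v.1.1, fun b hb => (v.2 hb).1⟩, ⟨v.1.2, fun b hb => (v.2 hb).2⟩)
      invFun := fun v => ⟨(v.1.1, v.2.1), fun b hb => ⟨v.1.2 b hb, v.2.2 b hb⟩⟩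
      left_inv := fun _ => rfl
      right_inv := fun _ => rfl }

theorem act2 {A : Type u} [Group A] [Finite A] [Group.IsSolvable A] (n : ℕ) : ∀ (K : Type u) [Group K] [Finite K] (φ : A →* MulAut K),
    Nat.card K < n → (Nat.card A).Coprime (Nat.card K) → ∃ x y : K, ∀ a, φ a x = x → φ a y = y → φ a = 1 := by
  induction n with
  | zero => intro K _ _ _ h; omega
  | succ n ih =>
  intro K _ _ φ hn hc
  by_cases h : ∃ N : Subgroup K, N.Normal ∧ (∀ a, ∀ x ∈ N, φ a x ∈ N) ∧ N ≠ ⊥ ∧ N ≠ ⊤
  · obtain ⟨N, _, hN, n0, n1⟩ := h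
    have e := N.card_mul_index
    have a1 : 1 < Nat.card N := (one_lt_card_iff_ne_bot N).mpr n0
    have a2 : 1 < N.index := one_lt_index_of_ne_top n1
    have c := hc.coprime_dvd_right N.card_subgroup_dvd_card
    obtain ⟨x, y, h1⟩ := ih N (subAut φ N hN) (by nlinarith) c
    obtain ⟨x', y', h2⟩ := ih (K ⧸ N) (quotAut φ N hN) (show N.index < n by nlinarith) (hc.coprime_dvd_right N.index_dvd_card)
    have k : ∀ (x : N) (x' : K ⧸ N), ∃ z : K, ∀ a, φ a z = z → subAut φ N hN a x = x ∧ quotAut φ N hN a x' = x' := fun x x' => by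
      obtain ⟨w, hw, rfl⟩ : x' ∈ (actFix φ ((MulAction.stabilizer _ x').comap (quotAut φ N hN))).map (QuotientGroup.mk' N) := by
        rw [map_actFix_quotAut φ N hN _ (c.coprime_dvd_left (card_subgroup_dvd_card _)) (Or.inl inferInstance)]
        exact fun b hb => hb
      refine ⟨w * x, fun a e => ?_⟩
      have t : quotAut φ N hN a (QuotientGroup.mk' N w) = QuotientGroup.mk' N w := by
        have : (w * x : K ⧸ N) = w := by rw [(QuotientGroup.eq_one_iff _).2 x.2, mul_one]
        rw [QuotientGroup.mk'_apply, ← this, ← QuotientGroup.mk_mul, quotAut_mk, e]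
      rw [map_mul, hw a t, mul_right_inj] at e
      exact ⟨Subtype.ext e, t⟩
    obtain ⟨z, hz⟩ := k x x'
    obtain ⟨w, hw⟩ := k y y'
    refine ⟨z, w, fun a e1 e2 => aut_eq_one_of_sub_and_quotient (N := N)
      (c.coprime_dvd_left ((orderOf_map_dvd φ a).trans (_root_.orderOf_dvd_natCard a))) (fun v hv => ?_) fun v => ?_⟩
    · exact congrArg Subtype.val (DFunLike.congr_fun (h1 a (hz a e1).1 (hw a e2).1) ⟨v, hv⟩)
    · exact QuotientGroup.eq.1 ((quotAut_mk φ N hN a v).symm.trans (DFunLike.congr_fun (h2 a (hz a e1).2 (hw a e2).2) (v : K ⧸ N))).symm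
  push Not at h
  have cz : ∀ a, ∀ x ∈ center K, φ a x ∈ center K := fun a x hx => mem_center_iff.2 fun g => by
    rw [← (φ a).apply_symm_apply g, ← map_mul, ← map_mul, mem_center_iff.1 hx]
  by_cases z : center K = ⊤
  · letI : CommGroup K := { (inferInstance : Group K) with mul_comm := fun a b => mem_center_iff.1 (z ▸ mem_top b) a }
    letI : DistribMulAction A (Additive K) :=
      { smul a v := Additive.ofMul (φ a v.toMul)
        one_smul v := by show Additive.ofMul (φ 1 v.toMul) = v; simp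
        mul_smul a b v := by show Additive.ofMul (φ (a * b) v.toMul) = Additive.ofMul (φ a (φ b v.toMul)); simp
        smul_zero a := congrArg Additive.ofMul (map_one (φ a))
        smul_add a v w := congrArg Additive.ofMul (map_mul (φ a) _ _) }
    obtain ⟨v, hv⟩ := base2 _ A (Additive K) (Nat.lt_succ_self _) hc (Irr.cr fun U hU => or_iff_not_imp_left.2 fun n =>
      AddSubgroup.toSubgroup'.injective (h (AddSubgroup.toSubgroup' U) inferInstance (fun a x => hU a (Additive.ofMul x))
        fun e => n (AddSubgroup.toSubgroup'.injective (e.trans (BotHomClass.map_bot _).symm))))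
    exact ⟨(v 0).toMul, (v 1).toMul, fun a e1 e2 => MulEquiv.ext fun x => hv a (Fin.forall_fin_two.2 ⟨e1, e2⟩) (Additive.ofMul x)⟩
  have z0 : center K = ⊥ := by_contra fun t => z (h _ inferInstance cz t)
  haveI : Nontrivial K := not_subsingleton_iff_nontrivial.1 fun _ => z (Subsingleton.elim _ _)
  set I := (Nat.card K).primeFactors
  haveI : ∀ p : I, Fact (p : ℕ).Prime := fun p => ⟨Nat.prime_of_mem_primeFactors p.2⟩
  choose Q hQ using fun p : I => act_exists_invariant_sylow (φ := φ) (B := ⊤) (by simpa using hc) (Or.inl inferInstance) p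
  replace hQ := fun p a => hQ p a trivial
  choose x y hxy using fun p : I => ih (Q p) (subAut φ (Q p) (hQ p)) (lt_of_lt_of_le (Finite.card_subtype_lt (by
    by_contra! t
    haveI := ((Q p).isPGroup'.of_surjective (Q p).1.subtype fun g => ⟨⟨g, t g⟩, rfl⟩).center_nontrivial
    exact (nontrivial_iff_ne_bot _).1 this z0 : ∃ g, g ∉ Q p).choose_spec) (by omega)) (hc.coprime_dvd_right (card_subgroup_dvd_card _))
  have mk := marks (st φ) (fun v : ∀ p : I, Q p × Q p => ⨅ p, st (subAut φ (Q p) (hQ p)) (v p)) (fun B => by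
    simp only [le_iInf_iff]
    rw [card_st, Nat.card_congr (Equiv.subtypePiEquivPi (p := fun p v => B ≤ st (subAut φ (Q p) (hQ p)) v)), Nat.card_pi,
      Finset.prod_congr rfl fun p _ => card_st _ B, Finset.prod_pow]
    congr 1
    rw [← Nat.prod_factorization_pow_eq_self (n := Nat.card (actFix φ B)) Nat.card_pos.ne', Finsupp.prod_of_support_subset _
      (s := I) (Nat.primeFactors_mono (card_subgroup_dvd_card _) Nat.card_pos.ne') _ (by simp), ← Finset.prod_coe_sort]
    refine Finset.prod_congr rfl fun p _ => ?_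
    rw [← (act_sylowIn_inf_actFix (B := B) (hc.coprime_dvd_left (card_subgroup_dvd_card B)) (Or.inl inferInstance) (Q p)
      fun a _ => hQ p a).card_eq_pow, actFix_subAut, Core.card_subgroupOf_eq_card_inf, inf_comm]) φ.ker
  have key : ∀ p : I, ∀ a ∈ ⨅ p, st (subAut φ (Q p) (hQ p)) (x p, y p), ∀ g ∈ (Q p : Subgroup K), φ a g = g := fun p a ha g hg => by
    have := congrArg Subtype.val (DFunLike.congr_fun (hxy p a (mem_iInf.1 ha p).1 (mem_iInf.1 ha p).2) ⟨g, hg⟩)
    exact this
  haveI : Nonempty {v : ∀ p : I, Q p × Q p // ⨅ p, st (subAut φ (Q p) (hQ p)) (v p) = φ.ker} := ⟨⟨fun p => (x p, y p),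
    le_antisymm (fun a ha => MulEquiv.ext fun g => (Core.eq_top_of_forall_sylow_le (H := actFix φ (zpowers a)) fun p hp d =>
      ⟨Q ⟨p, Nat.mem_primeFactors.2 ⟨hp.out, d, Nat.card_pos.ne'⟩⟩, fun g hg => mem_actFix_zpowers.2 (key _ a ha g hg)⟩).ge trivial a
        (mem_zpowers a))
      fun a ha => mem_iInf.2 fun p => ⟨Subtype.ext (DFunLike.congr_fun ha _), Subtype.ext (DFunLike.congr_fun ha _)⟩⟩⟩
  obtain ⟨v, hv⟩ := (Nat.card_pos_iff.1 (Nat.card_pos.trans_eq mk.symm)).1
  exact ⟨v.1, v.2, fun a e1 e2 => (hv ▸ ⟨e1, e2⟩ : a ∈ φ.ker)⟩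

theorem act2' {A K : Type*} [Group A] [Finite A] [Group.IsSolvable A] [Group K] [Finite K] (φ : A →* MulAut K)
    (hc : (Nat.card A).Coprime (Nat.card K)) : ∃ x y : K, ∀ a, φ a x = x → φ a y = y → φ a = 1 := by
  haveI : Group.IsSolvable φ.range := Group.isSolvable_of_surjective φ.rangeRestrict_surjective
  obtain ⟨x, y, h⟩ := act2 _ K φ.range.subtype (Nat.lt_succ_self _)
    (hc.coprime_dvd_left (card_dvd_of_surjective _ φ.rangeRestrict_surjective))
  exact ⟨x, y, fun a => h (φ.rangeRestrict a)⟩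

end Cfsg.Lib.Hall.B3
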