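import Cfsg.Agent.Lib.BG1.Sec1
import Cfsg.Agent.Lib.Invol.Sylow2
import Cfsg.Agent.Lib.Block.ZStar

/-! A coprime automorphism centralizing the centralizer of an involution acts trivially modulo the odd core. -/

set_option autoImplicit false
set_option linter.unusedSectionVars false

namespace Cfsg.Lib.Hall
open Subgroup Cfsg.Lib.Core Cfsg.Lib.Amalg Cfsg.Lib.BG1

universe u

variable {G : Type u} [Group G] [Finite G] {H K N T : Subgroup G} {a g j k u w x : G}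

/-- `a` acts coprimely on `K` -/
structure CA (K : Subgroup G) (a : G) : Prop where
  norm : a ∈ 𝐍(K)
  cop : (orderOf a).Coprime (Nat.card K)

/-- `j` is an involution of `K` whose centralizer is fixed by `a` -/
structure JI (K : Subgroup G) (a j : G) : Prop where
  mem : j ∈ K
  two : orderOf j = 2
  cent : ∀ g ∈ K, Commute g j → Commute g a

/-- `a` centralizes the `2`-subgroups of `K` it normalizes -/
def TwoC (K : Subgroup G) (a : G) : Prop := ∀ T : Subgroup G, T ≤ K → IsPGroup 2 T → a ∈ 𝐍(T) → a ∈ 𝐂(T)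

theorem CA.le (h : CA K a) : zpowers a ≤ 𝐍(K) := zpowers_le.2 h.norm
theorem CA.cop' (h : CA K a) : (Nat.card (zpowers a)).Coprime (Nat.card K) := by rw [Nat.card_zpowers]; exact h.cop
theorem ca_solv (a : G) (K : Subgroup G) : Group.IsSolvable (zpowers a) ∨ Group.IsSolvable K :=
  Or.inl (Group.isSolvable_of_comm fun x y => Subtype.ext (by
    obtain ⟨_, m, rfl⟩ := x; obtain ⟨_, n, rfl⟩ := y; exact (Commute.zpow_zpow_self a m n).eq))
theorem CA.sub (h : CA K a) (hH : H ≤ K) (ha : a ∈ 𝐍(H)) : CA H a :=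
  ⟨ha, h.cop.coprime_dvd_right (card_dvd_of_le hH)⟩
theorem CA.conj (h : CA K a) (hg : g ∈ K) : CA K (g * a * g⁻¹) :=
  ⟨mul_mem (mul_mem (le_normalizer hg) h.norm) (inv_mem (le_normalizer hg)), by rw [Invol.orderOf_conj]; exact h.cop⟩

theorem ca_mem_cent_zp : g ∈ 𝐂(zpowers a) ↔ Commute g a :=
  ⟨fun h => (h a (mem_zpowers a)).symm, fun h y hy => by
    obtain ⟨n, rfl⟩ := mem_zpowers_iff.1 hy
    exact (h.zpow_right n).symm⟩

theorem ca_conj_mem (h : a ∈ 𝐍(K)) (hg : g ∈ K) : a * g * a⁻¹ ∈ K := (mem_normalizer_iff.1 h g).1 hg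

theorem ca_norm_cent (h : a ∈ 𝐍(K)) {E : Set G} (hE : ∀ e ∈ E, Commute a e) : a ∈ 𝐍(K ⊓ centralizer E) :=
  inf_normalizer_le_normalizer_inf ⟨h, le_normalizer (show a ∈ centralizer E from fun e he => (hE e he).symm)⟩

theorem CA.fus (h : CA K a) (hk : k ∈ K) {E : Set G} (hE : ∀ e ∈ E, Commute a e)
    (hE' : ∀ e ∈ E, Commute (k * a * k⁻¹) e) : ∃ s ∈ K, (∀ e ∈ E, Commute s e) ∧ k * a * k⁻¹ = s * a * s⁻¹ := by
  have h' := h.sub inf_le_left (ca_norm_cent h.norm hE)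
  obtain ⟨s, hs, hc⟩ := Coprime.exists_mul_mem_centralizer' h'.le h'.cop' (ca_solv _ _) (k := k) (by
    intro b hb
    refine ⟨K.mul_mem (ca_conj_mem (h.le hb) hk) (K.inv_mem hk), fun e he => ?_⟩
    obtain ⟨n, rfl⟩ := mem_zpowers_iff.1 hb
    have h1 := ((hE e he).zpow_left n).mul_left ((hE' e he).zpow_left n).inv_left
    rw [conj_zpow] at h1
    have : a ^ n * k * (a ^ n)⁻¹ * k⁻¹ = a ^ n * (k * a ^ n * k⁻¹)⁻¹ := by group
    rw [this]; exact h1.symm)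
  refine ⟨s⁻¹, inv_mem hs.1, fun e he => (show Commute e s from hs.2 e he).symm.inv_left, ?_⟩
  have := (ca_mem_cent_zp.1 hc).eq
  calc k * a * k⁻¹ = s⁻¹ * (s * k * a) * k⁻¹ := by group
    _ = s⁻¹ * a * s⁻¹⁻¹ := by rw [this]; group

theorem JI.comm (h : JI K a j) : Commute j a := h.cent j h.mem (Commute.refl j)

theorem JI.uniq (h : JI K a j) (hc : CA K a) (hk : k ∈ K) (e : Commute (k * a * k⁻¹) j) : k * a * k⁻¹ = a := by
  obtain ⟨s, hs, h1, h2⟩ := hc.fus hk (E := {j}) (by simpa using h.comm.symm) (by simpa using e)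
  rw [h2, (h.cent s hs (h1 j rfl)).eq]; simp

theorem JI.conj' (h : JI K a j) (hg : g ∈ K) : JI K (g * a * g⁻¹) (g * j * g⁻¹) :=
  ⟨mul_mem (mul_mem hg h.mem) (inv_mem hg), by rw [Invol.orderOf_conj, h.two], fun y hy e => by
    have h1 := h.cent (g⁻¹ * y * g) (mul_mem (mul_mem (inv_mem hg) hy) hg) (by
      simpa [mul_assoc] using Commute.conj e g⁻¹)
    simpa [mul_assoc] using Commute.conj h1 g⟩

theorem JI.conj (h : JI K a j) (hc : CA K a) (hg : g ∈ K) (e : Commute (g * j * g⁻¹) a) : JI K a (g * j * g⁻¹) := by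
  have h1 := (h.conj' hg).uniq (hc.conj hg) (inv_mem hg) (by simpa [mul_assoc] using e.symm)
  have h2 : a = g * a * g⁻¹ := by simpa [mul_assoc] using h1
  have := h.conj' hg
  rwa [← h2] at this

theorem JI.twoC (h : JI K a j) (hc : CA K a) : TwoC K a := by
  intro T hT hp ha
  obtain ⟨S, h1, h2, h3⟩ := coprime_sylow_exists_ge (p := 2) hc.le hc.cop' (ca_solv _ _) (zpowers_le.2 h.mem)
    (le_norm_of_le_cent (zpowers_le.2 (ca_mem_cent_zp.2 h.comm.symm))) (Amalg.isPGroup_zpowers_of_orderOf (k := 1) (by simpa using h.two))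
  obtain ⟨S', k1, k2, k3⟩ := coprime_sylow_exists_ge (p := 2) hc.le hc.cop' (ca_solv _ _) hT (zpowers_le.2 ha) hp
  obtain ⟨c, hcc, rfl⟩ := coprime_sylow_trans hc.le hc.cop' (ca_solv _ _) h2 k2 h3 k3
  have h4 : zpowers a ≤ 𝐂(S) := coprime_nil_faithful h3 (hc.cop'.coprime_dvd_right (card_dvd_of_le h2.le))
    (nilpotent_of_pgroup Nat.prime_two h2.isPGroup) fun y hy => ca_mem_cent_zp.2 (h.cent y (h2.le hy.1)
      (show Commute j y from hy.2 j ⟨h1 (mem_zpowers j), ca_mem_cent_zp.2 h.comm⟩).symm)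
  intro t ht
  obtain ⟨s, hs, rfl⟩ := mem_map.1 (k1 ht)
  have e1 : Commute s a := h4 (mem_zpowers a) s hs
  have e2 := ca_mem_cent_zp.1 hcc.2
  exact (e2.mul_left e1).mul_left e2.inv_left

theorem TwoC.conj (h : TwoC K a) (hg : g ∈ K) : TwoC K (g * a * g⁻¹) := by
  intro T hT hp ha
  have h1 := h (cj g⁻¹ T) (by
      rintro _ ⟨t, ht, rfl⟩
      exact mul_mem (mul_mem (inv_mem hg) (hT ht)) (inv_mem (inv_mem hg))) (hp.map _) (by
      have := conj_mem_cj g⁻¹ ha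
      rw [cj_normalizer] at this
      simpa [mul_assoc] using this)
  intro t ht
  have := Commute.conj (show Commute (g⁻¹ * t * g⁻¹⁻¹) a from h1 _ (conj_mem_cj g⁻¹ ht)) g
  simpa [mul_assoc] using this.eq

theorem CA.syl (h : CA K a) (h2 : TwoC K a) (hH : H ≤ K) (ha : a ∈ 𝐍(H)) (hw : w ∈ H) (hw2 : orderOf w = 2) :
    ∃ s ∈ H, Commute (s * a * s⁻¹) w := by
  have h' := h.sub hH ha
  obtain ⟨S, h1, h3⟩ := coprime_sylow_exists 2 h'.le h'.cop' (ca_solv _ _)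
  obtain ⟨s, hs, h4⟩ := h1.exists_le_conj (Amalg.isPGroup_zpowers_of_orderOf (k := 1) (by simpa using hw2)) (zpowers_le.2 hw)
  obtain ⟨y, hy, rfl⟩ := mem_map.1 (h4 (mem_zpowers w))
  exact ⟨s, hs, Commute.conj (show Commute y a from h2 S (h1.le.trans hH) h1.isPGroup (h3 (mem_zpowers a)) y hy).symm s⟩

theorem ca_pow_mul (hg : g ∈ 𝐍(N)) (hx : x ∈ N) (n : ℕ) : ∃ y ∈ N, (g * x) ^ n = g ^ n * y := by
  induction n with
  | zero => exact ⟨1, one_mem _, by simp⟩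
  | succ n ih =>
    obtain ⟨y, hy, e⟩ := ih
    refine ⟨g⁻¹ * y * g⁻¹⁻¹ * x, mul_mem (ca_conj_mem (inv_mem hg) hy) hx, ?_⟩
    rw [pow_succ, e, pow_succ]; group

theorem ca_zp (hN : Odd (Nat.card N)) (hw : orderOf w = 2) (hNw : ∀ y ∈ N, Commute y w) (hg : g ∈ 𝐍(N)) (hx : x ∈ N)
    (h : w ∈ zpowers g) : w ∈ zpowers (g * x) := by
  obtain ⟨n, rfl⟩ := (Submonoid.mem_powers_iff _ _).1 (mem_powers_iff_mem_zpowers.2 h)
  obtain ⟨y, hy, e⟩ := ca_pow_mul hg hx n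
  have h1 : y ^ Nat.card N = 1 := orderOf_dvd_iff_pow_eq_one.1 (orderOf_dvd_natCard _ hy)
  have h2 : ((g * x) ^ n) ^ Nat.card N = g ^ n := by
    rw [e, (hNw y hy).symm.mul_pow, h1, mul_one]
    obtain ⟨m, hm⟩ := hN
    rw [hm, pow_succ, pow_mul, ← hw, pow_orderOf_eq_one, one_pow, one_mul]
  exact h2 ▸ pow_mem (pow_mem (mem_zpowers _) _) _

/-- the odd normal subgroup of the centralizer of `w` -/
abbrev caO (K : Subgroup G) (a w : G) : Subgroup G := ⁅K ⊓ 𝐂[w], zpowers a⁆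

/-- the class attached to an involution not conjugate to `j` -/
def caK (K : Subgroup G) (a j x : G) : Set G :=
  {y | ∃ w ∈ zpowers (j * x), orderOf w = 2 ∧ ∃ o ∈ caO K a w, y = o * x * o⁻¹}

theorem ca_mem_cent1 : g ∈ 𝐂[w] ↔ Commute g w := mem_centralizer_singleton_iff

theorem CA.cent (hc : CA K a) (h : Commute a w) : CA (K ⊓ 𝐂[w]) a :=
  hc.sub inf_le_left (ca_norm_cent hc.norm (by simpa using h))

theorem CA.caO_le (hc : CA K a) (h : Commute a w) : caO K a w ≤ K ⊓ 𝐂[w] := commutator_le_left_of_norm (hc.cent h).le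

theorem caK_eq (hc : CA K a) (hj : JI K a j) (hx : x ∈ K) (hw : w ∈ zpowers (j * x)) (hw2 : orderOf w = 2)
    (hwj : Commute w j) (hwx : Commute w x) (hO : Odd (Nat.card (caO K a w))) {o : G} (ho : o ∈ caO K a w) :
    w ∈ zpowers (j * (o * x * o⁻¹)) ∧ caK K a j (o * x * o⁻¹) = caK K a j x := by
  have hwK : w ∈ K := zpowers_le.2 (mul_mem hj.mem hx) hw
  have hle := hc.caO_le (hj.cent w hwK hwj).symm
  have hn : K ⊓ 𝐂[w] ≤ 𝐍(caO K a w) := le_norm_commutator_left _ _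
  have hxn := hn ⟨hx, ca_mem_cent1.2 hwx.symm⟩
  have h1 : w ∈ zpowers (j * (o * x * o⁻¹)) := by
    have : j * (o * x * o⁻¹) = j * x * (x⁻¹ * o * x⁻¹⁻¹ * o⁻¹) := by group
    rw [this]
    exact ca_zp hO hw2 (fun y hy => ca_mem_cent1.1 (hle hy).2) (mul_mem (hn ⟨hj.mem, ca_mem_cent1.2 hwj.symm⟩) hxn)
      (mul_mem (ca_conj_mem (inv_mem hxn) ho) (inv_mem ho)) hw
  refine ⟨h1, Set.ext fun y => ⟨?_, ?_⟩⟩
  · rintro ⟨w', k1, k2, o', k3, rfl⟩
    obtain rfl := Invol.eq_of_mem_zpowers k1 h1 k2 hw2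
    exact ⟨w', hw, hw2, o' * o, mul_mem k3 ho, by group⟩
  · rintro ⟨w', k1, k2, o', k3, rfl⟩
    obtain rfl := Invol.eq_of_mem_zpowers k1 hw k2 hw2
    exact ⟨w', h1, hw2, o' * o⁻¹, mul_mem k3 (inv_mem ho), by group⟩

theorem ca_fiber {α β : Type*} [Finite α] (κ : α → β) (p q : α → Prop)
    (ht : ∃ f : α → α, Function.Injective f ∧ ∀ x, q x → p (f x))
    (hle : ∀ x₀, p x₀ → ∃ f : α → α, Function.Injective f ∧ ∀ x, p x → κ x = κ x₀ → q (f x) ∧ κ (f x) = κ x₀)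
    {x : α} (hx : q x) : ∃ y, p y ∧ κ y = κ x := by
  classical
  have := Fintype.ofFinite α
  have e : ∀ (r : α → Prop) [DecidablePred r], (Finset.univ.filter r).card =
      ∑ b ∈ Finset.univ.image κ, (Finset.univ.filter fun x => r x ∧ κ x = b).card := fun r _ => by
    rw [Finset.card_eq_sum_card_fiberwise (f := κ) (t := Finset.univ.image κ) (fun y _ => by simp)]
    simp only [Finset.filter_filter]
  have h1 : ∀ b ∈ Finset.univ.image κ, (Finset.univ.filter fun x => p x ∧ κ x = b).card ≤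
      (Finset.univ.filter fun x => q x ∧ κ x = b).card := fun b _ => by
    rcases (Finset.univ.filter fun x => p x ∧ κ x = b).eq_empty_or_nonempty with e | ⟨x₀, hx₀⟩
    · rw [e]; simp
    obtain ⟨h1, rfl⟩ : p x₀ ∧ κ x₀ = b := by simpa using hx₀
    obtain ⟨f, hf, h2⟩ := hle x₀ h1
    exact Finset.card_le_card_of_injOn f (fun x hx => by
      simp only [Finset.coe_filter, Finset.mem_univ, true_and, Set.mem_ofPred_eq] at hx ⊢
      exact h2 x hx.1 hx.2) hf.injOn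
  have h2 : (Finset.univ.filter q).card ≤ (Finset.univ.filter p).card := by
    obtain ⟨f, hf, h2⟩ := ht
    exact Finset.card_le_card_of_injOn f (fun x hx => by
      simp only [Finset.coe_filter, Finset.mem_univ, true_and, Set.mem_ofPred_eq] at hx ⊢
      exact h2 x hx) hf.injOn
  rw [e p, e q] at h2
  have := (Finset.sum_eq_sum_iff_of_le h1).1 (le_antisymm (Finset.sum_le_sum h1) h2) (κ x) (by simp)
  obtain ⟨y, hy⟩ := Finset.card_pos.1 (this ▸ Finset.card_pos.2 ⟨x, by simp [hx]⟩ :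
    0 < (Finset.univ.filter fun y => p y ∧ κ y = κ x).card)
  exact ⟨y, by simpa using hy⟩

theorem ca_even (hj : j ∈ K) (hj2 : orderOf j = 2) (hx : x ∈ K) (hx2 : orderOf x = 2)
    (h : ∀ g ∈ K, g * j * g⁻¹ ≠ x) : ∃ w ∈ zpowers (j * x), orderOf w = 2 ∧ Commute w j ∧ Commute w x := by
  have he : Even (orderOf (j * x)) := by
    by_contra e
    obtain ⟨m, hm⟩ := Invol.exists_conj_of_odd (Invol.mul_self_of_two hj2) (Invol.mul_self_of_two hx2) (Nat.not_even_iff_odd.1 e)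
    exact h _ (pow_mem (mul_mem hj hx) m) hm
  exact ⟨_, pow_mem (mem_zpowers _) _, Invol.exists_central_of_even (Invol.mul_self_of_two hj2) (Invol.mul_self_of_two hx2) he⟩

/-- the counting argument -/
theorem ca_main (hc : CA K a) (hj : JI K a j)
    (ih : ∀ w ∈ K, orderOf w = 2 → Commute w j → Odd (Nat.card (caO K a w)))
    (hu : u ∈ K) (hu2 : orderOf u = 2) (hua : Commute u a) (hn : ∀ g ∈ K, g * j * g⁻¹ ≠ u)
    (hw : w ∈ zpowers (j * u)) (hJ : JI K a w) (hk : k ∈ K) : Commute (k * a * k⁻¹) u := by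
  set U : G → Prop := fun x => ∃ g ∈ K, x = g * u * g⁻¹ with hU
  have hUK : ∀ x, U x → x ∈ K := by
    rintro _ ⟨g, hg, rfl⟩; exact mul_mem (mul_mem hg hu) (inv_mem hg)
  have hU2 : ∀ x, U x → orderOf x = 2 := by
    rintro _ ⟨g, hg, rfl⟩; rw [Invol.orderOf_conj, hu2]
  have hUc : ∀ x, U x → ∀ g ∈ K, U (g * x * g⁻¹) := by
    rintro _ ⟨g, hg, rfl⟩ h hh; exact ⟨h * g, mul_mem hh hg, by group⟩
  have hUw : ∀ x, U x → ∃ w ∈ zpowers (j * x), orderOf w = 2 ∧ Commute w j ∧ Commute w x := fun x hx =>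
    ca_even hj.mem hj.two (hUK x hx) (hU2 x hx) fun h hh e => by
      obtain ⟨g, hg, rfl⟩ := hx
      exact hn (g⁻¹ * h) (mul_mem (inv_mem hg) hh) (by rw [mul_inv_rev, mul_assoc g⁻¹, mul_assoc g⁻¹, ← mul_assoc, ← mul_assoc, mul_assoc g⁻¹, mul_assoc g⁻¹, e]; group)
  have hself : ∀ x, U x → x ∈ caK K a j x := fun x hx => by
    obtain ⟨w, h1, h2, -⟩ := hUw x hx
    exact ⟨w, h1, h2, 1, one_mem _, by simp⟩
  have hinj : ∀ g : G, Function.Injective fun x : G => g⁻¹ * x * g⁻¹⁻¹ := fun g x y e => by simpa using e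
  obtain ⟨y, ⟨hy1, hy2⟩, hy3⟩ := ca_fiber (caK K a j) (fun x => U x ∧ Commute (k * a * k⁻¹) x) (fun x => U x ∧ Commute a x)
    ⟨fun x => k * x * k⁻¹, fun x y e => by simpa using e, fun x hx => ⟨hUc x hx.1 _ hk, Commute.conj hx.2 k⟩⟩
    (fun x₀ ⟨h1, h2⟩ => by
      obtain ⟨w, k1, k2, k3, k4⟩ := hUw x₀ h1
      have hwK : w ∈ K := zpowers_le.2 (mul_mem hj.mem (hUK _ h1)) k1
      have hwa := (hj.cent w hwK k3).symm
      have hle := hc.caO_le hwa
      set E : Set G := {x | (U x ∧ Commute (k * a * k⁻¹) x) ∧ caK K a j x = caK K a j x₀} with hE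
      have hEo : ∀ x ∈ E, ∃ o ∈ caO K a w, x = o * x₀ * o⁻¹ := fun x hx => by
        obtain ⟨w', l1, l2, o, l3, l4⟩ := hx.2 ▸ hself x hx.1.1
        obtain rfl := Invol.eq_of_mem_zpowers l1 k1 l2 k2
        exact ⟨o, l3, l4⟩
      have hEw : ∀ x ∈ E, Commute w x := fun x hx => by
        obtain ⟨o, l3, rfl⟩ := hEo x hx
        have := (ca_mem_cent1.1 (hle l3).2).symm
        exact (this.mul_right k4).mul_right this.inv_right
      obtain ⟨s, hs, l1⟩ := (hc.conj hk).syl ((hj.twoC hc).conj hk) (H := K ⊓ centralizer E) inf_le_left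
        (ca_norm_cent (hc.conj hk).norm fun e he => he.1.2) ⟨hwK, fun e he => (hEw e he).symm⟩ k2
      have e1 : s * (k * a * k⁻¹) * s⁻¹ = s * k * a * (s * k)⁻¹ := by group
      obtain ⟨t, ht, l2, l3⟩ := hc.fus (mul_mem hs.1 hk) (E := {w}) (by simpa using hwa) (by rw [← e1]; simpa using l1)
      obtain ⟨o, ho, c, hcc, rfl⟩ := (Coprime.mem_sup_iff_of_le_normalizer (inf_le_left.trans (le_norm_commutator_left (K ⊓ 𝐂[w]) (zpowers a)))).1
        ((coprime_cent_prod (hc.cent hwa).le (hc.cent hwa).cop' (ca_solv _ _)).ge ⟨ht, ca_mem_cent1.2 (l2 w rfl)⟩)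
      have l4 : s * (k * a * k⁻¹) * s⁻¹ = o * a * o⁻¹ := by
        rw [e1, l3, mul_assoc o, (ca_mem_cent_zp.1 hcc.2).eq]; group
      refine ⟨_, hinj o, fun x hx1 hx2 => ?_⟩
      have hx : x ∈ E := ⟨hx1, hx2⟩
      obtain ⟨o', m1, rfl⟩ := hEo x hx
      refine ⟨⟨hUc _ hx.1.1 _ (inv_mem (hle ho).1), ?_⟩, ?_⟩
      · have m2 : Commute s (o' * x₀ * o'⁻¹) := (show Commute _ s from hs.2 _ hx).symm
        have m3 : Commute (o * a * o⁻¹) (o' * x₀ * o'⁻¹) := l4 ▸ (m2.mul_left hx.1.2).mul_left m2.inv_left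
        simpa [mul_assoc] using Commute.conj m3 o⁻¹
      · have : o⁻¹ * (o' * x₀ * o'⁻¹) * o⁻¹⁻¹ = o⁻¹ * o' * x₀ * (o⁻¹ * o')⁻¹ := by group
        rw [this]
        exact (caK_eq hc hj (hUK _ h1) k1 k2 k3 k4 (ih w hwK k2 k3) (mul_mem (inv_mem ho) m1)).2)
    (x := u) ⟨⟨1, one_mem _, by simp⟩, hua.symm⟩
  obtain ⟨w', l1, l2, o, l3, rfl⟩ := hy3 ▸ hself y hy1
  obtain rfl := Invol.eq_of_mem_zpowers l1 hw l2 hJ.two
  have : caO K a w' = ⊥ := commutator_eq_bot_iff_le_centralizer.2 fun g hg => ca_mem_cent_zp.2 (hJ.cent g hg.1 (ca_mem_cent1.1 hg.2))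
  rw [this, mem_bot] at l3
  simpa [l3] using hy2

theorem ca_four (hc : CA H a) (hO : Odd (Nat.card ↥⁅H, zpowers a⁆)) (hH : H ≤ K) {i : G} (hj : JI K a j) (hi : JI K a i)
    (hji : JI K a (j * i)) (hcm : Commute j i) (hjH : j ∈ H) (hiH : i ∈ H) : H ≤ 𝐂(zpowers a) := by
  have hne : j ≠ i := fun e => by
    have := hji.two
    rw [e, Invol.mul_self_of_two hi.two, orderOf_one] at this
    omega
  have hV := Invol.isKleinFour_closure hj.two hi.two hne hcm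
  have hVH : closure {j, i} ≤ H := (closure_le _).2 (by rintro _ (rfl | rfl) <;> assumption)
  have h1 : ⁅H, zpowers a⁆ ≤ 𝐂(zpowers a) := coprime_abelian_gen_cent1 (hVH.trans (le_norm_commutator_left _ _))
    (by rw [hV.card_four]; exact (Nat.coprime_pow_left_iff (n := 2) (by norm_num) 2 _).2 (Nat.coprime_two_left.2 hO))
    ⟨⟨fun x y => Subtype.ext (Invol.klein_commute hV x.2 y.2).eq⟩⟩ hV.not_isCyclic fun v hv h1 y hy => by
      have hy1 := hH (commutator_le_left_of_norm hc.le hy.1)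
      have hy2 := ca_mem_cent1.1 hy.2
      rcases (Invol.mem_closure_klein hj.two hi.two hcm v).1 hv with rfl | rfl | rfl | rfl
      exacts [absurd rfl h1, ca_mem_cent_zp.2 (hj.cent y hy1 hy2), ca_mem_cent_zp.2 (hi.cent y hy1 hy2),
        ca_mem_cent_zp.2 (hji.cent y hy1 hy2)]
  rw [← commutator_eq_bot_iff_le_centralizer, coprime_commutator_idem hc.le hc.cop' (ca_solv _ _),
    commutator_eq_bot_iff_le_centralizer] at h1
  exact h1

theorem JI.sub (h : JI K a j) (hH : H ≤ K) (hj : j ∈ H) : JI H a j := ⟨hj, h.two, fun g hg => h.cent g (hH hg)⟩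

theorem ca_zstar (hO : ∀ N : Subgroup G, N ≤ K → K ≤ 𝐍(N) → Odd (Nat.card N) → N = ⊥) (hj : j ∈ K) (h2 : orderOf j = 2)
    (h : ∀ g ∈ K, Commute j (g * j * g⁻¹) → g * j * g⁻¹ = j) : ∀ g ∈ K, Commute g j := by
  have h1 : oddCore K = ⊥ := pPrimeCoreOf_eq_bot_iff.1 (hO _ (map_subtype_le _) (le_normalizer_pPrimeCoreOf K) (by
    rw [card_map_of_injective K.subtype_injective]
    exact Nat.coprime_two_right.1 (coprime_card_pPrimeCore 2 _)))
  have := Block.z_star_center h1 (u := ⟨j, hj⟩) ⟨by rw [← h2]; exact (Subgroup.orderOf_coe _).symm, fun g e =>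
    Subtype.ext (h g g.2 (congrArg Subtype.val e.eq))⟩
  exact fun g hg => congrArg Subtype.val (mem_center_iff.1 this ⟨g, hg⟩)

theorem ca_core {τ : G} (hc : CA K a) (hτ : JI K a τ)
    (ih : ∀ H : Subgroup G, H < K → a ∈ 𝐍(H) → ∀ j, JI H a j → Odd (Nat.card ↥⁅H, zpowers a⁆))
    (hO : ∀ N : Subgroup G, N ≤ K → K ≤ 𝐍(N) → Odd (Nat.card N) → N = ⊥)
    (hZ : ∀ v ∈ K, orderOf v = 2 → ¬ ∀ g ∈ K, Commute g v)
    (hM : ∀ v ∈ K, orderOf v = 2 → ¬ ∀ k ∈ K, Commute (k * a * k⁻¹) v) : False := by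
  have ihw : ∀ j, JI K a j → ∀ w ∈ K, orderOf w = 2 → Commute w j → Odd (Nat.card (caO K a w)) := fun j hj w hw h2 e =>
    ih _ (lt_of_le_of_ne inf_le_left fun e' => hZ w hw h2 fun g hg => ca_mem_cent1.1 (e'.ge hg).2)
      (hc.cent (hj.cent w hw e).symm).norm j (hj.sub inf_le_left ⟨hj.mem, ca_mem_cent1.2 e.symm⟩)
  have hM' : ∀ j u w, JI K a j → u ∈ K → orderOf u = 2 → Commute u a → (∀ g ∈ K, g * j * g⁻¹ ≠ u) →
      w ∈ zpowers (j * u) → JI K a w → False := fun j u w hj hu h2 e hn hw hJ =>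
    hM u hu h2 fun k hk => ca_main hc hj (ihw j hj) hu h2 e hn hw hJ hk
  have four : ∀ j, JI K a j → ∃ i, JI K a i ∧ JI K a (j * i) ∧ Commute j i ∧ ∃ g ∈ K, i = g * j * g⁻¹ := fun j hj => by
    obtain ⟨g, hg, h1, h2⟩ : ∃ g ∈ K, Commute j (g * j * g⁻¹) ∧ g * j * g⁻¹ ≠ j := by
      by_contra! e
      exact hZ j hj.mem hj.two (ca_zstar hO hj.mem hj.two e)
    have hi := hj.conj hc hg (hj.cent _ (hj.conj' hg).mem h1.symm)
    have e : Commute (j * (g * j * g⁻¹)) a := hj.comm.mul_left hi.comm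
    refine ⟨_, hi, ?_, h1, g, hg, rfl⟩
    by_contra hn
    refine hM' j _ _ hj (mul_mem hj.mem hi.mem) (Invol.two_mul_of_commute hj.two hi.two h2.symm h1) e
      (fun h hh e' => hn (e' ▸ hj.conj hc hh (e' ▸ e))) ?_ hi
    rw [← mul_assoc, Invol.mul_self_of_two hj.two, one_mul]
    exact mem_zpowers _
  have hA : ∀ j u, JI K a j → u ∈ K → orderOf u = 2 → Commute u j → ∃ g ∈ K, g * j * g⁻¹ = u := fun j u hj hu h2 e => by
    by_contra! hn
    obtain ⟨i, h1, h3, h4, g, hg, h5⟩ := four j hj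
    have hn' : ∀ h ∈ K, h * i * h⁻¹ ≠ u := fun h hh e' => hn (h * g) (mul_mem hh hg) (by rw [← e', h5]; group)
    obtain ⟨w, k1, k2, k3, k4⟩ := ca_even h1.mem h1.two hu h2 hn'
    have hw : w ∈ K := zpowers_le.2 (mul_mem h1.mem hu) k1
    have hwj : Commute w j := ca_mem_cent1.1 (zpowers_le.2 (ca_mem_cent1.2 (h4.symm.mul_left e)) k1)
    have := ca_four (hc.cent (hj.cent w hw hwj).symm) (ihw j hj w hw k2 hwj) inf_le_left hj h1 h3 h4
      ⟨hj.mem, ca_mem_cent1.2 hwj.symm⟩ ⟨h1.mem, ca_mem_cent1.2 k3.symm⟩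
    exact hM' i u w h1 hu h2 (hj.cent u hu e) hn' k1 ⟨hw, k2, fun y hy e' => ca_mem_cent_zp.1 (this ⟨hy, ca_mem_cent1.2 e'⟩)⟩
  have hB : ∀ u ∈ K, orderOf u = 2 → Commute u a → JI K a u := fun u hu h2 e => by
    by_contra hn
    have hn' : ∀ g ∈ K, g * τ * g⁻¹ ≠ u := fun g hg e' => hn (e' ▸ hτ.conj hc hg (e' ▸ e))
    obtain ⟨w, k1, k2, k3, k4⟩ := ca_even hτ.mem hτ.two hu h2 hn'
    have hw : w ∈ K := zpowers_le.2 (mul_mem hτ.mem hu) k1
    obtain ⟨g, hg, e1⟩ := hA τ w hτ hw k2 k3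
    obtain ⟨h, hh, e2⟩ := hA w u (e1 ▸ hτ.conj hc hg (e1 ▸ hτ.cent w hw k3)) hu h2 k4.symm
    exact hn' (h * g) (mul_mem hh hg) (by rw [← e2, ← e1]; group)
  obtain ⟨k, hk, hkτ⟩ : ∃ k ∈ K, ¬ Commute (k * a * k⁻¹) τ := by
    by_contra! e
    exact hM τ hτ.mem hτ.two e
  have ht := hτ.conj' (inv_mem hk)
  set t := k⁻¹ * τ * k⁻¹⁻¹ with htd
  set c := k⁻¹ * a * k⁻¹⁻¹ with hcd
  have hat : ¬ Commute t a := fun e => hkτ (by simpa [htd, mul_assoc] using (Commute.conj e k).symm)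
  have hca : c ≠ a := fun e => hat (e ▸ ht.comm)
  have swap : ∀ i, JI K a i → ∃ s ∈ K, s * s = 1 ∧ s * i * s⁻¹ = t ∧ s * a * s⁻¹ = c := fun i hi => by
    have i2 := Invol.mul_self_of_two hi.two
    have t2 := Invol.mul_self_of_two ht.two
    have ho : Odd (orderOf (i * t)) := by
      by_contra e
      obtain ⟨k1, k2, k3⟩ := Invol.exists_central_of_even i2 t2 (Nat.not_odd_iff_even.1 e)
      have hz := pow_mem (mul_mem hi.mem ht.mem) (orderOf (i * t) / 2)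
      exact hat ((hB _ hz k1 (hi.cent _ hz k2)).cent t ht.mem k3.symm)
    obtain ⟨m, hm⟩ := Invol.exists_conj_of_odd i2 t2 ho
    have hs : (i * t) ^ m * i ∈ K := mul_mem (pow_mem (mul_mem hi.mem ht.mem) m) hi.mem
    have e1 : (i * t) ^ m * i * i * ((i * t) ^ m * i)⁻¹ = t := Eq.trans (by group) hm
    refine ⟨_, hs, ?_, e1, ?_⟩
    · have := Invol.conj_pow_of_inv (Invol.left_inverts i2 t2) m
      calc _ = (i * t) ^ m * (i * (i * t) ^ m * i⁻¹) * (i * i) := by group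
        _ = 1 := by rw [this, i2]; simp
    · have := ht.uniq (hc.conj (inv_mem hk)) (mul_mem hs hk) (by
        have := Commute.conj hi.comm.symm ((i * t) ^ m * i)
        rw [e1] at this
        convert this using 1
        rw [hcd]; group)
      rw [← this, hcd]; group
  set D := K ⊓ 𝐂[a] ⊓ 𝐂[c] with hD
  have back : ∀ s : G, s * s = 1 → s * a * s⁻¹ = c → s * c * s⁻¹ = a := fun s h1 h2 => by
    calc _ = s * s * a * (s * s)⁻¹ := by rw [← h2]; group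
      _ = a := by rw [h1]; simp
  have trans : ∀ i i', JI K a i → JI K a i' → ∃ d ∈ D, d * i * d⁻¹ = i' := fun i i' hi hi' => by
    obtain ⟨s, h1, h2, h3, h4⟩ := swap i hi
    obtain ⟨s', k1, k2, k3, k4⟩ := swap i' hi'
    refine ⟨s' * s, ⟨⟨mul_mem k1 h1, ca_mem_cent1.2 (mul_inv_eq_iff_eq_mul.1 ?_)⟩, ca_mem_cent1.2 (mul_inv_eq_iff_eq_mul.1 ?_)⟩, ?_⟩
    · calc _ = s' * (s * a * s⁻¹) * s'⁻¹ := by group
        _ = a := by rw [h4, back s' k2 k4]
    · calc _ = s' * (s * c * s⁻¹) * s'⁻¹ := by group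
        _ = c := by rw [back s h2 h4, k4]
    · calc _ = s' * (s * i * s⁻¹) * s'⁻¹ := by group
        _ = s' * s' * i' * (s' * s')⁻¹ := by rw [h3, ← k3]; group
        _ = i' := by rw [k2]; simp
  have hDo : Odd (Nat.card D) := by
    by_contra e
    obtain ⟨v, hv⟩ := exists_prime_orderOf_dvd_card' 2 (even_iff_two_dvd.1 (Nat.not_odd_iff_even.1 e))
    exact hca ((hB v v.2.1.1 (by rw [Subgroup.orderOf_coe, hv]) (ca_mem_cent1.1 v.2.1.2)).uniq hc (inv_mem hk)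
      (ca_mem_cent1.1 v.2.2).symm)
  obtain ⟨i, h1, h3, h4, -⟩ := four τ hτ
  have hlt : K ⊓ 𝐍(D) < K := lt_of_le_of_ne inf_le_left fun e => by
    obtain ⟨d, hd, e'⟩ := trans τ i hτ h1
    rw [hO D (inf_le_left.trans inf_le_left) (e.ge.trans inf_le_right) hDo, mem_bot] at hd
    have := h3.two
    rw [← e', hd, one_mul, inv_one, mul_one, Invol.mul_self_of_two hτ.two, orderOf_one] at this
    omega
  have haN : a ∈ 𝐍(K ⊓ 𝐍(D)) := inf_normalizer_le_normalizer_inf ⟨hc.norm, le_normalizer (centralizer_le_normalizer _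
    fun d hd => (ca_mem_cent1.1 hd.1.2).eq)⟩
  obtain ⟨s, k1, k2, k3, k4⟩ := swap τ hτ
  have hsN : s ∈ K ⊓ 𝐍(D) := ⟨k1, mem_normalizer_of_cj_le (cj_le_iff'.2 fun d hd =>
    ⟨⟨K.mul_mem (K.mul_mem k1 hd.1.1) (K.inv_mem k1), ca_mem_cent1.2 (back s k2 k4 ▸ Commute.conj (ca_mem_cent1.1 hd.2) s)⟩,
      ca_mem_cent1.2 (k4 ▸ Commute.conj (ca_mem_cent1.1 hd.1.2) s)⟩)⟩
  have s2 : orderOf s = 2 := Invol.two_of_mul_self k2 fun e => hca (by rw [← k4, e]; simp)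
  obtain ⟨h, hh, e⟩ := hc.syl (hτ.twoC hc) inf_le_left haN hsN s2
  have hm : h⁻¹ * s * h⁻¹⁻¹ ∈ K ⊓ 𝐍(D) := mul_mem (mul_mem (inv_mem hh) hsN) (inv_mem (inv_mem hh))
  have hi₀ := hB _ hm.1 (by rw [Invol.orderOf_conj, s2]) (by simpa [mul_assoc] using (Commute.conj e h⁻¹).symm)
  have all : ∀ j, JI K a j → j ∈ K ⊓ 𝐍(D) := fun j hj => by
    obtain ⟨d, hd, rfl⟩ := trans _ j hi₀ hj
    have : d ∈ K ⊓ 𝐍(D) := ⟨hd.1.1, le_normalizer hd⟩
    exact mul_mem (mul_mem this hm) (inv_mem this)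
  have := ca_four (hc.sub inf_le_left haN) (ih _ hlt haN τ (hτ.sub inf_le_left (all τ hτ))) inf_le_left hτ h1 h3 h4
    (all τ hτ) (all i h1) hsN
  exact hca (by rw [← k4, (ca_mem_cent_zp.1 this).eq]; simp)

theorem ca_zp_two (h : orderOf j = 2) (hx : x ∈ zpowers j) : x = 1 ∨ x = j := by
  obtain ⟨k, rfl⟩ := mem_zpowers_iff.1 hx
  have h2 : j ^ (2 : ℤ) = 1 := by rw [zpow_two, Invol.mul_self_of_two h]
  rcases Int.even_or_odd' k with ⟨m, rfl | rfl⟩
  · left; rw [zpow_mul, h2, one_zpow]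
  · right; rw [zpow_add, zpow_mul, h2, one_zpow, one_mul, zpow_one]

theorem ca_quo {τ : G} (hc : CA K a) (hτ : τ ∈ K) (h2 : orderOf τ = 2) (hN : N ≤ K) (hn : K ≤ 𝐍(N)) (ha : a ∈ 𝐍(N)) (hτN : τ ∉ N)
    (h : ∀ g ∈ K, g⁻¹ * τ⁻¹ * g * τ ∈ N → g⁻¹ * a⁻¹ * g * a ∈ N) :
    CA (quo N K) (qmk N ⟨a, ha⟩) ∧ JI (quo N K) (qmk N ⟨a, ha⟩) (qmk N ⟨τ, hn hτ⟩) ∧
      ⁅quo N K, zpowers (qmk N ⟨a, ha⟩)⁆ = quo N ⁅K, zpowers a⁆ := by
  have key : ∀ (g : G) (hg : g ∈ 𝐍(N)) (x : G) (hx : x ∈ 𝐍(N)),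
      Commute (qmk N ⟨g, hg⟩) (qmk N ⟨x, hx⟩) ↔ g⁻¹ * x⁻¹ * g * x ∈ N := fun g hg x hx => by
    rw [← qmk_eq_one_iff (mul_mem (mul_mem (mul_mem (inv_mem hg) (inv_mem hx)) hg) hx)]
    have : qmk N ⟨g⁻¹ * x⁻¹ * g * x, mul_mem (mul_mem (mul_mem (inv_mem hg) (inv_mem hx)) hg) hx⟩ =
      (qmk N ⟨x, hx⟩ * qmk N ⟨g, hg⟩)⁻¹ * (qmk N ⟨g, hg⟩ * qmk N ⟨x, hx⟩) := by
      rw [← map_mul, ← map_mul, ← map_inv, ← map_mul]; congr 1; ext; simp [mul_assoc]
    rw [this, inv_mul_eq_one]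
    exact ⟨fun e => e.eq.symm, fun e => e.symm⟩
  refine ⟨⟨?_, ?_⟩, ⟨mem_mim_of_mem _ hτ, ?_, ?_⟩, ?_⟩
  · have := (quo_norm_iff (zpowers_le.2 ha) hn hN).2 hc.le
    rw [mim_zpowers ha] at this
    exact this (mem_zpowers _)
  · exact (hc.cop.coprime_dvd_right (card_mim_dvd _ _)).coprime_dvd_left
      ((orderOf_map_dvd _ _).trans (by rw [← Subgroup.orderOf_coe]))
  · refine Invol.two_of_mul_self ?_ fun e => hτN ((qmk_eq_one_iff _).1 e)
    rw [← map_mul, ← map_one (qmk N)]; congr 1; exact Subtype.ext (Invol.mul_self_of_two h2)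
  · intro y hy e
    obtain ⟨g, hg, hgK, rfl⟩ := mem_mim.1 hy
    exact (key _ _ _ _).2 (h g hgK ((key _ _ _ _).1 e))
  · rw [mim_commutator hn (zpowers_le.2 ha), mim_zpowers ha]

theorem ca_aux (n : ℕ) : ∀ {G : Type u} [Group G] [Finite G] (K : Subgroup G) (a τ : G), Nat.card K = n → CA K a → JI K a τ →
    Odd (Nat.card ↥⁅K, zpowers a⁆) := by
  induction n using Nat.strong_induction_on with
  | _ n ih =>
  intro G _ _ K a τ hn hc hτ
  by_contra hno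
  have hLK : ⁅K, zpowers a⁆ ≤ K := commutator_le_left_of_norm hc.le
  have hKL : K ≤ 𝐍(⁅K, zpowers a⁆) := le_norm_commutator_left _ _
  have idem := coprime_commutator_idem hc.le hc.cop' (ca_solv _ _)
  have ihs : ∀ H : Subgroup G, H < K → a ∈ 𝐍(H) → ∀ j, JI H a j → Odd (Nat.card ↥⁅H, zpowers a⁆) :=
    fun H hH ha j hj => ih _ (hn ▸ card_lt_of_lt hH) H a j rfl (hc.sub hH.le ha) hj
  have ihq : ∀ N : Subgroup G, N ≤ K → K ≤ 𝐍(N) → a ∈ 𝐍(N) → N ≠ ⊥ → τ ∉ N →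
      (∀ g ∈ K, g⁻¹ * τ⁻¹ * g * τ ∈ N → g⁻¹ * a⁻¹ * g * a ∈ N) → Odd (N.relIndex ⁅K, zpowers a⁆) :=
    fun N h1 h2 h3 h4 h5 h6 => by
      obtain ⟨k1, k2, k3⟩ := ca_quo hc hτ.mem hτ.two h1 h2 h3 h5 h6
      have := ih _ (hn ▸ card_quo_lt h2 h1 h4) _ _ _ rfl k1 k2
      rwa [k3, card_quo (hLK.trans h2)] at this
  have hO : ∀ N : Subgroup G, N ≤ K → K ≤ 𝐍(N) → Odd (Nat.card N) → N = ⊥ := by
    have h0 : 𝐎'[2](K) = ⊥ := by
      by_contra e
      have ho : Odd (Nat.card 𝐎'[2](K)) := Nat.odd_iff.2 (by have := not_dvd_card_pPrimeCoreOf Nat.prime_two K; omega)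
      have hK := le_norm_piCoreOf_self {2}ᶜ K
      have ha := le_norm_piCoreOf {2}ᶜ hc.le (mem_zpowers a)
      have := ihq _ (piCoreOf_le' _ _) hK ha e
        (fun h => not_dvd_card_pPrimeCoreOf Nat.prime_two K (hτ.two.symm.dvd.trans (orderOf_dvd_natCard _ h))) fun g hg h => by
          obtain ⟨c, k1, v, k2, rfl⟩ := coprime_quotient_cent (A := zpowers τ) (zpowers_le.2 (hK hτ.mem))
            (by rw [Nat.card_zpowers, hτ.two]; exact Nat.coprime_two_left.2 ho) (ca_solv _ _) (hK hg) fun b hb => by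
              rcases ca_zp_two hτ.two hb with rfl | rfl
              · simp
              · exact h
          have hcK : c ∈ K := (mul_mem_cancel_right (piCoreOf_le' _ _ k2)).1 hg
          have e1 := (hτ.cent c hcK (ca_mem_cent_zp.1 k1)).eq
          have : (c * v)⁻¹ * a⁻¹ * (c * v) * a = v⁻¹ * (a⁻¹ * v * a⁻¹⁻¹) := by
            calc _ = v⁻¹ * (a * c)⁻¹ * c * v * a := by group
              _ = _ := by rw [← e1]; group
          rw [this]
          exact mul_mem (inv_mem k2) (ca_conj_mem (inv_mem ha) k2)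
      refine hno ?_
      rw [← Core.card_inf_mul_relIndex 𝐎'[2](K)]
      exact (ho.of_dvd_nat (card_dvd_of_le inf_le_left)).mul this
    intro N h1 h2 h3
    exact le_bot_iff.1 (h0 ▸ le_pPrimeCoreOf' Nat.prime_two h1 h2 (by have := Nat.odd_iff.1 h3; omega))
  have hbot : ⁅K, zpowers a⁆ ≠ ⊥ := fun e => hno (by rw [e, card_bot]; exact odd_one)
  have hZ : ∀ v ∈ K, orderOf v = 2 → ¬ ∀ g ∈ K, Commute g v := fun v hv h2 e => by
    have hva := hτ.cent v hv (e τ hτ.mem).symm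
    have hKv : K ≤ 𝐂(zpowers v) := fun g hg => ca_mem_cent_zp.2 (e g hg)
    have hτv : τ ∉ zpowers v := fun h => by
      rcases ca_zp_two h2 h with rfl | rfl
      · have := hτ.two; rw [orderOf_one] at this; omega
      · exact hbot (commutator_eq_bot_iff_le_centralizer.2 fun g hg => ca_mem_cent_zp.2 (hτ.cent g hg (e g hg)))
    have h1 := ihq _ (zpowers_le.2 hv) (le_norm_of_le_cent hKv) (centralizer_le_normalizer _ (ca_mem_cent_zp.2 hva.symm))
      (by rw [Ne, zpowers_eq_bot]; exact Invol.ne_one_of_two h2) hτv fun g hg h => by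
        have k1 : Commute (g⁻¹ * a * g⁻¹⁻¹) (g⁻¹ * τ⁻¹ * g) := by simpa using Commute.conj hτ.comm.symm.inv_right g⁻¹
        have k2 : Commute (g⁻¹ * a * g⁻¹⁻¹) v := ((e g hg).inv_left.mul_left hva.symm).mul_left (e g hg).inv_left.inv_left
        have k3 : Commute (g⁻¹ * a * g⁻¹⁻¹) (g⁻¹ * τ⁻¹ * g * τ) := (ca_mem_cent_zp.1 (BG1.le_cent_symm
          (zpowers_le.2 (ca_mem_cent_zp.2 k2)) h)).symm
        have k4 := hτ.uniq hc (inv_mem hg) (by simpa [mul_assoc] using k1.inv_right.mul_right k3)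
        have : g⁻¹ * a⁻¹ * g * a = (g⁻¹ * a * g⁻¹⁻¹)⁻¹ * a := by group
        rw [this, k4, inv_mul_cancel]; exact one_mem _
    have hvL : v ∈ ⁅K, zpowers a⁆ := by
      by_contra h
      refine hno ?_
      rw [← Core.card_inf_mul_relIndex (zpowers v), (_ : zpowers v ⊓ ⁅K, zpowers a⁆ = ⊥), card_bot, one_mul]
      · exact h1
      · exact eq_bot_iff.2 fun y hy => by
          rcases ca_zp_two h2 hy.1 with rfl | rfl
          exacts [one_mem _, absurd hy.2 h]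
    have hS : Syl 2 (zpowers v) ⁅K, zpowers a⁆ := syl_of_not_dvd (zpowers_le.2 hvL)
      (Amalg.isPGroup_zpowers_of_orderOf (k := 1) (by simpa using h2)) (by have := Nat.odd_iff.1 h1; omega)
    have h3 := sup_syl_of_hall hS (burnside_normal_complement hS (inf_le_left.trans (hLK.trans hKv)))
    rw [hO _ ((piCoreOf_le' _ _).trans hLK) (le_norm_piCoreOf _ hKL)
      (Nat.odd_iff.2 (by have := not_dvd_card_pPrimeCoreOf Nat.prime_two ⁅K, zpowers a⁆; omega)), bot_sup_eq] at h3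
    refine hbot (idem.symm.trans ?_)
    rw [← h3]
    exact commutator_eq_bot_iff_le_centralizer.2 (zpowers_le.2 (ca_mem_cent_zp.2 hva))
  refine ca_core hc hτ ihs hO hZ fun v hv h2 e => ?_
  have hsup : ⁅K, zpowers a⁆ ⊔ zpowers τ = K := by
    by_contra e'
    have := ihs _ (lt_of_le_of_ne (sup_le hLK (zpowers_le.2 hτ.mem)) e') (le_normalizer_sup (le_norm_commutator_right _ _)
      (le_norm_of_le_cent (zpowers_le.2 (ca_mem_cent_zp.2 hτ.comm.symm))) (mem_zpowers a)) τ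
      (hτ.sub (sup_le hLK (zpowers_le.2 hτ.mem)) (mem_sup_right (mem_zpowers τ)))
    exact hno (this.of_dvd_nat (card_dvd_of_le (idem.ge.trans (commutator_mono le_sup_left le_rfl))))
  have hvM : v ∈ K ⊓ 𝐂(⁅K, zpowers a⁆) := ⟨hv, BG1.le_cent_symm (A := ⁅K, zpowers a⁆) (B := zpowers v)
    (commutator_le.2 fun g hg b hb => ca_mem_cent_zp.2 (by
      obtain ⟨m, rfl⟩ := mem_zpowers_iff.1 hb
      have k1 := (e g hg).zpow_left m
      have k2 := (e 1 (one_mem _)).zpow_left m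
      rw [conj_zpow] at k1
      simpa [commutatorElement_def] using k1.mul_left (by simpa using k2.inv_left : Commute (a ^ m)⁻¹ v))) (mem_zpowers v)⟩
  have hKM : K ≤ 𝐍(K ⊓ 𝐂(⁅K, zpowers a⁆)) := le_normalizer_inf le_normalizer (hKL.trans (normalizer_le_normalizer_centralizer _))
  obtain ⟨T, k2, k1⟩ := exists_syl_ge (Amalg.isPGroup_zpowers_of_orderOf (p := 2) (k := 1) (by simpa using hτ.two)) (zpowers_le.2 hτ.mem)
  have k3 := k2.inf_normal inf_le_left hKM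
  obtain ⟨z, hz⟩ := exists_prime_orderOf_dvd_card' 2 (dvd_card_of_isPGroup_ne_bot (k3.isPGroup.to_le inf_le_left)
    (Amalg.inf_center_ne_bot k2.isPGroup inf_le_left (le_normalizer_inf le_normalizer (k2.le.trans hKM))
      (k3.ne_bot (h2.symm.dvd.trans (orderOf_dvd_natCard _ hvM)))))
  refine hZ z z.2.1.2.1 (by rw [Subgroup.orderOf_coe, hz]) fun g hg => ca_mem_cent1.1 (hsup.ge.trans (sup_le ?_ ?_) hg)
  · exact fun y hy => ca_mem_cent1.2 (z.2.1.2.2 y hy)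
  · exact zpowers_le.2 (ca_mem_cent1.2 (z.2.2 τ (k1 (mem_zpowers τ))))

/-- a coprime automorphism fixing the centralizer of an involution acts trivially modulo an odd normal subgroup -/
theorem coprime_aut_odd {τ : G} (hc : CA K a) (hτ : JI K a τ) : Odd (Nat.card ↥⁅K, zpowers a⁆) := ca_aux _ K a τ rfl hc hτ

end Cfsg.Lib.Hall
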