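import Cfsg.Agent.Lib.Hall.ClassSize
import Cfsg.Agent.Lib.Transfer.Apps

/-! Class sizes not divisible by `4` (Chillag–Herzog, Camina–Camina). -/

namespace Cfsg.Lib.Hall

open Subgroup _root_.Cfsg.Lib.Core _root_.Cfsg.Lib.Transfer
open scoped Pointwise

variable {G : Type*} [Group G]

/-- The product of an orbit under an odd group of automorphisms. -/
theorem exists_fixed_notMem {A : Type*} [CommGroup A] [Finite A] (R : Subgroup (MulAut A))
    (hR : Odd (Nat.card R)) {T : Subgroup A} (hT : T.index = 2) {t : A}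
    (ht : ∀ r ∈ R, r t ∉ T) : ∃ w : A, w ∉ T ∧ ∀ r ∈ R, r w = w := by
  classical
  haveI : Fintype R := Fintype.ofFinite R
  refine ⟨∏ r : R, (r : MulAut A) t, ?_, ?_⟩
  · have key : ∀ s : Finset R, ((∏ r ∈ s, (r : MulAut A) t) ∈ T ↔ Even s.card) := by
      intro s
      induction s using Finset.induction_on with
      | empty => simp
      | insert a s ha ih =>
        rw [Finset.prod_insert ha, Finset.card_insert_of_notMem ha,
          mul_mem_iff_of_index_two hT, ih, Nat.even_add_one]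
        have := ht a a.2
        tauto
    rw [key, Finset.card_univ, ← Nat.card_eq_fintype_card]
    exact Nat.not_even_iff_odd.mpr hR
  · intro r hr
    rw [map_prod]
    exact Fintype.prod_equiv (Equiv.mulLeft (⟨r, hr⟩ : R)) _ _ (fun x => by simp)

theorem exists_conj_relIndex_dvd [Finite G] {p : ℕ} [hp : Fact p.Prime] (S : Sylow p G) {x : G}
    {k : ℕ} (h : ¬ p ^ (k + 1) ∣ cs x) :
    ∃ g : G, ((S : Subgroup G) ⊓ centralizer {g * x * g⁻¹}).relIndex S ∣ p ^ k := by
  obtain ⟨T, hT⟩ := exists_sylowIn (p := p) (centralizer ({x} : Set G))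
  obtain ⟨hT1, hT2, hT3⟩ := sylowIn_iff.mp hT
  obtain ⟨g, -, hg⟩ := (sylowIn_top S).exists_cj_le hT2 le_top
  refine ⟨g, ?_⟩
  have h1 : cj g T ≤ (S : Subgroup G) ⊓ centralizer {g * x * g⁻¹} := by
    refine le_inf hg ?_
    rw [cent_conj, ← cj_eq_smul]
    exact cj_mono g hT1
  refine (relIndex_dvd_of_le_left _ h1).trans ?_
  obtain ⟨n, hn⟩ : ∃ n, (cj g T).relIndex S = p ^ n := by
    have := (S.isPGroup'.index ((cj g T).subgroupOf S))
    exact this
  have h2 : p ^ n ∣ T.relIndex (centralizer ({x} : Set G)) * cs x := by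
    rw [relIndex_mul_index hT1, ← index_cj g T, ← relIndex_mul_index hg, hn]
    exact dvd_mul_right _ _
  have h3 : p ^ n ∣ cs x :=
    (Nat.Coprime.pow_left n ((Nat.Prime.coprime_iff_not_dvd hp.out).mpr hT3)).dvd_of_dvd_mul_left h2
  rw [hn]
  refine pow_dvd_pow p ?_
  by_contra hk
  exact h ((pow_dvd_pow p (by omega)).trans h3)

theorem comm_of_simple_of_not_four_dvd [Finite G] [IsSimpleGroup G] (h2 : 2 ∣ Nat.card G)
    (h : ∀ x : G, ¬ 4 ∣ cs x) : ∀ x y : G, x * y = y * x := by
  haveI : Fact (Nat.Prime 2) := ⟨Nat.prime_two⟩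
  by_contra hna
  push Not at hna
  have hZ : center G = ⊥ := by
    rcases (IsSimpleGroup.eq_bot_or_eq_top_of_normal (center G) inferInstance) with h | h
    · exact h
    · obtain ⟨x, y, hxy⟩ := hna
      exact absurd (mem_center_iff.mp (h ▸ mem_top y : y ∈ center G) x) hxy
  obtain ⟨S⟩ : Nonempty (Sylow 2 G) := inferInstance
  have hcj : ∀ x : G, ∃ g : G, ((S : Subgroup G) ⊓ centralizer {g * x * g⁻¹}).relIndex S ∣ 2 := by
    intro x
    simpa using exists_conj_relIndex_dvd S (k := 1) (x := x) (by simpa using h x)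
  -- squares are trivial
  have hsq : ∀ s ∈ (S : Subgroup G), s ^ 2 = 1 := by
    intro s hs
    have : centralizer ({s ^ 2} : Set G) = ⊤ := by
      apply eq_top_of_forall_conj_mem
      intro x
      obtain ⟨g, hg⟩ := hcj x
      refine ⟨g, mem_cent_comm.mp ?_⟩
      rcases (Nat.dvd_prime Nat.prime_two).mp hg with h1 | h1
      · rw [relIndex_eq_one] at h1
        exact (h1 (pow_mem hs 2)).2
      · exact (sq_mem_of_index_two h1 ⟨s, hs⟩).2
    rw [cent_eq_top_iff, hZ] at this
    exact this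
  have hc : IsMulCommutative (S : Subgroup G) := by
    refine ⟨⟨fun a b => ?_⟩⟩
    have ha : a * a = 1 := Subtype.ext (by simpa [pow_two] using hsq a a.2)
    have hb : b * b = 1 := Subtype.ext (by simpa [pow_two] using hsq b b.2)
    have hab : (a * b) * (a * b) = 1 := Subtype.ext (by simpa [pow_two] using hsq _ (a * b).2)
    calc a * b = a * ((a * b) * (a * b)) * b * ((a * a) * (b * b))⁻¹ := by
          rw [hab, ha, hb]; simp
      _ = a * ((a * b) * (a * b)) * b := by rw [ha, hb]; simp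
      _ = (a * a) * (b * a) * (b * b) := by group
      _ = b * a := by rw [ha, hb]; simp
  have hST := sylowIn_top S
  have hperf : ⁅(⊤ : Subgroup G), (⊤ : Subgroup G)⁆ = ⊤ := by
    rcases (IsSimpleGroup.eq_bot_or_eq_top_of_normal ⁅(⊤ : Subgroup G), (⊤ : Subgroup G)⁆
      inferInstance) with h | h
    · obtain ⟨x, y, hxy⟩ := hna
      rw [commutator_eq_bot_iff_le_centralizer] at h
      exact absurd ((h (mem_top y)) x (mem_top x)) hxy
    · exact h
  have h1 := hST.commutator_inf_of_comm hc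
  have h3 := (hST.fitting_decomp hc).1
  rw [← h1, hperf, top_inf_eq, top_inf_eq] at h3
  -- a nontrivial element of `S`
  have hS1 : (S : Subgroup G) ≠ ⊥ := fun e => (hST.eq_bot_iff.mp e) (by simpa using h2)
  obtain ⟨⟨t, ht⟩, ht1⟩ := (ne_bot_iff_exists_ne_one).mp hS1
  have ht1 : t ≠ 1 := fun e => ht1 (Subtype.ext e)
  have : ¬ ∀ x : G, ∃ g : G, g * x * g⁻¹ ∈ centralizer ({t} : Set G) := by
    intro hh
    have := eq_top_of_forall_conj_mem hh
    rw [cent_eq_top_iff, hZ] at this
    exact ht1 this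
  push Not at this
  obtain ⟨x, hx⟩ := this
  obtain ⟨g, hg⟩ := hcj x
  set N := normalizer ((S : Subgroup G) : Set G)
  have hnot : ∀ n ∈ N, n * t * n⁻¹ ∉ centralizer ({g * x * g⁻¹} : Set G) := by
    intro n _ hm
    apply hx (n⁻¹ * g)
    rw [mem_cent_iff] at hm ⊢
    calc n⁻¹ * g * x * (n⁻¹ * g)⁻¹ * t = n⁻¹ * (g * x * g⁻¹ * (n * t * n⁻¹)) * n := by group
      _ = n⁻¹ * (n * t * n⁻¹ * (g * x * g⁻¹)) * n := by rw [hm]
      _ = _ := by group
  have hidx : ((S : Subgroup G) ⊓ centralizer {g * x * g⁻¹}).relIndex S = 2 := by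
    rcases (Nat.dvd_prime Nat.prime_two).mp hg with h1 | h1
    · rw [relIndex_eq_one] at h1
      exact absurd (by simpa using (h1 ht).2) (hnot 1 N.one_mem)
    · exact h1
  open scoped IsMulCommutative in
  have hodd : Odd (Nat.card ((S : Subgroup G).normalizerMonoidHom.range)) := by
    rw [← index_ker, normalizerMonoidHom_ker]
    have : ((centralizer ((S : Subgroup G) : Set G)).subgroupOf N).index ∣
        (S : Subgroup G).relIndex N := relIndex_dvd_of_le_left _ (le_centralizer_self hc)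
    refine Odd.of_dvd_nat ?_ this
    rw [← Nat.not_even_iff_odd, even_iff_two_dvd]
    exact (sylowIn_iff.mp (sylowIn_of_le S le_normalizer)).2.2
  open scoped IsMulCommutative in
  obtain ⟨w, hw, hw'⟩ := exists_fixed_notMem _ hodd
    (T := ((S : Subgroup G) ⊓ centralizer {g * x * g⁻¹}).subgroupOf S) hidx (t := ⟨t, ht⟩) (by
      rintro _ ⟨n, rfl⟩ hm
      exact hnot n n.2 hm.2)
  apply hw
  have : (w : G) ∈ (⊥ : Subgroup G) := by
    rw [← h3]
    refine ⟨⟨w.2, fun n hn => ?_⟩, w.2⟩
    have := congrArg Subtype.val (hw' _ ⟨⟨n, hn⟩, rfl⟩)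
    change n * w * n⁻¹ = w at this
    calc n * w = n * w * n⁻¹ * n := by group
      _ = w * n := by rw [this]
  have : w = 1 := Subtype.ext this
  rw [this]; exact one_mem _

end Cfsg.Lib.Hall
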