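import Cfsg.Agent.Lib.Hall.CsA
import Cfsg.Agent.Lib.Hall.RealElt
import Cfsg.Agent.Lib.Hall.FC6
import Cfsg.Agent.Lib.BN.ZassField
import Cfsg.Agent.Lib.BS.Induct
import Cfsg.Agent.Lib.Block.BSBig
import Cfsg.Agent.Lib.PGrp.TwoMax
import Cfsg.Agent.S0205

/-! # Normal abelian Sylow subgroups whose elements have prime power class size -/

set_option autoImplicit false

namespace Cfsg.Lib.Hall

open Subgroup _root_.Cfsg.Lib.Core _root_.Cfsg.Lib.Transfer
open scoped Pointwise commutatorElement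

universe u

variable {G : Type u} [Group G]

local notation "𝐍" X:max => normalizer (SetLike.coe (X : Subgroup _))
local notation "𝐂" X:max => centralizer (SetLike.coe (X : Subgroup _))
local notation "𝐂[" x "]" => centralizer ({x} : Set _)

theorem cb_arith {q j m : ℕ} (hq : Odd q) (h : 2 ^ (m + 1) ∣ q ^ j + 1) : 2 ^ (m + 2) ∣ q ^ 2 - 1 := by
  obtain ⟨t, rfl⟩ := hq
  have e : (2 * t + 1) ^ 2 - 1 = (2 * t + 1 + 1) * t * 2 := by
    rw [Nat.sub_eq_iff_eq_add (Nat.one_le_pow _ _ (by omega))]; ring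
  rw [e, pow_succ]
  refine Nat.mul_dvd_mul_right ?_ 2
  rcases Nat.eq_zero_or_pos m with rfl | hm
  · exact ⟨(t + 1) * t, by ring⟩
  refine Dvd.dvd.mul_right ?_ t
  rcases Nat.even_or_odd j with ⟨i, rfl⟩ | hj
  · exfalso
    have h1 : 4 ∣ (2 * t + 1) ^ (i + i) + 1 :=
      (pow_dvd_pow 2 (show 2 ≤ m + 1 by omega)).trans h
    obtain ⟨s, hs⟩ : Odd ((2 * t + 1) ^ i) := (odd_two_mul_add_one t).pow
    rw [pow_add, hs] at h1
    have h2 : (2 * s + 1) * (2 * s + 1) + 1 = 4 * (s * s + s) + 2 := by ring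
    omega
  · obtain ⟨i, rfl⟩ := hj
    have h1 : ∃ c : ℤ, (2 * t + 1 : ℤ) ^ (2 * i + 1) + 1 = (2 * t + 1 + 1) * (2 * c + 1) := by
      clear h
      induction i with
      | zero => exact ⟨0, by ring⟩
      | succ i ih =>
        obtain ⟨c, hc⟩ := ih
        refine ⟨(2 * t + 1) ^ 2 * c + 2 * t * t + t, ?_⟩
        linear_combination (2 * t + 1 : ℤ) ^ 2 * hc
    obtain ⟨c, hc⟩ := h1
    have h3 : (2 : ℤ) ^ (m + 1) ∣ (2 * t + 1 + 1) * (2 * c + 1) := by
      rw [← hc]; exact_mod_cast h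
    have h5 : IsCoprime (2 : ℤ) (2 * c + 1) := ⟨-c, 1, by ring⟩
    exact_mod_cast (h5.pow_left (m := m + 1)).dvd_of_dvd_mul_right h3

theorem cb_card_le [Finite G] {q m : ℕ} (hq : q.Prime) (hq2 : q ≠ 2) {V : Subgroup G} [V.Normal]
    [IsMulCommutative V] (hV : IsPGroup q V) (h0 : V ≠ ⊥) {a b : G} (ha : orderOf a = 2 ^ (m + 2))
    (hf : zpowers a ⊓ 𝐂 V = ⊥) (irr : ∀ M ≤ V, M ≠ ⊥ → zpowers a ≤ 𝐍 M → M = V)
    (hb : ∀ x ∈ zpowers a, b * x * b⁻¹ ∈ zpowers a) (hab : b * a ^ 2 * b⁻¹ = (a ^ 2)⁻¹) :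
    Nat.card V ≤ q ^ 2 := by
  haveI := Fact.mk hq
  obtain ⟨⟨v, hv⟩, hv1⟩ := ne_bot_iff_exists_ne_one.1 h0
  have irr' : ∀ M ≤ V, M ≠ ⊥ → Clifford.Nrm (zpowers a) M → M = V := fun M h1 h2 h3 =>
    irr M h1 h2 fun g hg => mem_normalizer_of_conj_mem (h3 g hg)
  obtain ⟨k, _, _, τ, hτ, -⟩ := BN.exists_crd (V := V) (A := zpowers a)
    (fun g _ v hv => ‹V.Normal›.conj_mem v hv g) irr' hv fun e => hv1 (Subtype.ext e)
  haveI : CharP k q := by
    obtain ⟨n, hn⟩ := hV ⟨τ 1, hτ.mem 1⟩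
    have h1 : τ (((q ^ n : ℕ) : k) * 1) = 1 := by rw [hτ.nsmul]; exact congrArg Subtype.val hn
    rw [hτ.eq_one_iff, mul_one, Nat.cast_pow] at h1
    exact (CharP.charP_iff_prime_eq_zero hq).2 (eq_zero_of_pow_eq_zero h1)
  obtain ⟨θ, c, -, -, hθ⟩ := hτ.semilinear irr' (g := b) (fun v hv => ‹V.Normal›.conj_mem v hv b) hb
  obtain ⟨j, hj⟩ := BS.exists_pow_of_aut q θ
  have hma := mem_zpowers a
  have hpow : ∀ n : ℕ, BN.slope τ (a ^ n) = BN.slope τ a ^ n := fun n => by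
    induction n with
    | zero => simp [hτ.slope_one]
    | succ n ih => rw [pow_succ, hτ.slope_mul (pow_mem hma n) hma, ih, pow_succ]
  have h1 : BN.slope τ (a ^ (2 * (q ^ j + 1))) = 1 := by
    have h2 := hθ _ (pow_mem hma 2)
    rw [hab, hj, hτ.slope_inv (pow_mem hma 2)] at h2
    rw [hpow, pow_mul, pow_succ, ← hpow, h2, inv_mul_cancel₀ (hτ.slope_ne_zero (pow_mem hma 2))]
  have h2 : a ^ (2 * (q ^ j + 1)) = 1 := by
    rw [← mem_bot, ← hf]
    refine ⟨pow_mem hma _, mem_centralizer_iff.2 fun w hw => ?_⟩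
    obtain ⟨y, rfl⟩ := hτ.surj w hw
    have h3 := hτ.lin _ (pow_mem hma (2 * (q ^ j + 1))) y
    rw [h1, one_mul] at h3
    exact (mul_inv_eq_iff_eq_mul.1 h3).symm
  have h3 : 2 ^ (m + 2) ∣ q ^ 2 - 1 := by
    refine cb_arith (j := j) (hq.odd_of_ne_two hq2) (Nat.dvd_of_mul_dvd_mul_left two_pos ?_)
    rw [← pow_succ', ← ha]
    exact orderOf_dvd_of_pow_eq_one h2
  have hq1 : 1 ≤ q ^ 2 := Nat.one_le_pow _ _ hq.pos
  have h4 : BN.slope τ a ^ q ^ 2 = BN.slope τ a := by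
    rw [← hpow, ← Nat.sub_add_cancel hq1, pow_succ,
      orderOf_dvd_iff_pow_eq_one.1 (ha ▸ h3 : orderOf a ∣ q ^ 2 - 1), one_mul]
  let M : Subgroup G :=
    { carrier := {w | ∃ y, y ^ q ^ 2 = y ∧ τ y = w}
      one_mem' := ⟨0, zero_pow (by omega), hτ.zero⟩
      mul_mem' := by
        rintro _ _ ⟨y, hy, rfl⟩ ⟨z, hz, rfl⟩
        exact ⟨y + z, by rw [add_pow_char_pow, hy, hz], hτ.add y z⟩
      inv_mem' := by
        rintro _ ⟨y, hy, rfl⟩
        exact ⟨-y, by rw [(hq.odd_of_ne_two hq2).pow.neg_pow, hy], hτ.neg y⟩ }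
  have hM : M = V := by
    refine irr M (by rintro _ ⟨y, -, rfl⟩; exact hτ.mem y)
      (ne_bot_iff_exists_ne_one.2 ⟨⟨τ 1, 1, one_pow _, rfl⟩, fun e => ?_⟩)
      (zpowers_le.2 (mem_normalizer_of_conj_mem ?_))
    · exact one_ne_zero (hτ.eq_one_iff.1 (congrArg Subtype.val e))
    · rintro _ ⟨y, hy, rfl⟩
      exact ⟨_, by rw [mul_pow, h4, hy], (hτ.lin a hma y).symm⟩
  haveI := Fintype.ofFinite k
  have h5 : Fintype.card k - 1 ∣ q ^ 2 - 1 := by
    refine (FiniteField.forall_pow_eq_one_iff k _).1 fun x => ?_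
    obtain ⟨y, hy, e⟩ : τ x ∈ M := hM ▸ hτ.mem _
    rw [hτ.inj e] at hy
    refine mul_right_cancel (b := x) ?_
    rw [← pow_succ, Nat.sub_add_cancel hq1, one_mul]
    exact Units.ext (by simpa using hy)
  have h6 : 1 < q ^ 2 := Nat.one_lt_pow two_ne_zero hq.one_lt
  have h7 := Nat.le_of_dvd (by omega) h5
  rw [← hτ.card, Nat.card_eq_fintype_card]
  omega

/-- In a perfect group whose Sylow `2`-subgroup has the same orbits on `V`, subgroups of index at
most two of the Sylow subgroup are irreducible on `V`. -/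
theorem cb_irr [Finite G] (hperf : _root_.commutator G = ⊤) {V P P₀ U : Subgroup G}
    (hmin : ∀ K : Subgroup G, K.Normal → K ≤ V → K = ⊥ ∨ K = V)
    (hP : ∀ v ∈ V, ∀ g : G, ∃ x ∈ P, g * v * g⁻¹ = x * v * x⁻¹)
    (hi : P₀.relIndex P ∣ 2) (hU : U ≤ V) (h0 : U ≠ ⊥) (hn : P₀ ≤ 𝐍 U) : U = V := by
  obtain ⟨t, ht, h1⟩ := relIindex_dvd_two_iff'.1 hi
  have h2 : ∀ g : G, t * g ∈ 𝐍 U ∨ g ∈ 𝐍 U := by
    intro g
    have h3 : ((MulAut.conj g • U : Subgroup G) : Set G) ⊆ (MulAut.conj t⁻¹ • U : Subgroup G) ∪ U := by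
      intro w hw
      rw [SetLike.mem_coe, mem_conj_smul_iff] at hw
      obtain ⟨x, hx, e⟩ := hP _ (hU hw) g
      have e1 : w = x * (g⁻¹ * w * g) * x⁻¹ := by rw [← e]; group
      rcases h1 x hx with h | h
      · refine Or.inl (mem_conj_smul_iff.2 ?_)
        have := Core.conj_mem_of_mem_normalizer (hn h) hw
        rw [e1]; convert this using 1; group
      · exact Or.inr (e1 ▸ Core.conj_mem_of_mem_normalizer (hn h) hw)
    refine (SubgroupClass.subset_union.1 h3).imp (fun h => mem_normalizer_of_conj_mem fun u hu => ?_)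
      fun h => mem_normalizer_of_conj_mem fun u hu => h (mem_conj_smul_iff.2 (by simpa [mul_assoc] using hu))
    have := mem_conj_smul_iff.1 (h (mem_conj_smul_iff.2 (by simpa [mul_assoc] using hu) :
      g * u * g⁻¹ ∈ MulAut.conj g • U))
    convert this using 1; group
  have h4 : (𝐍 U).index ∣ 2 := index_dvd_two_iff'.2 ⟨t, h2⟩
  have h5 : 𝐍 U = ⊤ := by
    rcases (Nat.dvd_prime Nat.prime_two).1 h4 with h | h
    · exact index_eq_one.1 h
    · haveI := normal_of_index_eq_two h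
      haveI : Fact (Nat.Prime 2) := ⟨Nat.prime_two⟩
      haveI : IsCyclic (G ⧸ 𝐍 U) := isCyclic_of_prime_card (p := 2) h
      rw [eq_top_iff, ← hperf, ← Subgroup.Normal.quotient_commutative_iff_commutator_le]
      exact IsCyclic.isMulCommutative
  exact (hmin U (normalizer_eq_top_iff.1 h5) hU).resolve_left h0

theorem cb_two [Finite G] (hperf : _root_.commutator G = ⊤) {q : ℕ} [hq : Fact q.Prime] (hq2 : q ≠ 2)
    (Q : Sylow q G) [(Q : Subgroup G).Normal] [IsMulCommutative (Q : Subgroup G)]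
    (h0 : (Q : Subgroup G) ≠ ⊥) (hC : 𝐂 (Q : Subgroup G) ≤ Q)
    (hmin : ∀ K : Subgroup G, K.Normal → K ≤ Q → K = ⊥ ∨ K = Q)
    (h : ∀ v ∈ (Q : Subgroup G), ∃ k, cs v = 2 ^ k) : Group.IsSolvable G := by
  haveI : Fact (Nat.Prime 2) := ⟨Nat.prime_two⟩
  set V : Subgroup G := (Q : Subgroup G) with hVQ
  have hV : IsPGroup q V := Q.isPGroup'
  obtain ⟨S⟩ : Nonempty (Sylow 2 G) := inferInstance
  set P : Subgroup G := (S : Subgroup G) with hPS
  have hP2 : IsPGroup 2 P := S.isPGroup'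
  have hfa : ∀ (r : ℕ) [Fact r.Prime] (R : Subgroup G), r ≠ q → IsPGroup r R → R ⊓ 𝐂 V = ⊥ :=
    fun r _ R hr hR => eq_bot_iff.2 ((inf_le_inf_left R hC).trans
      (IsPGroup.disjoint_of_ne r q hr R V hR hV).eq_bot.le)
  have hcop : ∀ (r : ℕ) [Fact r.Prime] (R : Subgroup G), r ≠ q → IsPGroup r R →
      (Nat.card R).Coprime (Nat.card V) := fun r _ R hr hR => IsPGroup.coprime_card_of_ne r q hr R V hR hV
  have hP : ∀ v ∈ V, ∀ g : G, ∃ x ∈ P, g * v * g⁻¹ = x * v * x⁻¹ := by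
    intro v hv g
    obtain ⟨k, hk⟩ := h v hv
    obtain ⟨x, hx, c, hc, rfl⟩ := factor_of_coprime_index (H := P) (K := 𝐂[v]) (by
      rw [hk]; exact ((coprime_iff_not_dvd Nat.prime_two).2 S.not_dvd_index).pow_right k) g
    refine ⟨x, hx, ?_⟩
    rw [mul_assoc x c v, mem_cent_iff.1 hc]; group
  have irr : ∀ P₀ : Subgroup P, P₀.index ∣ 2 → ∀ U ≤ V, U ≠ ⊥ → P₀.map P.subtype ≤ 𝐍 U → U = V :=
    fun P₀ hi U h1 h2 h3 => cb_irr hperf hmin hP (by rwa [relIndex, subgroupOf_map_subtype_self]) h1 h2 h3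
  rcases PGrp.isCyclic_or_max2 hP2 (fun E hE hEa hE4 => by
    haveI := hEa.1
    have hnc : ¬ IsCyclic (E.map P.subtype) := fun hc => by
      have := PGrp.card_dvd_of_isCyclic_of_pow (PGrp.isCyclic_of_isCyclic_map P.subtype_injective hc)
        (n := 2) fun x hx => hEa.2 x hx
      rw [hE4] at this
      omega
    obtain ⟨_, ⟨e, he, rfl⟩, he1, hne⟩ := Coprime.exists_centralizer_ne_bot (K := V) hnc
      le_normalizer_of_normal (hcop 2 _ hq2.symm (hP2.to_le (map_subtype_le E))) h0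
    have h1 := irr (𝐂 E) (by
      rcases PGrp.eq_top_or_index_eq hP2 (PGrp.index_centralizer_le_of_card_le_sq hP2 E hE4.le) with
        h | h
      · rw [h]; simp
      · rw [h]) _ inf_le_left hne (le_normalizer_inf le_normalizer_of_normal ?_)
    · have h2 : P.subtype e ∈ P ⊓ 𝐂 V := ⟨e.2, le_cent_iff.1 (h1.ge.trans inf_le_right)⟩
      rw [hfa 2 P hq2.symm hP2] at h2
      exact he1 h2
    · rw [← centralizer_zpowers]
      refine le_normalizer_centralizer (le_trans ?_ (centralizer_le_normalizer _))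
      rw [centralizer_zpowers]
      rintro _ ⟨c, hc, rfl⟩
      exact mem_cent_iff.2 (congrArg Subtype.val (mem_centralizer_iff.1 hc e he).symm))
    with hc | ⟨-, a, b, m, hm, -⟩
  · exact isSolvable_top_iff.1 (solvable_of_pnil_two (Block.pnil_two_of_isCyclic (sylowIn_top S) hc))
  have hcard : Nat.card V ≤ q ^ 2 := by
    refine cb_card_le hq.out hq2 hV h0 (a := a) (b := b) (m := m) (by rw [orderOf_coe, hm.ord])
      (hfa 2 _ hq2.symm (hP2.to_le (zpowers_le.2 a.2))) (fun M h1 h2 h3 => ?_) (fun x hx => ?_)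
      (congrArg Subtype.val hm.conj_sq)
    · exact irr (zpowers a) (by rw [hm.index]) M h1 h2 (by rwa [MonoidHom.map_zpowers])
    · obtain ⟨n, rfl⟩ := hx
      obtain ⟨l, hl⟩ := hm.normal.conj_mem _ (zpow_mem_zpowers a n) b
      exact ⟨l, congrArg Subtype.val hl⟩
  have hodd : ∀ (r : ℕ) [Fact r.Prime] (R : Sylow r G), r ≠ q → r ≠ 2 → (R : Subgroup G) = ⊥ := by
    intro r hr R hrq hr2
    have hc := hcop r R hrq R.isPGroup'
    rw [← hfa r R hrq R.isPGroup', eq_comm, inf_eq_left]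
    by_contra hn
    have hW : (⁅V, (R : Subgroup G)⁆ : Subgroup G) ≠ ⊥ := fun e =>
      hn (le_centralizer_iff.1 (commutator_eq_bot_iff_le_centralizer.1 e))
    set W : Subgroup G := ⁅V, (R : Subgroup G)⁆
    have hWV : W ≤ V := commutator_le_left _ _
    obtain ⟨⟨w, hw⟩, hw1⟩ := ne_bot_iff_exists_ne_one.1 hW
    have hw1 : w ≠ 1 := fun e => hw1 (Subtype.ext e)
    obtain ⟨k, hk⟩ := h w (hWV hw)
    have hnd : ¬ r ∣ cs w := fun hd => hr2 ((Nat.prime_dvd_prime_iff_eq hr.out Nat.prime_two).1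
      (hr.out.dvd_of_dvd_pow (hk ▸ hd)))
    have hU : V ⊓ 𝐂 (R : Subgroup G) ≠ ⊥ := by
      obtain ⟨g, hg⟩ := exists_conj_mem_centralizer_sylow R hnd
      intro e
      have : g * w * g⁻¹ ∈ V ⊓ 𝐂 (R : Subgroup G) := ⟨‹V.Normal›.conj_mem _ (hWV hw) g, hg⟩
      rw [e, mem_bot, mul_inv_eq_one, mul_eq_left] at this
      exact hw1 this
    have h1 := Coprime.card_eq_card_centralizer_mul_card_commutator (A := R) (V := V)
      le_normalizer_of_normal hc
    have h2 := Nat.le_of_dvd Nat.card_pos (dvd_card_of_isPGroup_of_ne_bot hq.out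
      (hV.to_le (inf_le_left : V ⊓ 𝐂 (R : Subgroup G) ≤ V)) hU)
    have h3 : Nat.card W ≤ q := by
      refine Nat.le_of_mul_le_mul_left ?_ hq.out.pos
      rw [← sq]
      exact (Nat.mul_le_mul_right _ h2).trans (h1 ▸ hcard)
    have h4 : zpowers w = W := eq_of_le_of_card_ge (zpowers_le.2 hw) (h3.trans (Nat.le_of_dvd
      Nat.card_pos (dvd_card_of_isPGroup_of_ne_bot hq.out (hV.to_le (zpowers_le.2 (hWV hw)))
        (zpowers_ne_bot.2 hw1))))
    obtain ⟨R', hR'⟩ := exists_sylow_le_of_not_dvd_index hnd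
    rw [← centralizer_zpowers, h4] at hR'
    obtain ⟨g, hg, hle⟩ := (sylowIn_of_le R' (hR'.trans (centralizer_le_normalizer _))).exists_cj_le
      R.isPGroup' (normalizer_commutator_ge_right V R)
    refine hn (Coprime.le_centralizer_of_commutator_le_centralizer le_normalizer_of_normal hc
      (le_centralizer_iff.1 fun x hx => ?_))
    have h5 := conj_inv_mem_of_mem_normalizer (normalizer_le_normalizer_centralizer W hg)
      (hR' (hle (conj_mem_cj.2 hx)))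
    simpa [mul_assoc] using h5
  have htop : V ⊔ P = ⊤ := eq_top_of_forall_sylow_le fun r _ _ => by
    by_cases hrq : r = q
    · subst hrq; exact ⟨Q, le_sup_left⟩
    by_cases hr2 : r = 2
    · subst hr2; exact ⟨S, le_sup_right⟩
    obtain ⟨R⟩ : Nonempty (Sylow r G) := inferInstance
    exact ⟨R, hodd r R hrq hr2 ▸ bot_le⟩
  haveI := isSolvable_of_isPGroup Nat.prime_two hP2
  haveI := isSolvable_of_isPGroup hq.out hV
  exact isSolvable_top_iff.1 (htop ▸ isSolvable_sup_of_normal P V)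

end Cfsg.Lib.Hall
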