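import Cfsg.Agent.Lib.Hall.CsD
import Cfsg.Agent.Lib.CS3.Basic

/-! # Two class sizes -/

set_option autoImplicit false
set_option linter.unusedSectionVars false

namespace Cfsg.Lib.Hall

open Subgroup _root_.Cfsg.Lib.Core _root_.Cfsg.Lib.Transfer _root_.Cfsg.Lib.CS3
open scoped Pointwise commutatorElement

universe u

variable {G : Type u} [Group G] [Finite G]

local notation "𝐍" X:max => normalizer (SetLike.coe (X : Subgroup _))
local notation "𝐂" X:max => centralizer (SetLike.coe (X : Subgroup _))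

/-- The `s`-elements of `C ⊓ N` are central in `C`; the noncentral ones have centralizer `C`. -/
structure CN (N C : Subgroup G) (s : ℕ) : Prop where
  ex : ∃ v ∈ C ⊓ N, PE s v ∧ v ∉ center G
  cen : ∀ v ∈ C ⊓ N, PE s v → C ≤ C[v]
  eq : ∀ v ∈ C ⊓ N, PE s v → v ∉ center G → C[v] ≤ C

namespace CN

variable {N C : Subgroup G} {s : ℕ} (h : CN N C s)
include h

theorem mem_iff {v : G} : v ∈ Bs (C ⊓ N) s ↔ v ∈ C ⊓ N ∧ PE s v :=
  ⟨fun hv => ⟨pCoreOf_le _ hv, isPGroup_zpowers_of_mem (isPGroup_pCoreOf _) hv⟩, fun ⟨h1, h2⟩ =>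
    le_pCoreOf (zpowers_le.2 h1) (le_trans (inf_le_left.trans ((h.cen v h1 h2).trans
      (centralizer_zpowers v).ge)) (centralizer_le_normalizer _)) h2 (mem_zpowers v)⟩

theorem cent_eq : 𝐂 (Bs (C ⊓ N) s) = C := by
  obtain ⟨v, hv, hp, hZ⟩ := h.ex
  exact le_antisymm ((centralizer_le (Set.singleton_subset_iff.2 (h.mem_iff.2 ⟨hv, hp⟩))).trans
    (h.eq v hv hp hZ)) fun _ hc v hv =>
      (mem_cent_iff.1 (h.cen v (h.mem_iff.1 hv).1 (h.mem_iff.1 hv).2 hc)).symm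

theorem norm_eq [N.Normal] : 𝐍 (Bs (C ⊓ N) s) = 𝐍 C := by
  refine le_antisymm (fun g hg => ?_) ((le_normalizer_inf le_rfl le_normalizer_of_normal).trans
    (normalizer_le_normalizer_pCoreOf _))
  rw [← h.cent_eq, ← cj_eq_iff, cj_centralizer, cj_eq_of_mem_normalizer hg]

theorem exists_norm [N.Normal] (hs : s.Prime) (hd : s ∣ C.index) : ∃ g ∈ 𝐍 C, g ∉ C ∧ PE s g := by
  haveI := Fact.mk hs
  obtain ⟨T, hT⟩ := (isPGroup_pCoreOf (p := s) (C ⊓ N)).exists_le_sylow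
  by_contra hn
  push Not at hn
  have h1 : (T : Subgroup G) ⊓ 𝐍 (Bs (C ⊓ N) s) ≤ C := fun g hg => by_contra fun e =>
    hn g (h.norm_eq ▸ hg.2) e (isPGroup_zpowers_of_mem T.isPGroup' hg.1)
  have h2 : Bs (C ⊓ N) s = (T : Subgroup G) ⊓ N := by
    by_contra hne
    obtain ⟨g, hg1, hg2⟩ := SetLike.exists_of_lt (lt_inf_normalizer (T.isPGroup'.to_inf_left)
      (lt_of_le_of_ne (le_inf hT ((pCoreOf_le _).trans inf_le_right)) hne))
    exact hg2 (h.mem_iff.2 ⟨⟨h1 ⟨hg1.1.1, hg1.2⟩, hg1.1.2⟩, isPGroup_zpowers_of_mem T.isPGroup' hg1.1.1⟩)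
  refine not_dvd_index_of_sylow_le T (le_trans (le_inf le_rfl ?_) h1) hd
  rw [h2]
  exact le_normalizer_inf le_normalizer le_normalizer_of_normal

theorem fixAct [N.Normal] (hne : ∃ g ∈ 𝐍 C, g ∉ C) :
    ∃ (V : Type u) (_ : CommGroup V) (_ : Finite V)
      (_ : MulDistribMulAction (↥(𝐍 C) ⧸ C.subgroupOf (𝐍 C)) V),
      IsPGroup s V ∧ FixAct (↥(𝐍 C) ⧸ C.subgroupOf (𝐍 C)) V := by
  have hB : Bs (C ⊓ N) s ≤ C := (pCoreOf_le _).trans inf_le_left
  have hn := h.norm_eq.ge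
  letI : CommGroup (Bs (C ⊓ N) s) :=
    { (inferInstance : Group (Bs (C ⊓ N) s)) with
      mul_comm := fun a b => Subtype.ext (h.cent_eq.ge (hB b.2) a a.2) }
  let φ := QuotientGroup.lift (C.subgroupOf (𝐍 C)) (Coprime.conjAut hn)
    (fun a ha => (Coprime.mem_ker_conjAut hn a).2 (h.cent_eq.ge ha))
  letI := MulDistribMulAction.compHom (Bs (C ⊓ N) s) φ
  have hsm : ∀ (a : ↥(𝐍 C)) (v : Bs (C ⊓ N) s),
      (QuotientGroup.mk a : _ ⧸ C.subgroupOf (𝐍 C)) • v = v ↔ (a : G) * v = v * a :=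
    fun a v => Coprime.conjAut_eq_iff hn a v
  refine ⟨Bs (C ⊓ N) s, inferInstance, inferInstance, inferInstance, isPGroup_pCoreOf _, ?_, ?_⟩
  · intro x hx v hv y
    obtain ⟨a, rfl⟩ := QuotientGroup.mk_surjective x
    obtain ⟨b, rfl⟩ := QuotientGroup.mk_surjective y
    rw [hsm] at hv ⊢
    by_cases hH : (v : G) ∈ center G
    · exact mem_center_iff.1 hH b
    · exact absurd ((QuotientGroup.eq_one_iff a).2
        (h.eq v (h.mem_iff.1 v.2).1 (h.mem_iff.1 v.2).2 hH (mem_cent_iff.2 hv))) hx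
  · obtain ⟨v, hv, hp, hH⟩ := h.ex
    obtain ⟨g, hg1, hg2⟩ := hne
    exact ⟨⟨v, h.mem_iff.2 ⟨hv, hp⟩⟩, QuotientGroup.mk ⟨g, hg1⟩, fun e =>
      hg2 (h.eq v hv hp hH (mem_cent_iff.2 ((hsm _ _).1 e)))⟩

theorem dvd_card [N.Normal] (hs : s.Prime) (hd : s ∣ C.index) :
    s ∣ Nat.card (↥(𝐍 C) ⧸ C.subgroupOf (𝐍 C)) := by
  obtain ⟨g, hg1, hg2, hp⟩ := h.exists_norm hs hd
  exact dvd_relIndex_of_pe hs le_rfl hg1 hg2 hp

theorem not_dvd [N.Normal] {t : ℕ} (h' : CN N C t) (hs : s.Prime) (ht : t.Prime) (hst : s ≠ t)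
    (h1 : s ∣ C.index) (h2 : t ∣ C.index) : False := by
  obtain ⟨g, hg1, hg2, -⟩ := h.exists_norm hs h1
  obtain ⟨V, _, _, _, hV, F⟩ := h.fixAct ⟨g, hg1, hg2⟩
  obtain ⟨V', _, _, _, hV', F'⟩ := h'.fixAct ⟨g, hg1, hg2⟩
  exact F.not_dvd F' hs ht hst hV hV' (h.dvd_card hs h1) (h'.dvd_card ht h2)

end CN

theorem ce_le {m : ℕ} {x y : G} (hc : Commute x y) (h : (orderOf x).Coprime (orderOf y))
    (h1 : cs (x * y) = m) (h2 : cs y = m) : C[y] ≤ C[x] := by
  rw [← CS3.eq_of_le_of_index_le (cent_le_of_mem_zpowers (right_mem_zpowers_mul hc h)) (h1.trans h2.symm).le]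
  exact cent_le_of_mem_zpowers (left_mem_zpowers_mul hc h)

theorem pe_one (r : ℕ) : PE r (1 : G) := by
  rw [PE, zpowers_one_eq_bot]; exact IsPGroup.of_bot

theorem ce_cn {N : Subgroup G} {r t m : ℕ} (hr : r.Prime) (ht : t.Prime) (hrt : r ≠ t)
    (h : ∀ a ∈ N, ∀ b ∈ N, PE r a → PE t b → Commute a b → a * b ∉ center G → cs (a * b) = m)
    {v w : G} (hv : v ∈ N) (hw : w ∈ N) (pv : PE r v) (pw : PE t w) (zv : v ∉ center G)
    (zw : w ∉ center G) (hc : Commute v w) : CN N C[w] r := by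
  have h1 : cs w = m := by simpa using h 1 (one_mem _) w hw (pe_one r) pw (Commute.one_left w) (by simpa)
  have h2 : ∀ u ∈ C[w] ⊓ N, PE r u → C[w] ≤ C[u] := fun u hu pu =>
    have c : Commute u w := mem_cent_iff.1 hu.1
    ce_le c (pu.coprime hr ht hrt pw) (h u hu.2 w hw pu pw c
      (c.eq ▸ mul_not_mem_center c.symm (pu.coprime hr ht hrt pw).symm zw)) h1
  refine ⟨⟨v, ⟨mem_cent_iff.2 hc, hv⟩, pv, zv⟩, h2, fun u hu pu zu => ?_⟩
  refine (CS3.eq_of_le_of_index_le (h2 u hu pu) (h1.trans ?_).le).ge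
  simpa using (h u hu.2 1 (one_mem _) pu (pe_one t) (Commute.one_right u) (by simpa)).symm

theorem ce_W {N : Subgroup G} [N.Normal] {r t m : ℕ} (hr : r.Prime) (ht : t.Prime) (hrt : r ≠ t)
    (h : ∀ a ∈ N, ∀ b ∈ N, PE r a → PE t b → Commute a b → a * b ∉ center G → cs (a * b) = m)
    {v w : G} (hv : v ∈ N) (hw : w ∈ N) (pv : PE r v) (pw : PE t w) (zv : v ∉ center G)
    (zw : w ∉ center G) (hc : Commute v w) (h1 : r ∣ m) (h2 : t ∣ m) : False := by
  have a := ce_cn hr ht hrt h hv hw pv pw zv zw hc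
  have b := ce_cn (m := m) ht hr hrt.symm (fun a ha b hb pa pb c hz => c.eq ▸ h b hb a ha pb pa c.symm
    (c.eq ▸ hz)) hw hv pw pv zw zv hc.symm
  have h3 : cs w = m := by simpa using h 1 (one_mem _) w hw (pe_one r) pw (Commute.one_left w) (by simpa)
  have e : C[v] = C[w] := le_antisymm (a.eq v ⟨mem_cent_iff.2 hc, hv⟩ pv zv) (a.cen v ⟨mem_cent_iff.2 hc, hv⟩ pv)
  rw [e] at b
  exact a.not_dvd b hr ht hrt (h3 ▸ h1) (h3 ▸ h2)

/-- equal class sizes transport noncentral `r`-elements -/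
theorem ce_exists_pe {r : ℕ} (hr : r.Prime) {x y : G} (px : PE r x) (zx : x ∉ center G)
    (e : cs x = cs y) : ∃ v ∈ C[y], v ∉ center G ∧ PE r v := by
  refine exists_pe_of_dvd hr ?_
  rw [← relIndex_eq_of_index_eq (center_le_cent x) (center_le_cent y) e]
  exact dvd_relIndex_of_pe hr le_normalizer_of_normal (self_mem_cent x) zx px

/-- If `q` divides no class size of an element of `N`, the `q`-elements of `N` are central in `N`. -/
theorem ce_central {N : Subgroup G} [N.Normal] {q : ℕ} (hq : q.Prime) (h : ∀ x ∈ N, ¬ q ∣ cs x) {y : G}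
    (hy : y ∈ N) (py : PE q y) : N ≤ C[y] := by
  haveI := Fact.mk hq
  have h1 : PE q (⟨y, hy⟩ : N) := by
    obtain ⟨k, hk⟩ := (isPGroup_zpowers_iff hq).1 py
    exact (isPGroup_zpowers_iff hq).2 ⟨k, by rw [← hk, Subgroup.orderOf_mk]⟩
  obtain ⟨Q, hQ⟩ := h1.exists_le_sylow
  have h2 := sylow_le_center_of_forall_not_dvd Q (fun x e => h x x.2 (e.trans (cs_subgroup_dvd x)))
    (hQ (mem_zpowers _))
  exact fun g hg => mem_cent_iff.2 (congrArg Subtype.val (mem_center_iff.1 h2 ⟨g, hg⟩))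

theorem ce_nil {r : ℕ} [hr : Fact r.Prime] (R : Sylow r G) (hR : ¬ (R : Subgroup G) ≤ center G)
    (N : Subgroup G) [N.Normal] (hRN : (R : Subgroup G) ≤ N) {m : ℕ}
    (h : ∀ x ∈ N, x ∉ center G → cs x = m) : Group.IsNilpotent N := by
  obtain ⟨x, hx, zx⟩ := SetLike.not_le_iff_exists.1 hR
  have px := isPGroup_zpowers_of_mem R.isPGroup' hx
  have hN : ∀ v, PE r v → v ∈ N := fun v pv => by
    obtain ⟨S, hS⟩ := pv.exists_le_sylow
    obtain ⟨g, rfl⟩ := MulAction.exists_smul_eq G R S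
    exact (cj_eq_of_normal g N).le (cj_mono g hRN (hS (mem_zpowers v)))
  have hd : ∀ q : ℕ, q.Prime → ¬ q ∣ m → ∀ y ∈ N, PE q y → N ≤ C[y] := fun q hq hm y hy py =>
    ce_central hq (fun x hx e => by
      by_cases zx : x ∈ center G
      · exact hq.one_lt.ne' (Nat.dvd_one.1 (cs_eq_one_iff.2 zx ▸ e))
      · exact hm (h x hx zx ▸ e)) hy py
  have key : ∀ q : ℕ, q.Prime → q ≠ r → ∀ y ∈ N, PE q y → N ≤ C[y] := by
    intro q hq hqr y hy py
    by_cases zy : y ∈ center G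
    · rw [cent_eq_top_iff.2 zy]; exact le_top
    obtain ⟨v, hv, zv, pv⟩ := ce_exists_pe hr.out px zx ((h x (hRN hx) zx).trans (h y hy zy).symm)
    have h1 : ∀ a ∈ N, ∀ b ∈ N, PE r a → PE q b → Commute a b → a * b ∉ center G → cs (a * b) = m :=
      fun a ha b hb _ _ _ hz => h _ (mul_mem ha hb) hz
    by_cases hrm : r ∣ m
    · exact hd q hq (ce_W hr.out hq hqr.symm h1 (hN v pv) hy pv py zv zy (mem_cent_iff.1 hv) hrm) y hy py
    · exact (hd r hr.out hrm v (hN v pv) pv).trans ((ce_cn hr.out hq hqr.symm h1 (hN v pv) hy pv py zv zy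
        (mem_cent_iff.1 hv)).eq v ⟨hv, hN v pv⟩ pv zv)
  have h2 : ∀ (q : ℕ) [Fact q.Prime], q ≠ r → ∀ T, SylowIn q T N → T ≤ 𝐂 N := fun q hq hqr T hT y hy =>
    le_cent_iff.1 (key q hq.out hqr y (hT.le hy) (isPGroup_zpowers_of_mem hT.isPGroup hy))
  haveI : Group.IsNilpotent (R : Subgroup G) := R.isPGroup'.isNilpotent
  haveI : Group.IsNilpotent (N ⊓ 𝐂 N : Subgroup G) := by
    haveI : IsMulCommutative (N ⊓ 𝐂 N : Subgroup G) := le_centralizer_iff_isMulCommutative.1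
      (inf_le_right.trans (centralizer_le (inf_le_left : N ⊓ 𝐂 N ≤ N)))
    exact isNilpotent_of_isMulCommutative _
  have h3 : N = (N ⊓ 𝐂 N) ⊔ (R : Subgroup G) := by
    refine le_antisymm (Coprime.le_of_forall_sylowIn fun q _ _ => ?_) (sup_le inf_le_left hRN)
    by_cases hqr : q = r
    · subst hqr; exact ⟨R, sylowIn_of_le R hRN, le_sup_right⟩
    · obtain ⟨T, hT⟩ := exists_sylowIn (p := q) N
      exact ⟨T, hT, (le_inf hT.le (h2 q hqr T hT)).trans le_sup_left⟩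
  rw [h3]
  exact isNilpotent_sup_of_le_centralizer (inf_le_right.trans (centralizer_le hRN))

theorem ce_sup_center {p : ℕ} [Fact p.Prime] (P : Sylow p G)
    (h : ∀ q : ℕ, q.Prime → q ≠ p → ∀ x : G, ¬ q ∣ cs x) : center G ⊔ (P : Subgroup G) = ⊤ := by
  refine eq_top_of_forall_sylow_le fun q hq _ => ?_
  by_cases hqp : q = p
  · subst hqp; exact ⟨P, le_sup_right⟩
  · obtain ⟨Q⟩ : Nonempty (Sylow q G) := inferInstance
    exact ⟨Q, (sylow_le_center_of_forall_not_dvd Q (h q hq.out hqp)).trans le_sup_left⟩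

theorem ce_normal_of_sup {H : Subgroup G} (h : center G ⊔ H = ⊤) : H.Normal := by
  rw [← normalizer_eq_top_iff, eq_top_iff, ← h]
  exact sup_le ((center_le_centralizer _).trans (centralizer_le_normalizer _)) le_normalizer

theorem ce_nil_of_sup {H : Subgroup G} [Group.IsNilpotent H] (h : center G ⊔ H = ⊤) :
    Group.IsNilpotent G := by
  haveI : Group.IsNilpotent (center G) := isNilpotent_of_isMulCommutative _
  have := isNilpotent_sup_of_le_centralizer (H := center G) (K := H) (center_le_centralizer _)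
  rw [h] at this
  exact Group.nilpotent_of_mulEquiv Subgroup.topEquiv

/-- **Itô**: the class size is a prime power. -/
theorem ce_ito {n : ℕ} (h : ∀ x : G, x ∉ center G → cs x = n) {x : G} (hx : x ∉ center G) :
    ∃ p : ℕ, p.Prime ∧ ∃ a, n = p ^ a := by
  obtain ⟨p, hp, y, -, py, zy⟩ := exists_pPart_not_mem hx
  have h0 : n ≠ 0 := h x hx ▸ cs_ne_zero x
  by_cases hpn : p ∣ n
  · refine ⟨p, hp, _, Nat.eq_prime_pow_of_unique_prime_dvd h0 fun {q} hq hqn => ?_⟩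
    by_contra hqp
    haveI := Fact.mk hq
    obtain ⟨Q⟩ : Nonempty (Sylow q G) := inferInstance
    obtain ⟨z, hz, zz⟩ := SetLike.not_le_iff_exists.1 fun e =>
      not_dvd_cs_of_sylow_le_center Q e x (h x hx ▸ hqn)
    obtain ⟨v, hv, zv, pv⟩ := ce_exists_pe hq (isPGroup_zpowers_of_mem Q.isPGroup' hz) zz
      ((h z zz).trans (h y zy).symm)
    exact ce_W (N := ⊤) hq hp hqp (fun a _ b _ _ _ _ hz => h _ hz) (mem_top v) (mem_top y) pv py zv zy
      (mem_cent_iff.1 hv) hqn hpn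
  · refine absurd (cent_eq_top_iff.1 (top_le_iff.1 (ce_central (N := ⊤) hp (fun g _ e => ?_)
      (mem_top y) py))) zy
    by_cases zg : g ∈ center G
    · exact hp.one_lt.ne' (Nat.dvd_one.1 (cs_eq_one_iff.2 zg ▸ e))
    · exact hpn (h g zg ▸ e)

end Cfsg.Lib.Hall
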