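import Cfsg.Agent.Lib.Hall.MaxA

/-! Elements of prime power class size and the hypercentre (Cossey–Hawkes–Mann). -/

set_option autoImplicit false
set_option linter.unusedSectionVars false

namespace Cfsg.Lib.Hall
open Subgroup Cfsg.Lib.Core Cfsg.Lib.Amalg Cfsg.Lib.BG1

universe u

theorem cs_dvd_mul_of_le_center {G : Type*} [Group G] [Finite G] {N : Subgroup G} [N.Normal] (h : N ≤ center G)
    (x : G) : cs x ∣ Nat.card N * cs (x : G ⧸ N) := by
  let C := (centralizer {(x : G ⧸ N)}).comap (QuotientGroup.mk' N)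
  have h1 : ∀ g ∈ C, g * x * g⁻¹ * x⁻¹ ∈ N := fun g hg => by
    rw [← QuotientGroup.eq_one_iff]
    have : (g : G ⧸ N) * x = x * g := mem_cent_iff.1 hg
    simp [this]
  let f : C →* N := MonoidHom.mk' (fun g => ⟨_, h1 g g.2⟩) fun a b => Subtype.ext (by
    have := mem_center_iff.1 (h (h1 b b.2)) (x * (a : G)⁻¹ * x⁻¹)
    simp only [coe_mul, mul_assoc, mul_inv_rev, inv_mul_cancel_left] at this ⊢
    rw [this])
  have h2 : f.ker = (centralizer {x}).subgroupOf C := by
    ext g
    rw [MonoidHom.mem_ker, Subtype.ext_iff, mem_subgroupOf, mem_cent_iff]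
    exact mul_inv_eq_one.trans mul_inv_eq_iff_eq_mul
  rw [← relIndex_mul_index (show centralizer {x} ≤ C from map_le_iff_le_comap.1 (map_cent_le _ x)), index_comap_mk',
    relIndex, ← h2, index_ker]
  exact mul_dvd_mul_right (card_subgroup_dvd_card _) _

theorem card_cs_eq_sum (G : Type*) [Group G] [Finite G] [Fintype (ConjClasses G)] (Q : ℕ → Prop) [DecidablePred Q] :
    Nat.card {x : G // Q (cs x)} =
      ∑ C : ConjClasses G, if Q (Nat.card C.carrier) then Nat.card C.carrier else 0 := by
  rw [Invol.card_eq_sum_fibers _ ConjClasses.mk]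
  refine Finset.sum_congr rfl fun C _ => ?_
  have h : ∀ x : G, ConjClasses.mk x = C → cs x = Nat.card C.carrier := fun x e => by rw [← e, card_carrier_mk]
  split_ifs with e
  · exact Invol.card_congr_iff fun x => by
      rw [ConjClasses.mem_carrier_iff_mk_eq]
      exact ⟨And.right, fun e' => ⟨(h x e').symm ▸ e, e'⟩⟩
  · exact Invol.card_eq_zero_of_forall fun x hx => e (h x hx.2 ▸ hx.1)

theorem card_cs_congr {G H : Type*} [Group G] [Finite G] [Group H] [Finite H]
    (h : ∀ k : ℕ, Nat.card {C : ConjClasses G // Nat.card C.carrier = k} =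
      Nat.card {C : ConjClasses H // Nat.card C.carrier = k}) (Q : ℕ → Prop) :
    Nat.card {x : G // Q (cs x)} = Nat.card {x : H // Q (cs x)} := by
  classical
  haveI := Fintype.ofFinite (ConjClasses G)
  haveI := Fintype.ofFinite (ConjClasses H)
  rw [card_cs_eq_sum, card_cs_eq_sum]
  let e := Equiv.ofFiberEquiv fun k => (Finite.card_eq.1 (h k)).some
  exact Fintype.sum_equiv e _ _ fun C => by
    rw [show Nat.card (e C).carrier = Nat.card C.carrier from
      Equiv.ofFiberEquiv_map (fun k => (Finite.card_eq.1 (h k)).some) C]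

theorem dvd_card_cs_noncentral {G : Type*} [Group G] [Finite G] {p : ℕ} :
    p ∣ Nat.card {x : G // IsPiNumber {p} (cs x) ∧ x ∉ center G} := by
  refine Small.dvd_card_of_orbits (H := ConjAct G) _ (fun g x hx => ?_) fun x hx => ?_
  · have : cs (g • x) = cs x := cs_conj _ x
    rw [← cs_eq_one_iff] at hx ⊢
    rwa [this]
  · rw [ConjAct.orbit_eq_carrier_conjClasses, card_carrier_mk]
    obtain ⟨q, hq, h⟩ := Nat.exists_prime_and_dvd (mt cs_eq_one_iff.1 hx.2)
    exact hx.1 q hq h ▸ h

theorem sylow_normal_of_dvd_card_cs {p : ℕ} [hp : Fact p.Prime] (n : ℕ) : ∀ (G : Type u) [Group G] [Finite G],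
    Nat.card G = n → ∀ P : Sylow p G, Nat.card P ∣ Nat.card {x : G // IsPiNumber {p} (cs x)} →
      (P : Subgroup G).Normal := by
  induction n using Nat.strong_induction_on with
  | _ n ih =>
    intro G _ _ e P h
    by_cases h0 : (P : Subgroup G) = ⊥
    · rw [h0]; infer_instance
    have h1 : p ∣ Nat.card (center G) := by
      have h1 := (dvd_card_of_isPGroup_le P.isPGroup' h0 le_rfl).trans h
      rw [Invol.card_split _ (· ∈ center G), Nat.dvd_add_left dvd_card_cs_noncentral] at h1
      rwa [Invol.card_congr_iff (q := (· ∈ center G)) fun x => and_iff_right_of_imp fun hx => by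
        rw [cs_eq_one_iff.2 hx]; exact isPiNumber_one] at h1
    obtain ⟨z, hz, h2⟩ := exists_mem_orderOf_eq_prime hp.out h1
    have h3 := zpowers_le.2 hz
    haveI : (zpowers z).Normal := ⟨fun a ha g => by rwa [mem_center_iff.1 (h3 ha) g, mul_inv_cancel_right]⟩
    have h4 : Nat.card (zpowers z) = p := by rw [Nat.card_zpowers, h2]
    have h5 : zpowers z ≤ P := (IsPGroup.of_card (h4.trans (pow_one p).symm)).le_sylow_of_normal P
    have h6 := ih _ (e ▸ card_quotient_lt fun e' => hp.out.one_lt.ne' (by rw [← h4, e', card_bot])) (G ⧸ zpowers z) rfl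
      (P.mapSurjective (QuotientGroup.mk'_surjective _)) (Nat.dvd_of_mul_dvd_mul_left Nat.card_pos (by
        have h6 := QuotientGroup.card_preimage_mk (zpowers z) {x | IsPiNumber {p} (cs x)}
        have h7 := QuotientGroup.card_preimage_mk (zpowers z)
          (((P : Subgroup G).map (QuotientGroup.mk' (zpowers z)) : Subgroup _) : Set _)
        have h8 : ((P : Subgroup G).map (QuotientGroup.mk' (zpowers z))).comap (QuotientGroup.mk' _) = P := by
          rw [comap_map_eq_self (by rwa [QuotientGroup.ker_mk'])]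
        refine (h7.symm.trans (congrArg (fun K : Subgroup G => Nat.card K) h8)).dvd.trans (h.trans
          (Eq.dvd (Eq.trans (Invol.card_congr_iff fun x => ⟨fun h => h.of_dvd (cs_mk_dvd _ x), fun h => ?_⟩) h6)))
        exact (IsPiNumber.mul (fun q hq hd => (Nat.prime_dvd_prime_iff_eq hq hp.out).1 (h4 ▸ hd)) h).of_dvd
          (cs_dvd_mul_of_le_center h3 x)))
    rw [← comap_map_eq_self (f := QuotientGroup.mk' (zpowers z)) (H := P) (by rwa [QuotientGroup.ker_mk'])]
    exact h6.comap _

theorem dvd_card_cs_of_nilpotent {G : Type*} [Group G] [Finite G] [Group.IsNilpotent G] {p : ℕ} [hp : Fact p.Prime]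
    (P : Sylow p G) : Nat.card P ∣ Nat.card {x : G // IsPiNumber {p} (cs x)} := by
  have h := isPiHall_piCore_of_nilpotent (G := G) {p}ᶜ
  rw [Invol.card_congr_iff (q := (· ∈ 𝐂(piCore {p}ᶜ G))) fun x => ⟨fun hx => le_cent_iff.1
    (le_of_le_normalizer_of_coprime_relIndex le_top le_top le_normalizer_of_normal (by
      rw [relIndex_top_right]; exact (hx.coprime_compl h.1).symm)),
    fun hx => IsPiNumber.of_dvd ((isPiHall_iff.1 h).2.mono (compl_compl _).le) (cs_dvd_index_of_le (le_cent_iff.2 hx))⟩]
  exact card_dvd_of_le (le_centralizer_of_coprime_of_nilpotent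
    (((isPGroup_iff_isPiNumber hp.out).1 P.isPGroup').coprime_compl h.1))

end Cfsg.Lib.Hall
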