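import Cfsg.Agent.Lib.Hall.Deg7

/-!
# Non-solvable transitive groups of degree 11
-/

set_option autoImplicit false
set_option linter.dupNamespace false

namespace Cfsg.Lib.Hall
open MulAction Cfsg.Lib.Perm

variable {α : Type*} [Fintype α] [DecidableEq α] {G : Subgroup (Equiv.Perm α)}

theorem exists_pow_order_of_pgroup {H : Type*} [Group H] {r : ℕ} [hr : Fact r.Prime]
    {W : Subgroup H} (hW : IsPGroup r W) {w : H} (hw : w ∈ W) (h1 : w ≠ 1) :
    ∃ k : ℕ, orderOf (w ^ k) = r := by
  obtain ⟨n, hn⟩ := (IsPGroup.iff_orderOf.1 hW) ⟨w, hw⟩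
  rw [Subgroup.orderOf_mk] at hn
  rcases n with _ | n
  · exact absurd (orderOf_eq_one_iff.1 hn) h1
  · refine ⟨r ^ n, ?_⟩
    rw [orderOf_pow' _ (pow_pos hr.out.pos n).ne', hn, Nat.gcd_eq_right (pow_dvd_pow r n.le_succ),
      pow_succ, Nat.mul_div_cancel_left _ (pow_pos hr.out.pos n)]

theorem smul_mem_supp {h w : G} (hw : w * h = h * w) {x : α}
    (hx : x ∈ (h : Equiv.Perm α).support) : w • x ∈ (h : Equiv.Perm α).support := by
  rw [mem_supp] at hx ⊢
  rwa [← mul_smul, ← hw, mul_smul, Ne, smul_left_cancel_iff]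

theorem no_supp_six (hα : Fintype.card α = 11) {r : ℕ} (hr23 : r = 2 ∨ r = 3) {h : G}
    (ho : orderOf h = r) (h6 : (h : Equiv.Perm α).support.card = 6)
    (hmin : ∀ g : G, orderOf g = r → 6 ≤ (g : Equiv.Perm α).support.card)
    (hbig : ∀ s : Finset α, s.card = 5 - r → r ^ 2 ∣ Nat.card (fixingSubgroup G (s : Set α)))
    (h5 : ∀ g : G, orderOf g = 5 → (g : Equiv.Perm α).support.card = 10) : False := by
  have hr : Fact r.Prime := ⟨by rcases hr23 with rfl | rfl <;> norm_num⟩
  have h5p : Fact (Nat.Prime 5) := ⟨by norm_num⟩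
  set F := (h : Equiv.Perm α).supportᶜ with hF
  have hFc : F.card = 5 := by rw [Finset.card_compl, hα, h6]
  have hFm : ∀ x, x ∈ F ↔ h • x = x := fun x => by rw [Finset.mem_compl, mem_supp, not_not]
  have hinv : ∀ w : G, w * h = h * w → ∀ x ∈ F, w • x ∈ F := fun w hw x hx => by
    rw [hFm] at hx ⊢
    rw [← mul_smul, ← hw, mul_smul, hx]
  have htr : ∀ a ∈ F, ∀ b ∈ F, ∃ w : G, w * h = h * w ∧ w • a = b := by
    intro a ha b hb
    by_cases hab : a = b
    · exact ⟨1, by simp, by simp [hab]⟩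
    obtain ⟨s, hs1, hs2⟩ := Finset.exists_subset_card_eq (s := (F.erase a).erase b) (n := 5 - r) (by
      rw [Finset.card_erase_of_mem (Finset.mem_erase.2 ⟨Ne.symm hab, hb⟩),
        Finset.card_erase_of_mem ha, hFc]
      omega)
    have hsF : s ⊆ F := hs1.trans ((Finset.erase_subset _ _).trans (Finset.erase_subset _ _))
    have hh : h ∈ fixingSubgroup G (s : Set α) :=
      (mem_fixingSubgroup_iff G).2 fun x hx => (hFm x).1 (hsF hx)
    obtain ⟨W₀, hW1, hW2⟩ := Sylow.exists_subgroup_card_pow_succ (n := 1) (hbig s hs2)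
      (H := Subgroup.zpowers ⟨h, hh⟩) (by rw [Nat.card_zpowers, Subgroup.orderOf_mk, ho, pow_one])
    let W := W₀.map (fixingSubgroup G (s : Set α)).subtype
    have hWc : Nat.card W = r ^ 2 := by
      rw [Subgroup.card_map_of_injective (Subgroup.subtype_injective _), hW1]
    have hWp : IsPGroup r W := IsPGroup.of_card hWc
    have hhW : h ∈ W := ⟨⟨h, hh⟩, hW2 (Subgroup.mem_zpowers _), rfl⟩
    have hWs : ∀ w ∈ W, ∀ x ∈ s, w • x = x := fun w hw =>
      (mem_fixingSubgroup_iff G).1 (Subgroup.map_subtype_le _ hw)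
    have hWh : ∀ w ∈ W, w * h = h * w := fun w hw => congrArg Subtype.val
      ((IsPGroup.isMulCommutative_of_card_eq_prime_sq hWc).1.1 ⟨w, hw⟩ ⟨h, hhW⟩)
    have hT : (F \ s).card = r := by
      rw [Finset.card_sdiff_of_subset hsF, hFc, hs2]; omega
    have hWT : ∀ w ∈ W, ∀ x ∈ F \ s, w • x ∈ F \ s := fun w hw x hx => by
      rw [Finset.mem_sdiff] at hx ⊢
      refine ⟨hinv w (hWh w hw) x hx.1, fun h1 => hx.2 ?_⟩
      have := hWs w hw _ h1
      rwa [smul_left_cancel w this] at h1
    have haT : a ∈ F \ s := Finset.mem_sdiff.2 ⟨ha, fun h1 => by simpa using hs1 h1⟩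
    have hbT : b ∈ F \ s := Finset.mem_sdiff.2 ⟨hb, fun h1 => by simpa using hs1 h1⟩
    by_contra hc
    have hfa : ∀ w ∈ W, w • a = a := fix_of_orbit_small hWp (T := (F \ s).erase b)
      (fun w hw => Finset.mem_erase.2 ⟨fun e => hc ⟨w, hWh w hw, e⟩, hWT w hw a haT⟩)
      (by rw [Finset.card_erase_of_mem hbT, hT]; exact Nat.sub_one_lt hr.out.ne_zero)
    have hfF : ∀ x ∈ F, ∀ w ∈ W, w • x = x := fun x hx => by
      by_cases h1 : x ∈ s
      · exact fun w hw => hWs w hw x h1
      by_cases h2 : x = a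
      · exact h2 ▸ hfa
      exact fix_of_orbit_small hWp (T := (F \ s).erase a)
        (fun w hw => Finset.mem_erase.2 ⟨fun e => h2 (smul_left_cancel w (e.trans (hfa w hw).symm)),
          hWT w hw x (Finset.mem_sdiff.2 ⟨hx, h1⟩)⟩)
        (by rw [Finset.card_erase_of_mem haT, hT]; exact Nat.sub_one_lt hr.out.ne_zero)
    let S : SubMulAction W α := ⟨(h : Equiv.Perm α).support, fun w x hx =>
      smul_mem_supp (hWh w w.2) hx⟩
    have h7 := card_dvd_of_semiregular (G := W) (α := S) fun z => by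
      rw [eq_bot_iff]
      intro w hw
      by_contra h1
      obtain ⟨k, hk⟩ := exists_pow_order_of_pgroup hWp w.2 (fun e => h1 (Subtype.ext e))
      have h2 := hmin _ hk
      have h3 := supp_add_le (g := (w : G) ^ k) (s := insert z.1 F)
        (Subgroup.pow_mem _ ((mem_fixingSubgroup_iff G).2 fun x hx => by
          rcases Finset.mem_insert.1 hx with rfl | hx
          · exact congrArg Subtype.val hw
          · exact hfF x hx w w.2) k)
      rw [Finset.card_insert_of_notMem (fun h4 => Finset.mem_compl.1 h4 z.2), hFc, hα] at h3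
      omega
    rw [hWc, show Nat.card S = 6 from (Nat.card_eq_finsetCard _).trans h6] at h7
    rcases hr23 with rfl | rfl <;> norm_num at h7
  obtain ⟨a, ha⟩ : F.Nonempty := Finset.card_pos.1 (by omega)
  let C := Subgroup.centralizer ({h} : Set G)
  have hC : ∀ w, w ∈ C ↔ w * h = h * w := fun w => Subgroup.mem_centralizer_singleton_iff
  have h8 : orbit C a = F := by
    ext b
    exact ⟨by rintro ⟨w, rfl⟩; exact hinv w ((hC w).1 w.2) a ha, fun hb =>
      let ⟨w, h1, h2⟩ := htr a ha b hb; ⟨⟨w, (hC w).2 h1⟩, h2⟩⟩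
  have h9 := (stabilizer C a).index_dvd_card
  rw [index_stabilizer, h8, Set.ncard_coe_finset, hFc] at h9
  obtain ⟨q, hq⟩ := exists_prime_orderOf_dvd_card' 5 h9
  rw [← Subgroup.orderOf_coe] at hq
  have hQ : IsPGroup 5 (Subgroup.zpowers (q : G)) :=
    IsPGroup.of_card (n := 1) (by rw [Nat.card_zpowers, hq, pow_one])
  have hQC : ∀ w ∈ Subgroup.zpowers (q : G), w * h = h * w := fun w hw =>
    (hC w).1 (Subgroup.zpowers_le.2 q.2 hw)
  obtain ⟨z, hz, hz'⟩ := exists_fixed_of_not_dvd hQ ((h : Equiv.Perm α).support : Set α)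
    (fun w hw x hx => smul_mem_supp (hQC w hw) hx)
    (by rw [show Nat.card ((h : Equiv.Perm α).support : Set α) = 6 from
      (Nat.card_eq_finsetCard _).trans h6]; norm_num)
  have h10 := hz' q (Subgroup.mem_zpowers _)
  have h11 := supp_add_le (g := (q : G)) (s := {z, h • z}) ((mem_fixingSubgroup_iff G).2
    fun x hx => by
      simp only [Finset.coe_insert, Finset.coe_singleton, Set.mem_insert_iff,
        Set.mem_singleton_iff] at hx
      rcases hx with rfl | rfl
      · exact h10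
      · rw [← mul_smul, (hC q).1 q.2, mul_smul, h10])
  rw [Finset.card_pair (mem_supp.1 hz).symm, h5 _ hq, hα] at h11
  omega

theorem no_small_inv (hα : Fintype.card α = 11) (h3 : IsMultiplyPretransitive G α 3)
    (hn : ∀ s : Finset α, s.card = 3 → ¬ 3 ∣ Nat.card (fixingSubgroup G (s : Set α)))
    {t : G} (ho : orderOf t = 2) : 5 ≤ (t : Equiv.Perm α).support.card := by
  by_contra hc
  have htt : t * t = 1 := by rw [← pow_two, ← ho, pow_orderOf_eq_one]
  have htt' : ∀ x : α, t • t • x = x := fun x => by rw [← mul_smul, htt, one_smul]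
  obtain ⟨a, ha⟩ : (t : Equiv.Perm α).support.Nonempty := by
    rw [Finset.nonempty_iff_ne_empty, Ne, Equiv.Perm.support_eq_empty_iff]
    intro e
    rw [show t = 1 from Subtype.ext e, orderOf_one] at ho
    omega
  obtain ⟨f, hf⟩ : (t : Equiv.Perm α).supportᶜ.Nonempty :=
    Finset.card_pos.1 (by rw [Finset.card_compl]; omega)
  rw [Finset.mem_compl, mem_supp, not_not] at hf
  have ha' := mem_supp.1 ha
  have h1 : a ≠ f := fun e => ha' (e ▸ hf)
  have h2 : t • a ≠ f := fun e => h1 (smul_left_cancel t (e.trans hf.symm))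
  obtain ⟨g, g1, g2, g3⟩ := three_iff.1 h3 a (t • a) f a f (t • a) ha'.symm h1 h2 h1 ha'.symm h2.symm
  let u := t * (g * t * g⁻¹)
  have u1 : u • a = f := by
    simp only [u, mul_smul]; rw [inv_smul_eq_iff.2 g1.symm, g2, hf]
  have u2 : u • f = t • a := by
    simp only [u, mul_smul]; rw [inv_smul_eq_iff.2 g2.symm, htt', g1]
  have u3 : u • t • a = a := by
    simp only [u, mul_smul]; rw [inv_smul_eq_iff.2 g3.symm, hf, g3, htt']
  have h4 : 3 ∣ orderOf u := by
    have h5 : Function.minimalPeriod (u • ·) a = 3 := by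
      have : Fact (Nat.Prime 3) := ⟨by norm_num⟩
      refine Function.minimalPeriod_eq_prime ?_ fun e => h1 (e.symm.trans u1)
      change u • u • u • a = a
      rw [u1, u2, u3]
    rw [← h5]
    exact period_dvd_orderOf u a
  let B := (t : Equiv.Perm α).support ∪ (t : Equiv.Perm α).support.image (g • ·)
  have hB : B.card ≤ 8 := (Finset.card_union_le _ _).trans (by
    have := Finset.card_image_le (s := (t : Equiv.Perm α).support) (f := (g • ·))
    omega)
  obtain ⟨s, hs1, hs2⟩ := Finset.exists_subset_card_eq (s := Bᶜ) (n := 3) (by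
    rw [Finset.card_compl]; omega)
  refine hn s hs2 (h4.trans (Subgroup.orderOf_dvd_natCard _ ((mem_fixingSubgroup_iff G).2
    fun x hx => ?_)))
  have h5 := Finset.mem_compl.1 (hs1 hx)
  rw [Finset.mem_union, not_or, mem_supp, not_not] at h5
  have h6 : t • g⁻¹ • x = g⁻¹ • x := by
    by_contra h7
    exact h5.2 (Finset.mem_image.2 ⟨_, mem_supp.2 h7, smul_inv_smul g x⟩)
  simp only [u, mul_smul]
  rw [h6, smul_inv_smul, h5.1]

theorem arith11 {g e d n : ℕ} (h10 : e * 110 = g) (h13 : e ∣ 1152) (h1 : d ∣ 11 - 1) (h3 : d ≠ 1)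
    (h4 : n % 11 = 1) (h5 : g = 11 * d * n) (h12 : Even d → 9 ∣ g) (hle : 3960 ∣ g → g ≤ 7920) :
    g = 660 ∨ g = 990 ∨ g = 7920 := by
  have h14 : d ≤ 10 := Nat.le_of_dvd (by norm_num) h1
  have h15 : d = 2 ∨ d = 5 ∨ d = 10 := by
    clear h5 h12
    interval_cases d <;> simp_all
  have h16 := Nat.mem_divisors.2 ⟨h13, by norm_num⟩
  rw [show Nat.divisors 1152 = {1, 2, 3, 4, 6, 8, 9, 12, 16, 18, 24, 32, 36, 48, 64, 72, 96, 128,
    144, 192, 288, 384, 576, 1152} by decide +kernel] at h16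
  simp only [Finset.mem_insert, Finset.mem_singleton] at h16
  rw [Nat.even_iff] at h12
  clear h13
  rcases h15 with rfl | rfl | rfl <;>
  rcases h16 with rfl | rfl | rfl | rfl | rfl | rfl | rfl | rfl | rfl | rfl | rfl | rfl | rfl | rfl
    | rfl | rfl | rfl | rfl | rfl | rfl | rfl | rfl | rfl | rfl <;> omega

variable [IsPretransitive G α]

theorem eleven_aux (hα : Fintype.card α = 11) (hG : ¬ Group.IsSolvable G)
    (hA : ¬ alternatingGroup α ≤ G) : Nat.card G = 660 ∨ Nat.card G = 990 ∨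
      (Nat.card G = 7920 ∧ ∀ s : Finset α, s.card = 4 → fixingSubgroup G (s : Set α) = ⊥) := by
  have : Fact (Nat.Prime 11) := ⟨by norm_num⟩
  have hprim := prim_of_prime (G := G) hα
  obtain ⟨h2, d, n, h1, h3, h4, h5, h6⟩ := count_nonsolv hα hG
  have hs : ∀ k ≤ 11, ∃ s : Finset α, s.card = k := fun k hk =>
    let ⟨s, _, h⟩ := Finset.exists_subset_card_eq (s := Finset.univ) (by simpa [hα] using hk)
    ⟨s, h⟩
  have hJ : ∀ (g : G) (q : ℕ), q.Prime → q ≤ 8 → orderOf g = q →
      2 * q ≤ (g : Equiv.Perm α).support.card ∧ q ∣ (g : Equiv.Perm α).support.card ∧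
      (g : Equiv.Perm α).support.card ≤ 11 := fun g q hq h8 hg =>
    ⟨jordan_supp hprim hA (by omega) hq (by omega) hg, dvd_supp hq hg,
      hα ▸ Finset.card_le_univ _⟩
  have h55 : ∀ g : G, orderOf g = 5 → (g : Equiv.Perm α).support.card = 10 := fun g hg => by
    have := hJ g 5 (by norm_num) (by norm_num) hg
    omega
  have hc2 : ∀ s : Finset α, s.card = 2 →
      Nat.card (fixingSubgroup G (s : Set α)) * 110 = Nat.card G := fun s hs2 => by
    have h10 := (fixingSubgroup G (s : Set α)).card_mul_index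
    rwa [fx_index_eq h2 s hs2, hα] at h10
  have hn3 : 9 ∣ Nat.card G → ∀ s : Finset α, s.card = 3 →
      ¬ 3 ∣ Nat.card (fixingSubgroup G (s : Set α)) := fun h9 s hs3 hd => by
    obtain ⟨g, g1, g2⟩ := exists_order_fx Nat.prime_three hd
    have e1 := hJ g 3 (by norm_num) (by norm_num) g1
    have e2 := supp_add_le g2
    refine no_supp_six hα (Or.inr rfl) g1 (by omega)
      (fun k hk => (hJ k 3 (by norm_num) (by norm_num) hk).1) (fun s hs => ?_) h55
    rw [← hc2 s hs] at h9
    exact Nat.Coprime.dvd_of_dvd_mul_right (by norm_num) h9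
  obtain ⟨s3, hs3⟩ := hs 3 (by norm_num)
  have hi3 := fx_index_le (G := G) s3
  have hc3 := (fixingSubgroup G (s3 : Set α)).card_mul_index
  rw [hα, hs3] at hi3
  have h110 : 110 ∣ (fixingSubgroup G (s3 : Set α)).index := by
    obtain ⟨s, hs1, hs2⟩ := Finset.exists_subset_card_eq (s := s3) (n := 2) (by omega)
    have := Subgroup.index_dvd_of_le (fixingSubgroup_antitone G α (Finset.coe_subset.2 hs1))
    rwa [fx_index_eq h2 s hs2, hα] at this
  have hi0 : (fixingSubgroup G (s3 : Set α)).index ≠ 0 := Subgroup.index_ne_zero_of_finite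
  have hpow : ∀ k, 2 ≤ k → 3 ^ k ∣ Nat.card G → 3 ^ k ∣ (fixingSubgroup G (s3 : Set α)).index :=
    fun k hk h => by
      have h9 := hn3 ((pow_dvd_pow 3 hk).trans h) s3 hs3
      rw [← hc3] at h
      exact (Nat.Coprime.pow_left k
        ((Nat.Prime.coprime_iff_not_dvd Nat.prime_three).2 h9)).dvd_of_dvd_mul_left h
  simp only [Nat.descFactorial] at hi3
  have h27 : ¬ 27 ∣ Nat.card G := fun h => by
    have := hpow 3 (by norm_num) h
    omega
  have ht3 : 9 ∣ Nat.card G → IsMultiplyPretransitive G α 3 := fun h => by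
    have := hpow 2 le_rfl h
    refine mt_of_fx_index s3 hs3 ?_
    simp only [hα, Nat.descFactorial]
    omega
  have hc3' : IsMultiplyPretransitive G α 3 → ∀ s : Finset α, s.card = 3 →
      Nat.card (fixingSubgroup G (s : Set α)) * 990 = Nat.card G := fun h s hs2 => by
    have h10 := (fixingSubgroup G (s : Set α)).card_mul_index
    rwa [fx_index_eq h s hs2, hα] at h10
  have hfin : 3960 ∣ Nat.card G → ∀ s : Finset α, s.card = 4 →
      fixingSubgroup G (s : Set α) = ⊥ := fun h s hs4 => by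
    have h9 : 9 ∣ Nat.card G := Dvd.dvd.trans (by norm_num) h
    by_contra hc
    obtain ⟨q, hq, hd⟩ := Nat.exists_prime_and_dvd (mt Subgroup.card_eq_one.1 hc)
    have h8 := hd.trans (fx_card_dvd s)
    rw [hα, hs4, hq.dvd_factorial] at h8
    obtain ⟨g, g1, g2⟩ := exists_order_fx hq hd
    have e1 := hJ g q hq (by omega) g1
    have e2 := supp_add_le g2
    have hq23 : q = 2 ∨ q = 3 := by have := hq.two_le; omega
    rcases hq23 with rfl | rfl
    · have hmin : ∀ k : G, orderOf k = 2 → 6 ≤ (k : Equiv.Perm α).support.card := fun k hk => by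
        have := no_small_inv hα (ht3 h9) (hn3 h9) hk
        have := hJ k 2 (by norm_num) (by norm_num) hk
        omega
      have := hmin g g1
      refine no_supp_six hα (Or.inl rfl) g1 (by omega) hmin (fun s hs => ?_) h55
      have := hc3' (ht3 h9) s hs
      omega
    · obtain ⟨s', hs1, hs2⟩ := Finset.exists_subset_card_eq (s := s) (n := 3) (by omega)
      exact hn3 h9 s' hs2 (hd.trans (Subgroup.card_dvd_of_le
        (fixingSubgroup_antitone G α (Finset.coe_subset.2 hs1))))
  have hle : 3960 ∣ Nat.card G → Nat.card G ≤ 7920 := fun h => by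
    obtain ⟨s4, hs4⟩ := hs 4 (by norm_num)
    have h8 := fx_index_le (G := G) s4
    rwa [hfin h s4 hs4, Subgroup.index_bot, hα, hs4] at h8
  obtain ⟨s2, hs2⟩ := hs 2 (by norm_num)
  have h10 := hc2 s2 hs2
  have h11 := fx_card_dvd (G := G) s2
  rw [hα, hs2] at h11
  have h57 : ∀ q, q = 5 ∨ q = 7 → ¬ q ∣ Nat.card (fixingSubgroup G (s2 : Set α)) := fun q hq hd => by
    have := jordan_fx hprim hA (by omega) (by rcases hq with rfl | rfl <;> norm_num) (by omega) hd
    omega
  have h12 : Even d → 9 ∣ Nat.card G := fun h => by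
    have := hc3' (h6 h) s3 hs3
    omega
  have h13 : Nat.card (fixingSubgroup G (s2 : Set α)) ∣ 1152 := by
    have e1 : Nat.card (fixingSubgroup G (s2 : Set α)) ∣ 10368 := by
      refine Nat.Coprime.dvd_of_dvd_mul_right (n := 35) ?_ h11
      exact Nat.Coprime.mul_right (m := 5) (n := 7)
        (((Nat.Prime.coprime_iff_not_dvd (by norm_num)).2 (h57 5 (Or.inl rfl))).symm)
        (((Nat.Prime.coprime_iff_not_dvd (by norm_num)).2 (h57 7 (Or.inr rfl))).symm)
    have e2 : ¬ 27 ∣ Nat.card (fixingSubgroup G (s2 : Set α)) := fun h =>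
      h27 (h.trans (Subgroup.card_subgroup_dvd_card _))
    exact (by decide +kernel : ∀ e ∈ Nat.divisors 10368, ¬ 27 ∣ e → e ∣ 1152) _
      (Nat.mem_divisors.2 ⟨e1, by norm_num⟩) e2
  rcases arith11 h10 h13 h1 h3 h4 h5 h12 hle with h | h | h
  · exact Or.inl h
  · exact Or.inr (Or.inl h)
  · exact Or.inr (Or.inr ⟨h, hfin (by rw [h]; norm_num)⟩)

theorem eleven (hα : Fintype.card α = 11) (hG : ¬ Group.IsSolvable G)
    (hA : ¬ alternatingGroup α ≤ G) : (Nat.card G = 660 ∧ IsSimpleGroup G) ∨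
      (IsMultiplyPretransitive G α 4 ∧ ∀ x : Fin 4 ↪ α, stabilizer G x = ⊥) := by
  have : Fact (Nat.Prime 11) := ⟨by norm_num⟩
  have key := descend hα (fun k => k = 660 ∨ k = 990 ∨ k = 7920)
    (fun H _ h3 h4 => (eleven_aux hα h3 h4).imp id (Or.imp id And.left)) hG hA
  rcases eleven_aux hα hG hA with h | h | ⟨h, h1⟩
  · refine Or.inl ⟨h, simple_of_descend hα hG fun M _ hM => ?_⟩
    have := key M hM
    omega
  · exfalso
    obtain ⟨M, hM, h2⟩ := exists_half_card (m := 495) h (by decide)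
    have := key M (by
      rintro rfl
      rw [Subgroup.card_bot] at h2
      omega)
    omega
  · right
    obtain ⟨s, -, hs⟩ := Finset.exists_subset_card_eq (s := (Finset.univ : Finset α)) (n := 4)
      (by simp [hα])
    refine ⟨mt_of_fx_index s hs (by rw [h1 s hs, Subgroup.index_bot, h, hα]; rfl), fun x => ?_⟩
    exact (stabilizer_emb x).trans (h1 _ (by simp))

end Cfsg.Lib.Hall
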