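import Cfsg.Agent.S0675
import Cfsg.Agent.S0676
import Cfsg.Agent.S0713
import Mathlib.GroupTheory.Transfer

/-!
# Non-solvable transitive groups of small prime degree
-/

set_option autoImplicit false
set_option linter.dupNamespace false

namespace Cfsg.Lib.Hall
open MulAction Cfsg.Lib.Perm

section General
variable {G : Type*} [Group G] {α : Type*} [MulAction G α]

theorem exists_emb {k : ℕ} (s : Finset α) (h : s.card = k) :
    ∃ x : Fin k ↪ α, stabilizer G x = fixingSubgroup G (s : Set α) := by
  let e := (s.equivFinOfCardEq h).symm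
  refine ⟨e.toEmbedding.trans (Function.Embedding.subtype _), ?_⟩
  ext g
  rw [mem_stabilizer_iff, mem_fixingSubgroup_iff]
  constructor
  · intro h1 y hy
    obtain ⟨i, hi⟩ := e.surjective ⟨y, hy⟩
    have := congrArg (fun f : Fin k ↪ α => f i) h1
    change g • (e i : α) = e i at this
    rwa [hi] at this
  · intro h1
    ext i
    exact h1 _ (e i).2

theorem stabilizer_emb [DecidableEq α] {k : ℕ} (x : Fin k ↪ α) :
    stabilizer G x = fixingSubgroup G ((Finset.univ.map x : Finset α) : Set α) := by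
  ext g
  rw [mem_stabilizer_iff, mem_fixingSubgroup_iff]
  constructor
  · intro h1 y hy
    obtain ⟨i, -, rfl⟩ := Finset.mem_map.1 hy
    exact congrArg (fun f : Fin k ↪ α => f i) h1
  · intro h1
    ext i
    exact h1 _ (Finset.mem_map_of_mem x (Finset.mem_univ i))

variable [Fintype α]

theorem card_emb (k : ℕ) : Nat.card (Fin k ↪ α) = (Fintype.card α).descFactorial k := by
  classical
  rw [Nat.card_eq_fintype_card, Fintype.card_embedding_eq, Fintype.card_fin]

theorem fx_index_le (s : Finset α) :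
    (fixingSubgroup G (s : Set α)).index ≤ (Fintype.card α).descFactorial s.card := by
  obtain ⟨x, hx⟩ := exists_emb (G := G) s rfl
  rw [← hx, index_stabilizer, ← card_emb]
  exact Set.ncard_le_card _

theorem fx_index_eq {k : ℕ} (h : IsMultiplyPretransitive G α k) (s : Finset α) (hs : s.card = k) :
    (fixingSubgroup G (s : Set α)).index = (Fintype.card α).descFactorial k := by
  obtain ⟨x, hx⟩ := exists_emb (G := G) s hs
  rw [← hx, index_stabilizer_of_transitive, card_emb]

theorem mt_of_fx_index {k : ℕ} (s : Finset α) (hs : s.card = k)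
    (h : (fixingSubgroup G (s : Set α)).index = (Fintype.card α).descFactorial k) :
    IsMultiplyPretransitive G α k := by
  obtain ⟨x, hx⟩ := exists_emb (G := G) s hs
  rw [← hx, index_stabilizer, ← card_emb] at h
  exact (isPretransitive_iff_orbit_eq_univ x).2
    (Set.eq_of_subset_of_ncard_le (Set.subset_univ _) (by rw [h, Set.ncard_univ]))

omit [Fintype α] in
theorem fix_of_orbit_small {r : ℕ} [hr : Fact r.Prime] {W : Subgroup G} (hW : IsPGroup r W)
    [Finite W] {x : α} {T : Finset α} (h : ∀ w ∈ W, w • x ∈ T) (hT : T.card < r) :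
    ∀ w ∈ W, w • x = x := by
  obtain ⟨n, hn⟩ := hW.index (stabilizer W x)
  have h1 : (orbit W x).ncard ≤ T.card := by
    rw [← Set.ncard_coe_finset]
    exact Set.ncard_le_ncard (by rintro _ ⟨w, rfl⟩; exact h w w.2)
  rw [← index_stabilizer, hn] at h1
  rcases n with _ | n
  · rw [pow_zero, Subgroup.index_eq_one] at hn
    exact fun w hw => (hn ▸ Subgroup.mem_top _ : (⟨w, hw⟩ : W) ∈ stabilizer W x)
  · have : r ≤ r ^ (n + 1) := Nat.le_self_pow (Nat.succ_ne_zero n) r
    omega

end General

theorem exists_half_card {G : Type*} [Group G] [Finite G] {m : ℕ} (h : Nat.card G = 2 * m)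
    (hm : Odd m) : ∃ M : Subgroup G, M.Normal ∧ Nat.card M = m := by
  obtain ⟨P⟩ : Nonempty (Sylow 2 G) := inferInstance
  have h1 : Nat.card P = 2 := by
    rw [P.card_eq_multiplicity, h, Nat.factorization_mul two_ne_zero hm.pos.ne',
      Finsupp.add_apply, Nat.prime_two.factorization_self,
      Nat.factorization_eq_zero_of_not_dvd hm.not_two_dvd_nat]
    rfl
  have h2 := IsCyclic.isComplement' (P := P) (by rw [h]; exact Nat.minFac_eq_two_iff _ |>.2 ⟨m, rfl⟩)
    (isCyclic_of_prime_card h1)
  have := h2.card_mul_card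
  rw [h1] at this
  exact ⟨_, MonoidHom.normal_ker _, Nat.eq_of_mul_eq_mul_right two_pos
    (this.trans (h.trans (mul_comm 2 m)))⟩

variable {α : Type*} [Fintype α] [DecidableEq α] {G : Subgroup (Equiv.Perm α)}

theorem mem_supp {g : G} {x : α} : x ∈ (g : Equiv.Perm α).support ↔ g • x ≠ x :=
  Equiv.Perm.mem_support

theorem supp_add_le {g : G} {s : Finset α} (h : g ∈ fixingSubgroup G (s : Set α)) :
    (g : Equiv.Perm α).support.card + s.card ≤ Fintype.card α := by
  rw [← Finset.card_union_of_disjoint (Finset.disjoint_left.2 fun x hx hs =>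
    mem_supp.1 hx ((mem_fixingSubgroup_iff G).1 h x hs))]
  exact Finset.card_le_univ _

theorem dvd_supp {g : G} {q : ℕ} (hq : q.Prime) (hg : orderOf g = q) :
    q ∣ (g : Equiv.Perm α).support.card := by
  rw [← Subgroup.orderOf_coe] at hg
  obtain ⟨n, hn⟩ := Equiv.Perm.cycleType_prime_order (hg ▸ hq)
  rw [← Equiv.Perm.sum_cycleType, hn, hg, Multiset.sum_replicate, smul_eq_mul]
  exact Dvd.intro_left _ rfl

theorem jordan_supp (hG : IsPreprimitive G α) (hA : ¬ alternatingGroup α ≤ G)
    (hn : 5 ≤ Fintype.card α) {g : G} {q : ℕ} (hq : q.Prime) (hqn : q + 3 ≤ Fintype.card α)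
    (hg : orderOf g = q) : 2 * q ≤ (g : Equiv.Perm α).support.card := by
  by_contra hc
  rw [← Subgroup.orderOf_coe] at hg
  have h1 : (g : Equiv.Perm α).IsCycle :=
    Equiv.Perm.isCycle_of_prime_order (hg ▸ hq) (by rw [hg]; omega)
  exact hA (Cfsg.Agent.S0713.result G hG hq hn hqn h1 (h1.orderOf.symm.trans hg) g.2)

omit [DecidableEq α] in
theorem exists_order_fx {s : Finset α} {q : ℕ} (hq : q.Prime)
    (h : q ∣ Nat.card (fixingSubgroup G (s : Set α))) :
    ∃ g : G, orderOf g = q ∧ g ∈ fixingSubgroup G (s : Set α) := by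
  have := Fact.mk hq
  obtain ⟨g, hg⟩ := exists_prime_orderOf_dvd_card' q h
  exact ⟨g, by rw [Subgroup.orderOf_coe, hg], g.2⟩

theorem jordan_fx (hG : IsPreprimitive G α) (hA : ¬ alternatingGroup α ≤ G)
    (hn : 5 ≤ Fintype.card α) {s : Finset α} {q : ℕ} (hq : q.Prime) (hqn : q + 3 ≤ Fintype.card α)
    (h : q ∣ Nat.card (fixingSubgroup G (s : Set α))) : 2 * q + s.card ≤ Fintype.card α := by
  obtain ⟨g, h1, h2⟩ := exists_order_fx hq h
  have := jordan_supp hG hA hn hq hqn h1
  have := supp_add_le h2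
  omega

theorem fx_card_dvd (s : Finset α) :
    Nat.card (fixingSubgroup G (s : Set α)) ∣ (Fintype.card α - s.card).factorial := by
  have := card_fixingSubgroup_dvd G (s : Set α)
  rwa [← Finset.coe_compl, Set.ncard_coe_finset, Finset.card_compl] at this

variable {p : ℕ} [hp : Fact p.Prime] [IsPretransitive G α]

theorem prim_of_prime (hα : Fintype.card α = p) : IsPreprimitive G α :=
  IsPreprimitive.of_prime_card (by rw [Nat.card_eq_fintype_card, hα]; exact hp.out)

theorem dvd_of_normal (hα : Fintype.card α = p) (M : Subgroup G) [M.Normal] (hM : M ≠ ⊥) :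
    p ∣ Nat.card M := by
  have := prim_of_prime (G := G) hα
  have := isPretransitive_of_normal (α := α) M hM
  have : Nonempty α := Fintype.card_pos_iff.1 (hα ▸ hp.out.pos)
  rw [card_eq_mul_of_transitive (G := M) (Classical.arbitrary α), Nat.card_eq_fintype_card, hα]
  exact Dvd.intro _ rfl

theorem nonsolv_normal (hα : Fintype.card α = p) (hG : ¬ Group.IsSolvable G) (M : Subgroup G)
    [M.Normal] (hM : M ≠ ⊥) : ¬ Group.IsSolvable M := by
  intro hs
  obtain ⟨x, hx⟩ := exists_prime_orderOf_dvd_card' p (dvd_of_normal hα M hM)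
  rw [← Subgroup.orderOf_coe] at hx
  obtain ⟨P, hP⟩ := (IsPGroup.of_card (n := 1)
    (by rw [Nat.card_zpowers, hx, pow_one]) : IsPGroup p (Subgroup.zpowers (x : G))).exists_le_sylow
  have h1 : Subgroup.zpowers (x : G) = P := Subgroup.eq_of_le_of_card_ge hP
    (by rw [Nat.card_zpowers, hx, primeDeg_card_sylow hα G P])
  have h2 := P.normalizer_sup_eq_top' (N := M) (by rw [← h1]; exact Subgroup.zpowers_le.2 x.2)
  obtain ⟨c, e, hc, he⟩ := primeDeg_coord hα G P
  have h3 : Group.IsSolvable (Subgroup.normalizer ((P : Subgroup G) : Set G)) :=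
    solvable_of_affine (α := α) (e := e) fun g => by
      obtain ⟨a, b, -, h⟩ := coord_normalizer he (g := g) (by rw [hc]; exact g.2)
      exact ⟨a, b, h⟩
  have h4 : Group.IsSolvable (G ⧸ M) := by
    refine Group.isSolvable_of_surjective (f := (QuotientGroup.mk' M).comp
      (Subgroup.normalizer ((P : Subgroup G) : Set G)).subtype) ?_
    rw [← MonoidHom.range_eq_top, MonoidHom.range_comp, Subgroup.range_subtype,
      ← (Subgroup.comap_injective (QuotientGroup.mk'_surjective M)).eq_iff, Subgroup.comap_map_eq,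
      QuotientGroup.ker_mk', Subgroup.comap_top]
    exact h2
  exact hG (Group.isSolvable_of_ker_le_range M.subtype (QuotientGroup.mk' M) (by simp))

theorem descend (hα : Fintype.card α = p) (Q : ℕ → Prop)
    (h : ∀ (H : Subgroup (Equiv.Perm α)) [IsPretransitive H α], ¬ Group.IsSolvable H →
      ¬ alternatingGroup α ≤ H → Q (Nat.card H))
    (hG : ¬ Group.IsSolvable G) (hA : ¬ alternatingGroup α ≤ G) (M : Subgroup G)
    [M.Normal] (hM : M ≠ ⊥) : Q (Nat.card M) := by
  have := prim_of_prime (G := G) hα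
  have h1 := isPretransitive_subgroup_iff.1 (isPretransitive_of_normal (α := α) M hM)
  have : IsPretransitive (M.map G.subtype) α := isPretransitive_subgroup_iff.2 fun a b =>
    let ⟨g, hg, e⟩ := h1 a b; ⟨g, ⟨g, hg, rfl⟩, e⟩
  let e := M.equivMapOfInjective G.subtype G.subtype_injective
  rw [Nat.card_congr e.toEquiv]
  exact h _ (fun hs => nonsolv_normal hα hG M hM (Group.isSolvable_of_surjective
    (f := e.symm.toMonoidHom) e.symm.surjective))
    fun h2 => hA (h2.trans (Subgroup.map_subtype_le _))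

theorem count_nonsolv (hα : Fintype.card α = p) (hG : ¬ Group.IsSolvable G) :
    IsMultiplyPretransitive G α 2 ∧ ∃ d n, d ∣ p - 1 ∧ d ≠ 1 ∧ n % p = 1 ∧
      Nat.card G = p * d * n ∧ (Even d → IsMultiplyPretransitive G α 3) := by
  refine ⟨(Cfsg.Agent.S0675.result (hα ▸ hp.out) G).resolve_left hG, ?_⟩
  obtain ⟨P⟩ : Nonempty (Sylow p G) := inferInstance
  obtain ⟨d, n, h1, h2, h3, h4⟩ := primeDeg_sylow_count hα G P
  refine ⟨d, n, h1, ?_, h3, h4, fun h =>
    Cfsg.Agent.S0676.result hα G hG P (h2 ▸ h.mul_left p)⟩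
  rintro rfl
  have h5 : Subgroup.normalizer ((P : Subgroup G) : Set G) ≤
      Subgroup.centralizer ((P : Subgroup G) : Set G) := by
    rw [primeDeg_centralizer hα G P]
    exact (Subgroup.eq_of_le_of_card_ge Subgroup.le_normalizer
      (by rw [h2, primeDeg_card_sylow hα G P, mul_one])).ge
  have h6 : (MonoidHom.transferSylow P h5).ker = ⊥ := by
    by_contra hc
    exact MonoidHom.not_dvd_card_ker_transferSylow P h5 (dvd_of_normal hα _ hc)
  have h7 := (MonoidHom.ker_transferSylow_isComplement' P h5).card_mul_card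
  rw [h6, Subgroup.card_bot, one_mul, primeDeg_card_sylow hα G P] at h7
  have := isCyclic_of_prime_card h7.symm
  exact hG (Group.isSolvable_of_comm fun a b => mul_comm' a b)

omit hp in
theorem card_seven_aux (hα : Fintype.card α = 7) (hG : ¬ Group.IsSolvable G)
    (hA : ¬ alternatingGroup α ≤ G) :
    Nat.card G = 168 ∨ Nat.card G = 210 ∨ Nat.card G = 630 := by
  have : Fact (Nat.Prime 7) := ⟨by norm_num⟩
  have hprim := prim_of_prime (G := G) hα
  obtain ⟨h2, d, n, h1, h3, h4, h5, h6⟩ := count_nonsolv hα hG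
  have hs : ∀ k ≤ 7, ∃ s : Finset α, s.card = k := fun k hk =>
    let ⟨s, _, h⟩ := Finset.exists_subset_card_eq (s := Finset.univ) (by simpa [hα] using hk)
    ⟨s, h⟩
  obtain ⟨s4, hs4⟩ := hs 4 (by norm_num)
  have h7 : Nat.card (fixingSubgroup G (s4 : Set α)) = 1 := by
    by_contra hc
    obtain ⟨q, hq, hd⟩ := Nat.exists_prime_and_dvd hc
    have h8 := hd.trans (fx_card_dvd s4)
    rw [hα, hs4, hq.dvd_factorial] at h8
    have := jordan_fx hprim hA (by omega) hq (by omega) hd
    have := hq.two_le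
    omega
  have h8 := fx_index_le (G := G) s4
  have h9 := (fixingSubgroup G (s4 : Set α)).card_mul_index
  rw [hα, hs4, ← one_mul (Subgroup.index _), ← h7, h9] at h8
  obtain ⟨s2, hs2⟩ := hs 2 (by norm_num)
  have h10 := (fixingSubgroup G (s2 : Set α)).card_mul_index
  have h11 := fx_card_dvd (G := G) s2
  rw [fx_index_eq h2 s2 hs2, hα] at h10
  rw [hα, hs2] at h11
  have h12 : Even d → 5 ∣ Nat.card G := fun h => by
    obtain ⟨s3, hs3⟩ := hs 3 (by norm_num)
    have := (fixingSubgroup G (s3 : Set α)).index_dvd_card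
    rw [fx_index_eq (h6 h) s3 hs3, hα] at this
    exact Dvd.dvd.trans (by decide) this
  generalize Nat.card (fixingSubgroup G (s2 : Set α)) = e at h10 h11
  generalize Nat.card G = g at *
  simp only [Nat.descFactorial, Nat.factorial] at h10 h11 h8
  have h13 : e ≤ 20 := by omega
  have h14 : d ≤ 6 := Nat.le_of_dvd (by norm_num) h1
  have h15 : d = 2 ∨ d = 3 ∨ d = 6 := by interval_cases d <;> simp_all
  rw [Nat.even_iff] at h12
  have h16 : e ∈ Nat.divisors 120 := Nat.mem_divisors.2 ⟨h11, by norm_num⟩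
  rw [show Nat.divisors 120 = {1, 2, 3, 4, 5, 6, 8, 10, 12, 15, 20, 24, 30, 40, 60, 120} by decide]
    at h16
  simp only [Finset.mem_insert, Finset.mem_singleton] at h16
  rcases h15 with rfl | rfl | rfl <;> omega

omit hp in
theorem card_seven (hα : Fintype.card α = 7) (hG : ¬ Group.IsSolvable G)
    (hA : ¬ alternatingGroup α ≤ G) : Nat.card G = 168 := by
  have : Fact (Nat.Prime 7) := ⟨by norm_num⟩
  have key : ∀ m, Odd m → 1 < m → Nat.card G ≠ 2 * m := fun m hm h1 h => by
    obtain ⟨M, hM, h2⟩ := exists_half_card h hm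
    have := descend hα (fun k => k = 168 ∨ k = 210 ∨ k = 630)
      (fun H _ h3 h4 => card_seven_aux hα h3 h4) hG hA M (by
        rintro rfl
        rw [Subgroup.card_bot] at h2
        omega)
    obtain ⟨k, rfl⟩ := hm
    omega
  rcases card_seven_aux hα hG hA with h | h | h
  · exact h
  · exact absurd h (key 105 (by decide) (by norm_num))
  · exact absurd h (key 315 (by decide) (by norm_num))

theorem simple_of_descend (hα : Fintype.card α = p) (hG : ¬ Group.IsSolvable G)
    (h : ∀ M : Subgroup G, M.Normal → M ≠ ⊥ → Nat.card G ≤ Nat.card M) : IsSimpleGroup G := by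
  have : Nontrivial G := by
    by_contra hc
    rw [not_nontrivial_iff_subsingleton] at hc
    exact hG inferInstance
  exact ⟨fun M hM => (eq_or_ne M ⊥).imp id fun h1 => Subgroup.eq_top_of_le_card M (h M hM h1)⟩

end Cfsg.Lib.Hall
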