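import Cfsg.Agent.Lib.Hall.TwoGen
import Cfsg.Agent.Lib.FT.Cor
import Cfsg.Agent.Lib.Coprime.Isaacs

/-! Lower `π`-series; the `π`-length is attained by a two-generated subgroup; Powell's theorem. -/

set_option autoImplicit false
set_option linter.unusedSectionVars false

namespace Cfsg.Lib.Hall
open Subgroup Cfsg.Lib.Core Cfsg.Lib.Amalg Cfsg.Lib.BG1

universe u

variable {G : Type u} [Group G] [Finite G] {H K N Q : Subgroup G} {π : Set ℕ} {k : ℕ}

theorem ext_core [N.Normal] [Q.Normal] (hNQ : N ≤ Q) (h0 : N ≠ ⊥) (hQ : ¬ Q ≤ N)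
    (hc : (Nat.card N).Coprime (N.relIndex Q)) (hmin : ∀ M : Subgroup G, M.Normal → M ≠ ⊥ → N ≤ M)
    (hU : ∀ U : Subgroup G, U ≠ ⊤ → N ⊔ U = ⊤ → ∃ R, R ≤ U ∧ U ≤ 𝐍(R) ∧ N ⊔ R = Q ∧ (Nat.card N).Coprime (Nat.card R)) :
    Q ⊓ 𝐂(N) ≤ N ∧ ∀ x y : G, closure {x, y} ⊔ N = ⊤ → ∃ x y : G, closure {x, y} = ⊤ := by
  obtain ⟨D, hD, hD'⟩ := Coprime.exists_compl_of_coprime hNQ (fun g _ n hn => Normal.conj_mem ‹_› n hn g) hc
  rw [← hD'] at hc
  have hn : ∀ X : Subgroup G, X ≤ 𝐍(N) := fun X => Amalg.le_normalizer_of_normal'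
  have hconj : ∀ R : Subgroup G, N ⊔ R = Q → (Nat.card N).Coprime (Nat.card R) → ∃ n ∈ N, cj n D = R := fun R h1 h2 =>
    FT.sz_conj_internal' (hn D) hc h2 (hD.trans h1.symm)
  have hDN : N ⊓ D = ⊥ := (disjoint_of_coprime_natCard hc).eq_bot
  have hfr : N ⊔ 𝐍(D) = ⊤ := eq_top_iff.2 fun g _ => by
    obtain ⟨n, hn', e⟩ := hconj (cj g D) (by rw [← cj_normal g N, ← cj_sup, hD, cj_normal]) (by rwa [card_cj])
    have : n⁻¹ * g ∈ 𝐍(D) := cj_eq_self_iff.1 (by rw [cj_mul, ← e, cj_inv_cj])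
    simpa using mul_mem_sup hn' this
  have hbot : ∀ X : Subgroup G, X ≤ D → 𝐍(D) ≤ 𝐍(X) → N ≤ 𝐍(X) → X = ⊥ := fun X h1 h2 h3 => by_contra fun e =>
    h0 (le_bot_iff.1 (hDN ▸ le_inf le_rfl ((hmin X (normal_of_top_le_normalizer (hfr ▸ sup_le h3 h2)) e).trans h1)))
  have hD0 : ¬ N ≤ 𝐍(D) := fun e => hQ (by rw [← hD, hbot D le_rfl le_rfl e, sup_bot_eq])
  have hab : IsMulCommutative N := by
    by_contra hab
    refine hD0 (le_norm_of_le_cent (Coprime.le_of_forall_sylowIn fun r hr hd => ?_))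
    obtain ⟨S, hS⟩ := exists_syl r N
    have h1 := hS.ne_bot hd
    obtain ⟨R, h2, h3, h4, h5⟩ := hU 𝐍(S) (fun e => hab (by
      have h2 := le_antisymm (hmin S (normalizer_eq_top_iff.1 e) h1) hS.le
      haveI := solvable_of_pgroup hr.out (h2 ▸ hS.isPGroup : IsPGroup r N)
      exact isMulCommutative_of_minNormal fun M hM h3 => or_iff_not_imp_left.2 fun e => le_antisymm h3 (hmin M hM e)))
      (by simpa using hS.frattini le_top (hn ⊤))
    obtain ⟨n, h6, rfl⟩ := hconj R h4 h5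
    refine ⟨cj n⁻¹ S, syl_iff_sylowIn.1 (hS.conj_of_mem (inv_mem h6)), ?_⟩
    rw [cj_le_iff, inv_inv, cj_centralizer]
    exact le_cent_of_coprime_of_norm (le_normalizer.trans h3) h2 (h5.coprime_dvd_left (card_dvd_of_le hS.le))
  have hab' := isMulCommutative_iff_le_cent.1 hab
  have hint : ∀ H : Subgroup G, N ⊔ H = ⊤ → ¬ N ≤ H → N ⊓ H = ⊥ := fun H h1 h2 => by_contra fun e =>
    h2 ((hmin _ (normal_of_top_le_normalizer (h1 ▸ sup_le (le_norm_of_le_cent (hab'.trans (centralizer_le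
      (SetLike.coe_subset_coe.2 inf_le_left)))) (le_normalizer_inf (hn H) le_normalizer))) e).trans inf_le_right)
  refine ⟨?_, fun x y hxy => ?_⟩
  · rw [← hD, sup_inf_of_le_normalizer' hab' (hn D), hbot (D ⊓ 𝐂(N)) inf_le_left (le_normalizer_inf le_rfl
      Amalg.le_normalizer_of_normal') (le_norm_of_le_cent (BG1.le_cent_symm inf_le_right)), sup_bot_eq]
  by_contra hne
  push Not at hne
  have key : ∀ a b : N, ∃ n : N, x * a ∈ cj (n : G) 𝐍(D) ∧ y * b ∈ cj (n : G) 𝐍(D) := fun a b => by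
    have h1 : N ⊔ closure {x * a, y * b} = ⊤ := top_le_iff.1 (hxy ▸ sup_le ((closure_le _).2 (Set.pair_subset
      (by simpa using mul_mem (mem_sup_right (S := N) (subset_closure (by simp) : x * a ∈ closure {x * a, y * b}))
            (mem_sup_left (inv_mem a.2)))
      (by simpa using mul_mem (mem_sup_right (S := N) (subset_closure (by simp) : y * b ∈ closure {x * a, y * b}))
            (mem_sup_left (inv_mem b.2))))) le_sup_left)
    obtain ⟨R, -, h3, h4, h5⟩ := hU _ (hne _ _) h1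
    obtain ⟨n, h6, rfl⟩ := hconj R h4 h5
    rw [← cj_normalizer] at h3
    exact ⟨⟨n, h6⟩, h3 (subset_closure (by simp)), h3 (subset_closure (by simp))⟩
  choose f hf using key
  have huniq : ∀ (z : G) (a a' n : N), z * a ∈ cj (n : G) 𝐍(D) → z * a' ∈ cj (n : G) 𝐍(D) → a = a' := fun z a a' n h1 h2 => by
    have h3 : ((a⁻¹ * a' : N) : G) ∈ cj (n : G) (N ⊓ 𝐍(D)) := by
      rw [cj_inf, cj_normal]
      exact ⟨(a⁻¹ * a').2, by simpa [mul_assoc] using mul_mem (inv_mem h1) h2⟩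
    rw [hint _ hfr hD0, cj_bot, mem_bot] at h3
    exact inv_mul_eq_one.1 (Subtype.ext h3)
  have := Nat.card_le_card_of_injective (fun z : N × N => f z.1 z.2) fun z w e => by
    simp only at e
    exact Prod.ext (huniq x _ _ _ (hf z.1 z.2).1 (e ▸ (hf w.1 w.2).1)) (huniq y _ _ _ (hf z.1 z.2).2 (e ▸ (hf w.1 w.2).2))
  rw [Nat.card_prod] at this
  have := (one_lt_card_iff_ne_bot N).2 h0
  nlinarith

/-- `O^π(H)` -/
def pr (π : Set ℕ) (H : Subgroup G) : Subgroup G := closure {x | x ∈ H ∧ IsPiNumber πᶜ (orderOf x)}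

theorem pr_le : pr π H ≤ H := (closure_le _).2 fun _ h => h.1

theorem pr_mono (h : H ≤ K) : pr π H ≤ pr π K := closure_mono fun _ hx => ⟨h hx.1, hx.2⟩

theorem map_pr {G' : Type u} [Group G'] (f : G →* G') : (pr π H).map f = pr π (H.map f) := by
  rw [pr, MonoidHom.map_closure]
  congr 1
  ext y
  refine ⟨?_, fun hy => ?_⟩
  · rintro ⟨x, hx, rfl⟩
    exact ⟨mem_map_of_mem f hx.1, hx.2.of_dvd (orderOf_map_dvd f x)⟩
  · obtain ⟨x, h1, h2, h3⟩ := exists_lift_isPiNumber f hy.1 hy.2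
    exact ⟨x, ⟨h1, h3⟩, h2⟩

theorem pr_pr : pr π H ≤ pr π (pr π H) := closure_mono fun _ hx => ⟨subset_closure hx, hx.2⟩

theorem pr_eq_bot : pr π H = ⊥ ↔ IsPiNumber π (Nat.card H) := by
  refine ⟨fun h p hp hd => by_contra fun e => ?_, fun h => eq_bot_iff.2 ((closure_le _).2 fun x hx =>
    orderOf_eq_one_iff.1 ((isPi_orderOf_of_mem h hx.1).eq_one_of_compl hx.2))⟩
  obtain ⟨x, hx, hx'⟩ := exists_mem_orderOf_eq_prime hp hd
  have : x ∈ pr π H := subset_closure ⟨hx, fun q hq hd => by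
    rwa [(Nat.prime_dvd_prime_iff_eq hq hp).1 (hx' ▸ hd)]⟩
  rw [h, mem_bot] at this
  exact hp.one_lt.ne' (by rw [← hx', this, orderOf_one])

theorem pr_le_iff [N.Normal] : pr π H ≤ N ↔ IsPiNumber π (N.relIndex H) := by
  rw [← card_map_mk', ← pr_eq_bot, ← map_pr, Subgroup.map_eq_bot_iff, QuotientGroup.ker_mk']

/-- alternating sets of primes -/
def alt (π : Set ℕ) : ℕ → Set ℕ
  | 0 => π
  | k + 1 => (alt π k)ᶜ

/-- the lower `π`-series -/
def ps (π : Set ℕ) : ℕ → Subgroup G → Subgroup G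
  | 0, H => H
  | k + 1, H => pr (alt π k) (ps π k H)

theorem ps_le : ps π k H ≤ H := by
  induction k with
  | zero => exact le_rfl
  | succ k ih => exact pr_le.trans ih

theorem ps_mono (h : H ≤ K) : ps π k H ≤ ps π k K := by
  induction k with
  | zero => exact h
  | succ k ih => exact pr_mono ih

theorem map_ps {G' : Type u} [Group G'] (f : G →* G') : (ps π k H).map f = ps π k (H.map f) := by
  induction k with
  | zero => rfl
  | succ k ih => rw [ps, map_pr, ih, ps]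

theorem norm_ps : 𝐍(H) ≤ 𝐍(ps π k H) := fun g hg => cj_eq_self_iff.1 (by rw [map_ps, cj_of_mem_normalizer hg])

instance ps_normal : (ps π k (⊤ : Subgroup G)).Normal :=
  normal_of_top_le_normalizer (le_normalizer.trans norm_ps)

theorem ps_two_aux (n : ℕ) : ∀ (G : Type u) [Group G] [Finite G], Nat.card G = n → ∀ k,
    ps π (k + 1) (⊤ : Subgroup G) = ⊥ → ps π k (⊤ : Subgroup G) ≠ ⊥ → ∃ x y : G, ps π k (closure {x, y}) ≠ ⊥ := by
  induction n using Nat.strong_induction_on with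
  | _ n ih =>
  intro G _ _ e k h1 h2
  have hq : ∀ (M : Subgroup G) [M.Normal] k, M ≠ ⊥ → ps π (k + 1) ⊤ ≤ M → ¬ ps π k ⊤ ≤ M →
      ∃ x y : G, ¬ ps π k (closure {x, y}) ≤ M := fun M _ k h0 h1 h2 => by
    have h3 : ∀ k (X : Subgroup G), ps π k (X.map (QuotientGroup.mk' M)) = ⊥ ↔ ps π k X ≤ M := fun k X => by
      rw [← map_ps, Subgroup.map_eq_bot_iff, QuotientGroup.ker_mk']
    have h4 := map_top_of_surjective _ (QuotientGroup.mk'_surjective M)
    obtain ⟨x, y, h5⟩ := ih _ (e ▸ card_quotient_lt h0) (G ⧸ M) rfl k (h4 ▸ (h3 _ _).2 h1) (h4 ▸ mt (h3 _ _).1 h2)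
    obtain ⟨x, rfl⟩ := QuotientGroup.mk'_surjective M x
    obtain ⟨y, rfl⟩ := QuotientGroup.mk'_surjective M y
    exact ⟨x, y, mt (h3 _ _).2 (by rwa [MonoidHom.map_closure, Set.image_pair])⟩
  obtain _ | _ | k := k
  · obtain ⟨x, hx⟩ := ne_bot_iff_exists_ne_one.1 h2
    exact ⟨x, x, fun e => hx (Subtype.ext (mem_bot.1 (e ▸ (subset_closure (by simp) : (x : G) ∈ closure {x.1, x.1}))))⟩
  · by_contra hc
    push Not at hc
    exact h2 (eq_bot_iff.2 ((closure_le _).2 fun x hx => hc x x ▸ subset_closure ⟨subset_closure (by simp), hx.2⟩))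
  by_contra hc
  push Not at hc
  have h3 : ∀ U : Subgroup G, U ≠ ⊤ → ps π (k + 2) U = ⊥ := fun U hU => by_contra fun h4 => by
    have h5 : ∀ k (X : Subgroup U), ps π k X = ⊥ ↔ ps π k (X.map U.subtype) = ⊥ := fun k X => by
      rw [← map_ps, map_eq_bot_iff_of_injective _ U.subtype_injective]
    obtain ⟨x, y, h6⟩ := ih _ (e ▸ card_lt_of_ne_top hU) U rfl (k + 2) ((h5 _ _).2 (le_bot_iff.1 (h1 ▸ ps_mono le_top)))
      (mt (h5 _ _).1 (by rwa [map_subtype_top]))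
    exact h6 ((h5 _ _).2 (by rw [MonoidHom.map_closure, Set.image_pair]; exact hc _ _))
  set N := ps π (k + 2) (⊤ : Subgroup G) with hN
  have h4 : ∀ M : Subgroup G, M.Normal → M ≠ ⊥ → N ≤ M := fun M _ h0 => by_contra fun h4 => by
    obtain ⟨x, y, h5⟩ := hq M (k + 2) h0 (h1 ▸ bot_le) h4
    exact h5 (hc x y ▸ bot_le)
  have h5 : IsPiNumber (alt π (k + 1))ᶜ (Nat.card N) := pr_eq_bot.1 h1
  have h6 : ¬ ps π (k + 1) ⊤ ≤ N := fun e => h2 (le_bot_iff.1 (pr_le.trans (pr_pr.trans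
    (pr_eq_bot.2 (isPi_of_le (by rwa [alt, compl_compl] at h5) e)).le)))
  have h7 : ∀ U : Subgroup G, U ≠ ⊤ → (Nat.card N).Coprime (Nat.card (ps π (k + 1) U)) := fun U hU =>
    ((pr_eq_bot.1 (h3 U hU)).coprime_compl h5).symm
  obtain ⟨h8, h9⟩ := ext_core (N := N) (Q := ps π (k + 1) ⊤) pr_le h2 h6
    ((pr_le_iff.1 hN.ge).coprime_compl h5).symm h4 fun U hU h8 => ⟨_, ps_le, le_normalizer.trans norm_ps, by
      have h9 := congrArg (comap (QuotientGroup.mk' N)) ((map_ps (π := π) (k := k + 1) (H := U)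
        (QuotientGroup.mk' N)).trans (by rw [map_ps, ← h8, Subgroup.map_sup, (Subgroup.map_eq_bot_iff _).2
          (QuotientGroup.ker_mk' N).ge, bot_sup_eq] : _ = (ps π (k + 1) ⊤).map (QuotientGroup.mk' N)))
      rwa [comap_map_eq, comap_map_eq, QuotientGroup.ker_mk', sup_comm, sup_eq_left.2 (hN.le.trans pr_le)] at h9, h7 U hU⟩
  obtain ⟨x, y, h10⟩ := hq N (k + 1) h2 le_rfl h6
  by_cases h11 : closure {x, y} ⊔ N = ⊤
  · obtain ⟨x, y, h12⟩ := h9 x y h11
    exact h2 (hN.trans (h12 ▸ hc x y))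
  · exact h10 ((ps_mono le_sup_left).trans (le_trans (le_inf (ps_mono le_top) (le_cent_of_coprime_of_norm
      Amalg.le_normalizer_of_normal' ((le_sup_right.trans le_normalizer).trans norm_ps) (h7 _ h11).symm)) h8))

/-- the length of the lower `π`-series is attained by a two-generated subgroup -/
theorem ps_two (h1 : ps π (k + 1) H = ⊥) (h2 : ps π k H ≠ ⊥) : ∃ x ∈ H, ∃ y ∈ H, ps π k (closure {x, y}) ≠ ⊥ := by
  have h5 : ∀ k (X : Subgroup H), ps π k X = ⊥ ↔ ps π k (X.map H.subtype) = ⊥ := fun k X => by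
    rw [← map_ps, map_eq_bot_iff_of_injective _ H.subtype_injective]
  obtain ⟨x, y, h⟩ := ps_two_aux _ H rfl k ((h5 _ _).2 (by rwa [map_subtype_top])) (mt (h5 _ _).1 (by rwa [map_subtype_top]))
  exact ⟨x, x.2, y, y.2, mt (fun e => (h5 _ _).2 (by rwa [MonoidHom.map_closure, Set.image_pair])) h⟩

theorem ps_anti {j : ℕ} (h : j ≤ k) : ps π k H ≤ ps π j H := by
  induction h with
  | refl => exact le_rfl
  | step _ ih => exact pr_le.trans ih

theorem alt_cases (π : Set ℕ) (k : ℕ) : alt π k = π ∨ alt π k = πᶜ := by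
  induction k with
  | zero => exact Or.inl rfl
  | succ k ih => exact ih.symm.imp (fun e => by rw [alt, e, compl_compl]) fun e => by rw [alt, e]

theorem ps_of_pSolvable {p : ℕ} (hp : p.Prime) (h : IsPSolvable p G) : ∃ k, ps {p} k (⊤ : Subgroup G) = ⊥ := by
  obtain ⟨n, H, h0, h1, -, h3, h4⟩ := h
  suffices ∀ i, ∃ k, ps {p} k ⊤ ≤ H i from (this 0).imp fun k hk => le_bot_iff.1 (h0 ▸ hk)
  intro i
  induction i using Fin.reverseInduction with
  | last => exact ⟨0, h1.ge⟩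
  | cast i ih =>
    obtain ⟨k, hk⟩ := ih
    have h5 : IsPiNumber {p} ((H i.castSucc).relIndex (H i.succ)) ∨ IsPiNumber {p}ᶜ ((H i.castSucc).relIndex (H i.succ)) :=
      (h4 i).imp (isPiNumber_singleton_iff hp relIndex_ne_zero').2 (coprime_iff_isPiNumber_compl hp).1
    have h6 : IsPiNumber (alt {p} k) ((H i.castSucc).relIndex (H i.succ)) ∨
        IsPiNumber (alt {p} (k + 1)) ((H i.castSucc).relIndex (H i.succ)) := by
      rcases alt_cases {p} k with e | e <;> rw [alt, e]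
      · exact h5
      · rw [compl_compl]; exact h5.symm
    exact ⟨k + 2, h6.elim (fun e => pr_le.trans ((pr_mono hk).trans (pr_le_iff.2 e)))
      fun e => (pr_mono (pr_le.trans hk)).trans (pr_le_iff.2 e)⟩

/-- **Powell** -/
theorem powell [IsSimpleGroup G] (hna : ¬ IsMulCommutative G) {p : ℕ} [hp : Fact p.Prime] (hd : p ∣ Nat.card G)
    (h : ∀ H : Subgroup G, H ≠ ⊤ → IsPSolvable p H) : ∃ x y z : G, closure {x, y, z} = ⊤ := by
  by_contra hc
  push Not at hc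
  have h1 : ∃ k, ∀ H : Subgroup G, H ≠ ⊤ → ps {p} k H = ⊥ := by
    have : ∀ H : {H : Subgroup G // H ≠ ⊤}, ∃ k, ps {p} k H.1 = ⊥ := fun H =>
      (ps_of_pSolvable hp.out (h H H.2)).imp fun k hk => by
        rw [← map_subtype_top H.1, ← map_ps, hk, Subgroup.map_bot]
    choose f hf using this
    obtain ⟨k, hk⟩ := (Set.finite_range f).bddAbove
    exact ⟨k, fun H hH => le_bot_iff.1 (hf ⟨H, hH⟩ ▸ ps_anti (hk ⟨_, rfl⟩))⟩
  classical
  have h2 := Nat.find_spec h1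
  obtain e | ⟨k, e⟩ := Nat.eq_zero_or_eq_succ_pred (Nat.find h1) |>.imp_right fun e => (⟨_, e⟩ : ∃ k, Nat.find h1 = k + 1)
  · obtain ⟨x, hx⟩ := exists_ne (1 : G)
    exact hx (mem_bot.1 (h2 _ (hc x x x) ▸ e ▸ (subset_closure (by simp) : x ∈ closure {x, x, x})))
  have h3 := Nat.find_min h1 (m := k) (by omega)
  push Not at h3
  obtain ⟨H, hH, h3⟩ := h3
  rw [e] at h2
  obtain ⟨x, -, y, -, h4⟩ := ps_two (h2 H hH) h3
  have h5 : ∀ g, ps {p} k (closure {x, y}) ≤ piCoreOf (alt {p} k) (closure {x, y, g}) := fun g =>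
    (ps_mono (closure_mono (by simp [Set.insert_subset_iff]))).trans
      (le_piCoreOf' ps_le (le_normalizer.trans norm_ps) (pr_eq_bot.1 (h2 _ (hc x y g))))
  have h6 : ∀ g, g ∈ 𝐍(piCoreOf (alt {p} k) (closure {x, y, g})) := fun g =>
    le_norm_piCoreOf_self _ _ (subset_closure (by simp))
  rcases alt_cases {p} k with e | e <;> rw [e] at h5 h6
  · have h7 := baer_suzuki hp.out (A := ps {p} k (closure {x, y})) fun g => (pgroup_pCoreOf hp.out _).to_le
      (sup_le (h5 g) (cj_le_of_le_of_mem_normalizer (h5 g) (h6 g)))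
    rcases (pCore_normal p G).eq_bot_or_eq_top with e | e
    · exact h4 (le_bot_iff.1 (e ▸ h7))
    · haveI := isSolvable_top_iff.1 (e ▸ solvable_of_pgroup hp.out (isPGroup_pCore p G))
      exact hna ⟨⟨IsSimpleGroup.comm_iff_isSolvable.2 this⟩⟩
  · rcases (inferInstance : (pPrimeCore p G).Normal).eq_bot_or_eq_top with e | e
    · refine h4 (eq_bot_iff.2 fun d hd => e ▸ Cfsg.Agent.S3815.result d ?_ fun g hg => ?_)
      · exact (hp.out.coprime_iff_not_dvd.2 fun e => not_dvd_card_pPrimeCoreOf hp.out _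
          (e.trans (orderOf_dvd_natCard _ (h5 1 hd)))).symm
      · exact (hp.out.coprime_iff_not_dvd.2 (tg_ord_mul hp.out (not_dvd_card_pPrimeCoreOf hp.out _) (h5 g hd) (h6 g)
          (hp.out.coprime_iff_not_dvd.1 hg.symm))).symm
    · have h1 := not_dvd_card_pPrimeCoreOf hp.out (⊤ : Subgroup G)
      rw [← map_pPrimeCore_subtype hp.out, pPrimeCoreOf_top, e, card_top] at h1
      exact h1 hd

end Cfsg.Lib.Hall
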