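import Cfsg.Agent.Lib.Hall.FC6
import Cfsg.Agent.Lib.Invol.Classes

/-! Structure of Frobenius complements modulo a normal subgroup with cyclic Sylow subgroups. -/

namespace Cfsg.Lib.Hall

open Subgroup _root_.Cfsg.Lib.Core _root_.Cfsg.Lib.Transfer
open scoped Pointwise commutatorElement

universe u

variable {G : Type*} [Group G]

local notation "𝐍" X:max => normalizer (SetLike.coe (X : Subgroup _))
local notation "𝐂" X:max => centralizer (SetLike.coe (X : Subgroup _))

/-- `G / N ≅ X` -/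
abbrev QuoIs (N : Subgroup G) (X : Type*) [Group X] : Prop := ∃ f : G →* X, Function.Surjective f ∧ f.ker = N

theorem QuoIs.of_equiv {N : Subgroup G} {X Y : Type*} [Group X] [Group Y] (h : QuoIs N X) (e : X ≃* Y) : QuoIs N Y := by
  obtain ⟨f, h1, h2⟩ := h
  exact ⟨e.toMonoidHom.comp f, e.surjective.comp h1, by rw [← h2]; ext; simp⟩

theorem QuoIs.comap {N : Subgroup G} {X Y : Type*} [Group X] [Group Y] (h : QuoIs N X) (π : Y →* G)
    (hπ : Function.Surjective π) : QuoIs (N.comap π) X := by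
  obtain ⟨f, h1, h2⟩ := h
  exact ⟨f.comp π, h1.comp hπ, by rw [← h2]; rfl⟩

theorem quoIs_range {X : Type*} [Group X] (f : G →* X) : QuoIs f.ker f.range :=
  ⟨f.rangeRestrict, f.rangeRestrict_surjective, f.ker_rangeRestrict⟩

theorem QuoIs.index {N : Subgroup G} {X : Type*} [Group X] (h : QuoIs N X) : N.index = Nat.card X := by
  obtain ⟨f, h1, rfl⟩ := h
  rw [index_ker, MonoidHom.range_eq_top.mpr h1, card_top]

theorem quoIs_of_normal_quat [Finite G] {F : Subgroup G} [F.Normal] (e : F ≃* QuaternionGroup 2) {g : G}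
    (ho : Odd (orderOf g)) (hg : g ∉ 𝐂 F) :
    QuoIs (𝐂 F) (alternatingGroup (Fin 4)) ∨ QuoIs (𝐂 F) (Equiv.Perm (Fin 4)) := by
  let φ : G →* MulAut (QuaternionGroup 2) := (MulAut.congr e).toMonoidHom.comp MulAut.conjNormal
  have hk : φ.ker = 𝐂 F := by
    ext x
    rw [MonoidHom.mem_ker, show φ x = MulAut.congr e (MulAut.conjNormal x) from rfl, MulEquiv.map_eq_one_iff,
      mem_centralizer_iff, MulEquiv.ext_iff]
    simp only [MulAut.one_apply, Subtype.ext_iff, MulAut.conjNormal_apply, Subtype.forall, mul_inv_eq_iff_eq_mul,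
      SetLike.mem_coe]
    exact forall₂_congr fun _ _ => eq_comm
  have h4 : 4 ∣ Nat.card φ.range := by
    have h1 : (MulAut.conj : QuaternionGroup 2 →* _).range ≤ φ.range := by
      rintro _ ⟨q, rfl⟩
      obtain ⟨q, rfl⟩ := e.surjective q
      refine ⟨q, MulEquiv.ext fun y => ?_⟩
      obtain ⟨y, rfl⟩ := e.surjective y
      show e (MulAut.conjNormal (q : G) (e.symm (e y))) = e q * e y * (e q)⁻¹
      rw [MulEquiv.symm_apply_apply, ← map_inv, ← map_mul, ← map_mul]
      rfl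
    refine Dvd.dvd.trans (Eq.dvd ?_) (card_dvd_of_le h1)
    have h2 := card_mul_index (MulAut.conj : QuaternionGroup 2 →* _).ker
    have h3 : Nat.card (MulAut.conj : QuaternionGroup 2 →* _).ker = 2 := by
      have : Fintype.card {x : QuaternionGroup 2 // ∀ y, x * y * x⁻¹ = y} = 2 := by decide +kernel
      rw [← Nat.card_eq_fintype_card] at this
      refine Eq.trans (Nat.card_congr (Equiv.subtypeEquivRight fun x => ?_)) this
      show x ∈ (MulAut.conj : QuaternionGroup 2 →* _).ker ↔ _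
      rw [MonoidHom.mem_ker, MulEquiv.ext_iff]; rfl
    rw [index_ker, h3, Nat.card_eq_fintype_card (α := QuaternionGroup 2), QuaternionGroup.card] at h2
    omega
  have h3 : 3 ∣ Nat.card φ.range := by
    have h1 : φ g ≠ 1 := fun e => hg (hk ▸ e)
    have h2 : φ g ^ 3 = 1 := (quat_aut_cases _).resolve_right fun e => h1 (orderOf_eq_one_iff.mp
      (Nat.eq_one_of_dvd_coprimes ((Nat.coprime_two_right.mpr ho).pow_right 2) (orderOf_map_dvd φ g)
        (orderOf_dvd_of_pow_eq_one e)))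
    exact (orderOf_eq_prime h2 h1) ▸ orderOf_dvd_natCard _ (⟨g, rfl⟩ : φ g ∈ φ.range)
  have h5 : Nat.card φ.range ≤ 24 := (card_le_card_group _).trans card_quat_aut_le
  have h6 : ∀ x : φ.range, orderOf x ≠ 6 := fun x hx => by
    rw [← orderOf_coe] at hx
    rcases quat_aut_cases x with h | h <;>
    · have := orderOf_dvd_of_pow_eq_one h
      rw [hx] at this
      omega
  have h7 : 0 < Nat.card φ.range := Nat.card_pos
  have h8 := hk ▸ quoIs_range φ
  have : Nat.card φ.range = 12 ∨ Nat.card φ.range = 24 := by omega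
  rcases this with h | h
  · exact Or.inl (h8.of_equiv (Linear.nonempty_equiv_A4 h h6).some)
  · exact Or.inr (h8.of_equiv (Linear.nonempty_equiv_S4 h h6).some)

theorem quoIs_of_quatData [Finite G] {a x : G} {n : ℕ} (h : Block.QuatData ⊤ a x (2 ^ (n + 1))) :
    (zpowers (a ^ 2)).Normal ∧ QuoIs (zpowers (a ^ 2)) (DihedralGroup 2) := by
  haveI hn : (zpowers (a ^ 2)).Normal := by
    have := h.le_normalizer_zpowers 2
    rw [zpow_ofNat] at this
    exact normalizer_eq_top_iff.mp (top_le_iff.mp this)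
  refine ⟨hn, ?_⟩
  have h1 : Nat.card (G ⧸ zpowers (a ^ 2)) = 4 := by
    have h2 := (zpowers (a ^ 2)).card_mul_index
    rw [Nat.card_zpowers, orderOf_pow, h.ord, Nat.gcd_eq_right (Dvd.intro _ rfl), Nat.mul_div_cancel_left _ two_pos,
      ← card_top (G := G), h.card_eq (by positivity), mul_comm 4] at h2
    exact Nat.eq_of_mul_eq_mul_left (by positivity) h2
  have h2 : ∀ q : G ⧸ zpowers (a ^ 2), q ^ 2 = 1 := fun q => by
    obtain ⟨g, rfl⟩ := QuotientGroup.mk_surjective q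
    rw [← QuotientGroup.mk_pow, QuotientGroup.eq_one_iff]
    obtain ⟨k, rfl | rfl⟩ := (h.mem g).mp trivial
    · exact ⟨k, by group⟩
    · rw [sq (x * a ^ k), h.refl_mul_self, pow_succ' 2, pow_mul]
      exact pow_mem (mem_zpowers _) _
  haveI : Nontrivial (G ⧸ zpowers (a ^ 2)) := Finite.one_lt_card_iff_nontrivial.mp (by omega)
  haveI : IsKleinFour (G ⧸ zpowers (a ^ 2)) := ⟨h1, (Monoid.exponent_eq_prime_iff Nat.prime_two).mpr fun g hg =>
    orderOf_eq_prime (h2 g) hg⟩
  exact QuoIs.of_equiv ⟨_, QuotientGroup.mk'_surjective _, QuotientGroup.ker_mk' _⟩ IsKleinFour.nonempty_mulEquiv.some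

theorem struct_of_core_eq_bot [Finite G] [Group.IsSolvable G] (hO : pPrimeCore 2 G = ⊥)
    (hu : ∀ s t : G, orderOf s = 2 → orderOf t = 2 → s = t) :
    ∃ N : Subgroup G, N.Normal ∧ IsCyclic N ∧ (N = ⊤ ∨ QuoIs N (DihedralGroup 2) ∨ QuoIs N (alternatingGroup (Fin 4)) ∨
      QuoIs N (Equiv.Perm (Fin 4))) := by
  have hC := centralizer_pCore_le_of_solvable Nat.prime_two hO
  haveI := pCore_characteristic 2 G
  by_cases h : ∀ g : G, Odd (orderOf g) → g ∈ 𝐂 (pCore 2 G)
  · have h2 : IsPGroup 2 G := fun g => by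
      obtain ⟨k, hk⟩ := exists_pow_coprime_orderOf (p := 2) g
      obtain ⟨l, hl⟩ := isPGroup_pCore 2 G ⟨_, hC (h _ (Nat.coprime_two_right.mp hk))⟩
      exact ⟨k, orderOf_eq_one_iff.mp (Nat.eq_one_of_dvd_coprimes (hk.pow_right l) dvd_rfl
        (orderOf_dvd_of_pow_eq_one (congrArg Subtype.val hl)))⟩
    rcases Block.isCyclic_or_quatData h2 hu with hc | ⟨a, x, n, hq⟩
    · exact ⟨⊤, inferInstance, inferInstance, Or.inl rfl⟩
    · exact ⟨_, (quoIs_of_quatData hq).1, inferInstance, Or.inr (Or.inl (quoIs_of_quatData hq).2)⟩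
  · push Not at h
    obtain ⟨g, h1, h2⟩ := h
    obtain ⟨⟨e⟩, -⟩ := (two_subgroup_cent (isPGroup_pCore 2 G) (fun s _ t _ => hu s t) (le_normalizer_of_normal (mem_top g))
      h1).resolve_left h2
    refine ⟨𝐂 (pCore 2 G), inferInstance, ?_, Or.inr (Or.inr (quoIs_of_normal_quat e h1 h2))⟩
    obtain ⟨a, ha⟩ := Block.exists_zpowers_eq_of_unique_involution ((isPGroup_pCore 2 G).to_le hC)
      (fun s hs t ht => mem_centralizer_iff.mp ht s (hC hs)) fun s _ t _ => hu s t
    rw [← ha]; infer_instance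

theorem exists_two_lift_of_odd [Finite G] {X : Type*} [Group X] {f : G →* X} (hf : Function.Surjective f)
    (hk : (Nat.card f.ker).Coprime 2) {y : X} (hy : orderOf y = 2) : ∃ x, orderOf x = 2 ∧ f x = y := by
  obtain ⟨x, rfl, hx⟩ := exists_lift_coprime hf (n := Nat.card f.ker) (y := y) (hy ▸ hk.symm)
  refine ⟨x, orderOf_eq_prime ?_ fun e => by simp [e] at hy, rfl⟩
  have h1 : x ^ 2 ∈ f.ker := by rw [MonoidHom.mem_ker, map_pow, ← hy, pow_orderOf_eq_one]
  exact orderOf_eq_one_iff.mp (Nat.eq_one_of_dvd_coprimes hx (orderOf_pow_dvd 2) (orderOf_dvd_natCard _ h1))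

namespace FC

variable [Finite G] (h : FC G)
include h

theorem isZGroup_of_map {X : Type*} [Group X] (f : G →* X) (hk : (Nat.card f.ker).Coprime 2) {N : Subgroup G}
    (hc : IsCyclic (N.map f)) : IsZGroup N := by
  refine (h.subgroup N).isZGroup_of_two fun P hP => ?_
  have h1 : Function.Injective ((f.comp N.subtype).comp P.subtype) := by
    rw [injective_iff_map_eq_one]
    intro x hx
    obtain ⟨k, hk'⟩ := hP x
    have h2 : orderOf ((x : N) : G) ∣ Nat.card f.ker := orderOf_dvd_natCard _ hx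
    rw [orderOf_coe, orderOf_coe] at h2
    exact orderOf_eq_one_iff.mp (Nat.eq_one_of_dvd_coprimes (hk.pow_right k) h2 (orderOf_dvd_of_pow_eq_one hk'))
  have h2 : IsCyclic ((f.comp N.subtype).comp P.subtype).range := PGrp.isCyclic_of_le' hc (by
    rintro _ ⟨x, rfl⟩
    exact ⟨x, (x : N).2, rfl⟩)
  exact isCyclic_of_surjective _ (MonoidHom.ofInjective h1).symm.surjective

theorem struct_of_solvable [Group.IsSolvable G] :
    ∃ N : Subgroup G, N.Normal ∧ IsZGroup N ∧ (N = ⊤ ∨ QuoIs N (DihedralGroup 2) ∨ QuoIs N (alternatingGroup (Fin 4)) ∨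
      QuoIs N (Equiv.Perm (Fin 4))) := by
  have hs := QuotientGroup.mk'_surjective (pPrimeCore 2 G)
  have hk : (Nat.card (QuotientGroup.mk' (pPrimeCore 2 G)).ker).Coprime 2 := by
    rw [QuotientGroup.ker_mk']; exact coprime_card_pPrimeCore 2 G
  obtain ⟨N, h1, h2, h3⟩ := struct_of_core_eq_bot (G := G ⧸ pPrimeCore 2 G) pPrimeCore_quotient_pPrimeCore fun s t hs' ht' => by
    obtain ⟨s, a1, rfl⟩ := exists_two_lift_of_odd hs hk hs'
    obtain ⟨t, a2, rfl⟩ := exists_two_lift_of_odd hs hk ht'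
    rw [h.inv_unique a1 a2]
  refine ⟨N.comap (QuotientGroup.mk' _), inferInstance, h.isZGroup_of_map _ hk (by rwa [map_comap_eq_self_of_surjective hs]), ?_⟩
  rcases h3 with rfl | h3 | h3 | h3
  · exact Or.inl rfl
  · exact Or.inr (Or.inl (h3.comap _ hs))
  · exact Or.inr (Or.inr (Or.inl (h3.comap _ hs)))
  · exact Or.inr (Or.inr (Or.inr (h3.comap _ hs)))

theorem struct_of_SL25 {L : Subgroup G} [L.Normal] (e : L ≃* SL25) :
    QuoIs (𝐂 L) (alternatingGroup (Fin 5)) ∨ QuoIs (𝐂 L) (Equiv.Perm (Fin 5)) := by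
  obtain ⟨f, h1, h2, -⟩ := exists_hom_S5 e
  have h3 := h1 ▸ quoIs_range f
  have h4 : f.range.index ∣ 2 := alternatingGroup.index_eq_two (α := Fin 5) ▸ index_dvd_of_le h2
  rcases (Nat.dvd_prime Nat.prime_two).mp h4 with h5 | h5
  · exact Or.inr (h3.of_equiv ((MulEquiv.subgroupCongr (index_eq_one.mp h5)).trans topEquiv))
  · exact Or.inl (h3.of_equiv (MulEquiv.subgroupCongr (Equiv.Perm.eq_alternatingGroup_of_index_eq_two h5)))

end FC

/-- every nontrivial normal subgroup contains a four-group -/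
def NoZ (X : Type*) [Group X] : Prop :=
  ∀ K : Subgroup X, K.Normal → K ≠ ⊥ → ∃ u ∈ K, ∃ v ∈ K, u ≠ 1 ∧ v ≠ 1 ∧ u ≠ v ∧ u * u = 1 ∧ v * v = 1 ∧ u * v = v * u

theorem not_isZGroup_of_pair {X : Type*} [Group X] [Finite X] {K : Subgroup X} {u v : X} (hu : u ∈ K) (hv : v ∈ K)
    (h1 : u ≠ 1) (h2 : v ≠ 1) (h3 : u ≠ v) (h4 : u * u = 1) (h5 : v * v = 1) (h6 : u * v = v * u) : ¬ IsZGroup K := fun _ => by
  have a1 : orderOf u = 2 := orderOf_eq_prime (by rw [sq, h4]) h1
  have a2 : orderOf v = 2 := orderOf_eq_prime (by rw [sq, h5]) h2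
  have hV := Invol.isKleinFour_closure a1 a2 h3 h6
  have hle : closure ({u, v} : Set X) ≤ K := (closure_le _).mpr (by rintro _ (rfl | rfl) <;> assumption)
  haveI : IsZGroup (closure ({u, v} : Set X)) := IsZGroup.of_injective (inclusion_injective hle)
  have := IsZGroup.exponent_eq_card (closure ({u, v} : Set X))
  rw [hV.card_four, hV.exponent_two] at this
  omega

theorem mem_of_injective {X : Type*} [Group X] {v : X} {K : Subgroup X} [K.Normal] (hK : K ≠ ⊥)
    (h : QuotientGroup.mk' K v ≠ 1 → Function.Injective (QuotientGroup.mk' K)) : v ∈ K := by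
  by_contra hv
  have := h fun e => hv ((QuotientGroup.eq_one_iff v).mp e)
  rw [← MonoidHom.ker_eq_bot_iff, QuotientGroup.ker_mk'] at this
  exact hK this

theorem noZ_A4 : NoZ (alternatingGroup (Fin 4)) := fun K _ hK => by
  have h := mem_of_injective hK (Linear.injective_A4 (QuotientGroup.mk' K))
  exact ⟨_, h, _, ‹K.Normal›.conj_mem _ h Linear.a4y, by decide⟩

theorem noZ_S4 : NoZ (Equiv.Perm (Fin 4)) := fun K _ hK => by
  have h := mem_of_injective hK (Linear.injective_S4 (QuotientGroup.mk' K))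
  exact ⟨_, h, _, ‹K.Normal›.conj_mem _ h Linear.s4y, by decide⟩

theorem noZ_A5 : NoZ (alternatingGroup (Fin 5)) := fun K hn hK => by
  obtain rfl := (IsSimpleGroup.eq_bot_or_eq_top_of_normal K hn).resolve_left hK
  exact ⟨⟨Equiv.swap 0 1 * Equiv.swap 2 3, Equiv.Perm.mem_alternatingGroup.2 (by decide)⟩, trivial,
    ⟨Equiv.swap 0 2 * Equiv.swap 1 3, Equiv.Perm.mem_alternatingGroup.2 (by decide)⟩, trivial, by decide⟩

theorem noZ_S5 : NoZ (Equiv.Perm (Fin 5)) := fun K hn hK => by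
  have h := Equiv.Perm.alternatingGroup_le_of_normal (α := Fin 5) (by simp) ((nontrivial_iff_ne_bot K).mpr hK)
  exact ⟨Equiv.swap 0 1 * Equiv.swap 2 3, h (Equiv.Perm.mem_alternatingGroup.2 (by decide)),
    Equiv.swap 0 2 * Equiv.swap 1 3, h (Equiv.Perm.mem_alternatingGroup.2 (by decide)), by decide⟩

theorem QuoIs.le_of_noZ [Finite G] {N M : Subgroup G} {X : Type*} [Group X] (h : QuoIs N X) (hX : NoZ X) [M.Normal]
    [IsZGroup M] : M ≤ N := by
  obtain ⟨f, h1, rfl⟩ := h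
  haveI : Finite X := Finite.of_surjective f h1
  rw [← Subgroup.map_eq_bot_iff]
  by_contra hc
  obtain ⟨u, hu, v, hv, a1, a2, a3, a4, a5, a6⟩ := hX _ (Normal.map inferInstance f h1) hc
  exact not_isZGroup_of_pair hu hv a1 a2 a3 a4 a5 a6 (IsZGroup.of_surjective (f.subgroupMap_surjective M))

theorem FC.eq_of_quoIs_klein [Finite G] (h : FC G) {N M : Subgroup G} (hN : QuoIs N (DihedralGroup 2))
    (hM : QuoIs M (DihedralGroup 2)) : N = M := by
  have c4 : Nat.card (DihedralGroup 2) = 4 := by rw [Nat.card_eq_fintype_card, DihedralGroup.card]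
  have i1 := hN.index.trans c4
  have i2 := hM.index.trans c4
  obtain ⟨f, -, rfl⟩ := hN
  obtain ⟨g, -, rfl⟩ := hM
  have e2 : ∀ y : DihedralGroup 2, y ^ 2 = 1 := by decide
  set K := f.ker ⊓ g.ker with hK
  have sq : ∀ x : G, x ^ 2 ∈ K := fun x => mem_inf.mpr ⟨by rw [MonoidHom.mem_ker, map_pow, e2], by
    rw [MonoidHom.mem_ker, map_pow, e2]⟩
  have key : K.index ≤ 4 := by
    obtain ⟨T, hT⟩ := exists_sylowIn (p := 2) (⊤ : Subgroup G)
    obtain ⟨n, hn⟩ := relIndex_eq_pow_of_pow_mem (p := 2) (H := ⊤) (K := K) le_normalizer_of_normal fun x _ => ⟨1, sq x⟩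
    have htop := hT.sup_eq_of_relIndex le_top hn
    obtain ⟨a, x, hax⟩ : ∃ a x : G, ∀ t ∈ T, ∃ k : ℤ, t = a ^ k ∨ t = x * a ^ k := by
      rcases Block.isCyclic_or_quatData' hT.isPGroup (fun s _ t _ hs ht => h.inv_unique ht hs) with hc | ⟨a, x, n, hq⟩
      · obtain ⟨a, rfl⟩ := PGrp.exists_zpowers_eq_of_isCyclic hc
        exact ⟨a, 1, fun t ⟨k, hk⟩ => ⟨k, Or.inl hk.symm⟩⟩
      · exact ⟨a, x, fun t ht => (hq.mem t).mp ht⟩
    have hpow : ∀ k : ℤ, ((a ^ k : G) : G ⧸ K) = 1 ∨ ((a ^ k : G) : G ⧸ K) = a := fun k => by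
      have h2 : ((a : G ⧸ K)) ^ (2 : ℤ) = 1 := by
        rw [zpow_ofNat, ← QuotientGroup.mk_pow, QuotientGroup.eq_one_iff]; exact sq a
      rcases Int.even_or_odd' k with ⟨j, rfl | rfl⟩
      · left; rw [QuotientGroup.mk_zpow, zpow_mul, h2, one_zpow]
      · right; rw [QuotientGroup.mk_zpow, zpow_add_one, zpow_mul, h2, one_zpow, one_mul]
    have hs : Function.Surjective (![1, a, x, x * a] : Fin 4 → G ⧸ K) := fun q => by
      obtain ⟨y, rfl⟩ := QuotientGroup.mk_surjective q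
      obtain ⟨k, hk, t, ht, rfl⟩ := mem_sup_of_normal_left.mp (htop ▸ mem_top y)
      rw [QuotientGroup.mk_mul, (QuotientGroup.eq_one_iff k).mpr hk, one_mul]
      obtain ⟨j, rfl | rfl⟩ := hax t ht
      · rcases hpow j with e | e <;> rw [e]
        exacts [⟨0, rfl⟩, ⟨1, rfl⟩]
      · rw [QuotientGroup.mk_mul]
        rcases hpow j with e | e <;> rw [e]
        exacts [⟨2, (mul_one _).symm⟩, ⟨3, rfl⟩]
    simpa [index] using Nat.card_le_card_of_surjective _ hs
  have fin : ∀ {A : Subgroup G}, K ≤ A → A.index = 4 → K = A := fun {A} h1 h2 => by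
    refine eq_of_le_of_card_ge h1 ?_
    have a1 := K.card_mul_index
    have a2 := A.card_mul_index
    rw [h2] at a2
    nlinarith
  rw [← fin inf_le_left i1, ← fin inf_le_right i2]

end Cfsg.Lib.Hall
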