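import Cfsg.Agent.Lib.Hall.FC7
import Cfsg.Agent.Lib.Mult.Meta

/-! Generators of Z-groups. -/

namespace Cfsg.Lib.Hall

open Subgroup _root_.Cfsg.Lib.Core _root_.Cfsg.Lib.Transfer
open scoped Pointwise commutatorElement

variable {G : Type*} [Group G]

local notation "𝐍" X:max => normalizer (SetLike.coe (X : Subgroup _))
local notation "𝐂" X:max => centralizer (SetLike.coe (X : Subgroup _))

theorem conj_pow_eq_pow_pow {x y : G} {r : ℕ} (h : x⁻¹ * y * x = y ^ r) (k : ℕ) : (x ^ k)⁻¹ * y * x ^ k = y ^ r ^ k := by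
  induction k with
  | zero => simp
  | succ k ih =>
    have : x⁻¹ * y ^ r ^ k * x = (x⁻¹ * y * x) ^ r ^ k := by
      have := conj_pow (a := x⁻¹) (b := y) (i := r ^ k)
      rw [inv_inv] at this
      exact this.symm
    rw [pow_succ, mul_inv_rev, show x⁻¹ * (x ^ k)⁻¹ * y * (x ^ k * x) = x⁻¹ * ((x ^ k)⁻¹ * y * x ^ k) * x by group, ih, this, h,
      ← pow_mul, pow_succ']

theorem pow_mod_eq_of_commute {x y : G} {r k : ℕ} (h : x⁻¹ * y * x = y ^ r) (hc : Commute (x ^ k) y) :
    r ^ k % orderOf y = 1 % orderOf y := by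
  rw [← pow_inj_mod, ← conj_pow_eq_pow_pow h, pow_one, mul_assoc, ← hc.eq, inv_mul_cancel_left]

theorem exists_zgroup_gens [Finite G] [IsZGroup G] : ∃ (x y : G) (r : ℕ), closure {x, y} = ⊤ ∧ zpowers y = commutator G ∧
    x⁻¹ * y * x = y ^ r ∧ (r - 1).Coprime (orderOf y) ∧ (orderOf x).Coprime (orderOf y) ∧ 1 ≤ r ∧
    orderOf x * orderOf y = Nat.card G := by
  obtain ⟨H, hH⟩ := exists_right_complement'_of_coprime (IsZGroup.coprime_commutator_index G)
  have h1 : Abelianization G ≃* H := hH.symm.QuotientMulEquiv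
  obtain ⟨x, rfl⟩ := PGrp.exists_zpowers_eq_of_isCyclic (isCyclic_of_surjective _ h1.surjective : IsCyclic H)
  obtain ⟨y, hy⟩ := PGrp.exists_zpowers_eq_of_isCyclic (IsZGroup.isCyclic_commutator G)
  have gen : closure {x, y} = (⊤ : Subgroup G) := by
    rw [Set.pair_comm, ← hH.sup_eq_top, ← hy, zpowers_eq_closure, zpowers_eq_closure, ← Subgroup.closure_union]
    rfl
  have h2 : x⁻¹ * y * x ∈ zpowers y := by
    rw [hy]
    exact (inferInstance : (commutator G).Normal).conj_mem' _ (hy ▸ mem_zpowers y) x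
  obtain ⟨k, hk⟩ := (mem_powers_iff_mem_zpowers).mpr h2
  have hr : x⁻¹ * y * x = y ^ (k + orderOf y) := by rw [pow_add, pow_orderOf_eq_one, mul_one]; exact hk.symm
  have hpos : 1 ≤ k + orderOf y := le_add_left (orderOf_pos y)
  generalize k + orderOf y = r at hr hpos
  have hc : ⁅x⁻¹, y⁆ = y ^ (r - 1) := by
    rw [commutatorElement_def, inv_inv, hr, mul_inv_eq_iff_eq_mul, ← pow_succ, Nat.sub_add_cancel hpos]
  have gen' : closure {y, x⁻¹} = (⊤ : Subgroup G) := by
    rw [eq_top_iff, ← gen, closure_le]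
    rintro _ (rfl | rfl)
    · exact (inv_mem_iff (x := _)).mp (subset_closure (by simp))
    · exact subset_closure (by simp)
  have h3 := Mult.commutator_le_zpowers gen' (hc ▸ Commute.self_pow y _) (by
    rw [hc, ← conj_pow, inv_inv, hr, ← pow_mul, mul_comm, pow_mul]
    exact pow_mem (mem_zpowers _) _)
  have h4 : y ∈ zpowers (y ^ (r - 1)) := hc ▸ h3 (hy ▸ mem_zpowers y)
  refine ⟨x, y, r, gen, hy, hr, mem_zpowers_pow_iff.mp h4, ?_, hpos, ?_⟩
  · rw [← Nat.card_zpowers, ← Nat.card_zpowers y, hy, ← hH.symm.index_eq_card]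
    exact (IsZGroup.coprime_commutator_index G).symm
  · rw [← Nat.card_zpowers, ← Nat.card_zpowers y, hy, mul_comm, hH.card_mul_card]

theorem FC.mem_center_of_isZGroup [Finite G] (h : FC G) [IsZGroup G] {y : G} (hp : (orderOf y).Prime)
    (hc : ¬ orderOf y ∣ Nat.card (commutator G)) : y ∈ center G := by
  haveI := h.normal_zpowers_of_isZGroup hp
  rw [mem_center_iff]
  intro g
  have h1 : ⁅g, y⁆ ∈ zpowers y := mul_mem (‹(zpowers y).Normal›.conj_mem _ (mem_zpowers y) g) (inv_mem (mem_zpowers y))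
  have h2 : ⁅g, y⁆ ∈ commutator G := commutator_mem_commutator (mem_top _) (mem_top _)
  rw [← commutatorElement_eq_one_iff_mul_comm, ← orderOf_eq_one_iff]
  exact Nat.eq_one_of_dvd_coprimes ((Nat.Prime.coprime_iff_not_dvd hp).mpr hc) (orderOf_dvd_of_mem_zpowers h1)
    (orderOf_dvd_natCard _ h2)

theorem mem_of_squarefree {H : Subgroup G} (n : ℕ) (hn : Squarefree n) : ∀ x : G, orderOf x = n →
    (∀ y ∈ zpowers x, (orderOf y).Prime → y ∈ H) → x ∈ H := by
  induction n using Nat.recOnPosPrimePosCoprime with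
  | prime_pow p k hp hk =>
    intro x hx h
    obtain rfl := (Nat.squarefree_pow_iff hp.ne_one hk.ne').mp hn |>.2
    exact h x (mem_zpowers x) (by rwa [hx, pow_one])
  | zero => exact absurd hn not_squarefree_zero
  | one => intro x hx _; rw [orderOf_eq_one_iff.mp hx]; exact one_mem _
  | coprime a b ha hb hab iha ihb =>
    intro x hx h
    have h1 := iha hn.of_mul_left (x ^ b) (by rw [orderOf_pow' _ (by omega), hx, Nat.gcd_mul_left_left, Nat.mul_div_cancel _ (by omega)])
      fun y hy => h y (zpowers_le.mpr (pow_mem (mem_zpowers x) b) hy)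
    have h2 := ihb hn.of_mul_right (x ^ a) (by rw [orderOf_pow' _ (by omega), hx, Nat.gcd_mul_right_left, Nat.mul_div_cancel_left _ (by omega)])
      fun y hy => h y (zpowers_le.mpr (pow_mem (mem_zpowers x) a) hy)
    have e := Nat.gcd_eq_gcd_ab a b
    rw [hab, Nat.cast_one] at e
    rw [← zpow_one x, e, zpow_add, zpow_mul, zpow_mul, zpow_natCast, zpow_natCast]
    exact mul_mem (zpow_mem h2 _) (zpow_mem h1 _)

theorem card_le_of_meta {x y : G} {n m r : ℕ} (hn : 0 < n) (hm : 0 < m) (gen : closure {x, y} = ⊤) (hx : x ^ n = 1)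
    (hy : y ^ m = 1) (h : x⁻¹ * y * x = y ^ r) : Finite G ∧ Nat.card G ≤ n * m := by
  have o1 : IsOfFinOrder x := isOfFinOrder_iff_pow_eq_one.mpr ⟨n, hn, hx⟩
  have o2 : IsOfFinOrder y := isOfFinOrder_iff_pow_eq_one.mpr ⟨m, hm, hy⟩
  have gen' : closure {y, x⁻¹} = (⊤ : Subgroup G) := by
    rw [eq_top_iff, ← gen, closure_le]
    rintro _ (rfl | rfl)
    · exact (inv_mem_iff (x := _)).mp (subset_closure (by simp))
    · exact subset_closure (by simp)
  have h1 : x⁻¹ * y * x⁻¹⁻¹ ∈ zpowers y := by rw [inv_inv, h]; exact pow_mem (mem_zpowers y) r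
  haveI := Mult.finite_of_meta gen' o2 o1.inv h1
  refine ⟨inferInstance, ?_⟩
  have hs : Function.Surjective fun p : zpowers y × zpowers x => (p.1 : G) * p.2 := fun g => by
    obtain ⟨i, j, rfl⟩ := Mult.exists_zpow_mul_zpow gen' (Mult.zpowers_normal gen' o2 h1) g
    exact ⟨(⟨_, zpow_mem (mem_zpowers y) i⟩, ⟨_, zpow_mem (inv_mem (mem_zpowers x)) j⟩), rfl⟩
  refine (Nat.card_le_card_of_surjective _ hs).trans ?_
  rw [Nat.card_prod, Nat.card_zpowers, Nat.card_zpowers, mul_comm]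
  exact Nat.mul_le_mul (orderOf_le_of_pow_eq_one hn hx) (orderOf_le_of_pow_eq_one hm hy)

end Cfsg.Lib.Hall
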