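import Cfsg.Agent.Lib.Hall.FC8

/-! Free representations and Frobenius complements. -/

namespace Cfsg.Lib.Hall

open Subgroup
open scoped TensorProduct

variable {G : Type*} [Group G]

theorem FC.of_rep {k M : Type*} [Semiring k] [AddCommGroup M] [Module k M] [Finite M] [Nontrivial M]
    (σ : G →* Module.End k M) (h : ∀ g, g ≠ 1 → ∀ m, σ g m = m → m = 0) : FC G := by
  let φ : G →* MulAut (Multiplicative M) :=
    { toFun := fun g =>
        { toFun := fun m => Multiplicative.ofAdd (σ g m.toAdd)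
          invFun := fun m => Multiplicative.ofAdd (σ g⁻¹ m.toAdd)
          left_inv := fun m => by simp [← Module.End.mul_apply, ← map_mul]
          right_inv := fun m => by simp [← Module.End.mul_apply, ← map_mul]
          map_mul' := fun a b => by simp }
      map_one' := by ext; simp
      map_mul' := fun a b => by ext; simp }
  exact FC.of_act φ fun g hg m hm => h g hg m.toAdd (congrArg Multiplicative.toAdd hm)

theorem FR.fc {R : Type*} [Ring R] [Algebra ℚ R] [Nontrivial R] [Finite G] {ρ : G →* R} (h : FR ρ) : FC G := by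
  obtain ⟨p, hp1, hp⟩ := Nat.exists_infinite_primes (Nat.card G + 1)
  have hpG : ¬ p ∣ Nat.card G := fun hd => by have := Nat.le_of_dvd Nat.card_pos hd; omega
  let Λ : Submodule ℤ R := Submodule.span ℤ (Set.range ρ)
  have hΛ : Λ.FG := Submodule.fg_span (Set.finite_range ρ)
  haveI : Module.Finite ℤ Λ := Module.Finite.iff_fg.mpr hΛ
  let τ : Representation ℤ G R := 
    { toFun := fun g => LinearMap.mulLeft ℤ (ρ g)
      map_one' := by ext; simp
      map_mul' := fun a b => by ext; simp }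
  have hτ : ∀ g, Λ ≤ Λ.comap (τ g) := fun g => Submodule.span_le.mpr (by
    rintro _ ⟨x, rfl⟩
    exact Submodule.subset_span ⟨g * x, map_mul ρ g x⟩)
  let σ := τ.subrepresentation Λ hτ
  let W : Submodule ℤ Λ := LinearMap.range ((p : ℤ) • (LinearMap.id : Λ →ₗ[ℤ] Λ))
  have hW : ∀ g, W ≤ W.comap (σ g) := fun g => by
    rintro _ ⟨x, rfl⟩
    exact ⟨σ g x, by simp⟩
  have hp0 : ∀ m : Λ ⧸ W, (p : ℤ) • m = 0 := fun m => by
    obtain ⟨x, rfl⟩ := Submodule.Quotient.mk_surjective W m
    rw [← Submodule.Quotient.mk_smul, Submodule.Quotient.mk_eq_zero]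
    exact ⟨x, rfl⟩
  haveI : Finite (Λ ⧸ W) := Module.finite_of_fg_torsion _ fun m =>
    ⟨⟨p, mem_nonZeroDivisors_of_ne_zero (by exact_mod_cast hp.ne_zero)⟩, hp0 m⟩
  haveI : Nontrivial (Λ ⧸ W) := by
    refine Submodule.Quotient.nontrivial_iff.mpr fun hW => ?_
    obtain ⟨r, h1, h2⟩ := Submodule.exists_sub_one_mem_and_smul_eq_zero_of_fg_of_le_smul (Ideal.span {(p : ℤ)}) Λ hΛ
      fun x hx => by
        obtain ⟨y, hy⟩ : (⟨x, hx⟩ : Λ) ∈ W := hW ▸ Submodule.mem_top
        rw [show x = (p : ℤ) • (y : R) from (congrArg Subtype.val hy).symm]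
        exact Submodule.smul_mem_smul (Ideal.mem_span_singleton_self _) y.2
    have h3 := h2 1 (Submodule.subset_span ⟨1, map_one ρ⟩)
    haveI : CharZero R := algebraRat.charZero R
    rw [zsmul_one, Int.cast_eq_zero] at h3
    rw [h3, Ideal.mem_span_singleton, zero_sub, dvd_neg, Int.natCast_dvd_ofNat] at h1
    exact hp.one_lt.ne' (Nat.dvd_one.mp h1)
  refine FC.of_rep (σ.quotient W hW) fun g hg m hm => ?_
  have h1 : ∀ i : ℕ, (σ.quotient W hW) (g ^ i) m = m := fun i => by
    induction i with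
    | zero => rw [pow_zero, map_one]; rfl
    | succ i ih => rw [pow_succ, map_mul, Module.End.mul_apply, hm, ih]
  have h2 : ∑ i ∈ Finset.range (orderOf g), (σ.quotient W hW) (g ^ i) m = 0 := by
    obtain ⟨x, rfl⟩ := Submodule.Quotient.mk_surjective W m
    have h3 : ∑ i ∈ Finset.range (orderOf g), σ (g ^ i) x = 0 := by
      apply Subtype.ext
      have := congrArg (· * (x : R)) (h.geom hg (pow_orderOf_eq_one g))
      simp only [Finset.sum_mul, zero_mul, ← map_pow] at this
      rw [Submodule.coe_sum]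
      exact this
    have := congrArg W.mkQ h3
    rwa [map_sum, map_zero] at this
  simp only [h1, Finset.sum_const, Finset.card_range] at h2
  have h4 : addOrderOf m ∣ p := addOrderOf_dvd_of_nsmul_eq_zero (by rw [← natCast_zsmul]; exact hp0 m)
  exact AddMonoid.addOrderOf_eq_one_iff.mp (Nat.eq_one_of_dvd_coprimes ((Nat.Prime.coprime_iff_not_dvd hp).mpr
    fun hd => hpG (hd.trans (orderOf_dvd_natCard g))) h4 (addOrderOf_dvd_of_nsmul_eq_zero h2))

theorem isUnit_sub_one_of_pow {R : Type*} [Ring R] {u : R} {n : ℕ} (h : IsUnit (u ^ n - 1)) : IsUnit (u - 1) := by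
  rw [← mul_geom_sum] at h
  refine ((Commute.isUnit_mul_iff ?_).mp h).1
  rw [Commute, SemiconjBy, mul_geom_sum, geom_sum_mul]

theorem FR.fc_prod {A B R S : Type*} [Group A] [Finite A] [Group B] [Finite B] [Ring R] [Algebra ℚ R] [Nontrivial R]
    [Ring S] [Algebra ℚ S] [Nontrivial S] {ρ : A →* R} {σ : B →* S} (hρ : FR ρ) (hσ : FR σ)
    (hc : (Nat.card A).Coprime (Nat.card B)) : FC (A × B) := by
  let τ : A × B →* R ⊗[ℚ] S :=
    { toFun := fun g => ρ g.1 ⊗ₜ σ g.2
      map_one' := by simp [Algebra.TensorProduct.one_def]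
      map_mul' := fun a b => by simp [Algebra.TensorProduct.tmul_mul_tmul] }
  refine FR.fc (ρ := τ) fun ⟨a, b⟩ hg => ?_
  by_cases ha : a = 1
  · have hb : b ≠ 1 := fun e => hg (by rw [ha, e]; rfl)
    have := (hσ b hb).map (Algebra.TensorProduct.includeRight (R := ℚ) (A := R))
    rw [map_sub, map_one] at this
    subst ha
    convert this using 2
    show ρ 1 ⊗ₜ[ℚ] σ b = _
    simp
  · refine isUnit_sub_one_of_pow (n := Nat.card B) ?_
    have h1 : a ^ Nat.card B ≠ 1 := fun e => ha (orderOf_eq_one_iff.mp (Nat.eq_one_of_dvd_coprimes hc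
      (orderOf_dvd_natCard a) (orderOf_dvd_of_pow_eq_one e)))
    have := (hρ _ h1).map (Algebra.TensorProduct.includeLeft (R := ℚ) (S := ℚ) (B := S))
    rw [map_sub, map_one] at this
    convert this using 2
    rw [← map_pow]
    show ρ (a ^ Nat.card B) ⊗ₜ[ℚ] σ (b ^ Nat.card B) = _
    simp

theorem FC.prod {A B : Type*} [Group A] [Finite A] [Group B] [Finite B] (hA : FC A) (hB : FC B)
    (hc : (Nat.card A).Coprime (Nat.card B)) : FC (A × B) := by
  obtain ⟨n, ρ, hn, hρ⟩ := hA.exists_rep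
  obtain ⟨m, σ, hm, hσ⟩ := hB.exists_rep
  haveI : Nonempty (Fin n) := ⟨⟨0, hn⟩⟩
  haveI : Nonempty (Fin m) := ⟨⟨0, hm⟩⟩
  exact FR.fc_prod (ρ := ρ) (σ := σ) hρ hσ hc

theorem FC.exists_irr_rep [Finite G] (h : FC G) (k : Type*) [Field k] [Algebra k ℂ] :
    ∃ (n : ℕ) (σ : G →* Module.End k (Fin n → k)), 0 < n ∧
      (∀ W : Submodule k (Fin n → k), (∀ g, ∀ w ∈ W, σ g w ∈ W) → W = ⊥ ∨ W = ⊤) ∧ ∀ g, g ≠ 1 → ∀ v, σ g v = v → v = 0 := by
  classical
  obtain ⟨n, ρ, hn, hρ⟩ := h.exists_rep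
  haveI : Nonempty (Fin n) := ⟨⟨0, hn⟩⟩
  let τ : Representation k G (Fin n → ℂ) :=
    { toFun := fun g => (ρ g).restrictScalars k
      map_one' := by ext; simp
      map_mul' := fun a b => by ext; simp }
  let P : ℕ → Prop := fun d => ∃ W : Submodule k (Fin n → ℂ), W.FG ∧ W ≠ ⊥ ∧ (∀ g, W ≤ W.comap (τ g)) ∧ Module.finrank k W = d
  have hP : ∃ d, P d := by
    obtain ⟨v, hv⟩ := exists_ne (0 : Fin n → ℂ)
    refine ⟨_, Submodule.span k (Set.range fun g => τ g v), Submodule.fg_span (Set.finite_range _), fun e => hv ?_,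
      fun g => Submodule.span_le.mpr ?_, rfl⟩
    · rw [← Submodule.mem_bot k, ← e]
      exact Submodule.subset_span ⟨1, by simp⟩
    · rintro _ ⟨x, rfl⟩
      exact Submodule.subset_span ⟨g * x, by simp⟩
  obtain ⟨W, h1, h2, h3, h4⟩ := Nat.find_spec hP
  haveI : Module.Finite k W := Module.Finite.iff_fg.mpr h1
  let e : W ≃ₗ[k] (Fin (Module.finrank k W) → k) := (Module.finBasis k W).equivFun
  let σ := τ.subrepresentation W h3
  refine ⟨Module.finrank k W, e.conjRingEquiv.toMonoidHom.comp σ, ?_, fun U hU => ?_, fun g hg v hv => ?_⟩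
  · exact Nat.pos_of_ne_zero fun e => h2 (Submodule.finrank_eq_zero.mp e)
  · by_contra hc
    push Not at hc
    let U' : Submodule k W := U.comap e.toLinearMap
    have hU' : U' ≠ ⊤ := fun e' => hc.2 (eq_top_iff.mpr fun u _ => by
      have : e.symm u ∈ U' := e' ▸ Submodule.mem_top
      simpa [U'] using this)
    refine Nat.find_min hP (m := Module.finrank k (U'.map W.subtype)) ?_ ⟨_, ?_, fun e' => hc.1 ?_, fun g => ?_, rfl⟩
    · rw [← h4, Submodule.finrank_map_subtype_eq]
      exact Submodule.finrank_lt hU'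
    · exact (IsNoetherian.noetherian U').map _
    · rw [eq_bot_iff]
      intro u hu
      have : (e.symm u : Fin n → ℂ) ∈ U'.map W.subtype := ⟨e.symm u, by simpa [U'] using hu, rfl⟩
      rw [e', Submodule.mem_bot] at this
      simpa using this
    · rintro _ ⟨u, hu, rfl⟩
      refine ⟨σ g u, ?_, rfl⟩
      have := hU g (e u) hu
      simpa [U', LinearEquiv.conj_apply] using this
  · have h5 : σ g (e.symm v) = e.symm v := by
      apply e.injective
      simpa [LinearEquiv.conj_apply] using hv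
    have h6 : (ρ g - 1) (e.symm v : Fin n → ℂ) = 0 := by
      rw [LinearMap.sub_apply, sub_eq_zero]
      exact congrArg Subtype.val h5
    have h7 := (LinearMap.isUnit_iff_ker_eq_bot _).mp (hρ g hg)
    rw [← LinearMap.mem_ker, h7, Submodule.mem_bot] at h6
    simpa using h6

end Cfsg.Lib.Hall
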