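import Cfsg.Agent.Lib.FG.ExtraChar
import Cfsg.Agent.Lib.Coprime.Glaub
import Cfsg.Agent.Lib.Clifford.Amb
import Cfsg.Agent.Lib.BG1.Sec1

/-! Characters of groups of class two extended by coprime automorphisms (for fixed-point-free actions). -/

set_option autoImplicit false
set_option linter.unusedSectionVars false

namespace Cfsg.Lib.Hall
open Subgroup Cfsg.Lib.Core Cfsg.Lib.Amalg Cfsg.Lib.BG1 Cfsg.Lib.Clifford Cfsg.Lib.Char
open scoped commutatorElement ComplexConjugate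

variable {G : Type*} [Group G] [Finite G] {R A L H T : Subgroup G} {χ θ ψ : G → ℂ}

/-- Clifford reduction: a character of `R A` without trivial constituent on `A`. -/
theorem fa_exists_inertia (hn : A ≤ 𝐍(R)) (hRA : R ⊓ A = ⊥) (hχ : CharOn (R ⊔ A) χ) (h0 : dot A χ 1 = 0)
    (hθ : IrrOn R θ) (hd : dot R χ θ ≠ 0) :
    ∃ ψ, IrrOn (R ⊔ inertia A R θ) ψ ∧ dot R ψ θ ≠ 0 ∧ dot (inertia A R θ) ψ 1 = 0 := by
  have hN : Nrm (R ⊔ A) R := nrm_of_le_normalizer (sup_le le_normalizer hn)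
  obtain ⟨φ, hφ, h1, h2⟩ := exists_between le_sup_left hχ.classOn hd
  have hφ' := irrOn_of_mem hφ
  have h3 : dot A φ 1 = 0 := by
    by_contra h
    exact CharOn.dot_ne_zero_trans le_sup_right hχ hφ' (charOn_one A) h1 h h0
  obtain ⟨ψ, hψ, h4, h5, -⟩ := exists_ind_inertia le_sup_left hN hθ hφ' h2
  have hRI : R ≤ inertia (R ⊔ A) R θ := le_inertia le_sup_left hN hθ.classOn
  have e1 : inertia A R θ = inertia (R ⊔ A) R θ ⊓ A := inertia_of_le le_sup_right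
  have e2 : R ⊔ inertia A R θ = inertia (R ⊔ A) R θ := by
    refine le_antisymm (sup_le hRI (e1.le.trans inf_le_left)) fun x hx => ?_
    obtain ⟨r, hr, a, ha, rfl⟩ := (Coprime.mem_sup_iff_of_le_normalizer hn).1 (inertia_le hx)
    refine mul_mem (mem_sup_left hr) (mem_sup_right ?_)
    rw [e1]
    exact ⟨by simpa using mul_mem (inv_mem (hRI hr)) hx, ha⟩
  refine ⟨ψ, e2 ▸ irrOn_of_mem hψ, h4, ?_⟩
  rw [e1, ← dot_ind_left inf_le_right ψ (classOn_one A), ← h3]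
  refine dot_congr_left (fun x hx => ?_) _
  rw [← ind_mackey inertia_le le_sup_right ?_ (irrOn_of_mem hψ).classOn hx, h5, cut_of_mem _ (mem_sup_right hx)]
  intro k hk
  obtain ⟨r, hr, a, ha, rfl⟩ := (Coprime.mem_sup_iff_of_le_normalizer hn).1 hk
  exact ⟨r, hRI hr, a, ha, rfl⟩

theorem fa_invOn_inertia (hn : A ≤ 𝐍(R)) : InvOn (inertia A R θ) R θ :=
  invOn_inertia (nrm_of_le_normalizer hn)

theorem fa_mem_inertia (hn : A ≤ 𝐍(R)) {a : G} : a ∈ inertia A R θ ↔ a ∈ A ∧ ∀ x ∈ R, θ (a * x * a⁻¹) = θ x :=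
  mem_inertia (nrm_of_le_normalizer hn)

/-- with a cyclic inertia group the character extends -/
theorem fa_exists_ext (hn : A ≤ 𝐍(R)) (hRA : R ⊓ A = ⊥) (hχ : CharOn (R ⊔ A) χ) (h0 : dot A χ 1 = 0)
    (hθ : IrrOn R θ) (hd : dot R χ θ ≠ 0) (hc : IsCyclic (inertia A R θ)) :
    ∃ ψ, CharOn (R ⊔ inertia A R θ) ψ ∧ (∀ x ∈ R, ψ x = θ x) ∧ dot (inertia A R θ) ψ 1 = 0 := by
  obtain ⟨ψ, h1, h2, h3⟩ := fa_exists_inertia hn hRA hχ h0 hθ hd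
  have hn' : inertia A R θ ≤ 𝐍(R) := inertia_le.trans hn
  have hN : Nrm (R ⊔ inertia A R θ) R := nrm_of_le_normalizer (sup_le le_normalizer hn')
  have hinv : InvOn (R ⊔ inertia A R θ) R θ :=
    Coprime.invOn_sup (nrm_self R) (nrm_of_le_normalizer hn') hθ.classOn (fa_invOn_inertia hn)
  obtain ⟨η, hη, e⟩ := exists_ext_of_isCyclic (sup_comm _ _) hN hθ hinv
  haveI : IsMulCommutative (inertia A R θ) := IsCyclic.isMulCommutative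
  refine ⟨ψ, h1.charOn, fun x hx => ?_, h3⟩
  rw [← e x hx]
  exact ext_of_abelian le_sup_left hN (Coprime.commutator_sup_le_of_comm hn') (irrOn_of_mem hη).charOn
    (hθ.congr fun x hx => (e x hx).symm) h1 (by rwa [dot_congr_right _ e]) x hx

theorem fa_inertia_ne_bot (hn : A ≤ 𝐍(R)) (hRA : R ⊓ A = ⊥) (hχ : CharOn (R ⊔ A) χ) (h0 : dot A χ 1 = 0)
    (hθ : IrrOn R θ) (hd : dot R χ θ ≠ 0) : inertia A R θ ≠ ⊥ := by
  obtain ⟨ψ, h1, -, h3⟩ := fa_exists_inertia hn hRA hχ h0 hθ hd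
  intro e
  rw [e, dot_bot] at h3
  exact h1.one_ne_zero (by simpa using h3)

/-- the kernel of `θ` on the derived subgroup -/
def kc (R : Subgroup G) (θ : G → ℂ) : Subgroup G := kerOn R θ ⊓ ⁅R, R⁆

/-- the centre of `θ` -/
def zc (R : Subgroup G) (θ : G → ℂ) : Subgroup G := R ⊓ centQuo (kc R θ) R

theorem zc_le : zc R θ ≤ R := inf_le_left

theorem kc_le : kc R θ ≤ ⁅R, R⁆ := inf_le_right

theorem le_norm_kc (h2 : ⁅R, R⁆ ≤ 𝐂(R)) : R ≤ 𝐍(kc R θ) :=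
  (le_cent_symm (kc_le.trans h2)).trans (centralizer_le_normalizer _)

theorem le_norm_kc' (hθ : CharOn R θ) (hT : T ≤ 𝐍(R)) (h : ∀ g ∈ T, ∀ z ∈ ⁅R, R⁆, θ (g * z * g⁻¹) = θ z) :
    T ≤ 𝐍(kc R θ) := by
  refine Nrm.le_normalizer fun g hg z hz => ⟨?_, Coprime.conj_mem (le_normalizer_commutator hT hT) hg hz.2⟩
  have h1 := hθ.mem_kerOn.1 hz.1
  exact hθ.mem_kerOn.2 ⟨Coprime.conj_mem hT hg h1.1, by rw [h g hg z hz.2, h1.2]⟩

theorem le_norm_zc (hθ : CharOn R θ) (hT : T ≤ 𝐍(R)) (h : ∀ g ∈ T, ∀ z ∈ ⁅R, R⁆, θ (g * z * g⁻¹) = θ z) :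
    T ≤ 𝐍(zc R θ) :=
  le_normalizer_inf hT (le_norm_centQuo (le_norm_kc' hθ hT h) hT)

theorem le_norm_zc_of_invOn (hθ : CharOn R θ) (hT : T ≤ 𝐍(R)) (h : InvOn T R θ) : T ≤ 𝐍(zc R θ) :=
  le_norm_zc hθ hT fun g hg z hz => h g hg z (Subgroup.commutator_le_self R hz)

theorem le_norm_zc_of_cent (hθ : CharOn R θ) (hT : T ≤ 𝐍(R)) (h : T ≤ 𝐂(⁅R, R⁆)) : T ≤ 𝐍(zc R θ) :=
  le_norm_zc hθ hT fun g hg z hz => by rw [← h hg z hz, mul_inv_cancel_right]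

theorem le_zc_iff (h2 : ⁅R, R⁆ ≤ 𝐂(R)) (hH : H ≤ R) : H ≤ zc R θ ↔ ⁅R, H⁆ ≤ kerOn R θ := by
  rw [zc, le_inf_iff, and_iff_right hH, le_centQuo_iff (le_norm_kc h2) (hH.trans (le_norm_kc h2)), kc, le_inf_iff,
    and_iff_left (commutator_mono le_rfl hH)]

theorem mem_zc (h2 : ⁅R, R⁆ ≤ 𝐂(R)) (hθ : CharOn R θ) {x : G} :
    x ∈ zc R θ ↔ x ∈ R ∧ ∀ y ∈ R, θ (y * x * y⁻¹ * x⁻¹) = θ 1 := by
  refine ⟨fun h => ⟨h.1, fun y hy => ?_⟩, fun h => ?_⟩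
  · exact (hθ.mem_kerOn.1 ((le_zc_iff h2 zc_le).1 le_rfl (commutator_mem_commutator hy h))).2
  · rw [← zpowers_le, le_zc_iff h2 (zpowers_le.2 h.1)]
    have hK : R ≤ 𝐍(kerOn R θ) := Nrm.le_normalizer hθ.classOn.nrm_kerOn
    rw [← le_centQuo_iff hK ((zpowers_le.2 h.1).trans hK), zpowers_le, centQuo, mem_mpre_iff (hK h.1)]
    rintro _ ⟨y, hy, rfl⟩
    rw [← commutatorElement_eq_one_iff_mul_comm, ← map_commutatorElement]
    exact (qmk_eq_one_iff _).2 (hθ.mem_kerOn.2 ⟨Subgroup.commutator_le_self R (commutator_mem_commutator hy h.1), h.2 y hy⟩)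

theorem cent_le_zc (h2 : ⁅R, R⁆ ≤ 𝐂(R)) : R ⊓ 𝐂(R) ≤ zc R θ := by
  rw [le_zc_iff h2 inf_le_left, commutator_eq_bot_iff_le_centralizer.2 (le_cent_symm inf_le_right)]
  exact bot_le

theorem der_le_zc (h2 : ⁅R, R⁆ ≤ 𝐂(R)) : ⁅R, R⁆ ≤ zc R θ :=
  (le_inf (Subgroup.commutator_le_self R) h2).trans (cent_le_zc h2)

theorem self_le_norm_zc (h2 : ⁅R, R⁆ ≤ 𝐂(R)) : R ≤ 𝐍(zc R θ) :=
  Nrm.le_normalizer fun g hg x hx => by
    have := mul_mem (der_le_zc (θ := θ) h2 (commutator_mem_commutator hg (zc_le hx))) hx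
    rwa [commutatorElement_def, inv_mul_cancel_right] at this

theorem ker_le_zc (h2 : ⁅R, R⁆ ≤ 𝐂(R)) (hθ : CharOn R θ) : kerOn R θ ≤ zc R θ := by
  rw [le_zc_iff h2 kerOn_le]
  exact commutator_le_right_of_norm (Nrm.le_normalizer hθ.classOn.nrm_kerOn)

theorem zc_congr (e : ∀ x ∈ R, θ x = ψ x) : zc R θ = zc R ψ := by rw [zc, zc, kc, kc, kerOn_congr e]

theorem zc_vanish (h2 : ⁅R, R⁆ ≤ 𝐂(R)) (hθ : IrrOn R θ) {y : G} (hy : y ∈ R) (hy' : y ∉ zc R θ) : θ y = 0 := by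
  by_contra h0
  refine hy' ((mem_zc h2 hθ.charOn).2 ⟨hy, fun x hx => ?_⟩)
  have h1 := commutator_mem_commutator hx hy
  obtain ⟨c, -, hc⟩ := FG.irr_central hθ (Subgroup.commutator_le_self R h1) (h2 h1)
  have h3 := hc y hy
  rw [commutatorElement_def, inv_mul_cancel_right, hθ.classOn x hx y hy, eq_comm, mul_eq_right₀ h0] at h3
  simpa [h3, commutatorElement_def] using hc 1 R.one_mem

theorem zc_norm (h2 : ⁅R, R⁆ ≤ 𝐂(R)) (hθ : IrrOn R θ) {x : G} (hx : x ∈ zc R θ) : ‖θ x‖ = ‖θ 1‖ := by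
  have h1 := (mem_zc h2 hθ.charOn).1 hx
  refine (Cfsg.IsIrrCharacter.mem_charCenter (G := R) hθ (x := ⟨x, h1.1⟩)).1
    ((Cfsg.IsIrrCharacter.mem_charCenter_iff_commutator hθ).2 fun y => ?_)
  rw [← commutatorElement_inv]
  exact inv_mem ((Cfsg.IsCharacter.mem_charKer hθ.charOn).2 (h1.2 y y.2))

theorem fa_scalar (hψ : CharOn L ψ) (h1 : ψ 1 ≠ 0) {x : G} (hx : x ∈ L) (h : ‖ψ x‖ = ‖ψ 1‖) :
    ∃ c : ℂ, ‖c‖ = 1 ∧ ∀ y ∈ L, ψ (x * y) = c * ψ y := by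
  obtain ⟨c, hc⟩ := mem_charCenter_def.1 ((Cfsg.IsCharacter.mem_charCenter (G := L) hψ (x := ⟨x, hx⟩)).2 h)
  refine ⟨c, ?_, fun y hy => hc ⟨y, hy⟩⟩
  have := hc 1
  rw [mul_one] at this
  change ψ x = c * ψ 1 at this
  rw [this, norm_mul] at h
  exact (mul_eq_right₀ (norm_ne_zero_iff.2 h1)).1 h

theorem zc_deg_sq (h2 : ⁅R, R⁆ ≤ 𝐂(R)) (hθ : IrrOn R θ) : charDegree θ ^ 2 = (zc R θ).relIndex R := by
  have h1 := dot_of_supp zc_le (fun x => zc_vanish h2 hθ) θ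
  rw [hθ.dot_self, mul_one, dot_self_eq, Finset.sum_congr rfl (g := fun _ => (charDegree θ : ℝ) ^ 2) fun z hz => by
    rw [zc_norm h2 hθ (mem_elems.1 hz), hθ.one_eq, Complex.norm_natCast], Finset.sum_const, card_elems, nsmul_eq_mul,
    inv_mul_cancel_left₀ (Nat.cast_ne_zero.2 Nat.card_pos.ne')] at h1
  exact_mod_cast h1

theorem zc_eq_iff (h2 : ⁅R, R⁆ ≤ 𝐂(R)) (hθ : CharOn R θ) : zc R θ = R ↔ Triv ⁅R, R⁆ θ := by
  rw [← hθ.le_kerOn (Subgroup.commutator_le_self R), ← le_zc_iff h2 le_rfl]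
  exact ⟨fun h => h.ge, fun h => le_antisymm zc_le h⟩

theorem fa_sum_normSq (hRL : R ≤ L) (hN : Nrm L R) (hψ : CharOn L ψ) (hψR : IrrOn R ψ) {a : G} (ha : a ∈ L)
    (hc : (orderOf a).Coprime (Nat.card R)) :
    ∑ c ∈ elems (R ⊓ centralizer {a}), ‖ψ (c * a)‖ ^ 2 = Nat.card ↥(R ⊓ centralizer {a}) := by
  have h1 := Coprime.dot_cent_eq_avg hRL hN hψ.classOn hψ.classOn ha hc
  rw [Coprime.avg_mul_star_self hRL hN hψ hψR ha, dot_self_eq] at h1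
  have h2 : (Nat.card ↥(R ⊓ centralizer {a}) : ℝ)⁻¹ * ∑ c ∈ elems (R ⊓ centralizer {a}), ‖ψ (c * a)‖ ^ 2 = 1 := by
    exact_mod_cast h1
  exact ((inv_mul_eq_one₀ (Nat.cast_ne_zero.2 Nat.card_pos.ne')).1 h2).symm

theorem fa_normSq_le (h2 : ⁅R, R⁆ ≤ 𝐂(R)) (hRL : R ≤ L) (hN : Nrm L R) (hψ : CharOn L ψ) (hψR : IrrOn R ψ) {a : G}
    (ha : a ∈ L) (hc : (orderOf a).Coprime (Nat.card R)) :
    ‖ψ a‖ ^ 2 ≤ (zc R ψ).relIndex (R ⊓ centralizer {a}) := by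
  have h1 := fa_sum_normSq hRL hN hψ hψR ha hc
  set C := R ⊓ centralizer {a}
  have h3 : ∑ c ∈ elems (zc R ψ ⊓ C), ‖ψ (c * a)‖ ^ 2 ≤ ∑ c ∈ elems C, ‖ψ (c * a)‖ ^ 2 :=
    Finset.sum_le_sum_of_subset_of_nonneg (elems_mono inf_le_right) fun _ _ _ => by positivity
  rw [h1, Finset.sum_congr rfl (g := fun _ => ‖ψ a‖ ^ 2) fun c hc => by
    have hc' := (mem_elems.1 hc).1
    obtain ⟨e, he, h⟩ := fa_scalar hψ hψR.one_ne_zero (hRL (zc_le hc')) (zc_norm h2 hψR hc')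
    rw [h a ha, norm_mul, he, one_mul], Finset.sum_const, card_elems, nsmul_eq_mul,
    ← card_mul_relIndex (inf_le_right : zc R ψ ⊓ C ≤ C), inf_relIndex_right, Nat.cast_mul] at h3
  exact le_of_mul_le_mul_left h3 (Nat.cast_pos.2 Nat.card_pos)

theorem fa_norm_eq_one (h2 : ⁅R, R⁆ ≤ 𝐂(R)) (hRL : R ≤ L) (hN : Nrm L R) (hψ : CharOn L ψ) (hψR : IrrOn R ψ) {a : G}
    (ha : a ∈ L) (hc : (orderOf a).Coprime (Nat.card R)) (hC : R ⊓ centralizer {a} ≤ zc R ψ) : ‖ψ a‖ = 1 := by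
  have h1 := fa_sum_normSq hRL hN hψ hψR ha hc
  rw [Finset.sum_congr rfl (g := fun _ => ‖ψ a‖ ^ 2) fun c hc => by
    have hc' := hC (mem_elems.1 hc)
    obtain ⟨e, he, h⟩ := fa_scalar hψ hψR.one_ne_zero (hRL (zc_le hc')) (zc_norm h2 hψR hc')
    rw [h a ha, norm_mul, he, one_mul], Finset.sum_const, card_elems, nsmul_eq_mul,
    mul_eq_left₀ (Nat.cast_ne_zero.2 Nat.card_pos.ne')] at h1
  exact (pow_eq_one_iff_of_nonneg (norm_nonneg _) two_ne_zero).1 h1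

theorem fa_deg_le_sum [DecidableEq G] (hχ : CharOn H χ) (h0 : dot H χ 1 = 0) :
    (charDegree χ : ℝ) ≤ ∑ x ∈ (elems H).erase 1, ‖χ x‖ := by
  rw [dot, mul_eq_zero, or_iff_right (inv_ne_zero (Clifford.card_ne_zero H)),
    ← Finset.add_sum_erase _ _ (mem_elems.2 H.one_mem), add_eq_zero_iff_eq_neg] at h0
  have h1 := (congrArg norm h0).trans_le ((norm_neg _).trans_le (norm_sum_le _ _))
  simpa only [Pi.one_apply, map_one, mul_one, hχ.one_eq, Complex.norm_natCast] using h1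

end Cfsg.Lib.Hall
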