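import Cfsg.Agent.Lib.Hall.FpfA
import Cfsg.Agent.Lib.HH.ThmB
import Cfsg.Agent.Lib.PGrp.Cyclic
import Mathlib.RingTheory.ZMod.UnitsCyclic

/-! A cyclic `p`-group acting fixed-point-freely on `R V`: its subgroup of order `p` centralises `R / C_R(V)`. -/

set_option autoImplicit false
set_option linter.unusedSectionVars false

namespace Cfsg.Lib.Hall
open Subgroup Cfsg.Lib.Core Cfsg.Lib.Amalg Cfsg.Lib.BG1 Cfsg.Lib.Clifford Cfsg.Lib.Char
open scoped commutatorElement ComplexConjugate IsMulCommutative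

theorem fb_nt {p x k j r m d : ℕ} (hp : p.Prime) (hp2 : p ≠ 2) (hr : 1 < r) (hd : 0 < d) (hx : r ^ d + 1 = p ^ k)
    (hm : 0 < m) (h : p ^ (j + k) ∣ r ^ m - 1) (hxe : x = r ^ d) : (x ^ 2) ^ p ^ j ≤ r ^ m := by
  have hp3 : 3 ≤ p := by have := hp.two_le; omega
  have hrd : r ≤ r ^ d := Nat.le_self_pow hd.ne' r
  have hk : k ≠ 0 := by rintro rfl; simp at hx; omega
  have hcast : ∀ n e : ℕ, ((r : ZMod n) ^ e = 1 ↔ n ∣ r ^ e - 1) := fun n e => by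
    rw [← Nat.cast_pow, ← Nat.cast_one (R := ZMod n), ZMod.natCast_eq_natCast_iff, Nat.ModEq.comm,
      Nat.modEq_iff_dvd' (Nat.one_le_pow _ _ (by omega))]
  have h1 : (r : ZMod (p ^ k)) ^ (2 * d) = 1 := by
    rw [hcast, ← hx, mul_comm, pow_mul, show (r ^ d) ^ 2 - 1 = (r ^ d + 1) * (r ^ d - 1) by
      rw [← Nat.sq_sub_sq, one_pow]]
    exact Dvd.intro _ rfl
  have h2 : orderOf (r : ZMod (p ^ k)) = 2 * d := by
    have hd1 := orderOf_dvd_of_pow_eq_one h1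
    have hpos : 0 < orderOf (r : ZMod (p ^ k)) := Nat.pos_of_dvd_of_pos hd1 (by omega)
    obtain ⟨c, hc⟩ := hd1
    by_contra hne
    have hc2 : 2 ≤ c := by
      rcases c with _ | _ | c
      · omega
      · omega
      · omega
    have h3 : orderOf (r : ZMod (p ^ k)) ≤ d := by nlinarith
    have h4 := Nat.le_of_dvd (Nat.sub_pos_of_lt (Nat.one_lt_pow hpos.ne' hr)) ((hcast _ _).1 (pow_orderOf_eq_one _))
    have h5 := Nat.pow_le_pow_right (by omega : 0 < r) h3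
    omega
  obtain ⟨e, rfl⟩ : 2 * d ∣ m := by
    rw [← h2]
    exact orderOf_dvd_of_pow_eq_one ((hcast _ _).2 ((pow_dvd_pow p (by omega)).trans h))
  have h3 : (r : ZMod (p ^ (j + k))) ^ (2 * d) = 1 + p ^ k * ((p ^ k - 2 : ℤ) : ZMod (p ^ (j + k))) := by
    have : (r : ZMod (p ^ (j + k))) ^ d = p ^ k - 1 := by
      rw [← Nat.cast_pow, ← Nat.cast_pow, ← hx]; push_cast; ring
    rw [mul_comm, pow_mul, this]; push_cast; ring
  have h4 := ZMod.orderOf_one_add_mul_prime_pow hp k hk (by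
    have : 1 ≤ k := Nat.pos_of_ne_zero hk
    nlinarith) (p ^ k - 2) (by
    intro hd
    have : (p : ℤ) ∣ 2 := by
      have := dvd_sub (dvd_pow_self (p : ℤ) hk) hd
      simpa using this
    exact hp2 ((Nat.prime_dvd_prime_iff_eq hp Nat.prime_two).1 (by exact_mod_cast this))) j
  have h5 : p ^ j ∣ e := by
    rw [← h4, ← h3]
    exact orderOf_dvd_of_pow_eq_one (by rw [← pow_mul, hcast]; exact h)
  rw [hxe, ← pow_mul, ← pow_mul]
  refine Nat.pow_le_pow_right (by omega) ?_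
  have := Nat.le_of_dvd (Nat.pos_of_mul_pos_left hm) h5
  nlinarith

variable {G : Type*} [Group G] [Finite G] {R A B D H L T V : Subgroup G} {χ θ ψ : G → ℂ} {p r : ℕ}

theorem fb_card_dvd (hn : A ≤ 𝐍(R)) (hD : D ≤ R) (hRD : R ≤ 𝐍(D)) (hAD : A ≤ 𝐍(D))
    (hc : (Nat.card A).Coprime (Nat.card R)) (h : ∀ a ∈ A, a ≠ 1 → R ⊓ centralizer {a} ≤ D) :
    Nat.card A ∣ D.relIndex R - 1 := by
  have hcD := Coprime.coprime_card_of_le hc le_rfl hD
  have h1 : Coprime.Fpf (quo D R) (quo D A) := by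
    rintro _ hb h1
    obtain ⟨a, haD, ha, rfl⟩ := mem_mim.1 hb
    have hz : zpowers a ≤ A := zpowers_le.2 ha
    rw [← PGrp.centralizer_zpowers, ← mim_zpowers, ← quo_inf_cent (hz.trans hAD) hRD (hz.trans hn)
      (Coprime.coprime_card_of_le hcD hz le_rfl) (Or.inl (Coprime.isSolvable_zpowers a)),
      quo_eq_bot_iff (inf_le_left.trans hRD), PGrp.centralizer_zpowers]
    exact h a ha (by rintro rfl; exact h1 (map_one _))
  have h2 := h1.card_dvd (mim_norm _ hn)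
  rwa [card_quo hRD, card_mim_of_inf_eq_bot hAD (by rw [mker_qmk]; exact Coprime.inf_eq_bot_of_coprime_card hcD)] at h2

theorem fb_semireg (h2 : ⁅R, R⁆ ≤ 𝐂(R)) (hn : H ≤ 𝐍(R)) (hc : (Nat.card H).Coprime (Nat.card R))
    [IsMulCommutative H] (hψ : CharOn (R ⊔ H) ψ) (hψR : IrrOn R ψ) (h0 : dot H ψ 1 = 0)
    (h : ∀ a ∈ H, a ≠ 1 → R ⊓ centralizer {a} ≤ zc R ψ) : charDegree ψ = 1 ∨ charDegree ψ + 1 = Nat.card H := by
  have h1 : ∀ a ∈ H, a ≠ 1 → ‖ψ a‖ = 1 := fun a ha h1 =>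
    fa_norm_eq_one h2 le_sup_left (nrm_of_le_normalizer (sup_le le_normalizer hn)) hψ hψR (mem_sup_right ha)
      (hc.coprime_dvd_left (H.orderOf_dvd_natCard ha)) (h a ha h1)
  have h3 := FG.deg_le_of_norm_eq_one (hψ.mono le_sup_right) h1 h0
  have h4 := hψR.deg_pos
  have h5 : 0 < Nat.card H := Nat.card_pos
  rcases FG.dvd_of_norm_eq_one (hψ.mono le_sup_right) (fun a ha b hb => Coprime.mul_comm_of_mem ha hb) h1 with h6 | h6
  · have := Int.le_of_dvd (by positivity) h6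
    omega
  · by_contra hne
    have := Int.le_of_dvd (by omega) h6
    omega

/-- the central character on the derived subgroup -/
noncomputable def fbZeta (h2 : ⁅R, R⁆ ≤ 𝐂(R)) (hθ : IrrOn R θ) : ↥⁅R, R⁆ →* ℂ where
  toFun z := θ z / θ 1
  map_one' := div_self hθ.one_ne_zero
  map_mul' z w := by
    obtain ⟨c, -, hc⟩ := FG.irr_central hθ (Subgroup.commutator_le_self R z.2) (h2 z.2)
    have h1 := hc 1 R.one_mem
    rw [mul_one] at h1
    have := hθ.one_ne_zero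
    rw [coe_mul, hc w (Subgroup.commutator_le_self R w.2), h1]
    field_simp

theorem fb_der_comm (h2 : ⁅R, R⁆ ≤ 𝐂(R)) : IsMulCommutative ↥⁅R, R⁆ :=
  ⟨⟨fun a b => Subtype.ext (h2 b.2 a (Subgroup.commutator_le_self R a.2))⟩⟩

/-- norm trick: an element of `R'` which is nontrivial only on the `A₁`-part gives a fixed point -/
theorem fb_norm_trick (h2 : ⁅R, R⁆ ≤ 𝐂(R)) (hn : A ≤ 𝐍(R)) (hc : (Nat.card A).Coprime (Nat.card R))
    (hfix : R ⊓ 𝐂(A) = ⊥) (hθ : IrrOn R θ) {z : G} (hz : z ∈ ⁅R, R⁆)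
    (h : ∀ a ∈ A, a ∉ inertia A R θ → θ (a * z * a⁻¹) = θ 1) : θ z = θ 1 := by
  classical
  haveI := fb_der_comm h2
  haveI := Fintype.ofFinite A
  have hn' : A ≤ 𝐍(⁅R, R⁆) := le_normalizer_commutator hn hn
  have h1 := Coprime.prod_conjAut_mem_centralizer hn' ⟨z, hz⟩
  have h3 : (∏ a : A, Coprime.conjAut hn' a ⟨z, hz⟩ : ↥⁅R, R⁆) = 1 :=
    Subtype.ext (mem_bot.1 (hfix.le ⟨Subgroup.commutator_le_self R (Subtype.prop _), h1⟩))
  have h4 := congrArg (fbZeta h2 hθ) h3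
  rw [map_prod, map_one, Finset.prod_congr rfl (g := fun a : A =>
    if (a : G) ∈ inertia A R θ then fbZeta h2 hθ ⟨z, hz⟩ else 1) fun a _ => by
      split_ifs with ha
      · exact congrArg (· / θ 1) (fa_invOn_inertia hn a ha z (Subgroup.commutator_le_self R hz))
      · exact (congrArg (· / θ 1) (h a a.2 ha)).trans (div_self hθ.one_ne_zero),
    Finset.prod_ite, Finset.prod_const_one, mul_one, Finset.prod_const] at h4
  have h5 : (Finset.univ.filter fun a : A => (a : G) ∈ inertia A R θ).card = Nat.card (inertia A R θ) := by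
    rw [← Nat.card_congr (subgroupOfEquivOfLe (inertia_le (K := A) (N := R) (θ := θ))).toEquiv, ← Fintype.card_subtype,
      ← Nat.card_eq_fintype_card]
    rfl
  have h6 : fbZeta h2 hθ ⟨z, hz⟩ ^ Nat.card ↥⁅R, R⁆ = 1 := by rw [← map_pow, pow_card_eq_one', map_one]
  have h7 := eq_one_of_pow_of_coprime
    (Coprime.coprime_card_of_le hc inertia_le (Subgroup.commutator_le_self R)) (h5 ▸ h4) h6
  exact (div_eq_one_iff_eq hθ.one_ne_zero).1 h7

theorem fb_triv_of_lin (hB : B ≤ 𝐍(R)) (hθ : IrrOn R θ) (h1 : charDegree θ = 1) (hi : InvOn B R θ) :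
    ⁅R, B⁆ ≤ kerOn R θ := by
  rw [commutator_comm]
  exact commutator_le.2 fun g hg x hx => (hθ.charOn.linOn_of_deg h1).commutator_mem (nrm_of_le_normalizer hB) hi hg hx

theorem fb_le_of_ne_bot (hp : p.Prime) (hA : IsCyclic A) (hAp : IsPGroup p A) (hB : B ≤ A) (hBp : Nat.card B ∣ p)
    (hH : H ≤ A) (h : H ≠ ⊥) : B ≤ H := by
  haveI := Fact.mk hp
  refine PGrp.le_of_card_dvd_of_isCyclic hA hB hH (hBp.trans ?_)
  obtain ⟨n, hn⟩ := (hAp.to_le hH).exists_card_eq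
  rw [hn]
  exact dvd_pow_self p fun e => h (card_eq_one.1 (by rw [hn, e, pow_zero]))

theorem fb_exists_deg (hr : r.Prime) (hR : IsPGroup r R) (h2 : ⁅R, R⁆ ≤ 𝐂(R)) (hθ : IrrOn R θ) :
    ∃ d, charDegree θ = r ^ d := by
  haveI := Fact.mk hr
  obtain ⟨n, hn⟩ := hR.exists_card_eq
  have h1 : charDegree θ ∣ r ^ n := by
    rw [← hn]
    exact (Dvd.intro _ (by rw [← sq, zc_deg_sq h2 hθ])).trans (relIndex_dvd_card _ _)
  obtain ⟨d, -, hd⟩ := (Nat.dvd_prime_pow hr).1 h1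
  exact ⟨d, hd⟩

theorem fb_core (hp : p.Prime) (hr : r.Prime) (hA : IsCyclic A) (hAp : IsPGroup p A) (hB : B ≤ A)
    (hBp : Nat.card B ∣ p) (hp2 : p ≠ 2 ∨ Nat.card A ≤ 4) (hR : IsPGroup r R) (hn : A ≤ 𝐍(R))
    (hc : (Nat.card A).Coprime (Nat.card R)) (h2 : ⁅R, R⁆ ≤ 𝐂(R)) (hRB : ⁅R, B⁆ = R) (hCB : R ⊓ 𝐂(B) ≤ 𝐂(R))
    (hfix : R ⊓ 𝐂(A) = ⊥) (hχ : CharOn (R ⊔ A) χ) (h0 : dot A χ 1 = 0) : Triv R χ := by
  classical
  haveI := Fact.mk hp
  haveI := Fact.mk hr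
  intro x₀ hx₀
  refine InvOn.eq_of_forall (hχ.mono le_sup_left).classOn hx₀ fun θ hθ' hd => ?_
  by_contra hne
  have hθ := irrOn_of_mem hθ'
  have hRA : R ⊓ A = ⊥ := Coprime.inf_eq_bot_of_coprime_card hc
  set A₁ := inertia A R θ with hA₁
  have hA₁A : A₁ ≤ A := inertia_le
  have hBA₁ : B ≤ A₁ := fb_le_of_ne_bot hp hA hAp hB hBp hA₁A (fa_inertia_ne_bot hn hRA hχ h0 hθ hd)
  have hcyc : IsCyclic A₁ := PGrp.isCyclic_of_le' hA hA₁A
  obtain ⟨ψ, hψ, e, hψ0⟩ := fa_exists_ext hn hRA hχ h0 hθ hd hcyc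
  have hψR : IrrOn R ψ := hθ.congr fun x hx => (e x hx).symm
  have hdeg : charDegree ψ = charDegree θ := by rw [charDegree, charDegree, e 1 R.one_mem]
  have hd1 : charDegree θ ≠ 1 := fun h1 =>
    hne (triv_kerOn x₀ (fb_triv_of_lin (hB.trans hn) hθ h1 ((fa_invOn_inertia hn).mono hBA₁ le_rfl) (hRB.ge hx₀)))
  have hCa : ∀ a ∈ A, a ≠ 1 → R ⊓ centralizer {a} ≤ R ⊓ 𝐂(R) := fun a ha h1 => by
    refine le_inf inf_le_left (le_trans (inf_le_inf_left _ ?_) hCB)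
    rw [← PGrp.centralizer_zpowers]
    exact centralizer_le (fb_le_of_ne_bot hp hA hAp hB hBp (zpowers_le.2 ha) (zpowers_ne_bot.2 h1))
  haveI := PGrp.isMulCommutative_of_isCyclic hcyc
  have h3 := (fb_semireg h2 (hA₁A.trans hn) (Coprime.coprime_card_of_le hc hA₁A le_rfl) hψ hψR hψ0
    fun a ha h1 => (hCa a (hA₁A ha) h1).trans (cent_le_zc h2)).resolve_left (hdeg ▸ hd1)
  rw [hdeg] at h3
  set Z := zc R θ with hZ
  have hZn : A₁ ≤ 𝐍(Z) := le_norm_zc_of_invOn hθ.charOn (hA₁A.trans hn) (fa_invOn_inertia hn)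
  set Y := R ⊓ ⨅ a : {a : A // (a : G) ∉ A₁}, cj (a.1 : G) Z with hY
  have hmemY : ∀ y, y ∈ Y ↔ y ∈ R ∧ ∀ a ∈ A, a ∉ A₁ → a * y * a⁻¹ ∈ Z := fun y => by
    simp only [hY, mem_inf, mem_iInf, mem_cj]
    refine and_congr_right fun _ => ⟨fun h a ha ha' => ?_, fun h a => ?_⟩
    · simpa using h ⟨⟨a⁻¹, inv_mem ha⟩, fun h => ha' (inv_mem_iff.1 h)⟩
    · simpa using h (a.1 : G)⁻¹ (inv_mem a.1.2) fun h => a.2 (inv_mem_iff.1 h)
  have hN := zc_deg_sq h2 hθ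
  have hN1 : 1 < charDegree θ := by have := hθ.deg_pos; omega
  -- `R = Y Z`
  have hYZ : Z.relIndex R ≤ Z.relIndex Y := by
    by_cases hAA : A₁ = A
    · have : Y = R := le_antisymm inf_le_left fun y hy => (hmemY y).2 ⟨hy, fun a ha h => absurd (hAA ▸ ha) h⟩
      rw [this]
    obtain ⟨k, hk⟩ := (hAp.to_le hA₁A).exists_card_eq
    obtain ⟨j, hj⟩ : ∃ j, A₁.relIndex A = p ^ j := by
      obtain ⟨n, hn⟩ := hAp.exists_card_eq
      obtain ⟨j, -, hj⟩ := (Nat.dvd_prime_pow hp).1 (hn ▸ relIndex_dvd_card A₁ A)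
      exact ⟨j, hj⟩
    have hcA : Nat.card A = p ^ (j + k) := by rw [← card_mul_relIndex hA₁A, hk, hj, pow_add, mul_comm]
    have hp2' : p ≠ 2 := by
      rcases hp2 with h | h
      · exact h
      rintro rfl
      have h1 : 2 ≤ A₁.relIndex A := by
        have := relIndex_ne_zero' (A := A₁) (B := A)
        have := mt relIndex_eq_one.1 fun h => hAA (le_antisymm hA₁A h)
        omega
      have := card_mul_relIndex hA₁A
      nlinarith
    have hZR : R ⊓ 𝐂(R) ≤ Z ⊓ Y := le_inf (cent_le_zc h2) fun y hy => (hmemY y).2 ⟨hy.1, fun a ha _ =>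
      cent_le_zc h2 (Coprime.conj_mem (le_normalizer_inf hn (hn.trans (PGrp.normalizer_le_normalizer_centralizer' R))) ha hy)⟩
    have hmemD : ∀ y, y ∈ Z ⊓ Y ↔ y ∈ R ∧ ∀ a ∈ A, a * y * a⁻¹ ∈ Z := fun y => by
      rw [mem_inf, hmemY]
      refine ⟨fun h => ⟨h.2.1, fun a ha => ?_⟩, fun h => ⟨by simpa using h.2 1 A.one_mem, h.1, fun a ha _ => h.2 a ha⟩⟩
      by_cases h1 : a ∈ A₁
      · exact Coprime.conj_mem hZn h1 h.1
      · exact h.2.2 a ha h1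
    have hdvd := fb_card_dvd (D := Z ⊓ Y) hn (inf_le_left.trans zc_le) (Nrm.le_normalizer fun g hg x hx => by
        have := mul_mem (hZR (le_inf (Subgroup.commutator_le_self R) h2
          (commutator_mem_commutator hg (zc_le hx.1)))) hx
        rwa [commutatorElement_def, inv_mul_cancel_right] at this)
      (Nrm.le_normalizer fun g hg x hx => (hmemD _).2 ⟨Coprime.conj_mem hn hg ((hmemD _).1 hx).1, fun a ha => by
        have := ((hmemD _).1 hx).2 (a * g) (mul_mem ha hg)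
        rwa [show a * g * x * (a * g)⁻¹ = a * (g * x * g⁻¹) * a⁻¹ by group] at this⟩) hc
      fun a ha h1 => (hCa a ha h1).trans hZR
    obtain ⟨d, hd⟩ := fb_exists_deg hr hR h2 hθ
    obtain ⟨m, hm⟩ : ∃ m, (Z ⊓ Y).relIndex R = r ^ m := by
      obtain ⟨n, hn⟩ := hR.exists_card_eq
      obtain ⟨j, -, hj⟩ := (Nat.dvd_prime_pow hr).1 (hn ▸ relIndex_dvd_card (Z ⊓ Y) R)
      exact ⟨j, hj⟩
    have hm0 : 0 < m := Nat.pos_of_ne_zero fun e => by
      have := relIndex_le_of_le_left (inf_le_left : Z ⊓ Y ≤ Z) (relIndex_ne_zero' (B := R))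
      rw [hm, e, ← hN] at this
      nlinarith
    have h4 := fb_nt hp hp2' hr.one_lt (Nat.pos_of_ne_zero fun e => hd1 (by rw [hd, e, pow_zero]))
      (by rw [← hd, h3, hk]) hm0 (by rw [← hcA, ← hm]; exact hdvd) hd
    have h5 : Y.relIndex R ≤ Z.relIndex R ^ (p ^ j - 1) := by
      haveI := Fintype.ofFinite (A ⧸ A₁.subgroupOf A)
      have h6 : (⨅ q : {q : A ⧸ A₁.subgroupOf A // q ≠ ((1 : A) : A ⧸ A₁.subgroupOf A)},
          cj ((q.1.out : A) : G) Z) ≤ ⨅ a : {a : A // (a : G) ∉ A₁}, cj (a.1 : G) Z := by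
        refine le_iInf fun a => ?_
        have h7 : (a.1 : A ⧸ A₁.subgroupOf A) ≠ ((1 : A) : A ⧸ A₁.subgroupOf A) := fun e' =>
          a.2 (by simpa [mem_subgroupOf] using QuotientGroup.eq.1 e')
        refine (iInf_le _ ⟨_, h7⟩).trans (le_of_eq ?_)
        obtain ⟨h, hh⟩ := QuotientGroup.mk_out_eq_mul (A₁.subgroupOf A) a.1
        rw [hh, coe_mul, cj_mul, cj_of_mem_normalizer (g := ((h : A) : G)) (hZn h.2)]
      rw [hY, inf_comm, inf_relIndex_right]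
      refine (relIndex_le_of_le_left h6 relIndex_ne_zero').trans ((relIndex_iInf_le _).trans (le_of_eq ?_))
      rw [Finset.prod_congr rfl (g := fun _ => Z.relIndex R) fun q _ => by
        conv_lhs => rw [← cj_of_mem_normalizer (hn q.1.out.2), relIndex_cj], Finset.prod_const, Finset.card_univ,
        Fintype.card_subtype_compl, Fintype.card_subtype_eq, ← hj, ← Nat.card_eq_fintype_card]
      rfl
    rw [← hm, hN, ← relIndex_inf_mul_relIndex, inf_eq_left.2 (inf_le_left : Y ≤ R)] at h4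
    have h7 : Z.relIndex R ^ p ^ j = Z.relIndex R * Z.relIndex R ^ (p ^ j - 1) := by
      rw [← pow_succ', Nat.sub_add_cancel (Nat.one_le_pow _ _ hp.pos)]
    rw [h7] at h4
    exact Nat.le_of_mul_le_mul_right (h4.trans (Nat.mul_le_mul_left _ h5)) (pow_pos relIndex_pos _)
  have hK : R ≤ 𝐍(kerOn R θ) := Nrm.le_normalizer hθ.classOn.nrm_kerOn
  have hYR : Y ≤ R := inf_le_left
  have hYY : ⁅Y, Y⁆ ≤ kerOn R θ := commutator_le.2 fun x hx y hy => by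
    have hz := commutator_mem_commutator (hYR hx) (hYR hy)
    refine hθ.charOn.mem_kerOn.2 ⟨Subgroup.commutator_le_self R hz, fb_norm_trick h2 hn hc hfix hθ hz fun a ha ha' => ?_⟩
    rw [← ((mem_zc h2 hθ.charOn).1 (((hmemY y).1 hy).2 a ha ha')).2 _ (Coprime.conj_mem hn ha (hYR hx))]
    congr 1
    rw [commutatorElement_def]; group
  have h8 : R ≤ centQuo (kerOn R θ) Y := fun g hg => by
    obtain ⟨y, hy, z, hz, rfl⟩ := Coprime.exists_mul_of_relIndex_eq hYR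
      (le_antisymm (relIndex_le_of_le_right hYR relIndex_ne_zero') hYZ) hg
    exact mul_mem (le_centQuo (hYR.trans hK) (hYR.trans hK) hYY hy) (le_centQuo (hYR.trans hK) (zc_le.trans hK)
      ((commutator_mono hYR le_rfl).trans ((le_zc_iff h2 zc_le).1 le_rfl)) hz)
  have h9 : Y ≤ Z := (le_zc_iff h2 hYR).2 (commutator_comm Y R ▸ commutator_le_of_le_centQuo (hYR.trans hK) h8)
  rw [relIndex_eq_one.2 h9, ← hN] at hYZ
  nlinarith

theorem fb_quo_faithful (hRV : R ≤ 𝐍(V)) (hc : (Nat.card R).Coprime (Nat.card V)) :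
    quo (R ⊓ 𝐂(V)) R ⊓ 𝐂(quo (R ⊓ 𝐂(V)) V) = ⊥ := by
  have hRN : R ≤ 𝐍(R ⊓ 𝐂(V)) :=
    le_normalizer_inf le_normalizer (hRV.trans (PGrp.normalizer_le_normalizer_centralizer' V))
  have hVN : V ≤ 𝐍(R ⊓ 𝐂(V)) := (le_cent_symm inf_le_right).trans (centralizer_le_normalizer _)
  rw [eq_bot_iff]
  intro _ h
  obtain ⟨hy, hy'⟩ := mem_inf.1 h
  obtain ⟨x, hxN, hx, rfl⟩ := mem_mim.1 hy
  have hz : zpowers x ≤ R := zpowers_le.2 hx
  rw [← zpowers_le, ← mim_zpowers, quo_cent_iff (hz.trans hRN) hVN] at hy'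
  rw [mem_bot, qmk_eq_one_iff]
  refine ⟨hx, zpowers_le.1 (commutator_eq_bot_iff_le_centralizer.1 (le_bot_iff.1 ?_))⟩
  rw [← Coprime.inf_eq_bot_of_coprime_card hc.symm]
  exact le_inf (hy'.trans inf_le_left) (commutator_le_right_of_norm (hz.trans hRV))

theorem fb_exists_min {P : Subgroup G} (hPR : P ≤ 𝐍(R)) (hB : ¬ B ≤ 𝐂(R)) :
    ∃ Q, Q ≤ R ∧ P ≤ 𝐍(Q) ∧ ¬ B ≤ 𝐂(Q) ∧ ∀ S < Q, P ≤ 𝐍(S) → B ≤ 𝐂(S) := by
  obtain ⟨Q, ⟨h1, h2, h3⟩, hmin⟩ := exists_minimal_of_wellFoundedLT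
    (fun Q : Subgroup G => Q ≤ R ∧ P ≤ 𝐍(Q) ∧ ¬ B ≤ 𝐂(Q)) ⟨R, le_rfl, hPR, hB⟩
  exact ⟨Q, h1, h2, h3, fun S hS hn => by
    by_contra hc
    exact hS.not_ge (hmin ⟨hS.le.trans h1, hn, hc⟩ hS.le)⟩

theorem fb_min_props {P Q : Subgroup G} (hQ : Group.IsNilpotent Q) (hBP : B ≤ P) (hPB : P ≤ 𝐍(B))
    (hPQ : P ≤ 𝐍(Q)) (hcop : (Nat.card B).Coprime (Nat.card Q)) (hB : ¬ B ≤ 𝐂(Q))
    (hmin : ∀ S < Q, P ≤ 𝐍(S) → B ≤ 𝐂(S)) : ⁅Q, B⁆ = Q ∧ Q ⊓ 𝐂(B) ≤ 𝐂(Q) ∧ ⁅Q, Q⁆ ≤ 𝐂(Q) ∧ B ≤ 𝐂(⁅Q, Q⁆) := by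
  obtain ⟨h1, h2⟩ := HH.min_props hQ hBP hPB hPQ hcop hB hmin
  have h0 : Q ≠ ⊥ := by rintro rfl; exact hB (le_cent_symm bot_le)
  have h3 := hmin ⁅Q, Q⁆ (der_lt_of_solvable (solvable_of_nilpotent hQ) h0) (le_normalizer_commutator hPQ hPQ)
  exact ⟨h1, h2, (le_inf (Subgroup.commutator_le_self Q) (le_cent_symm h3)).trans h2, h3⟩

/-- Shult, Gross -/
theorem fb_lemX (hp : p.Prime) (hr : r.Prime) (hA : IsCyclic A) (hAp : IsPGroup p A) (hB : B ≤ A)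
    (hBp : Nat.card B ∣ p) (hp2 : p ≠ 2 ∨ Nat.card A ≤ 4) (hR : IsPGroup r R) (hn : A ≤ 𝐍(R))
    (hc : (Nat.card A).Coprime (Nat.card R)) (hV : Group.IsSolvable V) (hAV : A ≤ 𝐍(V)) (hRV : R ≤ 𝐍(V))
    (hcA : (Nat.card A).Coprime (Nat.card V)) (hcR : (Nat.card R).Coprime (Nat.card V))
    (hfix : R ⊓ 𝐂(A) = ⊥) (hfV : V ⊓ 𝐂(A) = ⊥) : ⁅R, B⁆ ≤ 𝐂(V) := by
  by_contra hne
  set N := R ⊓ 𝐂(V) with hN
  have hRN : R ≤ 𝐍(N) := le_normalizer_inf le_normalizer (hRV.trans (PGrp.normalizer_le_normalizer_centralizer' V))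
  have hAN : A ≤ 𝐍(N) := le_normalizer_inf hn (hAV.trans (PGrp.normalizer_le_normalizer_centralizer' V))
  have hVN : V ≤ 𝐍(N) := (le_cent_symm inf_le_right).trans (centralizer_le_normalizer _)
  have hcN := Coprime.coprime_card_of_le hc le_rfl (inf_le_left : N ≤ R)
  haveI := PGrp.isMulCommutative_of_isCyclic hA
  have hsA : Group.IsSolvable A := inferInstance
  obtain ⟨Q, hQ, hAQ, hBQ, hmin⟩ := fb_exists_min (P := quo N A) (B := quo N B) (mim_norm _ hn) fun h =>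
    hne (commutator_comm B R ▸ ((quo_cent_iff (hB.trans hAN) hRN).1 h).trans inf_le_right)
  have hQr := (isPGroup_mim (qmk N) hR).to_le hQ
  have hcQ := Coprime.coprime_card_of_le (coprime_card_mim (qmk N) hc) le_rfl hQ
  obtain ⟨h1, h2, h3, -⟩ := fb_min_props (nilpotent_of_pgroup hr hQr) (mim_mono _ hB)
    (mim_norm _ (le_normalizer.trans (PGrp.normalizer_le_normalizer_of_isCyclic hA hB))) hAQ
    (Coprime.coprime_card_of_le hcQ (mim_mono _ hB) le_rfl) hBQ hmin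
  have hQV : Q ⊔ quo N A ≤ 𝐍(quo N V) := sup_le (hQ.trans (mim_norm _ hRV)) (mim_norm _ hAV)
  obtain ⟨χ, hχ, hd⟩ := Coprime.exists_brauer_lift hQV (by
    rw [Coprime.card_sup_of_disjoint' hAQ (Coprime.inf_eq_bot_of_coprime_card hcQ)]
    exact Nat.Coprime.mul_left (Coprime.coprime_card_of_le (coprime_card_mim _ hcR) hQ le_rfl) (coprime_card_mim _ hcA))
    (isSolvable_mim _ hV)
  have h4 := fb_core hp hr (isCyclic_mim _ hA) (isPGroup_mim _ hAp) (mim_mono _ hB) ((card_mim_dvd _ _).trans hBp)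
    (hp2.imp_right fun h => (Nat.le_of_dvd Nat.card_pos (card_mim_dvd _ _)).trans h) hQr hAQ hcQ h3 h1 h2
    (le_bot_iff.1 ((inf_le_inf_right _ hQ).trans (by
      rw [← quo_inf_cent hAN hRN hn hcN (Or.inl hsA), hfix, mim_bot]))) hχ (by
      rw [hd _ le_sup_right, ← quo_inf_cent hAN hVN hAV hcN (Or.inl hsA), hfV, mim_bot, card_bot]
      simp)
  rw [Coprime.triv_iff_le_centralizer_of_lift hχ hd le_sup_left] at h4
  have h5 : Q = ⊥ := le_bot_iff.1 ((le_inf hQ h4).trans (fb_quo_faithful hRV hcR).le)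
  exact hBQ (le_cent_symm (h5.le.trans bot_le))

end Cfsg.Lib.Hall
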