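import Cfsg.Agent.Lib.Hall.FpfB
import Cfsg.Agent.Lib.SigC.FitLen
import Cfsg.Agent.Lib.PGrp.Critical
import Cfsg.Agent.Lib.Coprime.FrobCompl

/-! Reductions from Fitting series to towers of `p`-subgroups. -/

set_option autoImplicit false
set_option linter.unusedSectionVars false

namespace Cfsg.Lib.Hall
open Subgroup Cfsg.Lib.Core Cfsg.Lib.Amalg Cfsg.Lib.BG1 Cfsg.Lib.SigC
open scoped commutatorElement

universe u v
variable {G : Type*} [Group G] [Finite G] {A B K N P X : Subgroup G} {p q : ℕ}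

theorem fc_coprime_of_ne {r : ℕ} (hp : p.Prime) (hr : r.Prime) (h : p ≠ r) (hA : IsPGroup p A) (hB : IsPGroup r B) :
    (Nat.card A).Coprime (Nat.card B) := by
  haveI := Fact.mk hp
  haveI := Fact.mk hr
  obtain ⟨a, ha⟩ := hA.exists_card_eq
  obtain ⟨b, hb⟩ := hB.exists_card_eq
  rw [ha, hb]
  exact Nat.coprime_pow_primes _ _ hp hr h

theorem fc_le_fitting (hq : q.Prime) (hP : IsPGroup q P) (hPK : P ≤ K) (hn : K ≤ 𝐍(fittingOf K ⊔ P)) (hX : X ≤ P)
    (h : ∀ s : ℕ, s.Prime → s ≠ q → X ≤ 𝐂(𝐎[s](K))) : X ≤ fittingOf K := by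
  haveI := Fact.mk hq
  set F := fittingOf K
  set E := 𝐎'[q](F)
  have hFK : F ≤ K := fittingOf_le K
  have hEF : E ≤ F := piCoreOf_le' _ _
  have hKE : K ≤ 𝐍(E) := le_norm_piCoreOf _ (le_norm_fittingOf le_normalizer)
  have hLK : F ⊔ P ≤ K := sup_le hFK hPK
  obtain ⟨S, hS, hPS⟩ := exists_syl_ge hP (le_sup_right : P ≤ F ⊔ P)
  have hXE : X ≤ 𝐂(E) := by
    rw [← fittingOf_eq_self_iff.2 (nilpotent_of_le hEF (fittingOf_nilpotent K))]
    refine BG1.le_cent_symm (fittingOf_le_of_pCoreOf_le fun s hs => ?_)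
    by_cases hsq : s = q
    · rw [hsq, piCoreOf_piCoreOf_compl]; exact bot_le
    · exact (piCoreOf_le_of_normal (hEF.trans hFK) hKE).trans (BG1.le_cent_symm (h s hs hsq))
  have hL : F ⊔ P = E ⊔ S := by
    refine le_antisymm (sup_le ?_ (hPS.trans le_sup_right)) (sup_le (hEF.trans le_sup_left) hS.le)
    refine (piCoreOf_sup_compl_of_nilpotent {q} (fittingOf_nilpotent K)).ge.trans ((sup_comm _ _).le.trans ?_)
    exact sup_le_sup_left (hS.le_of_normal (pgroup_pCoreOf hq _) ((piCoreOf_le' _ _).trans le_sup_left)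
      (hLK.trans (le_norm_piCoreOf _ (le_norm_fittingOf le_normalizer)))) _
  set D := (F ⊔ P) ⊓ 𝐂(E)
  have hD : Syl q (S ⊓ 𝐂(E)) D := hS.inf_normal' ((hLK.trans hKE).trans (PGrp.normalizer_le_normalizer_centralizer' E))
  have hDE : D ≤ 𝐍(E) := inf_le_left.trans (hLK.trans hKE)
  obtain ⟨k, hk⟩ := (isPGroup_quo_iff hDE).1 ((isPGroup_mim (qmk E) hS.isPGroup).to_le (by
    rw [← quo_sup_left (hS.le.trans (hLK.trans hKE)), ← hL]; exact mim_mono _ inf_le_left))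
  have h1 := hD.sup_eq_of_relIndex_pow (inf_le_right : E ⊓ D ≤ D) (by rw [inf_relIndex_right, hk])
  have h2 : Group.IsNilpotent D := by
    haveI := nilpotent_of_pgroup hq hD.isPGroup
    haveI := nilpotent_of_le ((inf_le_left : E ⊓ D ≤ E).trans hEF) (fittingOf_nilpotent K)
    rw [← h1]
    exact isNilpotent_sup_of_le_centralizer (inf_le_left.trans (BG1.le_cent_symm inf_le_right))
  exact (le_inf (hX.trans le_sup_right) hXE).trans (le_fittingOf (inf_le_left.trans hLK)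
    (le_normalizer_inf hn (hKE.trans (PGrp.normalizer_le_normalizer_centralizer' E))) h2)

/-- an invariant Sylow subgroup of the preimage of a normal `q`-subgroup of `K / N` -/
theorem fc_lift (hq : q.Prime) (hs : Group.IsSolvable K) (hn : A ≤ 𝐍(K)) (hc : (Nat.card A).Coprime (Nat.card K))
    (hNK : N ≤ K) (hAN : A ≤ 𝐍(N)) {Y : Subgroup (QG N)} (hKN : K ≤ 𝐍(N)) (hY : Y ≤ quo N K) (hYq : IsPGroup q Y)
    (hAY : quo N A ≤ 𝐍(Y)) : ∃ P, Syl q P (quoPre N Y) ∧ P ≤ K ∧ A ≤ 𝐍(P) ∧ quo N P = Y ∧ N ⊔ P = quoPre N Y := by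
  haveI := Fact.mk hq
  have hLK : quoPre N Y ≤ K := quoPre_le_of_le_quo hKN hNK hY
  obtain ⟨P, hP, hAP⟩ := coprime_sylow_exists q (le_norm_mpre hAN hAY)
    (hc.coprime_dvd_right (card_dvd_of_le hLK)) (Or.inr (solvable_of_le hLK hs))
  have h1 : quo N P = Y := by
    have := syl_mim (qmk N) hP (hLK.trans hKN)
    rw [show mim (qmk N) (quoPre N Y) = _ from quo_quoPre _ _] at this
    exact le_antisymm this.le (this.le_of_normal hYq le_rfl le_normalizer)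
  exact ⟨P, hP, hP.le.trans hLK, hAP, h1, by rw [← h1, quoPre_quo ((hP.le.trans hLK).trans hKN)]⟩

theorem fc_red (hs : Group.IsSolvable K) (hn : A ≤ 𝐍(K)) (hc : (Nat.card A).Coprime (Nat.card K)) (hB : B ≤ A)
    (h : ∀ t r : ℕ, t.Prime → r.Prime → r ≠ t → ∀ T, T ≤ K → IsPGroup t T → A ≤ 𝐍(T) → ⁅T, B⁆ ≤ 𝐂(𝐎[r](K))) :
    ⁅K, B⁆ ≤ fittingOf K := by
  have hKF : K ≤ 𝐍(fittingOf K) := le_norm_fittingOf le_normalizer
  have hAF : A ≤ 𝐍(fittingOf K) := le_norm_fittingOf hn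
  rw [commutator_comm, ← quo_cent_iff (hB.trans hAF) hKF]
  refine le_trans (le_inf le_rfl (BG1.le_cent_symm (fittingOf_le_of_pCoreOf_le fun q hq => ?_)))
    (coprime_cent_fittingOf (mim_norm _ (hB.trans hn)) (coprime_card_mim _ (Coprime.coprime_card_of_le hc hB le_rfl))
      (isSolvable_mim _ hs))
  obtain ⟨P, hP, hPK, hAP, h1, h2⟩ := fc_lift hq hs hn hc (fittingOf_le K) hAF hKF (piCoreOf_le' {q} _)
    (pgroup_pCoreOf hq _) (le_norm_piCoreOf _ (mim_norm _ hn))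
  rw [← h1, quo_cent_iff (hPK.trans hKF) (hB.trans hAF)]
  refine fc_le_fitting hq hP.isPGroup hPK ?_ (commutator_le_left_of_norm (hB.trans hAP))
    fun s hs hsq => h q s hq hs hsq P hPK hP.isPGroup hAP
  rw [h2]
  exact le_norm_mpre hKF (le_norm_piCoreOf_self _ _)

theorem fc_red2 (hs : Group.IsSolvable K) (hn : A ≤ 𝐍(K)) (hc : (Nat.card A).Coprime (Nat.card K)) (hB : B ≤ A)
    (hfix : K ⊓ 𝐂(A) = ⊥)
    (h : ∀ t r s : ℕ, t.Prime → r.Prime → s.Prime → r ≠ t → s ≠ r → ∀ T R, T ≤ K → R ≤ K → IsPGroup t T → IsPGroup r R →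
      A ≤ 𝐍(T) → A ≤ 𝐍(R) → T ≤ 𝐍(R) → ⁅R, ⁅T, B⁆⁆ ≤ 𝐂(𝐎[s](K))) : nresN 2 ⁅K, B⁆ = ⊥ := by
  set F := fittingOf K
  have hKF : K ≤ 𝐍(F) := le_norm_fittingOf le_normalizer
  have hAF : A ≤ 𝐍(F) := le_norm_fittingOf hn
  have hFK : F ≤ K := fittingOf_le K
  have hKB : ⁅K, B⁆ ≤ K := commutator_le_left_of_norm (hB.trans hn)
  have hc' := coprime_card_mim (qmk F) hc
  have hs' := isSolvable_mim (qmk F) hs
  have hn' := mim_norm (qmk F) hn
  have h1 : ⁅quo F K, quo F B⁆ ≤ fittingOf (quo F K) := by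
    refine fc_red hs' hn' hc' (mim_mono _ hB) fun t r ht hr hrt T' hT' hTt hAT => ?_
    haveI := Fact.mk ht
    haveI := Fact.mk hr
    set O := 𝐎[r](quo F K)
    have hO : O ≤ quo F K := piCoreOf_le' _ _
    have hOn : quo F K ≤ 𝐍(O) := le_norm_piCoreOf_self _ _
    have hAO : quo F A ≤ 𝐍(O) := le_norm_piCoreOf _ hn'
    obtain ⟨R, hR, hRK, hAR, e1, e2⟩ := fc_lift hr hs hn hc hFK hAF hKF hO (pgroup_pCoreOf hr _) hAO
    set M := quoPre F (T' ⊔ O)
    have hMK : M ≤ K := quoPre_le_of_le_quo hKF hFK (sup_le hT' hO)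
    have hLM : quoPre F O ≤ M := mpre_mono _ le_sup_right
    have hAM : A ≤ 𝐍(M) := le_norm_mpre hAF (le_normalizer_sup hAT hAO)
    have e3 := hR.frattini hLM (hMK.trans (le_norm_mpre hKF hOn))
    have hNK : M ⊓ 𝐍(R) ≤ K := inf_le_left.trans hMK
    obtain ⟨T, hT, hAT'⟩ := coprime_sylow_exists t (le_normalizer_inf hAM (le_normalizer_normalizer hAR))
      (hc.coprime_dvd_right (card_dvd_of_le hNK)) (Or.inr (solvable_of_le hNK hs))
    have hTK : T ≤ K := hT.le.trans hNK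
    have e4 : quo F (M ⊓ 𝐍(R)) = T' ⊔ O := by
      rw [← quo_sup_left (hNK.trans hKF), ← quo_quoPre F (T' ⊔ O)]
      congr 1
      refine le_antisymm (sup_le (le_quoPre _ _) inf_le_left) (e3.ge.trans (sup_le ?_ le_sup_right))
      rw [← e2]
      exact sup_le_sup_left (le_inf (hR.le.trans hLM) le_normalizer) _
    have hT1 := syl_mim (qmk F) hT (hNK.trans hKF)
    rw [show mim (qmk F) (M ⊓ 𝐍(R)) = _ from e4] at hT1
    have hc'' := hc'.coprime_dvd_right (card_dvd_of_le (sup_le hT' hO))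
    have hs'' := solvable_of_le (sup_le hT' hO) hs'
    obtain ⟨T₂, hT₂, hT₂s, hAT₂⟩ := coprime_sylow_exists_ge (le_normalizer_sup hAT hAO) hc'' (Or.inr hs'') le_sup_left hAT hTt
    obtain ⟨c, hc1, hc2⟩ := coprime_sylow_trans (le_normalizer_sup hAT hAO) hc'' (Or.inr hs'') hT₂s hT1 hAT₂
      (mim_norm _ hAT')
    have hc3 : c = 1 := by
      have := (inf_le_inf_right _ (sup_le hT' hO)) hc1
      rwa [← quo_inf_cent hAF hKF hn (Coprime.coprime_card_of_le hc le_rfl hFK) (Or.inr (solvable_of_le hFK hs)), hfix,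
        mim_bot, mem_bot] at this
    rw [hc3, cj_one] at hc2
    have hTB : ⁅T, B⁆ ≤ T := commutator_le_left_of_norm (hB.trans hAT')
    refine (commutator_mono (hT₂.trans hc2.le) le_rfl).trans ?_
    rw [← mim_commutator (hTK.trans hKF) (hB.trans hAF), ← e1, quo_cent_iff ((hTB.trans hTK).trans hKF) (hRK.trans hKF),
      commutator_comm]
    refine fc_le_fitting hr hR.isPGroup hRK (by rw [e2]; exact le_norm_mpre hKF hOn)
      (commutator_le_left_of_norm (hTB.trans (hT.le.trans inf_le_right))) fun s hs hsr =>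
        h t r s ht hr hs hrt hsr T R hTK hRK hT.isPGroup hR.isPGroup hAT' hAR (hT.le.trans inf_le_right)
  have h2 : nres ⁅K, B⁆ ≤ F := by
    rw [← quo_eq_bot_iff ((nres_le _).trans (hKB.trans hKF))]
    refine (mim_nresN (qmk F) 1 (hKB.trans hKF)).trans (nres_eq_bot_iff.2 ?_)
    rw [show nresN 0 (quo F ⁅K, B⁆) = quo F ⁅K, B⁆ from rfl, mim_commutator hKF (hB.trans hAF)]
    exact nilpotent_of_le h1 (fittingOf_nilpotent _)
  exact le_bot_iff.1 ((nres_mono h2).trans (nres_eq_bot_iff.2 (fittingOf_nilpotent K)).le)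

theorem fc_coprime (hp : p.Prime) (hA : IsPGroup p A) (hn : A ≤ 𝐍(K)) (hfix : K ⊓ 𝐂(A) = ⊥) :
    (Nat.card A).Coprime (Nat.card K) := by
  haveI := Fact.mk hp
  have h1 := PGrp.card_modEq_card_inf_centralizer hA hn
  rw [hfix, card_bot] at h1
  exact coprime_of_isPGroup_of_not_dvd hp hA fun h => hp.one_lt.ne' (Nat.dvd_one.1 ((h1.dvd_iff dvd_rfl).1 h))

theorem fc_one (hp : p.Prime) (hA : IsCyclic A) (hAp : IsPGroup p A) (hB : B ≤ A) (hBp : Nat.card B ∣ p)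
    (hp2 : p ≠ 2 ∨ Nat.card A ≤ 4) (hs : Group.IsSolvable K) (hn : A ≤ 𝐍(K)) (hfix : K ⊓ 𝐂(A) = ⊥) :
    ⁅K, B⁆ ≤ fittingOf K := by
  have hc := fc_coprime hp hAp hn hfix
  refine fc_red hs hn hc hB fun t r ht hr hrt T hT hTt hAT => ?_
  have hO : 𝐎[r](K) ≤ K := piCoreOf_le' _ _
  exact fb_lemX hp ht hA hAp hB hBp hp2 hTt hAT (Coprime.coprime_card_of_le hc le_rfl hT) (solvable_of_le hO hs)
    (le_norm_piCoreOf _ hn) (hT.trans (le_norm_piCoreOf_self _ _)) (Coprime.coprime_card_of_le hc le_rfl hO)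
    (fc_coprime_of_ne ht hr hrt.symm hTt (pgroup_pCoreOf hr _))
    (le_bot_iff.1 ((inf_le_inf_right _ hT).trans hfix.le)) (le_bot_iff.1 ((inf_le_inf_right _ hO).trans hfix.le))

/-- killing `N` and `B` at once -/
theorem fc_kill (hs : Group.IsSolvable K) (hn : A ≤ 𝐍(K)) (hc : (Nat.card A).Coprime (Nat.card K)) (hB : B ≤ A)
    (hAB : A ≤ 𝐍(B)) (hNK : N ≤ K) (hKN : K ≤ 𝐍(N)) (hAN : A ≤ 𝐍(N)) (h : ⁅K, B⁆ ≤ N) (hfix : K ⊓ 𝐂(A) = ⊥) :
    K ≤ 𝐍(N ⊔ B) ∧ (N ⊔ B) ⊓ K = N ∧ quo (N ⊔ B) K ⊓ 𝐂(quo (N ⊔ B) A) = ⊥ ∧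
      Nat.card (quo (N ⊔ B) A) ∣ B.relIndex A := by
  have h1 : K ≤ 𝐍(N ⊔ B) := by
    refine Clifford.Nrm.le_normalizer fun g hg x hx => ?_
    obtain ⟨n, hn', b, hb, rfl⟩ := (Coprime.mem_sup_iff_of_le_normalizer (hB.trans hAN)).1 hx
    rw [show g * (n * b) * g⁻¹ = g * n * g⁻¹ * ⁅g, b⁆ * b by rw [commutatorElement_def]; group]
    exact mul_mem (mem_sup_left (mul_mem (Coprime.conj_mem hKN hg hn') (h (commutator_mem_commutator hg hb))))
      (mem_sup_right hb)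
  have h2 : A ≤ 𝐍(N ⊔ B) := le_normalizer_sup hAN hAB
  have h3 : (N ⊔ B) ⊓ K = N := by
    rw [sup_inf_of_le_normalizer' hNK (hB.trans hAN), inf_comm,
      Coprime.inf_eq_bot_of_coprime_card (Coprime.coprime_card_of_le hc hB le_rfl), sup_bot_eq]
  refine ⟨h1, h3, ?_, ?_⟩
  · rw [← mim_inf_cent h2 h1 hn (by rw [mker_qmk, h3]; exact Coprime.coprime_card_of_le hc le_rfl hNK)
      (Or.inr (by rw [mker_qmk, h3]; exact solvable_of_le hNK hs)), hfix, mim_bot]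
  · rw [card_quo h2]
    exact relIndex_dvd_of_le_left _ le_sup_right

theorem fc_exists_omega (hp : p.Prime) (hAp : IsPGroup p A) {n : ℕ} (h : Nat.card A ∣ p ^ (n + 1)) :
    ∃ B, B ≤ A ∧ Nat.card B ∣ p ∧ B.relIndex A ∣ p ^ n := by
  haveI := Fact.mk hp
  obtain ⟨k, hk, e⟩ := (Nat.dvd_prime_pow hp).1 h
  rcases k with _ | k
  · exact ⟨⊥, bot_le, by simp, by simp [e]⟩
  obtain ⟨B, hB, hc⟩ := Layer.exists_le_card_eq_pow hAp (k := 1) (by
    rw [e]; exact Nat.pow_le_pow_right hp.pos (by omega))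
  refine ⟨B, hB, by simp [hc], ?_⟩
  have := card_mul_relIndex hB
  rw [hc, e, pow_one, pow_succ'] at this
  rw [Nat.eq_of_mul_eq_mul_left hp.pos this]
  exact pow_dvd_pow p (by omega)

theorem fc_eq_bot (h : Nat.card A ∣ 1) (hfix : K ⊓ 𝐂(A) = ⊥) : K = ⊥ := by
  rwa [card_eq_one.1 (Nat.dvd_one.1 h), Amalg.centralizer_bot, inf_top_eq] at hfix

theorem fc_odd (hp : p.Prime) (hp2 : p ≠ 2) (n : ℕ) : ∀ (G : Type u) [Group G] [Finite G] (K A : Subgroup G),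
    IsCyclic A → Nat.card A ∣ p ^ n → Group.IsSolvable K → A ≤ 𝐍(K) → K ⊓ 𝐂(A) = ⊥ → nresN n K = ⊥ := by
  induction n with
  | zero => exact fun G _ _ K A _ h _ _ hfix => fc_eq_bot h hfix
  | succ n ih =>
    intro G _ _ K A hA hd hs hn hfix
    have hAp : IsPGroup p A := IsPGroup.of_card_dvd_pow hd
    obtain ⟨B, hB, h1, h2⟩ := fc_exists_omega hp hAp hd
    obtain ⟨h3, h4, h5, h6⟩ := fc_kill hs hn (fc_coprime hp hAp hn hfix) hB
      (le_normalizer.trans (PGrp.normalizer_le_normalizer_of_isCyclic hA hB)) (fittingOf_le K)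
      (le_norm_fittingOf le_normalizer) (le_norm_fittingOf hn) (fc_one hp hA hAp hB h1 (Or.inl hp2) hs hn hfix) hfix
    have h7 := ih _ _ _ (isCyclic_mim _ hA) (h6.trans h2) (isSolvable_mim _ hs) (mim_norm _ hn) h5
    rw [← mim_nresN _ _ h3, quo_eq_bot_iff ((nresN_le _ _).trans h3)] at h7
    exact le_bot_iff.1 ((nres_mono ((le_inf h7 (nresN_le _ _)).trans h4.le)).trans
      (nres_eq_bot_iff.2 (fittingOf_nilpotent K)).le)

theorem fc_comm_of_two (h : Nat.card A ∣ 2) (hn : A ≤ 𝐍(K)) (hfix : K ⊓ 𝐂(A) = ⊥) : IsMulCommutative K := by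
  rcases (Nat.dvd_prime Nat.prime_two).1 h with e | e
  · rw [fc_eq_bot e.dvd hfix]; infer_instance
  · exact (Coprime.fpf_of_card_prime (e ▸ Nat.prime_two) hfix).isMulCommutative_of_two_dvd hn e.symm.dvd

theorem fc_four (hA : IsCyclic A) (hd : Nat.card A ∣ 2 ^ 2) (hs : Group.IsSolvable K) (hn : A ≤ 𝐍(K))
    (hfix : K ⊓ 𝐂(A) = ⊥) : ⁅K, K⁆ ≤ fittingOf K := by
  have hAp : IsPGroup 2 A := IsPGroup.of_card_dvd_pow hd
  obtain ⟨B, hB, h1, h2⟩ := fc_exists_omega Nat.prime_two hAp hd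
  obtain ⟨h3, h4, h5, h6⟩ := fc_kill hs hn (fc_coprime Nat.prime_two hAp hn hfix) hB
    (le_normalizer.trans (PGrp.normalizer_le_normalizer_of_isCyclic hA hB)) (fittingOf_le K)
    (le_norm_fittingOf le_normalizer) (le_norm_fittingOf hn)
    (fc_one Nat.prime_two hA hAp hB h1 (Or.inr (Nat.le_of_dvd (by norm_num) hd)) hs hn hfix) hfix
  have h7 := fc_comm_of_two (h6.trans h2) (mim_norm _ hn) h5
  rw [isMulCommutative_quo_iff h3] at h7
  exact (le_inf h7 (Subgroup.commutator_le_self K)).trans h4.le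

/-- transfer from automorphism groups -/
theorem fc_ambient {X : Type u} {Y : Type v} [Group X] [Finite X] [Group Y] [Finite Y] (φ : Y →* MulAut X)
    (hs : Group.IsSolvable X) (h : ∀ x : X, (∀ a, φ a x = x) → x = 1) :
    ∃ (G : Type (max u v)) (_ : Group G) (_ : Finite G) (i : X →* G) (j : Y →* G), Function.Injective i ∧ Function.Injective j ∧
      Group.IsSolvable ((⊤ : Subgroup X).map i) ∧ (⊤ : Subgroup Y).map j ≤ 𝐍((⊤ : Subgroup X).map i) ∧
      (⊤ : Subgroup X).map i ⊓ 𝐂((⊤ : Subgroup Y).map j) = ⊥ := by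
  obtain ⟨G, _, _, i, j, ha, -⟩ := Coprime.exists_ambient φ
  refine ⟨G, inferInstance, inferInstance, i, j, ha.inj_i, ha.inj_j, Group.isSolvable_of_surjective (i.subgroupMap_surjective ⊤), ha.le_normalizer_top ⊤, ?_⟩
  rw [← ha.map_actFix, Subgroup.map_eq_bot_iff_of_injective _ ha.inj_i, eq_bot_iff]
  exact fun x hx => h x fun a => Coprime.mem_actFix.1 hx a trivial

end Cfsg.Lib.Hall
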