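import Cfsg.Agent.Lib.Hall.FpfC
import Cfsg.Agent.Lib.HH.Num

/-! Gross's theorem on fixed-point-free automorphisms of `2`-power order. -/

set_option autoImplicit false
set_option linter.unusedSectionVars false

namespace Cfsg.Lib.Hall
open Subgroup Cfsg.Lib.Core Cfsg.Lib.Amalg Cfsg.Lib.BG1 Cfsg.Lib.Clifford Cfsg.Lib.Char
open scoped commutatorElement ComplexConjugate IsMulCommutative

variable {G : Type*} [Group G] [Finite G] {R A B D H I L Q T V W : Subgroup G} {χ θ φ ψ : G → ℂ} {p r t : ℕ}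

theorem fd_relIndex_sup (hn : A ≤ 𝐍(R)) (hRA : R ⊓ A = ⊥) (hI : I ≤ A) : (R ⊔ I).relIndex (R ⊔ A) = I.relIndex A := by
  have h1 := card_mul_relIndex (sup_le_sup_left hI R)
  rw [Coprime.card_sup_of_disjoint' hn hRA, Coprime.card_sup_of_disjoint' (hI.trans hn)
    (le_bot_iff.1 ((inf_le_inf_left R hI).trans hRA.le)), ← card_mul_relIndex hI, mul_assoc] at h1
  exact Nat.eq_of_mul_eq_mul_left Nat.card_pos (Nat.eq_of_mul_eq_mul_left Nat.card_pos h1)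

theorem fd_ind_irr (hn : A ≤ 𝐍(R)) (hRA : R ⊓ A = ⊥) (hφ : IrrOn (R ⊔ A) φ) (hθ : IrrOn R θ) (hd : dot R φ θ ≠ 0) :
    ∃ ψ, IrrOn (R ⊔ inertia A R θ) ψ ∧ dot R ψ θ ≠ 0 ∧ dot (inertia A R θ) ψ 1 = dot A φ 1 ∧
      charDegree φ = (inertia A R θ).relIndex A * charDegree ψ := by
  have hN : Nrm (R ⊔ A) R := nrm_of_le_normalizer (sup_le le_normalizer hn)
  obtain ⟨ψ, hψ, h4, h5, -⟩ := exists_ind_inertia le_sup_left hN hθ hφ hd
  have hRI : R ≤ inertia (R ⊔ A) R θ := le_inertia le_sup_left hN hθ.classOn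
  have e1 : inertia A R θ = inertia (R ⊔ A) R θ ⊓ A := inertia_of_le le_sup_right
  have e2 : R ⊔ inertia A R θ = inertia (R ⊔ A) R θ := by
    refine le_antisymm (sup_le hRI (e1.le.trans inf_le_left)) fun x hx => ?_
    obtain ⟨r, hr, a, ha, rfl⟩ := (Coprime.mem_sup_iff_of_le_normalizer hn).1 (inertia_le hx)
    refine mul_mem (mem_sup_left hr) (mem_sup_right ?_)
    rw [e1]
    exact ⟨by simpa using mul_mem (inv_mem (hRI hr)) hx, ha⟩
  refine ⟨ψ, e2 ▸ irrOn_of_mem hψ, h4, ?_, ?_⟩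
  · rw [e1, ← dot_ind_left inf_le_right ψ (classOn_one A)]
    refine dot_congr_left (fun x hx => ?_) _
    rw [← ind_mackey inertia_le le_sup_right ?_ (irrOn_of_mem hψ).classOn hx, h5, cut_of_mem _ (mem_sup_right hx)]
    intro k hk
    obtain ⟨r, hr, a, ha, rfl⟩ := (Coprime.mem_sup_iff_of_le_normalizer hn).1 hk
    exact ⟨r, hRI hr, a, ha, rfl⟩
  · rw [← fd_relIndex_sup hn hRA inertia_le, e2, ← (irrOn_of_mem hψ).charOn.deg_ind inertia_le, h5, charDegree, charDegree,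
      cut_of_mem _ (one_mem _)]

theorem fd_mult_le_deg (hχ : CharOn H χ) : mult H χ 1 ≤ charDegree χ := by
  have := hχ.mult_mul_deg_le (irrOn_one H)
  rwa [charDegree_of_eq (φ := (1 : G → ℂ)) (n := 1) (by simp), mul_one] at this

theorem fd_exists_ind (hn : A ≤ 𝐍(R)) (hRA : R ⊓ A = ⊥) (hχ : CharOn (R ⊔ A) χ) (hθ : IrrOn R θ) (hd : dot R χ θ ≠ 0)
    (hc : IsCyclic (inertia A R θ)) : ∃ ψ, CharOn (R ⊔ inertia A R θ) ψ ∧ (∀ x ∈ R, ψ x = θ x) ∧
      (inertia A R θ).relIndex A * charDegree θ + mult A χ 1 ≤ charDegree χ + mult (inertia A R θ) ψ 1 := by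
  obtain ⟨φ, hφ, h1, h2⟩ := exists_between le_sup_left hχ.classOn hd
  have hφ' := irrOn_of_mem hφ
  obtain ⟨ψ, h3, h4, h5, h6⟩ := fd_ind_irr hn hRA hφ' hθ h2
  have hn' : inertia A R θ ≤ 𝐍(R) := inertia_le.trans hn
  have hN : Nrm (R ⊔ inertia A R θ) R := nrm_of_le_normalizer (sup_le le_normalizer hn')
  have hinv : InvOn (R ⊔ inertia A R θ) R θ :=
    Coprime.invOn_sup (nrm_self R) (nrm_of_le_normalizer hn') hθ.classOn (fa_invOn_inertia hn)
  obtain ⟨η, hη, e⟩ := exists_ext_of_isCyclic (sup_comm _ _) hN hθ hinv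
  haveI : IsMulCommutative (inertia A R θ) := IsCyclic.isMulCommutative
  have e' : ∀ x ∈ R, ψ x = θ x := fun x hx => by
    rw [← e x hx]
    exact ext_of_abelian le_sup_left hN (Coprime.commutator_sup_le_of_comm hn') (irrOn_of_mem hη).charOn
      (hθ.congr fun x hx => (e x hx).symm) h3 (by rwa [dot_congr_right _ e]) x hx
  refine ⟨ψ, h3.charOn, e', ?_⟩
  have h7 := (hχ.sub_irr hφ' h1).mono (le_sup_right : A ≤ R ⊔ A)
  have h8 := fd_mult_le_deg h7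
  have h9 : (mult A (χ - φ) 1 : ℂ) + mult (inertia A R θ) ψ 1 = mult A χ 1 := by
    rw [← h7.dot_eq_mult (charOn_one A), ← (h3.charOn.mono le_sup_right).dot_eq_mult (charOn_one _), h5,
      ← (hχ.mono le_sup_right).dot_eq_mult (charOn_one A), dot_sub_left, sub_add_cancel]
  have h10 : (charDegree (χ - φ) : ℂ) + charDegree φ = charDegree χ := by
    rw [← h7.one_eq, ← hφ'.one_eq, ← hχ.one_eq, Pi.sub_apply, sub_add_cancel]
  have h11 : charDegree ψ = charDegree θ := by rw [charDegree, charDegree, e' 1 R.one_mem]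
  rw [h11] at h6
  have h9' : mult A (χ - φ) 1 + mult (inertia A R θ) ψ 1 = mult A χ 1 := by exact_mod_cast h9
  have h10' : charDegree (χ - φ) + charDegree φ = charDegree χ := by exact_mod_cast h10
  omega

theorem fd_card_mul_mult_le [DecidableEq G] (hχ : CharOn H χ) :
    ((Nat.card H * mult H χ 1 : ℕ) : ℝ) ≤ charDegree χ + ∑ x ∈ (elems H).erase 1, ‖χ x‖ := by
  have h0 := hχ.dot_eq_mult (charOn_one H)
  rw [dot, inv_mul_eq_iff_eq_mul₀ (Clifford.card_ne_zero H), ← Finset.add_sum_erase _ _ (mem_elems.2 H.one_mem)] at h0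
  have h1 := (congrArg norm h0).symm.trans_le ((norm_add_le _ _).trans (add_le_add_right (norm_sum_le _ _) _))
  simpa only [Pi.one_apply, map_one, mul_one, hχ.one_eq, Complex.norm_natCast, ← Nat.cast_mul] using h1

theorem fd_exists_not_triv (hχ : CharOn R χ) (hH : H ≤ R) (h : ¬ Triv H χ) :
    ∃ θ, IrrOn R θ ∧ dot R χ θ ≠ 0 ∧ ¬ Triv H θ := by
  by_contra hc
  push Not at hc
  exact h fun x hx => InvOn.eq_of_forall hχ.classOn (hH hx) fun θ hθ hd => hc θ (irrOn_of_mem hθ) hd x hx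

theorem fd_cent_le (hp : p.Prime) (hA : IsCyclic A) (hAp : IsPGroup p A) (hB : B ≤ A) (hBp : Nat.card B ∣ p) {a : G}
    (ha : a ∈ A) (h1 : a ≠ 1) : centralizer {a} ≤ 𝐂(B) := by
  rw [← PGrp.centralizer_zpowers]
  exact centralizer_le (fb_le_of_ne_bot hp hA hAp hB hBp (zpowers_le.2 ha) (zpowers_ne_bot.2 h1))

theorem fd_core1 (ht : t.Prime) (hA : IsCyclic A) (hA2 : IsPGroup 2 A) (h4 : 4 ≤ Nat.card A) (hB : B ≤ A)
    (hB2 : Nat.card B ∣ 2) (hQ : IsPGroup t Q) (hn : A ≤ 𝐍(Q)) (hc : (Nat.card A).Coprime (Nat.card Q))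
    (h2 : ⁅Q, Q⁆ ≤ 𝐂(Q)) (hQB : ⁅Q, B⁆ = Q) (hCB : Q ⊓ 𝐂(B) ≤ 𝐂(Q)) (hχ : CharOn (Q ⊔ A) χ) (hne : ¬ Triv Q χ)
    (h0 : charDegree χ ≤ mult A χ 1 + 2) : t = 3 ∧ Nat.card A = 4 := by
  classical
  obtain ⟨θ, hθ, hd, hne⟩ := fd_exists_not_triv (hχ.mono le_sup_left) le_rfl hne
  have hRA : Q ⊓ A = ⊥ := Coprime.inf_eq_bot_of_coprime_card hc
  set I := inertia A Q θ with hI
  have hIA : I ≤ A := inertia_le
  have hcyc : IsCyclic I := PGrp.isCyclic_of_le' hA hIA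
  obtain ⟨ψ, hψ, e, h5⟩ := fd_exists_ind hn hRA hχ hθ hd hcyc
  have hψR : IrrOn Q ψ := hθ.congr fun x hx => (e x hx).symm
  have hdeg : charDegree ψ = charDegree θ := by rw [charDegree, charDegree, e 1 Q.one_mem]
  have h6 := fd_mult_le_deg (hψ.mono (le_sup_right : I ≤ Q ⊔ I))
  rw [hdeg] at h6
  have hpos := hθ.deg_pos
  have h7 := card_mul_relIndex hIA
  rw [← hI] at h5
  by_cases hb : I = ⊥
  · rw [hb, card_bot, one_mul] at h7
    rw [hb] at h5 h6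
    nlinarith
  have hBI : B ≤ I := fb_le_of_ne_bot Nat.prime_two hA hA2 hB hB2 hIA hb
  have hd1 : charDegree θ ≠ 1 := fun h1 => hne fun x hx =>
    triv_kerOn x (fb_triv_of_lin (hB.trans hn) hθ h1 ((fa_invOn_inertia hn).mono hBI le_rfl) (hQB.ge hx))
  obtain ⟨d, hd'⟩ := fb_exists_deg ht hQ h2 hθ
  have hd0 : d ≠ 0 := fun h => hd1 (by rw [hd', h, pow_zero])
  have ht2 : t ≠ 2 := by
    rintro rfl
    obtain ⟨a, ha⟩ := hA2.exists_card_eq
    obtain ⟨b, hb⟩ := hQ.exists_card_eq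
    have hb0 : b ≠ 0 := fun h => by
      rw [h, pow_zero, card_eq_one] at hb
      exact hne fun x hx => by rw [mem_bot.1 (hb.le hx)]
    have ha0 : a ≠ 0 := fun h => by rw [h] at ha; omega
    rw [ha, hb, Nat.coprime_pow_left_iff (Nat.pos_of_ne_zero ha0), Nat.coprime_pow_right_iff (Nat.pos_of_ne_zero hb0)] at hc
    exact absurd hc (by norm_num)
  have h8 : t ≤ charDegree θ := hd' ▸ Nat.le_self_pow hd0 t
  have h9 : 3 ≤ t := by have := ht.two_le; omega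
  have h10 : I.relIndex A = 1 := by
    by_contra h
    have := relIndex_ne_zero' (A := I) (B := A)
    have : 2 ≤ I.relIndex A := by omega
    nlinarith
  have h11 : ∀ a ∈ I, a ≠ 1 → ‖ψ a‖ = 1 := fun a ha h1 =>
    fa_norm_eq_one h2 le_sup_left (nrm_of_le_normalizer (sup_le le_normalizer (hIA.trans hn))) hψ hψR (mem_sup_right ha)
      (hc.coprime_dvd_left (A.orderOf_dvd_natCard (hIA ha)))
      ((le_inf inf_le_left ((inf_le_inf_left _ (fd_cent_le Nat.prime_two hA hA2 hB hB2 (hIA ha) h1)).trans hCB)).trans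
        (cent_le_zc h2))
  have h12 := fd_card_mul_mult_le (hψ.mono (le_sup_right : I ≤ Q ⊔ I))
  rw [Finset.sum_congr rfl (g := fun _ => (1 : ℝ)) fun x hx =>
    h11 x (mem_elems.1 (Finset.mem_of_mem_erase hx)) (Finset.ne_of_mem_erase hx), Finset.sum_const,
    Finset.card_erase_of_mem (mem_elems.2 I.one_mem), card_elems, nsmul_one, hdeg] at h12
  have h13 : Nat.card I * mult I ψ 1 ≤ charDegree θ + (Nat.card I - 1) := by exact_mod_cast h12
  rw [h10, mul_one] at h7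
  rw [h10, one_mul] at h5
  have h14 : charDegree θ = 3 := by
    by_contra h
    obtain ⟨k, hk⟩ : ∃ k, charDegree θ = k + 4 := ⟨charDegree θ - 4, by omega⟩
    obtain ⟨m, hm⟩ : ∃ m, Nat.card I = m + 4 := ⟨Nat.card I - 4, by omega⟩
    have : k + 2 ≤ mult I ψ 1 := by omega
    rw [hk, hm, show m + 4 - 1 = m + 3 by omega] at h13
    nlinarith
  refine ⟨by omega, ?_⟩
  haveI := PGrp.isMulCommutative_of_isCyclic hcyc
  rcases FG.dvd_of_norm_eq_one (hψ.mono le_sup_right) (fun a ha b hb => Coprime.mul_comm_of_mem ha hb) h11 with h | h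
  · have : (Nat.card I : ℤ) ≤ _ := Int.le_of_dvd (by positivity) h
    omega
  · have : (Nat.card I : ℤ) ≤ _ := Int.le_of_dvd (by omega) h
    omega

theorem fd_card_quo {N : Subgroup G} (hn : H ≤ 𝐍(N)) (hc : (Nat.card H).Coprime (Nat.card N)) :
    Nat.card (quo N H) = Nat.card H :=
  card_mim_of_inf_eq_bot hn (by rw [mker_qmk]; exact Coprime.inf_eq_bot_of_coprime_card hc)

theorem fd_lemY (ht : t.Prime) (hA : IsCyclic A) (hA2 : IsPGroup 2 A) (h4 : 4 ≤ Nat.card A) (hB : B ≤ A)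
    (hB2 : Nat.card B ∣ 2) (hT : IsPGroup t T) (hn : A ≤ 𝐍(T)) (hc : (Nat.card A).Coprime (Nat.card T))
    (hW : Group.IsSolvable W) (hAW : A ≤ 𝐍(W)) (hTW : T ≤ 𝐍(W)) (hcA : (Nat.card A).Coprime (Nat.card W))
    (hcT : (Nat.card T).Coprime (Nat.card W)) (hne : ¬ ⁅T, B⁆ ≤ 𝐂(W))
    (h0 : ArithmeticFunction.cardFactors (Nat.card W) ≤ ArithmeticFunction.cardFactors (Nat.card ↥(W ⊓ 𝐂(A))) + 2) :
    t = 3 ∧ Nat.card A = 4 := by
  set N := T ⊓ 𝐂(W) with hN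
  have hRN : T ≤ 𝐍(N) := le_normalizer_inf le_normalizer (hTW.trans (PGrp.normalizer_le_normalizer_centralizer' W))
  have hAN : A ≤ 𝐍(N) := le_normalizer_inf hn (hAW.trans (PGrp.normalizer_le_normalizer_centralizer' W))
  have hVN : W ≤ 𝐍(N) := (BG1.le_cent_symm inf_le_right).trans (centralizer_le_normalizer _)
  have hcN := Coprime.coprime_card_of_le hc le_rfl (inf_le_left : N ≤ T)
  have hcN' := Coprime.coprime_card_of_le hcT.symm le_rfl (inf_le_left : N ≤ T)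
  haveI := PGrp.isMulCommutative_of_isCyclic hA
  have hsA : Group.IsSolvable A := inferInstance
  obtain ⟨Q, hQ, hAQ, hBQ, hmin⟩ := fb_exists_min (P := quo N A) (B := quo N B) (mim_norm _ hn) fun h =>
    hne (commutator_comm B T ▸ ((quo_cent_iff (hB.trans hAN) hRN).1 h).trans inf_le_right)
  have hQr := (isPGroup_mim (qmk N) hT).to_le hQ
  have hcQ := Coprime.coprime_card_of_le (coprime_card_mim (qmk N) hc) le_rfl hQ
  obtain ⟨h1, h2, h3, -⟩ := fb_min_props (nilpotent_of_pgroup ht hQr) (mim_mono _ hB)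
    (mim_norm _ (le_normalizer.trans (PGrp.normalizer_le_normalizer_of_isCyclic hA hB))) hAQ
    (Coprime.coprime_card_of_le hcQ (mim_mono _ hB) le_rfl) hBQ hmin
  have hQV : Q ⊔ quo N A ≤ 𝐍(quo N W) := sup_le (hQ.trans (mim_norm _ hTW)) (mim_norm _ hAW)
  obtain ⟨χ, hχ, hd⟩ := Coprime.exists_brauer_lift hQV (by
    rw [Coprime.card_sup_of_disjoint' hAQ (Coprime.inf_eq_bot_of_coprime_card hcQ)]
    exact Nat.Coprime.mul_left (Coprime.coprime_card_of_le (coprime_card_mim _ hcT) hQ le_rfl) (coprime_card_mim _ hcA))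
    (isSolvable_mim _ hW)
  have e := fd_card_quo hAN hcN
  rw [← e]
  refine fd_core1 ht (isCyclic_mim _ hA) (isPGroup_mim _ hA2) (e ▸ h4) (mim_mono _ hB) ((card_mim_dvd _ _).trans hB2)
    hQr hAQ hcQ h3 h1 h2 hχ (fun h4 => ?_) ?_
  · rw [Coprime.triv_iff_le_centralizer_of_lift hχ hd le_sup_left] at h4
    have h5 : Q = ⊥ := le_bot_iff.1 ((le_inf hQ h4).trans (fb_quo_faithful hTW hcT).le)
    exact hBQ (BG1.le_cent_symm (h5.le.trans bot_le))
  · have h5 := hd _ bot_le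
    rw [dot_bot, Amalg.centralizer_bot, inf_top_eq, fd_card_quo hVN hcN'] at h5
    rw [mult_of_eq (hd _ le_sup_right), ← quo_inf_cent hAN hVN hAW hcN (Or.inl hsA),
      fd_card_quo (inf_le_left.trans hVN) (Coprime.coprime_card_of_le hcN' inf_le_left le_rfl),
      charDegree_of_eq (by simpa using h5)]
    exact h0

theorem fd_scalar_res (hθ : CharOn H θ) (hφ : IrrOn H φ) (hd : dot H θ φ ≠ 0) {x : G} (hx : x ∈ H) {c : ℂ}
    (hc : ‖c‖ = 1) (h : θ x = c * θ 1) : φ x = c * φ 1 := by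
  have h1 := hθ.sub_irr hφ hd
  have h2 := hφ.charOn.norm_le hx
  have h3 := h1.norm_le hx
  have hc0 : c ≠ 0 := by rintro rfl; simp at hc
  have h4 : c⁻¹ * φ x + c⁻¹ * (θ - φ) x = charDegree φ + charDegree (θ - φ) := by
    rw [← hφ.one_eq, ← h1.one_eq, Pi.sub_apply, Pi.sub_apply, h]; field_simp; ring
  rw [hφ.one_eq, Complex.norm_natCast] at h2
  rw [h1.one_eq, Complex.norm_natCast] at h3
  have h5 : ‖c⁻¹ * φ x‖ ≤ charDegree φ := by rwa [norm_mul, norm_inv, hc, inv_one, one_mul]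
  have h6 : ‖c⁻¹ * (θ - φ) x‖ ≤ charDegree (θ - φ) := by rwa [norm_mul, norm_inv, hc, inv_one, one_mul]
  have h7 := congrArg Complex.re h4
  rw [Complex.add_re, Complex.add_re, Complex.natCast_re, Complex.natCast_re] at h7
  have h8 := Complex.re_le_norm (c⁻¹ * φ x)
  have h9 := Complex.re_le_norm (c⁻¹ * (θ - φ) x)
  have h10 : (c⁻¹ * φ x).re = charDegree φ := by linarith
  have h11 : c⁻¹ * φ x = charDegree φ := by
    refine Complex.ext (by simpa using h10) ?_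
    have := Complex.sq_norm_sub_sq_re (c⁻¹ * φ x)
    rw [Complex.natCast_im]
    nlinarith [norm_nonneg (c⁻¹ * φ x), sq_nonneg (c⁻¹ * φ x).im]
  rw [hφ.one_eq, ← h11, mul_inv_cancel_left₀ hc0]

theorem fd_zc_val (h2 : ⁅Q, Q⁆ ≤ 𝐂(Q)) (hθ : IrrOn Q θ) (hH : H ≤ Q) (hφ : IrrOn H φ) (hd : dot H θ φ ≠ 0) {x : G}
    (hx : x ∈ H) (hz : x ∈ zc Q θ) : φ x * θ 1 = θ x * φ 1 := by
  obtain ⟨c, hc, h⟩ := fa_scalar hθ.charOn hθ.one_ne_zero (hH hx) (zc_norm h2 hθ hz)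
  have h1 := h 1 Q.one_mem
  rw [mul_one] at h1
  rw [fd_scalar_res (hθ.charOn.mono hH) hφ hd hx hc h1, h1]; ring

theorem fd_der_comm_le (h2 : ⁅Q, Q⁆ ≤ 𝐂(Q)) (hθ : IrrOn Q θ) (hB : B ≤ 𝐍(Q)) (hi : InvOn B Q θ) :
    ⁅⁅Q, Q⁆, B⁆ ≤ kc Q θ := by
  refine le_inf (commutator_le.2 fun z hz b hb => ?_) (commutator_le_left_of_norm (le_normalizer_commutator hB hB))
  have h1 := Coprime.conj_mem (le_normalizer_commutator hB hB) hb (inv_mem hz)
  have e : ⁅z, b⁆ = z * (b * z⁻¹ * b⁻¹) := by rw [commutatorElement_def]; group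
  refine hθ.charOn.mem_kerOn.2 ⟨Subgroup.commutator_le_self Q (e ▸ mul_mem hz h1), ?_⟩
  obtain ⟨c, -, hc⟩ := FG.irr_central hθ (Subgroup.commutator_le_self Q hz) (h2 hz)
  rw [e, hc _ (Subgroup.commutator_le_self Q h1), hi b hb _ (Subgroup.commutator_le_self Q (inv_mem hz)),
    ← hc _ (Subgroup.commutator_le_self Q (inv_mem hz)), mul_inv_cancel]

theorem fd_zc_eq (h2 : ⁅Q, Q⁆ ≤ 𝐂(Q)) (hθ : IrrOn Q θ) (hB : B ≤ 𝐍(Q)) (hi : InvOn B Q θ)
    (hc : (Nat.card B).Coprime (Nat.card Q)) (hs : Group.IsSolvable Q) (hφ : IrrOn (⁅Q, B⁆ ⊔ zc Q θ) φ)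
    (hd : dot (⁅Q, B⁆ ⊔ zc Q θ) θ φ ≠ 0) : zc (⁅Q, B⁆ ⊔ zc Q θ) φ = zc Q θ := by
  set Q₁ := ⁅Q, B⁆ ⊔ zc Q θ with hQ₁
  have h1 : Q₁ ≤ Q := sup_le (commutator_le_left_of_norm hB) zc_le
  have h3 : ⁅Q₁, Q₁⁆ ≤ 𝐂(Q₁) := (commutator_mono h1 h1).trans (h2.trans (centralizer_le h1))
  have hK : Q ≤ 𝐍(kc Q θ) := le_norm_kc h2
  refine le_antisymm ?_ ?_
  · set Y := zc Q₁ φ
    have hY : Y ≤ Q₁ := zc_le
    have h4 : ⁅Y, Q₁⁆ ≤ kc Q θ := by
      rw [commutator_comm]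
      refine le_inf (fun z hz => ?_) (commutator_mono h1 (hY.trans h1))
      have h5 := hφ.charOn.mem_kerOn.1 ((le_zc_iff h3 hY).1 le_rfl hz)
      have h6 := fd_zc_val h2 hθ h1 hφ hd h5.1 (der_le_zc h2 (commutator_mono h1 (hY.trans h1) hz))
      rw [h5.2, mul_comm] at h6
      exact hθ.charOn.mem_kerOn.2 ⟨h1 h5.1, (mul_right_cancel₀ hφ.one_ne_zero h6).symm⟩
    have hC : Q ⊓ 𝐂(B) ≤ Q := inf_le_left
    have h5 : ⁅⁅Q, B⁆, Q ⊓ 𝐂(B)⁆ ≤ kc Q θ := by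
      refine PGrp.three_subgroups_of_le_normalizer hK (le_norm_kc' hθ.charOn hB fun g hg z hz =>
        hi g hg z (Subgroup.commutator_le_self Q hz)) (hC.trans hK) ?_
        ((commutator_mono (commutator_mono hC le_rfl) le_rfl).trans (fd_der_comm_le h2 hθ hB hi))
      rw [commutator_eq_bot_iff_le_centralizer.2 (BG1.le_cent_symm inf_le_right), commutator_bot_left]
      exact bot_le
    have h6 : Q₁ ≤ centQuo (kc Q θ) (Q ⊓ 𝐂(B)) := sup_le
      (le_centQuo (hC.trans hK) ((commutator_le_left_of_norm hB).trans hK) ((commutator_comm _ _).le.trans h5))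
      (le_centQuo (hC.trans hK) (zc_le.trans hK) (le_inf ((commutator_mono hC le_rfl).trans
        ((le_zc_iff h2 zc_le).1 le_rfl)) (commutator_mono hC zc_le)))
    have h7 := commutator_le_of_le_centQuo (hC.trans hK) (hY.trans h6)
    rw [le_zc_iff h2 (hY.trans h1), commutator_comm]
    refine (commutator_le_of_le_centQuo ((hY.trans h1).trans hK) ?_).trans inf_le_left
    refine (Coprime.commutator_sup_centralizer hB hc (Or.inr hs)).ge.trans (sup_le ?_ ?_)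
    · exact le_sup_left.trans (le_centQuo ((hY.trans h1).trans hK) (h1.trans hK) h4)
    · exact le_centQuo ((hY.trans h1).trans hK) (hC.trans hK) ((commutator_comm _ _).le.trans h7)
  · rw [le_zc_iff h3 le_sup_right, hφ.charOn.le_kerOn (commutator_le_left_of_norm (le_sup_right.trans le_normalizer))]
    exact (triv_kerOn.mono ((commutator_mono h1 le_rfl).trans ((le_zc_iff h2 zc_le).1 le_rfl))).of_dot
      (hθ.charOn.mono h1) (commutator_le_left_of_norm (le_sup_right.trans le_normalizer)) hφ hd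

theorem fd_invOn {Q₁ : Subgroup G} (h2 : ⁅Q, Q⁆ ≤ 𝐂(Q)) (hθ : IrrOn Q θ) (h1 : Q₁ ≤ Q) (hφ : IrrOn Q₁ φ)
    (hd : dot Q₁ θ φ ≠ 0) (hz : zc Q₁ φ = zc Q θ) (hI : I ≤ 𝐍(Q)) (hI₁ : I ≤ 𝐍(Q₁)) (hi : InvOn I Q θ) :
    InvOn I Q₁ φ := fun a ha x hx => by
  have h3 : ⁅Q₁, Q₁⁆ ≤ 𝐂(Q₁) := (commutator_mono h1 h1).trans (h2.trans (centralizer_le h1))
  have hn := le_norm_zc_of_invOn hθ.charOn hI hi
  have hx' := Coprime.conj_mem hI₁ ha hx
  by_cases h : x ∈ zc Q θ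
  · refine mul_right_cancel₀ hθ.one_ne_zero ?_
    rw [fd_zc_val h2 hθ h1 hφ hd hx h, fd_zc_val h2 hθ h1 hφ hd hx' (Coprime.conj_mem hn ha h), hi a ha x (h1 hx)]
  · rw [zc_vanish h3 hφ hx (hz ▸ h), zc_vanish h3 hφ hx' (hz ▸ fun h' => h (by
      simpa [mul_assoc] using Coprime.conj_mem hn (inv_mem ha) h'))]

theorem fd_core2 (ht : t.Prime) (hr : r.Prime) (hrt : r ≠ t) (hA : IsCyclic A) (hA2 : IsPGroup 2 A) (hB : B ≤ A)
    (hB2 : Nat.card B ∣ 2) (hQ : IsPGroup r Q) (hn : A ≤ 𝐍(Q)) (hc : (Nat.card A).Coprime (Nat.card Q))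
    (h2 : ⁅Q, Q⁆ ≤ 𝐂(Q)) (hT : IsPGroup t T) (hAT : A ≤ 𝐍(T)) (hcT : (Nat.card A).Coprime (Nat.card T))
    (hTQ : T ≤ 𝐍(Q)) (hTQ' : T ≤ 𝐂(⁅Q, Q⁆)) (hQT : ⁅Q, T⁆ = Q) (hTB : ⁅T, B⁆ = T) (hχ : CharOn (Q ⊔ A) χ)
    (h0 : dot A χ 1 = 0) (hθ : IrrOn Q θ) (hd : dot Q χ θ ≠ 0) : Triv ⁅Q, Q⁆ θ := by
  classical
  by_contra hne
  have hRA : Q ⊓ A = ⊥ := Coprime.inf_eq_bot_of_coprime_card hc
  set I := inertia A Q θ with hI
  have hIA : I ≤ A := inertia_le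
  have hcyc : IsCyclic I := PGrp.isCyclic_of_le' hA hIA
  have hI0 : I ≠ ⊥ := fa_inertia_ne_bot hn hRA hχ h0 hθ hd
  have hBI : B ≤ I := fb_le_of_ne_bot Nat.prime_two hA hA2 hB hB2 hIA hI0
  obtain ⟨ψ, hψ, e, hψ0⟩ := fa_exists_ext hn hRA hχ h0 hθ hd hcyc
  have hψR : IrrOn Q ψ := hθ.congr fun x hx => (e x hx).symm
  have hinv : InvOn I Q ψ := fun a ha x hx =>
    hψ.classOn a (mem_sup_right ha) x (mem_sup_left hx)
  have hIQ : I ≤ 𝐍(Q) := hIA.trans hn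
  have hsQ : Group.IsSolvable Q := solvable_of_nilpotent (nilpotent_of_pgroup hr hQ)
  set Z := zc Q ψ with hZ
  have hZQ : Z ≤ Q := zc_le
  have hQZ : Q ≤ 𝐍(Z) := self_le_norm_zc h2
  have hIZ : I ≤ 𝐍(Z) := le_norm_zc_of_invOn hψR.charOn hIQ hinv
  have hTZ : T ≤ 𝐍(Z) := le_norm_zc_of_cent hψR.charOn hTQ hTQ'
  have hne' : ¬ Q ≤ Z := fun h => hne (((zc_eq_iff h2 hψR.charOn).1 (le_antisymm hZQ h)).congr
    (Subgroup.commutator_le_self Q) e)
  have hTW : ¬ ⁅quo Z T, quo Z B⁆ ≤ 𝐂(quo Z Q) := by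
    rw [← mim_commutator hTZ (hBI.trans hIZ), hTB, quo_cent_iff hTZ hQZ, commutator_comm, hQT]
    exact hne'
  have hcI := Coprime.coprime_card_of_le hc hIA le_rfl
  have hcB := Coprime.coprime_card_of_le hcI hBI le_rfl
  haveI : IsMulCommutative (quo Z Q) := (isMulCommutative_quo_iff hQZ).2 (der_le_zc h2)
  set Q₁ := ⁅Q, B⁆ ⊔ Z with hQ₁
  have hQB : ⁅Q, B⁆ ≤ Q := commutator_le_left_of_norm (hBI.trans hIQ)
  have h1 : Q₁ ≤ Q := sup_le hQB hZQ
  have h3 : ⁅Q₁, Q₁⁆ ≤ 𝐂(Q₁) := (commutator_mono h1 h1).trans (h2.trans (centralizer_le h1))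
  have hIB : I ≤ 𝐍(B) := le_normalizer.trans (PGrp.normalizer_le_normalizer_of_isCyclic hcyc hBI)
  have hIQ₁ : I ≤ 𝐍(Q₁) := le_normalizer_sup (le_normalizer_commutator hIQ hIB) hIZ
  have hq₁ : quo Z Q₁ = ⁅quo Z Q, quo Z B⁆ := by
    rw [hQ₁, sup_comm, quo_sup_left (hQB.trans hQZ), mim_commutator hQZ (hBI.trans hIZ)]
  obtain ⟨φ, hφ', hφd⟩ := hψR.exists_under h1
  have hφ := irrOn_of_mem hφ'
  have hz : zc Q₁ φ = Z := fd_zc_eq h2 hψR (hBI.trans hIQ) (hinv.mono hBI le_rfl) hcB hsQ hφ hφd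
  have hφi := fd_invOn h2 hψR h1 hφ hφd hz hIQ hIQ₁ hinv
  have hI₁ : inertia I Q₁ φ = I := (inertia_eq_iff (nrm_of_le_normalizer hIQ₁)).2 hφi
  have hc₁ := Coprime.coprime_card_of_le hcI le_rfl h1
  obtain ⟨η, hη, e₁, hη0⟩ := fa_exists_ext hIQ₁ (Coprime.inf_eq_bot_of_coprime_card hc₁)
    (hψ.mono (sup_le_sup_right h1 I)) hψ0 hφ hφd (hI₁.symm ▸ hcyc)
  rw [hI₁] at hη hη0
  have hcZ := Coprime.coprime_card_of_le hcI le_rfl hZQ
  have hsZ := solvable_of_le hZQ hsQ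
  have hqC : quo Z (Q ⊓ 𝐂(B)) = quo Z Q ⊓ 𝐂(quo Z B) :=
    quo_inf_cent (hBI.trans hIZ) hQZ (hBI.trans hIQ) (Coprime.coprime_card_of_le hcZ hBI le_rfl) (Or.inr hsZ)
  have hcB' : (Nat.card (quo Z B)).Coprime (Nat.card (quo Z Q)) := coprime_card_mim _ hcB
  have h4 : Q₁ ⊓ 𝐂(B) ≤ Z := by
    rw [← quo_eq_bot_iff (inf_le_left.trans (h1.trans hQZ)), eq_bot_iff,
      ← Coprime.centralizer_inf_commutator_eq_bot (mim_norm _ (hBI.trans hIQ)) hcB', ← hqC, ← hq₁]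
    exact le_inf (mim_mono _ (inf_le_inf_right _ h1)) (mim_mono _ inf_le_left)
  haveI := PGrp.isMulCommutative_of_isCyclic hcyc
  have hCa : ∀ a ∈ I, a ≠ 1 → centralizer {a} ≤ 𝐂(B) := fun a ha h =>
    fd_cent_le Nat.prime_two hA hA2 hB hB2 (hIA ha) h
  have hηR : IrrOn Q₁ η := hφ.congr fun x hx => (e₁ x hx).symm
  have hz' : zc Q₁ η = Z := (zc_congr e₁).trans hz
  have h5 := fb_semireg h3 hIQ₁ hc₁ hη hηR hη0 fun a ha h => hz' ▸ (inf_le_inf_left _ (hCa a ha h)).trans h4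
  have h6 := zc_deg_sq h3 hηR
  rw [hz', ← card_quo (h1.trans hQZ), hq₁] at h6
  have h7 : charDegree η ≠ 1 := fun h => by
    rw [h, one_pow, eq_comm, card_eq_one, commutator_comm, commutator_eq_bot_iff_le_centralizer] at h6
    exact hTW ((commutator_mono le_rfl h6).trans (commutator_le_right_of_norm
      ((mim_norm _ hTQ).trans (PGrp.normalizer_le_normalizer_centralizer' _))))
  replace h5 := h5.resolve_left h7
  obtain ⟨d, hd'⟩ := fb_exists_deg hr (hQ.to_le h1) h3 hηR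
  haveI := Fact.mk Nat.prime_two
  obtain ⟨m, hm⟩ := (hA2.to_le hIA).exists_card_eq
  have hd1 : d = 1 := by
    by_contra h
    rcases d with _ | _ | d
    · exact h7 hd'
    · exact h rfl
    · exact HH.pow_add_one_ne_two_pow hr.one_lt (by omega) (hd' ▸ h5.trans hm)
  rw [hd1, pow_one] at hd'
  rw [hd'] at h5 h6
  have h8 := zc_deg_sq h2 hψR
  have h9 := Coprime.card_eq_card_centralizer_mul_card_commutator (mim_norm (qmk Z) (hBI.trans hIQ)) hcB'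
  set c := Nat.card ↥(quo Z Q ⊓ 𝐂(quo Z B)) with hc'
  rw [← h6] at h9
  rw [← card_quo hQZ] at h8
  have h10 : ∀ a ∈ I, ‖ψ a‖ ≤ √(Nat.card ↥(quo Z Q ⊓ 𝐂(quo Z (zpowers a)))) := fun a ha => by
    refine Real.le_sqrt_of_sq_le ?_
    rw [← quo_inf_cent ((zpowers_le.2 ha).trans hIZ) hQZ ((zpowers_le.2 ha).trans hIQ)
      (Coprime.coprime_card_of_le hcZ (zpowers_le.2 ha) le_rfl) (Or.inr hsZ), card_quo (inf_le_left.trans hQZ),
      PGrp.centralizer_zpowers]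
    exact fa_normSq_le h2 le_sup_left (nrm_of_le_normalizer (sup_le le_normalizer hIQ)) hψ hψR (mem_sup_right ha)
      (hcI.coprime_dvd_left (I.orderOf_dvd_natCard ha))
  obtain ⟨a₀, ha₀⟩ := PGrp.exists_zpowers_eq_of_isCyclic hcyc
  have ha₀I : a₀ ∈ I := ha₀ ▸ mem_zpowers a₀
  have ha₀1 : a₀ ≠ 1 := by rintro rfl; exact hI0 (by rw [← ha₀, zpowers_one_eq_bot])
  have h11 := fa_deg_le_sum (hψ.mono le_sup_right) hψ0
  rw [← Finset.add_sum_erase _ _ (Finset.mem_erase.2 ⟨ha₀1, mem_elems.2 ha₀I⟩)] at h11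
  have h12 : ∑ x ∈ ((elems I).erase 1).erase a₀, ‖ψ x‖ ≤ (r - 1 : ℝ) * √c := by
    refine (Finset.sum_le_card_nsmul _ _ (√c) fun a ha => ?_).trans (le_of_eq ?_)
    · have ha' := Finset.mem_erase.1 (Finset.mem_of_mem_erase ha)
      refine (h10 a (mem_elems.1 ha'.2)).trans (Real.sqrt_le_sqrt (Nat.cast_le.2 (card_le_of_le
        (inf_le_inf_left _ (centralizer_le (mim_mono _ ?_))))))
      exact fb_le_of_ne_bot Nat.prime_two hA hA2 hB hB2 (zpowers_le.2 (hIA (mem_elems.1 ha'.2))) (zpowers_ne_bot.2 ha'.1)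
    · rw [Finset.card_erase_of_mem (Finset.mem_erase.2 ⟨ha₀1, mem_elems.2 ha₀I⟩),
        Finset.card_erase_of_mem (mem_elems.2 I.one_mem), card_elems, ← h5, nsmul_eq_mul, Nat.add_sub_cancel,
        Nat.cast_sub hr.one_le, Nat.cast_one]
  have h13 : (charDegree ψ : ℝ) = r * √c := by
    rw [← Real.sqrt_sq (Nat.cast_nonneg (charDegree ψ)), ← Real.sqrt_sq (Nat.cast_nonneg r), ← Real.sqrt_mul (by positivity)]
    congr 1
    exact_mod_cast h8.trans (h9.trans (mul_comm _ _))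
  have h14 := h10 a₀ ha₀I
  rw [ha₀] at h14
  have h15 : c ≤ Nat.card ↥(quo Z Q ⊓ 𝐂(quo Z I)) := by
    have : √(c : ℝ) ≤ √(Nat.card ↥(quo Z Q ⊓ 𝐂(quo Z I))) := by linarith
    exact_mod_cast (Real.sqrt_le_sqrt_iff (by positivity)).1 this
  have h16 := le_antisymm h15 (card_le_of_le (inf_le_inf_left _ (centralizer_le (mim_mono _ hBI))))
  have h17 := fd_card_quo hIZ hcZ
  have h18 : 4 ≤ Nat.card I := by
    have := hr.two_le
    rcases m with _ | _ | m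
    · omega
    · omega
    · rw [hm, pow_add, pow_add]; have := Nat.one_le_two_pow (n := m); omega
  have h19 := fd_lemY ht (isCyclic_mim (qmk Z) hcyc) (isPGroup_mim _ (hA2.to_le hIA)) (h17 ▸ h18) (mim_mono _ hBI)
    ((card_mim_dvd _ _).trans hB2) (isPGroup_mim _ hT) (mim_norm _ (hIA.trans hAT))
    (coprime_card_mim _ (Coprime.coprime_card_of_le hcT hIA le_rfl)) (isSolvable_mim _ hsQ) (mim_norm _ hIQ)
    (mim_norm _ hTQ) (coprime_card_mim _ hcI) (coprime_card_mim _ (fc_coprime_of_ne ht hr hrt.symm hT hQ)) hTW (by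
      rw [← h16]
      refine le_of_eq ((congrArg _ h9).trans ?_)
      rw [ArithmeticFunction.cardFactors_mul Nat.card_pos.ne' (pow_ne_zero _ hr.ne_zero),
        ArithmeticFunction.cardFactors_apply_prime_pow hr])
  have := h19.2
  rw [show Nat.card (mim (qmk Z) I) = _ from h17] at this
  omega

theorem fd_deg_one (h2 : ⁅Q, Q⁆ ≤ 𝐂(Q)) (hθ : IrrOn Q θ) (h : Triv ⁅Q, Q⁆ θ) : charDegree θ = 1 := by
  have := zc_deg_sq h2 hθ
  rwa [(zc_eq_iff h2 hθ.charOn).2 h, relIndex_self, pow_eq_one_iff_of_nonneg (Nat.zero_le _) two_ne_zero] at this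

theorem fd_tower (ht : t.Prime) (hr : r.Prime) (hrt : r ≠ t) (hA : IsCyclic A) (hA2 : IsPGroup 2 A) (hB : B ≤ A)
    (hB2 : Nat.card B ∣ 2) (hT : IsPGroup t T) (hR : IsPGroup r R) (hV : Group.IsSolvable V) (hAT : A ≤ 𝐍(T))
    (hAR : A ≤ 𝐍(R)) (hAV : A ≤ 𝐍(V)) (hTR : T ≤ 𝐍(R)) (hTV : T ≤ 𝐍(V)) (hRV : R ≤ 𝐍(V))
    (hcT : (Nat.card A).Coprime (Nat.card T)) (hc : (Nat.card A).Coprime (Nat.card R))
    (hcA : (Nat.card A).Coprime (Nat.card V)) (hcR : (Nat.card R).Coprime (Nat.card V)) (hfV : V ⊓ 𝐂(A) = ⊥) :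
    ⁅R, ⁅T, B⁆⁆ ≤ 𝐂(V) := by
  by_contra hne
  set N := R ⊓ 𝐂(V) with hN
  have hn : ∀ X : Subgroup G, X ≤ 𝐍(R) → X ≤ 𝐍(V) → X ≤ 𝐍(N) := fun X h h' =>
    le_normalizer_inf h (h'.trans (PGrp.normalizer_le_normalizer_centralizer' V))
  have hRN := hn R le_normalizer hRV
  have hAN := hn A hAR hAV
  have hAB : A ≤ 𝐍(B) := le_normalizer.trans (PGrp.normalizer_le_normalizer_of_isCyclic hA hB)
  have hT₀ : ⁅T, B⁆ ≤ T := commutator_le_left_of_norm (hB.trans hAT)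
  have hTN := hT₀.trans (hn T hTR hTV)
  have hVN : V ≤ 𝐍(N) := (BG1.le_cent_symm inf_le_right).trans (centralizer_le_normalizer _)
  have hcN := Coprime.coprime_card_of_le hc le_rfl (inf_le_left : N ≤ R)
  haveI := PGrp.isMulCommutative_of_isCyclic hA
  have hsA : Group.IsSolvable A := inferInstance
  have hAT₀ : quo N A ≤ 𝐍(quo N ⁅T, B⁆) := mim_norm _ (le_normalizer_commutator hAT hAB)
  obtain ⟨Q, hQ, hAQ, hBQ, hmin⟩ := fb_exists_min (P := quo N ⁅T, B⁆ ⊔ quo N A) (B := quo N ⁅T, B⁆)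
    (sup_le (mim_norm _ (hT₀.trans hTR)) (mim_norm _ hAR)) fun h =>
      hne (commutator_comm ⁅T, B⁆ R ▸ ((quo_cent_iff hTN hRN).1 h).trans inf_le_right)
  have hQr := (isPGroup_mim (qmk N) hR).to_le hQ
  have hcQ := Coprime.coprime_card_of_le (coprime_card_mim (qmk N) hc) le_rfl hQ
  have hTt := isPGroup_mim (qmk N) (hT.to_le hT₀)
  obtain ⟨h1, -, h3, h4⟩ := fb_min_props (nilpotent_of_pgroup hr hQr) le_sup_left (sup_le le_normalizer hAT₀) hAQ
    (fc_coprime_of_ne ht hr hrt.symm hTt hQr) hBQ hmin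
  have hAQ' := le_sup_right.trans hAQ
  have hQV : Q ⊔ quo N A ≤ 𝐍(quo N V) := sup_le (hQ.trans (mim_norm _ hRV)) (mim_norm _ hAV)
  obtain ⟨χ, hχ, hd⟩ := Coprime.exists_brauer_lift hQV (by
    rw [Coprime.card_sup_of_disjoint' hAQ' (Coprime.inf_eq_bot_of_coprime_card hcQ)]
    exact Nat.Coprime.mul_left (Coprime.coprime_card_of_le (coprime_card_mim _ hcR) hQ le_rfl) (coprime_card_mim _ hcA))
    (isSolvable_mim _ hV)
  have h0 : dot (quo N A) χ 1 = 0 := by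
    rw [hd _ le_sup_right, ← quo_inf_cent hAN hVN hAV hcN (Or.inl hsA), hfV, mim_bot, card_bot]
    simp
  have hB' : quo N B ≤ quo N A := mim_mono _ hB
  have hTB : ⁅quo N ⁅T, B⁆, quo N B⁆ = quo N ⁅T, B⁆ := by
    rw [← mim_commutator hTN (hB.trans hAN),
      Coprime.commutator_commutator_eq (hB.trans hAT) (Coprime.coprime_card_of_le hcT hB le_rfl)]
  have hQB : ⁅Q, quo N B⁆ ≤ Q := commutator_le_left_of_norm (hB'.trans hAQ')
  have h5 : Triv ⁅Q, quo N B⁆ χ := by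
    by_contra h
    obtain ⟨θ, hθ, hθd, h⟩ := fd_exists_not_triv (hχ.mono le_sup_left) hQB h
    have h6 := fd_core2 ht hr hrt (isCyclic_mim _ hA) (isPGroup_mim _ hA2) hB' ((card_mim_dvd _ _).trans hB2) hQr hAQ' hcQ
      h3 hTt hAT₀ (coprime_card_mim _ (Coprime.coprime_card_of_le hcT le_rfl hT₀)) (le_sup_left.trans hAQ) h4 h1 hTB hχ h0
      hθ hθd
    exact h (triv_kerOn.mono (fb_triv_of_lin (hB'.trans hAQ') hθ (fd_deg_one h3 hθ h6) ((fa_invOn_inertia hAQ').mono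
      (fb_le_of_ne_bot Nat.prime_two (isCyclic_mim _ hA) (isPGroup_mim _ hA2) hB' ((card_mim_dvd _ _).trans hB2)
        inertia_le (fa_inertia_ne_bot hAQ' (Coprime.inf_eq_bot_of_coprime_card hcQ) hχ h0 hθ hθd)) le_rfl)))
  rw [Coprime.triv_iff_le_centralizer_of_lift hχ hd (hQB.trans le_sup_left)] at h5
  have h6 : ⁅Q, quo N B⁆ = ⊥ := le_bot_iff.1 ((le_inf (hQB.trans hQ) h5).trans (fb_quo_faithful hRV hcR).le)
  rw [commutator_comm, commutator_eq_bot_iff_le_centralizer] at h6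
  exact hBQ (hTB.ge.trans ((commutator_mono le_rfl h6).trans (commutator_le_right_of_norm
    ((le_sup_left.trans hAQ).trans (PGrp.normalizer_le_normalizer_centralizer' _)))))

universe u in
theorem fd_two (n : ℕ) : ∀ (G : Type u) [Group G] [Finite G] (K A : Subgroup G), IsCyclic A → Nat.card A ∣ 2 ^ (n + 2) →
    Group.IsSolvable K → A ≤ 𝐍(K) → K ⊓ 𝐂(A) = ⊥ → SigC.nresN (2 * n + 2) K = ⊥ := by
  induction n with
  | zero =>
    intro G _ _ K A hA hd hs hn hfix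
    have h1 : SigC.nres K ≤ fittingOf K := (SigC.nres_le_lcs K 1).trans (fc_four hA hd hs hn hfix)
    exact le_bot_iff.1 ((SigC.nres_mono h1).trans (SigC.nres_eq_bot_iff.2 (fittingOf_nilpotent K)).le)
  | succ n ih =>
    intro G _ _ K A hA hd hs hn hfix
    have hAp : IsPGroup 2 A := IsPGroup.of_card_dvd_pow hd
    obtain ⟨B, hB, h1, h2⟩ := fc_exists_omega Nat.prime_two hAp hd
    have hc := fc_coprime Nat.prime_two hAp hn hfix
    have hAB : A ≤ 𝐍(B) := le_normalizer.trans (PGrp.normalizer_le_normalizer_of_isCyclic hA hB)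
    obtain ⟨h3, h4, h5, h6⟩ := fc_kill hs hn hc hB hAB (commutator_le_left_of_norm (hB.trans hn))
      (normalizer_commutator_ge_left K B) (le_normalizer_commutator hn hAB) le_rfl hfix
    have h7 := ih _ _ _ (isCyclic_mim _ hA) (h6.trans h2) (isSolvable_mim _ hs) (mim_norm _ hn) h5
    rw [← SigC.mim_nresN _ _ h3, quo_eq_bot_iff ((SigC.nresN_le _ _).trans h3)] at h7
    have h8 := fc_red2 hs hn hc hB hfix fun t r s ht hr hs' hrt hsr T R hT hR hTt hRr hAT hAR hTR => by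
      have hO : 𝐎[s](K) ≤ K := piCoreOf_le' _ _
      exact fd_tower ht hr hrt hA hAp hB h1 hTt hRr (solvable_of_le hO hs) hAT hAR (le_norm_piCoreOf _ hn) hTR
        (hT.trans (le_norm_piCoreOf_self _ _)) (hR.trans (le_norm_piCoreOf_self _ _))
        (Coprime.coprime_card_of_le hc le_rfl hT) (Coprime.coprime_card_of_le hc le_rfl hR)
        (Coprime.coprime_card_of_le hc le_rfl hO) (fc_coprime_of_ne hr hs' hsr.symm hRr (pgroup_pCoreOf hs' _))
        (le_bot_iff.1 ((inf_le_inf_right _ hO).trans hfix.le))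
    rw [show 2 * (n + 1) + 2 = (2 * n + 2) + 2 by ring, SigC.nresN_add]
    exact le_bot_iff.1 ((SigC.nresN_mono 2 ((le_inf h7 (SigC.nresN_le _ _)).trans h4.le)).trans h8.le)

end Cfsg.Lib.Hall
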