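import Cfsg.Agent.Lib.Hall.FpfD

/-! Fixed-point-free noncyclic groups of order `p q`: group-theoretic preliminaries. -/

set_option autoImplicit false
set_option linter.unusedSectionVars false

namespace Cfsg.Lib.Hall
open Subgroup Cfsg.Lib.Core Cfsg.Lib.Amalg Cfsg.Lib.BG1
open scoped commutatorElement IsMulCommutative

variable {G : Type*} [Group G] [Finite G] {A B C D K N Q T W X Y : Subgroup G} {p r t : ℕ}

/-- a noncyclic group whose order is a product of two primes -/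
def PQ (A : Subgroup G) : Prop := ∃ p q : ℕ, p.Prime ∧ q.Prime ∧ Nat.card A = p * q ∧
  ((p = q ∧ ∀ a ∈ A, a ^ p = 1) ∨ ¬ IsMulCommutative A)

theorem fe_eq_of_prime (hB : (Nat.card B).Prime) (h : C ≤ B) (h0 : C ≠ ⊥) : C = B := by
  rcases (Nat.dvd_prime hB).1 (card_dvd_of_le h) with e | e
  · exact absurd (card_eq_one.1 e) h0
  · exact PGrp.eq_of_le_of_card_le h e.ge

theorem fe_eq_or_of_relIndex (hp : (A.relIndex B).Prime) (h1 : A ≤ C) (h2 : C ≤ B) : C = A ∨ C = B := by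
  have h := relIndex_mul_relIndex A C B h1 h2
  rcases (Nat.dvd_prime hp).1 (Dvd.intro _ h) with e | e
  · exact Or.inl (le_antisymm (relIndex_eq_one.1 e) h1)
  · rw [e, mul_eq_left₀ hp.ne_zero] at h
    exact Or.inr (le_antisymm h2 (relIndex_eq_one.1 h))

theorem PQ.prime (h : PQ A) (hB : B ≤ A) (h1 : B ≠ A) (h0 : B ≠ ⊥) : (Nat.card B).Prime := by
  obtain ⟨p, q, hp, hq, hA, -⟩ := h
  obtain ⟨a, b, ha, hb, e⟩ := Nat.dvd_mul.1 (hA ▸ card_dvd_of_le hB)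
  rcases (Nat.dvd_prime hp).1 ha with rfl | rfl <;> rcases (Nat.dvd_prime hq).1 hb with rfl | rfl
  · exact absurd (card_eq_one.1 e.symm) h0
  · rwa [← e, one_mul]
  · rwa [← e, mul_one]
  · exact absurd (PGrp.eq_of_le_of_card_le hB (hA.trans e).le) h1

theorem PQ.zpowers_ne (h : PQ A) (a : G) : zpowers a ≠ A := by
  rintro rfl
  obtain ⟨p, q, hp, -, hA, ⟨rfl, h⟩ | h⟩ := h
  · have := Nat.le_of_dvd hp.pos (orderOf_dvd_of_pow_eq_one (h a (mem_zpowers a)))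
    rw [Nat.card_zpowers] at hA
    nlinarith [hp.two_le]
  · exact h inferInstance

theorem PQ.sup_eq (h : PQ A) (hB : B ≤ A) (h0 : B ≠ ⊥) (hC : C ≤ A) (hCB : ¬ C ≤ B) : B ⊔ C = A := by
  by_contra hne
  exact hCB (le_sup_right.trans (fe_eq_of_prime (h.prime (sup_le hB hC) hne fun e =>
    h0 (le_bot_iff.1 (le_sup_left.trans e.le))) le_sup_left h0).ge)

theorem PQ.exists_compl (h : PQ A) (hB : B ≤ A) (h1 : B ≠ A) (h0 : B ≠ ⊥) (hn : A ≤ 𝐍(B)) :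
    ∃ C, C ≤ A ∧ (Nat.card C).Prime ∧ B ⊔ C = A ∧ (Nat.card B ≤ Nat.card C ∨ Nat.card C ∣ Nat.card B - 1) := by
  obtain ⟨a, ha, haB⟩ := SetLike.not_le_iff_exists.1 fun e => h1 (le_antisymm hB e)
  have hC : zpowers a ≤ A := zpowers_le.2 ha
  have h2 := h.prime hC (h.zpowers_ne a) (zpowers_ne_bot.2 (by rintro rfl; exact haB B.one_mem))
  have h3 := h.sup_eq hB h0 hC (mt zpowers_le.1 haB)
  have h4 := h.prime hB h1 h0
  refine ⟨_, hC, h2, h3, ?_⟩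
  obtain ⟨p, q, hp, -, hA, ⟨rfl, -⟩ | h⟩ := h
  · have e1 := (Nat.prime_dvd_prime_iff_eq h4 hp).1 (h4.dvd_of_dvd_pow (n := 2) (by rw [sq, ← hA]; exact card_dvd_of_le hB))
    have e2 := (Nat.prime_dvd_prime_iff_eq h2 hp).1 (h2.dvd_of_dvd_pow (n := 2) (by rw [sq, ← hA]; exact card_dvd_of_le hC))
    exact Or.inl (e1.trans e2.symm).le
  · refine Or.inr ((Coprime.fpf_of_card_prime h2 ?_).card_dvd (hC.trans hn))
    by_contra hne
    have h5 : B ≤ 𝐂(zpowers a) := (fe_eq_of_prime h4 inf_le_left hne).ge.trans inf_le_right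
    haveI := Fact.mk h4
    haveI : IsCyclic B := isCyclic_of_prime_card rfl
    haveI : IsMulCommutative B := IsCyclic.isMulCommutative
    refine h (le_centralizer_iff_isMulCommutative.1 ?_)
    rw [← h3, centralizer_sup]
    exact le_inf (sup_le (le_centralizer B) (BG1.le_cent_symm h5)) (sup_le h5 (le_centralizer _))

theorem PQ.quo (h : PQ A) (hn : A ≤ 𝐍(N)) (hc : (Nat.card A).Coprime (Nat.card N)) : PQ (quo N A) := by
  obtain ⟨p, q, hp, hq, hA, h⟩ := h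
  refine ⟨p, q, hp, hq, (fd_card_quo hn hc).trans hA, h.imp (fun h => ⟨h.1, ?_⟩) fun h h' => h ?_⟩
  · intro _ hx
    obtain ⟨x, hxN, hx', rfl⟩ := mem_mim.1 hx
    rw [← map_pow, show (⟨x, hxN⟩ : 𝐍(N)) ^ p = 1 from Subtype.ext (h.2 x hx'), map_one]
  · rw [isMulCommutative_quo_iff hn] at h'
    rw [← le_centralizer_iff_isMulCommutative, ← commutator_eq_bot_iff_le_centralizer, eq_bot_iff,
      ← Coprime.inf_eq_bot_of_coprime_card hc]
    exact le_inf h' (Subgroup.commutator_le_self A)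

theorem fe_norm_of_der (h : ⁅Q, Y⁆ ≤ D) (hD : D ≤ Q) : Y ≤ 𝐍(D) :=
  Clifford.Nrm.le_normalizer fun g hg x hx => by
    have := mul_mem (inv_mem (h (commutator_mem_commutator (hD hx) hg))) hx
    rwa [commutatorElement_inv, commutatorElement_def, inv_mul_cancel_right] at this

theorem fe_cent_le (hTQ : T ≤ 𝐍(Q)) (hc : (Nat.card T).Coprime (Nat.card Q)) (hQT : ⁅Q, T⁆ = Q) (h1 : ⁅Q, Q⁆ ≤ D)
    (h2 : D ≤ Q) (hTD : T ≤ 𝐍(D)) (hY : Y ≤ Q) (h : ⁅Y, T⁆ ≤ D) : Y ≤ D := by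
  have hQD : Q ≤ 𝐍(D) := fe_norm_of_der h1 h2
  haveI : IsMulCommutative (quo D Q) := (isMulCommutative_quo_iff hQD).2 h1
  rw [← quo_eq_bot_iff (hY.trans hQD), eq_bot_iff,
    ← Coprime.centralizer_inf_commutator_eq_bot (mim_norm (qmk D) hTQ) (coprime_card_mim _ hc),
    ← mim_commutator hQD hTD, hQT]
  exact le_inf (le_inf (mim_mono _ hY) ((quo_cent_iff (hY.trans hQD) hTD).2 h)) (mim_mono _ hY)

theorem fe_indep {ι : Type*} (hTQ : T ≤ 𝐍(Q)) (hc : (Nat.card T).Coprime (Nat.card Q)) (hQT : ⁅Q, T⁆ = Q)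
    (h1 : ⁅Q, Q⁆ ≤ D) (h2 : D ≤ Q) (hTD : T ≤ 𝐍(D)) (hK : K ≤ T) (hKD : ⁅Q, K⁆ ≤ D) (F L : ι → Subgroup G) (s : Finset ι)
    (hF : ∀ i ∈ s, T ≤ 𝐍(F i) ∧ L i ≤ T ∧ ⁅Q, L i⁆ ≤ F i ∧ T ≤ K ⊔ L i)
    (h : ∀ x ∈ Q, (∀ i ∈ s, x ∈ F i) → x ∈ D) : Q ≤ D := by
  classical
  induction s using Finset.induction_on with
  | empty => exact fun x hx => h x hx (by simp)
  | insert i s _ ih =>
    refine ih (fun j hj => hF j (Finset.mem_insert_of_mem hj)) fun x hx hx' => ?_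
    obtain ⟨h3, h4, h5, h6⟩ := hF i (Finset.mem_insert_self _ _)
    set Y := Q ⊓ ⨅ j ∈ s, F j
    have hY : ∀ y, y ∈ Y ↔ y ∈ Q ∧ ∀ j ∈ s, y ∈ F j := fun y => by simp only [Y, mem_inf, mem_iInf]
    have hTY : T ≤ 𝐍(Y) := Clifford.Nrm.le_normalizer fun g hg y hy => (hY _).2 ⟨Coprime.conj_mem hTQ hg ((hY y).1 hy).1,
      fun j hj => Coprime.conj_mem (hF j (Finset.mem_insert_of_mem hj)).1 hg (((hY y).1 hy).2 j hj)⟩
    have hYQ : Y ≤ Q := inf_le_left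
    have hYD := hYQ.trans (fe_norm_of_der h1 h2)
    refine fe_cent_le hTQ hc hQT h1 h2 hTD hYQ (commutator_le_of_le_centQuo hYD (h6.trans (sup_le
      (le_centQuo hYD (hK.trans hTD) ((commutator_mono hYQ le_rfl).trans hKD))
      (le_centQuo hYD (h4.trans hTD) fun y hy => ?_)))) ((hY x).2 ⟨hx, hx'⟩)
    have h7 := (hY y).1 (commutator_le_left_of_norm (h4.trans hTY) hy)
    refine h y h7.1 fun j hj => ?_
    rcases Finset.mem_insert.1 hj with rfl | hj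
    · exact h5 (commutator_mono hYQ le_rfl hy)
    · exact h7.2 j hj

theorem fe_norm0 [IsMulCommutative W] (hn : A ≤ 𝐍(W)) (hc : (Nat.card A).Coprime (Nat.card W)) (hfix : W ⊓ 𝐂(A) = ⊥)
    (hB : B ≤ A) (hD : D ≤ W) (hWB : ⁅W, B⁆ ≤ D) {x : G} (hx : x ∈ W) (h : ∀ a ∈ A, a ∉ B → a * x * a⁻¹ ∈ D) : x ∈ D := by
  classical
  haveI := Fintype.ofFinite A
  have h1 := Coprime.prod_conjAut_mem_centralizer hn ⟨x, hx⟩
  have h3 : (∏ a : A, Coprime.conjAut hn a ⟨x, hx⟩ : W) = 1 := Subtype.ext (mem_bot.1 (hfix.le ⟨Subtype.prop _, h1⟩))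
  set f := QuotientGroup.mk' (D.subgroupOf W)
  have h4 := congrArg f h3
  rw [map_prod, map_one, Finset.prod_congr rfl (g := fun a : A => if (a : G) ∈ B then f ⟨x, hx⟩ else 1) fun a _ => by
      split_ifs with ha
      · refine QuotientGroup.eq.2 ?_
        have := hWB (commutator_mem_commutator (inv_mem hx) ha)
        rw [commutatorElement_def, inv_inv] at this
        rw [← inv_mem_iff, mul_inv_rev, inv_inv, mem_subgroupOf]
        simpa [Coprime.coe_conjAut, mul_assoc] using this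
      · exact (QuotientGroup.eq_one_iff _).2 (h a a.2 ha),
    Finset.prod_ite, Finset.prod_const_one, mul_one, Finset.prod_const] at h4
  have h5 : (Finset.univ.filter fun a : A => (a : G) ∈ B).card = Nat.card B := by
    rw [← Nat.card_congr (subgroupOfEquivOfLe hB).toEquiv, ← Fintype.card_subtype, ← Nat.card_eq_fintype_card]
    rfl
  have h6 : f ⟨x, hx⟩ ^ Nat.card W = 1 := by rw [← map_pow, pow_card_eq_one', map_one]
  have h7 := (pow_gcd_eq_one (a := f ⟨x, hx⟩)).2 ⟨h5 ▸ h4, h6⟩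
  rw [Coprime.coprime_card_of_le hc hB le_rfl, pow_one] at h7
  exact (QuotientGroup.eq_one_iff (N := D.subgroupOf W) _).1 h7

theorem fe_norm (hn : A ≤ 𝐍(Q)) (hc : (Nat.card A).Coprime (Nat.card Q)) (hs : Group.IsSolvable Q) (hfix : Q ⊓ 𝐂(A) = ⊥)
    (hB : B ≤ A) (h1 : ⁅Q, Q⁆ ≤ D) (hD : D ≤ Q) (hWB : ⁅Q, B⁆ ≤ D) {x : G} (hx : x ∈ Q)
    (h : ∀ a ∈ A, a ∉ B → a * x * a⁻¹ ∈ D) : x ∈ D := by
  set N := ⁅Q, Q⁆
  have hNQ : N ≤ Q := Subgroup.commutator_le_self Q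
  have hQN : Q ≤ 𝐍(N) := fe_norm_of_der le_rfl hNQ
  have hAN : A ≤ 𝐍(N) := le_normalizer_commutator hn hn
  haveI : IsMulCommutative (quo N Q) := (isMulCommutative_quo_iff hQN).2 le_rfl
  have h2 := fe_norm0 (x := qmk N ⟨x, hQN hx⟩) (mim_norm (qmk N) hn) (coprime_card_mim _ hc) (by
    rw [← quo_inf_cent hAN hQN hn (Coprime.coprime_card_of_le hc le_rfl hNQ) (Or.inr (solvable_of_le hNQ hs)), hfix, mim_bot])
    (mim_mono _ hB) (mim_mono _ hD) (by rw [← mim_commutator hQN (hB.trans hAN)]; exact mim_mono _ hWB)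
    (mem_mim.2 ⟨x, _, hx, rfl⟩) fun a' ha' ha'' => by
      obtain ⟨a, haN, ha, rfl⟩ := mem_mim.1 ha'
      rw [← map_inv, ← map_mul, ← map_mul]
      exact mem_mim.2 ⟨_, _, h a ha fun hb => ha'' (mem_mim.2 ⟨a, _, hb, rfl⟩), rfl⟩
  have h3 : x ∈ quoPre N (quo N D) := (mem_mpre_iff (hQN hx)).2 h2
  rwa [quoPre_quo (hD.trans hQN), sup_eq_right.2 h1] at h3

theorem fe_norm_sup (hB : B ≤ 𝐍(T)) : T ≤ 𝐍(⁅T, B⁆ ⊔ B) := by
  refine Clifford.Nrm.le_normalizer fun g hg x hx => ?_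
  obtain ⟨n, hn', b, hb, rfl⟩ := (Coprime.mem_sup_iff_of_le_normalizer (normalizer_commutator_ge_right T B)).1 hx
  rw [show g * (n * b) * g⁻¹ = g * n * g⁻¹ * ⁅g, b⁆ * b by rw [commutatorElement_def]; group]
  exact mul_mem (mem_sup_left (mul_mem (Coprime.conj_mem (normalizer_commutator_ge_left T B) hg hn')
    (commutator_mem_commutator hg hb))) (mem_sup_right hb)

theorem fe_eq_commutator (hn : A ≤ 𝐍(T)) (hc : (Nat.card A).Coprime (Nat.card T)) (hs : Group.IsSolvable T)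
    (hfix : T ⊓ 𝐂(A) = ⊥) : ⁅T, A⁆ = T := by
  have := Coprime.commutator_sup_centralizer hn hc (Or.inr hs)
  rwa [hfix, sup_bot_eq] at this

theorem fe_commutator_sup (hB : B ≤ 𝐍(T)) (hC : C ≤ 𝐍(T)) : ⁅T, B ⊔ C⁆ ≤ ⁅T, B⁆ ⊔ ⁅T, C⁆ := by
  have h1 : ⁅T, B⁆ ⊔ ⁅T, C⁆ ≤ T := sup_le (commutator_le_left_of_norm hB) (commutator_le_left_of_norm hC)
  have h2 : T ≤ 𝐍(⁅T, B⁆ ⊔ ⁅T, C⁆) :=
    le_normalizer_sup (normalizer_commutator_ge_left T B) (normalizer_commutator_ge_left T C)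
  exact commutator_le_of_le_centQuo h2 (sup_le (le_centQuo h2 (fe_norm_of_der le_sup_left h1) le_sup_left)
    (le_centQuo h2 (fe_norm_of_der le_sup_right h1) le_sup_right))

theorem PQ.sup_cj (h : PQ A) (hB : B ≤ A) (h0 : B ≠ ⊥) (hn : ¬ A ≤ 𝐍(B)) {a : G} (ha : a ∈ A) (haB : a ∉ B) :
    B ⊔ cj a B = A := by
  refine h.sup_eq hB h0 (cj_le_of_le_of_mem hB ha) fun e => hn ?_
  rw [← h.sup_eq hB h0 (zpowers_le.2 ha) (mt zpowers_le.1 haB)]
  exact sup_le le_normalizer (zpowers_le.2 (mem_normalizer_of_cj_le e))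

theorem fe_key0 (hA : PQ A) (hr : r.Prime) (hQ : IsPGroup r Q) (hsT : Group.IsSolvable T) (hAQ : A ≤ 𝐍(Q)) (hAT : A ≤ 𝐍(T))
    (hTQ : T ≤ 𝐍(Q)) (hc : (Nat.card A).Coprime (Nat.card Q)) (hcT : (Nat.card A).Coprime (Nat.card T))
    (hcQ : (Nat.card T).Coprime (Nat.card Q)) (hfQ : Q ⊓ 𝐂(A) = ⊥) (hfT : T ⊓ 𝐂(A) = ⊥) (hQT : ⁅Q, T⁆ = Q)
    (hmin : ∀ S < Q, T ⊔ A ≤ 𝐍(S) → T ≤ 𝐂(S)) (hB : B ≤ A) (h1 : B ≠ A) (h0 : B ≠ ⊥) :
    Q ≤ ⁅Q, ⁅T, B⁆ ⊔ B⁆ ⊔ ⁅Q, Q⁆ := by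
  classical
  haveI := Fact.mk hr
  have hs := solvable_of_nilpotent (nilpotent_of_pgroup hr hQ)
  have hT₁ : ⁅T, B⁆ ≤ T := commutator_le_left_of_norm (hB.trans hAT)
  set X := ⁅T, B⁆ ⊔ B with hX
  have hXQ : X ≤ 𝐍(Q) := sup_le (hT₁.trans hTQ) (hB.trans hAQ)
  have hQ' : ⁅Q, Q⁆ ≤ Q := Subgroup.commutator_le_self Q
  set D := ⁅Q, X⁆ ⊔ ⁅Q, Q⁆ with hD
  have hDQ : D ≤ Q := sup_le (commutator_le_left_of_norm hXQ) hQ'
  have hTD : T ≤ 𝐍(D) := le_normalizer_sup (le_normalizer_commutator hTQ (fe_norm_sup (hB.trans hAT)))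
    (le_normalizer_commutator hTQ hTQ)
  by_cases hn : A ≤ 𝐍(B)
  · by_contra hne
    have hAX : A ≤ 𝐍(X) := le_normalizer_sup (le_normalizer_commutator hAT hn) hn
    have h2 := hmin D (lt_of_le_of_ne hDQ fun e => hne e.ge) (sup_le hTD
      (le_normalizer_sup (le_normalizer_commutator hAQ hAX) (le_normalizer_commutator hAQ hAQ)))
    have h3 : D ≤ ⁅Q, Q⁆ := fe_cent_le hTQ hcQ hQT le_rfl hQ' (le_normalizer_commutator hTQ hTQ) hDQ (by
      rw [commutator_eq_bot_iff_le_centralizer.2 (BG1.le_cent_symm h2)]; exact bot_le)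
    have h4 : ∀ Y ≤ X, (Nat.card Y).Coprime (Nat.card Q) → Y ≤ 𝐂(Q) := fun Y hY hYc => by
      have h5 := Coprime.commutator_sup_centralizer (hY.trans hXQ) hYc (Or.inr hs)
      refine BG1.le_cent_symm ((PGrp.eq_of_sup_commutator hQ inf_le_left ?_).ge.trans inf_le_right)
      exact h5.ge.trans (sup_le (((commutator_mono le_rfl hY).trans (le_sup_left.trans h3)).trans le_sup_right) le_sup_left)
    have h5 := h4 B le_sup_right (Coprime.coprime_card_of_le hc hB le_rfl)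
    have h6 := h4 _ le_sup_left (Coprime.coprime_card_of_le hcQ hT₁ le_rfl)
    obtain ⟨C, hC, hCp, hBC, -⟩ := hA.exists_compl hB h1 h0 hn
    have h7 : T ⊓ 𝐂(B) ⊓ 𝐂(C) = ⊥ := by rw [inf_assoc, ← centralizer_sup, hBC, hfT]
    have h8 : Q ⊓ 𝐂(C) = ⊥ := by
      rw [eq_bot_iff, ← hfQ, ← hBC, centralizer_sup]
      exact le_inf inf_le_left (le_inf (inf_le_left.trans (BG1.le_cent_symm h5)) inf_le_right)
    have hCT : C ≤ 𝐍(T ⊓ 𝐂(B)) :=
      hC.trans (le_normalizer_inf hAT (hn.trans (PGrp.normalizer_le_normalizer_centralizer' B)))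
    have hf := Coprime.fpf_of_card_prime hCp h7
    have h9 := hf.wielandt hCT (sup_le (inf_le_left.trans hTQ) (hC.trans hAQ)) (by
      rw [hf.card_sup hCT]
      exact Nat.Coprime.mul_left (Coprime.coprime_card_of_le hcQ inf_le_left le_rfl)
        (Coprime.coprime_card_of_le hc hC le_rfl)) hs
    rw [h8, le_bot_iff.1 ((inf_le_inf_left Q (centralizer_le (le_sup_right : C ≤ T ⊓ 𝐂(B) ⊔ C))).trans h8.le), card_bot,
      one_pow, one_mul, one_mul] at h9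
    have h10 : T ≤ 𝐂(Q) := (Coprime.commutator_sup_centralizer (hB.trans hAT) (Coprime.coprime_card_of_le hcT hB le_rfl)
      (Or.inr hsT)).ge.trans (sup_le h6 (BG1.le_cent_symm ((PGrp.eq_of_le_of_card_le inf_le_left h9.le).ge.trans inf_le_right)))
    rw [commutator_comm, commutator_eq_bot_iff_le_centralizer.2 h10] at hQT
    exact hne (hQT.ge.trans bot_le)
  · refine fe_indep hTQ hcQ hQT le_sup_right hDQ hTD hT₁ ((commutator_mono le_rfl le_sup_left).trans le_sup_left)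
      (fun a => cj a⁻¹ D) (fun a => cj a⁻¹ ⁅T, B⁆) ((Clifford.elems A).filter (· ∉ B)) (fun a ha => ?_) fun x hx h => ?_
    · obtain ⟨ha, haB⟩ := Finset.mem_filter.1 ha
      have ha' := inv_mem (Clifford.mem_elems.1 ha)
      have e1 := cj_of_mem_normalizer (hAT ha')
      have e2 := cj_of_mem_normalizer (hAQ ha')
      refine ⟨?_, cj_le_of_le_of_mem_normalizer hT₁ (hAT ha'), ?_, ?_⟩
      · rw [← cj_normalizer, ← e1]; exact cj_mono _ hTD
      · conv_lhs => rw [← e2, ← cj_commutator]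
        exact cj_mono _ ((commutator_mono le_rfl le_sup_left).trans le_sup_left)
      · rw [cj_commutator, e1]
        refine le_trans ?_ (fe_commutator_sup (hB.trans hAT) ((cj_le_of_le_of_mem hB ha').trans hAT))
        rw [hA.sup_cj hB h0 hn ha' (mt inv_mem_iff.1 haB), fe_eq_commutator hAT hcT hsT hfT]
    · refine fe_norm hAQ hc hs hfQ hB le_sup_right hDQ ((commutator_mono le_rfl le_sup_right).trans le_sup_left) hx
        fun a ha haB => ?_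
      have := mem_cj.1 (h a (Finset.mem_filter.2 ⟨Clifford.mem_elems.2 ha, haB⟩))
      rwa [inv_inv] at this

theorem fe_key (hA : PQ A) (hr : r.Prime) (hQ : IsPGroup r Q) (hsT : Group.IsSolvable T) (hAQ : A ≤ 𝐍(Q)) (hAT : A ≤ 𝐍(T))
    (hTQ : T ≤ 𝐍(Q)) (hc : (Nat.card A).Coprime (Nat.card Q)) (hcT : (Nat.card A).Coprime (Nat.card T))
    (hcQ : (Nat.card T).Coprime (Nat.card Q)) (hfQ : Q ⊓ 𝐂(A) = ⊥) (hfT : T ⊓ 𝐂(A) = ⊥) (hQT : ⁅Q, T⁆ = Q)
    (hmin : ∀ S < Q, T ⊔ A ≤ 𝐍(S) → T ≤ 𝐂(S)) (hB : B ≤ A) (h1 : B ≠ A) (h0 : B ≠ ⊥) : ⁅Q, ⁅T, B⁆ ⊔ B⁆ = Q := by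
  haveI := Fact.mk hr
  exact PGrp.eq_of_sup_commutator hQ (commutator_le_left_of_norm
    (sup_le ((commutator_le_left_of_norm (hB.trans hAT)).trans hTQ) (hB.trans hAQ)))
    (fe_key0 hA hr hQ hsT hAQ hAT hTQ hc hcT hcQ hfQ hfT hQT hmin hB h1 h0)

theorem fe_quo_inf_cent (hW : W ≤ 𝐍(N)) (hX : X ≤ 𝐍(N)) (hXW : X ≤ 𝐍(W)) (h : W ⊓ N = ⊥) :
    quo N (W ⊓ 𝐂(X)) = quo N W ⊓ 𝐂(quo N X) := by
  refine le_antisymm (le_inf (mim_mono _ inf_le_left) ((quo_cent_iff (inf_le_left.trans hW) hX).2 ?_)) fun y hy => ?_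
  · rw [commutator_eq_bot_iff_le_centralizer.2 inf_le_right]; exact bot_le
  · obtain ⟨hy, hy'⟩ := mem_inf.1 hy
    obtain ⟨x, hxN, hx, rfl⟩ := mem_mim.1 hy
    have hz : zpowers x ≤ W := zpowers_le.2 hx
    rw [← zpowers_le, ← mim_zpowers, quo_cent_iff (hz.trans hW) hX] at hy'
    refine mem_mim.2 ⟨x, hxN, ⟨hx, zpowers_le.1 (commutator_eq_bot_iff_le_centralizer.1 (le_bot_iff.1 ?_))⟩, rfl⟩
    exact (le_inf ((commutator_mono hz le_rfl).trans (commutator_le_left_of_norm hXW)) hy').trans h.le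

theorem fe_wiel (hB : (Nat.card B).Prime) (hs : Group.IsSolvable W) (hTW : T ≤ 𝐍(W)) (hBW : B ≤ 𝐍(W)) (hBT : B ≤ 𝐍(T))
    (hc : (Nat.card B).Coprime (Nat.card T)) (hcB : (Nat.card B).Coprime (Nat.card W))
    (hcT : (Nat.card T).Coprime (Nat.card W)) (h : ⁅T, T⁆ ≤ 𝐂(W)) (h0 : W ⊓ 𝐂(⁅T, B⁆ ⊔ B) = ⊥) :
    Nat.card W = Nat.card ↥(W ⊓ 𝐂(B)) ^ Nat.card B * Nat.card ↥(W ⊓ 𝐂(⁅T, B⁆)) := by
  set N := T ⊓ 𝐂(W) with hN
  have hTN : T ≤ 𝐍(N) := le_normalizer_inf le_normalizer (hTW.trans (PGrp.normalizer_le_normalizer_centralizer' W))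
  have hBN : B ≤ 𝐍(N) := le_normalizer_inf hBT (hBW.trans (PGrp.normalizer_le_normalizer_centralizer' W))
  have hWN : W ≤ 𝐍(N) := (BG1.le_cent_symm inf_le_right).trans (centralizer_le_normalizer _)
  have hcN := Coprime.coprime_card_of_le hc le_rfl (inf_le_left : N ≤ T)
  have hcN' := Coprime.coprime_card_of_le hcT.symm le_rfl (inf_le_left : N ≤ T)
  have hT₁ : ⁅T, B⁆ ≤ T := commutator_le_left_of_norm hBT
  haveI : IsMulCommutative (quo N T) := (isMulCommutative_quo_iff hTN).2 (le_inf (Subgroup.commutator_le_self T) h)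
  have e := fd_card_quo hBN hcN
  have hf : Coprime.Fpf (quo N ⁅T, B⁆) (quo N B) := Coprime.fpf_of_card_prime (e ▸ hB) (by
    rw [eq_bot_iff, ← Coprime.centralizer_inf_commutator_eq_bot (mim_norm (qmk N) hBT) (coprime_card_mim _ hc),
      ← mim_commutator hTN hBN]
    exact le_inf (inf_le_inf_right _ (mim_mono _ hT₁)) inf_le_left)
  have hn : quo N B ≤ 𝐍(quo N ⁅T, B⁆) := mim_norm _ (normalizer_commutator_ge_right T B)
  have h1 := hf.wielandt hn (sup_le (mim_norm _ (hT₁.trans hTW)) (mim_norm _ hBW)) (by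
    rw [hf.card_sup hn]
    exact Nat.Coprime.mul_left (coprime_card_mim _ (Coprime.coprime_card_of_le hcT hT₁ le_rfl)) (coprime_card_mim _ hcB))
    (isSolvable_mim _ hs)
  have hWN' : W ⊓ N = ⊥ := by rw [inf_comm]; exact Coprime.inf_eq_bot_of_coprime_card hcN'
  have h2 : ∀ X, X ≤ 𝐍(N) → X ≤ 𝐍(W) → Nat.card ↥(quo N W ⊓ 𝐂(quo N X)) = Nat.card ↥(W ⊓ 𝐂(X)) := fun X h h' => by
    rw [← fe_quo_inf_cent hWN h h' hWN',
      fd_card_quo (inf_le_left.trans hWN) (Coprime.coprime_card_of_le hcN' inf_le_left le_rfl)]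
  rw [← mim_sup (hT₁.trans hTN) hBN] at h1
  erw [h2 _ (sup_le (hT₁.trans hTN) hBN) (sup_le (hT₁.trans hTW) hBW), h2 _ hBN hBW, h2 _ (hT₁.trans hTN) (hT₁.trans hTW),
    e, fd_card_quo hWN hcN', h0, card_bot, one_pow, one_mul] at h1
  exact h1

theorem fe_num {b c e n : ℕ} (hb : b.Prime) (hc : 2 ≤ c) (he : 0 < e) (h1 : n ^ 2 = c ^ b * e) (h2 : n ^ 2 ≤ (b - 1) ^ 2 * c) :
    False := by
  obtain ⟨k, rfl⟩ : ∃ k, b = k + 1 := ⟨b - 1, by have := hb.pos; omega⟩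
  rw [Nat.add_sub_cancel, h1, pow_succ c k, mul_right_comm] at h2
  have h3 := Nat.le_of_mul_le_mul_right h2 (by omega)
  have h4 : 2 ^ k ≤ c ^ k := Nat.pow_le_pow_left hc k
  have h5 : c ^ k ≤ c ^ k * e := Nat.le_mul_of_pos_right _ he
  have h6 : k ≤ 4 := by
    by_contra h
    have : ∀ m, 5 ≤ m → m ^ 2 < 2 ^ m := fun m hm => by
      induction m, hm using Nat.le_induction with
      | base => norm_num
      | succ m hm ih => rw [pow_succ 2]; nlinarith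
    have := this k (by omega)
    omega
  have h7 : ∀ j, c ^ j ≤ 2 ^ j → j ≠ 0 → c = 2 := fun j h hj => le_antisymm ((Nat.pow_le_pow_iff_left hj).1 h) hc
  interval_cases k
  · exact absurd hb (by norm_num)
  · omega
  · obtain rfl := h7 2 (by omega) (by norm_num)
    obtain rfl : e = 1 := by omega
    have : n < 3 := lt_of_pow_lt_pow_left₀ 2 (by norm_num) (by omega)
    interval_cases n <;> omega
  · exact absurd hb (by norm_num)
  · obtain rfl := h7 4 (by omega) (by norm_num)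
    obtain rfl : e = 1 := by omega
    have : n < 6 := lt_of_pow_lt_pow_left₀ 2 (by norm_num) (by omega)
    interval_cases n <;> omega

end Cfsg.Lib.Hall
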