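import Cfsg.Agent.Lib.Hall.FpfE

/-! Fixed-point-free noncyclic groups of order `p q` force Fitting height at most two. -/

set_option autoImplicit false
set_option linter.unusedSectionVars false

namespace Cfsg.Lib.Hall
open Subgroup Cfsg.Lib.Core Cfsg.Lib.Amalg Cfsg.Lib.BG1 Cfsg.Lib.Clifford Cfsg.Lib.Char
open scoped commutatorElement ComplexConjugate IsMulCommutative

variable {G : Type*} [Group G] [Finite G] {A B C D I K N Q R T V W X Y Z : Subgroup G} {χ θ φ ψ : G → ℂ} {p r t : ℕ}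

theorem ff_inertia_ne (h2 : ⁅Q, Q⁆ ≤ 𝐂(Q)) (hn : A ≤ 𝐍(Q)) (hc : (Nat.card A).Coprime (Nat.card Q)) (hfix : Q ⊓ 𝐂(A) = ⊥)
    (hθ : IrrOn Q θ) (h : ¬ Triv ⁅Q, Q⁆ θ) : inertia A Q θ ≠ A := fun e =>
  h fun _ hz => fb_norm_trick h2 hn hc hfix hθ hz fun _ ha ha' => absurd (e.ge ha) ha'

theorem ff_mem_zc (h2 : ⁅Q, Q⁆ ≤ 𝐂(Q)) (hn : A ≤ 𝐍(Q)) (hc : (Nat.card A).Coprime (Nat.card Q)) (hfix : Q ⊓ 𝐂(A) = ⊥)
    (hθ : IrrOn Q θ) {x : G} (hx : x ∈ Q) (h : ∀ a ∈ A, a ∉ inertia A Q θ → a * x * a⁻¹ ∈ zc Q θ) : x ∈ zc Q θ := by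
  refine (mem_zc h2 hθ.charOn).2 ⟨hx, fun y hy => fb_norm_trick h2 hn hc hfix hθ (commutator_mem_commutator hy hx)
    fun a ha ha' => ?_⟩
  rw [← ((mem_zc h2 hθ.charOn).1 (h a ha ha')).2 _ (Coprime.conj_mem hn ha hy)]
  congr 1
  group

theorem ff_deg_le (h2 : ⁅Q, Q⁆ ≤ 𝐂(Q)) (hn : I ≤ 𝐍(Q)) (hc : (Nat.card I).Coprime (Nat.card Q)) (hI : (Nat.card I).Prime)
    (hψ : CharOn (Q ⊔ I) ψ) (hψR : IrrOn Q ψ) (h0 : dot I ψ 1 = 0) :
    charDegree ψ ^ 2 ≤ (Nat.card I - 1) ^ 2 * (zc Q ψ).relIndex (Q ⊓ 𝐂(I)) := by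
  classical
  set c := (zc Q ψ).relIndex (Q ⊓ 𝐂(I))
  have h1 := (fa_deg_le_sum (hψ.mono le_sup_right) h0).trans (Finset.sum_le_card_nsmul _ _ (√c) fun a ha => by
    have ha' := Finset.mem_erase.1 ha
    refine Real.le_sqrt_of_sq_le ?_
    have := fa_normSq_le h2 le_sup_left (nrm_of_le_normalizer (sup_le le_normalizer hn)) hψ hψR
      (mem_sup_right (mem_elems.1 ha'.2)) (hc.coprime_dvd_left (I.orderOf_dvd_natCard (mem_elems.1 ha'.2)))
    rwa [Coprime.centralizer_singleton_eq_of_card_prime hI (mem_elems.1 ha'.2) ha'.1] at this)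
  rw [Finset.card_erase_of_mem (mem_elems.2 I.one_mem), card_elems, nsmul_eq_mul] at h1
  have h3 := pow_le_pow_left₀ (Nat.cast_nonneg _) h1 2
  rw [mul_pow, Real.sq_sqrt (Nat.cast_nonneg _)] at h3
  exact_mod_cast h3

theorem ff_fpf [IsMulCommutative W] (hn : B ≤ 𝐍(W)) (hf : Coprime.Fpf W B) (h : Nat.card W ≤ Nat.card B ^ 2)
    (hX : X ≤ 𝐍(W)) (hBX : B ≤ 𝐍(X)) (hc : (Nat.card X).Coprime (Nat.card W)) (hne : ¬ X ≤ 𝐂(W)) : W ⊓ 𝐂(X) = ⊥ := by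
  by_contra h0
  have h1 := Coprime.card_eq_card_centralizer_mul_card_commutator hX hc
  have h2 : ∀ Y, Y ≤ W → B ≤ 𝐍(Y) → Y ≠ ⊥ → Nat.card B + 1 ≤ Nat.card Y := fun Y hY hB h0 => by
    have := (one_lt_card_iff_ne_bot Y).2 h0
    have := Nat.le_of_dvd (by omega) ((hf.mono hY le_rfl).card_dvd hB)
    omega
  have h3 := h2 _ inf_le_left (le_normalizer_inf hn (hBX.trans (PGrp.normalizer_le_normalizer_centralizer' X))) h0
  have h4 := h2 _ (commutator_le_left_of_norm hX) (le_normalizer_commutator hn hBX) fun e =>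
    hne (BG1.le_cent_symm (commutator_eq_bot_iff_le_centralizer.1 e))
  nlinarith

theorem ff_index (hZ : Z ≤ Q) (hne : ¬ Q ≤ Z) (hQZ : Q ≤ 𝐍(Z)) (hTZ : T ≤ 𝐍(Z)) (hTQ : T ≤ 𝐍(Q))
    (hc : (Nat.card T).Coprime (Nat.card Q)) (h1 : ⁅T, T⁆ ≤ centQuo Z Q) (h2 : ∀ u ∈ T, u ^ t ∈ centQuo Z Q)
    (h : ∀ u ∈ T, u ∉ centQuo Z Q → ∀ w ∈ Q, ⁅w, u⁆ ∈ Z → w ∈ Z) :
    (centQuo Z Q).relIndex T ∣ t ∧ (centQuo Z Q).relIndex T ∣ Z.relIndex Q - 1 := by
  set K := T ⊓ centQuo Z Q with hK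
  have hKT : K ≤ T := inf_le_left
  obtain ⟨h3, h4, -, -⟩ : Q ≤ 𝐍(Z ⊔ K) ∧ (Z ⊔ K) ⊓ Q = Z ∧ True ∧ True := by
    refine ⟨Nrm.le_normalizer fun g hg x hx => ?_, ?_, trivial, trivial⟩
    · obtain ⟨n, hn', b, hb, rfl⟩ := (Coprime.mem_sup_iff_of_le_normalizer (hKT.trans hTZ)).1 hx
      rw [show g * (n * b) * g⁻¹ = g * n * g⁻¹ * ⁅g, b⁆ * b by rw [commutatorElement_def]; group]
      exact mul_mem (mem_sup_left (mul_mem (Coprime.conj_mem hQZ hg hn')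
        (commutator_centQuo_le hQZ (commutator_mem_commutator hg hb.2)))) (mem_sup_right hb)
    · rw [sup_inf_of_le_normalizer' hZ (hKT.trans hTZ), inf_comm,
        Coprime.inf_eq_bot_of_coprime_card (Coprime.coprime_card_of_le hc hKT le_rfl), sup_bot_eq]
  have h5 : T ≤ 𝐍(Z ⊔ K) := le_normalizer_sup hTZ (le_normalizer_inf le_normalizer (le_norm_centQuo hTZ hTQ))
  have h6 : (Z ⊔ K) ⊓ T = K := by
    rw [sup_comm, sup_inf_of_le_normalizer hKT (hKT.trans hTZ),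
      Coprime.inf_eq_bot_of_coprime_card (Coprime.coprime_card_of_le hc le_rfl hZ), sup_bot_eq]
  have hf : Coprime.Fpf (quo (Z ⊔ K) Q) (quo (Z ⊔ K) T) := by
    refine Coprime.fpf_iff.2 fun u' hu' h1 w' hw' e => ?_
    obtain ⟨u, huN, hu, rfl⟩ := mem_mim.1 hu'
    obtain ⟨w, hwN, hw, rfl⟩ := mem_mim.1 hw'
    rw [eq_comm, ← commutatorElement_eq_one_iff_mul_comm, ← map_commutatorElement, qmk_eq_one_iff] at e
    refine (qmk_eq_one_iff _).2 (mem_sup_left (h u hu (fun hk => h1 ((qmk_eq_one_iff _).2 (mem_sup_right ⟨hu, hk⟩))) w hw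
      (h4.le ⟨e, commutator_le_left_of_norm hTQ (commutator_mem_commutator hw hu)⟩)))
  have e1 : Nat.card (quo (Z ⊔ K) T) = (centQuo Z Q).relIndex T := by
    rw [card_quo h5, ← inf_relIndex_right, h6, hK, inf_comm, inf_relIndex_right]
  have e2 : Nat.card (quo (Z ⊔ K) Q) = Z.relIndex Q := by rw [card_quo h3, ← inf_relIndex_right, h4]
  rw [← e1, ← e2]
  refine ⟨hf.card_le_of_pow_eq_one (mim_norm _ hTQ) (fun e => hne ?_) le_rfl ((isMulCommutative_quo_iff h5).2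
    ((le_inf (Subgroup.commutator_le_self T) h1).trans le_sup_right)) fun u' hu' => ?_, hf.card_dvd (mim_norm _ hTQ)⟩
  · exact (le_inf ((quo_eq_bot_iff h3).1 e) le_rfl).trans h4.le
  · obtain ⟨u, huN, hu, rfl⟩ := mem_mim.1 hu'
    rw [← map_pow, qmk_eq_one_iff]
    exact mem_sup_right ⟨pow_mem hu t, h2 u hu⟩

/-- a minimal configuration -/
structure FCore (A T Q : Subgroup G) (r t : ℕ) : Prop where
  pq : PQ A
  hr : r.Prime
  ht : t.Prime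
  hrt : r ≠ t
  hQ : IsPGroup r Q
  hT : IsPGroup t T
  hAQ : A ≤ 𝐍(Q)
  hAT : A ≤ 𝐍(T)
  hTQ : T ≤ 𝐍(Q)
  hc : (Nat.card A).Coprime (Nat.card Q)
  hcT : (Nat.card A).Coprime (Nat.card T)
  hfQ : Q ⊓ 𝐂(A) = ⊥
  hfT : T ⊓ 𝐂(A) = ⊥
  hQT : ⁅Q, T⁆ = Q
  h2 : ⁅Q, Q⁆ ≤ 𝐂(Q)
  hTQ' : T ≤ 𝐂(⁅Q, Q⁆)
  hmin : ∀ S < Q, T ⊔ A ≤ 𝐍(S) → T ≤ 𝐂(S)
  hTmin : ∀ S < T, A ≤ 𝐍(S) → S ≤ 𝐂(Q)

theorem FCore.hcQ (h : FCore A T Q r t) : (Nat.card T).Coprime (Nat.card Q) :=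
  fc_coprime_of_ne h.ht h.hr h.hrt.symm h.hT h.hQ

theorem FCore.hsT (h : FCore A T Q r t) : Group.IsSolvable T := solvable_of_nilpotent (nilpotent_of_pgroup h.ht h.hT)

theorem FCore.hsQ (h : FCore A T Q r t) : Group.IsSolvable Q := solvable_of_nilpotent (nilpotent_of_pgroup h.hr h.hQ)

theorem FCore.key (h : FCore A T Q r t) (hB : B ≤ A) (h1 : B ≠ A) (h0 : B ≠ ⊥) : ⁅Q, ⁅T, B⁆ ⊔ B⁆ = Q :=
  fe_key h.pq h.hr h.hQ h.hsT h.hAQ h.hAT h.hTQ h.hc h.hcT h.hcQ h.hfQ h.hfT h.hQT h.hmin hB h1 h0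

theorem FCore.triv (h : FCore A T Q r t) (hχ : CharOn (Q ⊔ A) χ) (h0 : dot A χ 1 = 0) (hθ : IrrOn Q θ)
    (hd : dot Q χ θ ≠ 0) : Triv ⁅Q, Q⁆ θ := by
  classical
  by_contra hne
  have h2 := h.h2
  haveI := Fact.mk h.ht
  have hRA : Q ⊓ A = ⊥ := Coprime.inf_eq_bot_of_coprime_card h.hc
  set I := inertia A Q θ with hI
  have hIA : I ≤ A := inertia_le
  have hI0 : I ≠ ⊥ := fa_inertia_ne_bot h.hAQ hRA hχ h0 hθ hd
  have hI1 : I ≠ A := ff_inertia_ne h2 h.hAQ h.hc h.hfQ hθ hne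
  have hb := h.pq.prime hIA hI1 hI0
  have hcyc : IsCyclic I := by haveI := Fact.mk hb; exact isCyclic_of_prime_card rfl
  obtain ⟨ψ, hψ, e, hψ0⟩ := fa_exists_ext h.hAQ hRA hχ h0 hθ hd hcyc
  have hψR : IrrOn Q ψ := hθ.congr fun x hx => (e x hx).symm
  have hinv : InvOn I Q ψ := fun a ha x hx => hψ.classOn a (mem_sup_right ha) x (mem_sup_left hx)
  have hIQ : I ≤ 𝐍(Q) := hIA.trans h.hAQ
  have hIT : I ≤ 𝐍(T) := hIA.trans h.hAT
  set Z := zc Q ψ with hZ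
  have hZQ : Z ≤ Q := zc_le
  have hQZ : Q ≤ 𝐍(Z) := self_le_norm_zc h2
  have hIZ : I ≤ 𝐍(Z) := le_norm_zc_of_invOn hψR.charOn hIQ hinv
  have hTZ : T ≤ 𝐍(Z) := le_norm_zc_of_cent hψR.charOn h.hTQ h.hTQ'
  have hne' : ¬ Q ≤ Z := fun h => hne (((zc_eq_iff h2 hψR.charOn).1 (le_antisymm hZQ h)).congr
    (Subgroup.commutator_le_self Q) e)
  have hcI := Coprime.coprime_card_of_le h.hc hIA le_rfl
  have hcIT := Coprime.coprime_card_of_le h.hcT hIA le_rfl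
  have hcZ := Coprime.coprime_card_of_le hcI le_rfl hZQ
  have hsZ := solvable_of_le hZQ h.hsQ
  haveI : IsMulCommutative (quo Z Q) := (isMulCommutative_quo_iff hQZ).2 (der_le_zc h2)
  have hT₁ : ⁅T, I⁆ ≤ T := commutator_le_left_of_norm hIT
  have hX : quo Z Q ⊓ 𝐂(⁅quo Z T, quo Z I⁆ ⊔ quo Z I) = ⊥ := by
    have h3 : (Nat.card ↥(⁅T, I⁆ ⊔ I)).Coprime (Nat.card Q) := by
      rw [Coprime.card_sup_of_disjoint' (normalizer_commutator_ge_right T I)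
        (Coprime.inf_eq_bot_of_coprime_card (Coprime.coprime_card_of_le hcIT le_rfl hT₁))]
      exact Nat.Coprime.mul_left (Coprime.coprime_card_of_le h.hcQ hT₁ le_rfl) hcI
    have h4 := Coprime.centralizer_inf_commutator_eq_bot (mim_norm (qmk Z) (sup_le (hT₁.trans h.hTQ) hIQ))
      (coprime_card_mim _ h3)
    rw [← mim_commutator hQZ (sup_le (hT₁.trans hTZ) hIZ), h.key hIA hI1 hI0, mim_sup (hT₁.trans hTZ) hIZ,
      mim_commutator hTZ hIZ, inf_eq_left.2 inf_le_left] at h4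
    exact h4
  have hN := zc_deg_sq h2 hψR
  have hb' := fd_card_quo hIZ hcZ
  have hqC : Nat.card ↥(quo Z Q ⊓ 𝐂(quo Z I)) = Z.relIndex (Q ⊓ 𝐂(I)) := by
    rw [← quo_inf_cent hIZ hQZ hIQ hcZ (Or.inr hsZ), card_quo (inf_le_left.trans hQZ)]
  have hT0 : T ≠ ⊥ := by rintro rfl; exact hne' (h.hQT.ge.trans ((commutator_bot_right Q).le.trans bot_le))
  have hΦ : (frattini T).map T.subtype ≤ 𝐂(Q) :=
    h.hTmin _ (frattiniOf_lt hT0) (h.hAT.trans (normalizer_le_normalizer_frattiniOf T))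
  have hCK : T ⊓ 𝐂(Q) ≤ centQuo Z Q := (inf_le_inf_right _ hTZ).trans (cent_le_centQuo Z Q)
  have hT' : ⁅T, T⁆ ≤ centQuo Z Q :=
    (le_inf (Subgroup.commutator_le_self T) ((commutator_le_frattiniOf h.hT).trans hΦ)).trans hCK
  set K := T ⊓ centQuo Z Q with hK
  have hKT : K ≤ T := inf_le_left
  have hKZ : ⁅Q, K⁆ ≤ Z := commutator_le_of_le_centQuo hQZ inf_le_right
  have hfin : ¬ ∀ a ∈ A, a ∉ I → T ≤ K ⊔ cj a K := fun hh => by
    refine hne' (fe_indep h.hTQ h.hcQ h.hQT (der_le_zc h2) hZQ hTZ hKT hKZ (fun a => cj a⁻¹ Z) (fun a => cj a⁻¹ K)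
      ((elems A).filter (· ∉ I)) (fun a ha => ?_) fun x hx hx' => ?_)
    · obtain ⟨ha, haB⟩ := Finset.mem_filter.1 ha
      have ha' := inv_mem (mem_elems.1 ha)
      refine ⟨?_, cj_le_of_le_of_mem_normalizer hKT (h.hAT ha'), ?_, hh _ ha' (mt inv_mem_iff.1 haB)⟩
      · rw [← cj_normalizer, ← cj_of_mem_normalizer (h.hAT ha')]; exact cj_mono _ hTZ
      · conv_lhs => rw [← cj_of_mem_normalizer (h.hAQ ha'), ← cj_commutator]
        exact cj_mono _ hKZ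
    · refine ff_mem_zc h2 h.hAQ h.hc h.hfQ hψR hx fun a ha haI => ?_
      have := mem_cj.1 (hx' a (Finset.mem_filter.2 ⟨mem_elems.2 ha, by rwa [inertia_congr e] at haI⟩))
      rwa [inv_inv] at this
  by_cases hT₁Z : ⁅T, I⁆ ≤ centQuo Z Q
  swap
  · have h3 := fe_wiel (hb' ▸ hb) (isSolvable_mim (qmk Z) h.hsQ) (mim_norm _ h.hTQ) (mim_norm _ hIQ) (mim_norm _ hIT)
      (coprime_card_mim _ hcIT) (coprime_card_mim _ hcI) (coprime_card_mim _ h.hcQ) (by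
        rw [← mim_commutator hTZ hTZ, quo_cent_iff ((Subgroup.commutator_le_self T).trans hTZ) hQZ, commutator_comm]
        exact commutator_le_of_le_centQuo hQZ hT') hX
    have h4 := ff_deg_le h2 hIQ hcI hb hψ hψR hψ0
    erw [hb'] at h3
    refine fe_num hb ?_ Nat.card_pos (hN.trans ((card_quo hQZ).symm.trans h3)) (h4.trans_eq (by erw [hqC]))
    by_contra h5
    have h6 : Nat.card ↥(quo Z Q ⊓ 𝐂(quo Z I)) = 1 := by
      have : 0 < Nat.card ↥(quo Z Q ⊓ 𝐂(quo Z I)) := Nat.card_pos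
      exact le_antisymm (Nat.le_of_lt_succ (not_le.1 h5)) this
    erw [h6, one_pow, one_mul] at h3
    have h7 := (PGrp.eq_of_le_of_card_le inf_le_left h3.le).ge.trans inf_le_right
    rw [← mim_commutator hTZ hIZ, quo_cent_iff hQZ (hT₁.trans hTZ)] at h7
    exact hT₁Z (le_centQuo hQZ (hT₁.trans hTZ) h7)
  by_cases hn : A ≤ 𝐍(I)
  swap
  · refine hfin fun a ha haI => ?_
    have h3 := fe_commutator_sup hIT ((cj_le_of_le_of_mem hIA ha).trans h.hAT)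
    rw [h.pq.sup_cj hIA hI0 hn ha haI, fe_eq_commutator h.hAT h.hcT h.hsT h.hfT] at h3
    refine h3.trans (sup_le_sup (le_inf hT₁ hT₁Z) ?_)
    conv_lhs => rw [← cj_of_mem_normalizer (h.hAT ha), ← cj_commutator]
    exact cj_mono _ (le_inf hT₁ hT₁Z)
  have h3 : quo Z Q ⊓ 𝐂(quo Z I) = ⊥ := by
    rw [eq_bot_iff, ← hX, centralizer_sup, ← mim_commutator hTZ hIZ]
    exact le_inf inf_le_left (le_inf (inf_le_left.trans ((quo_cent_iff hQZ (hT₁.trans hTZ)).2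
      (commutator_le_of_le_centQuo hQZ hT₁Z))) inf_le_right)
  have h4 : Q ⊓ 𝐂(I) ≤ Z := by rwa [h3, card_bot, eq_comm, relIndex_eq_one] at hqC
  haveI := PGrp.isMulCommutative_of_isCyclic hcyc
  have h5 : charDegree ψ ≠ 1 := fun e => hne' (by rwa [e, one_pow, eq_comm, relIndex_eq_one] at hN)
  have h6 := (fb_semireg h2 hIQ hcI hψ hψR hψ0 fun a ha h1 => by
    rw [Coprime.centralizer_singleton_eq_of_card_prime hb ha h1]; exact h4).resolve_left h5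
  obtain ⟨C, hC, hCp, hBC, h7 | h7⟩ := h.pq.exists_compl hIA hI1 hI0 hn
  swap
  · obtain ⟨d, hd'⟩ := fb_exists_deg h.hr h.hQ h2 hψR
    rw [← h6, Nat.add_sub_cancel] at h7
    have h8 := (h7.trans (Dvd.intro _ ((sq _).symm.trans hN))).trans (relIndex_dvd_card _ _)
    exact hCp.one_lt.ne' ((Coprime.coprime_card_of_le h.hc hC le_rfl).eq_one_of_dvd h8)
  have hKne : ¬ T ≤ centQuo Z Q := fun e => hne' (h.hQT.ge.trans (commutator_le_of_le_centQuo hQZ e))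
  have h8 : T ≤ 𝐂(I) := by
    by_contra h8
    refine hKne ((Coprime.commutator_sup_centralizer hIT hcIT (Or.inr h.hsT)).ge.trans (sup_le hT₁Z
      ((le_inf inf_le_left (h.hTmin _ (lt_of_le_of_ne inf_le_left fun e => h8 (e.ge.trans inf_le_right))
        (le_normalizer_inf h.hAT (hn.trans (PGrp.normalizer_le_normalizer_centralizer' I))))).trans hCK)))
  obtain ⟨h9, h10⟩ := ff_index (t := t) hZQ hne' hQZ hTZ h.hTQ h.hcQ hT'
    (fun u hu => hCK ⟨pow_mem hu t, hΦ (pow_mem_frattiniOf h.hT hu)⟩) fun u hu huK w hw hwu => by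
      have hz : zpowers u ≤ T := zpowers_le.2 hu
      have := ff_fpf (mim_norm (qmk Z) hIQ) (Coprime.fpf_of_card_prime (hb' ▸ hb) h3) (by
        erw [hb', card_quo hQZ, ← hN]; exact Nat.pow_le_pow_left (by omega) 2) (mim_norm _ (hz.trans h.hTQ))
        (mim_norm _ ((BG1.le_cent_symm (hz.trans h8)).trans (centralizer_le_normalizer _)))
        (coprime_card_mim _ (Coprime.coprime_card_of_le h.hcQ hz le_rfl)) fun e => huK (zpowers_le.1
          (le_centQuo hQZ (hz.trans hTZ) (commutator_comm _ Q ▸ (quo_cent_iff (hz.trans hTZ) hQZ).1 e)))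
      refine (qmk_eq_one_iff (hQZ hw)).1 (mem_bot.1 (this.le (mem_inf.2 ⟨mem_mim.2 ⟨w, _, hw, rfl⟩, ?_⟩)))
      rw [mim_zpowers (hTZ hu), PGrp.centralizer_zpowers, mem_centralizer_singleton_iff,
        ← commutatorElement_eq_one_iff_mul_comm, ← map_commutatorElement, qmk_eq_one_iff]
      exact hwu
  have h11 : K.relIndex T = t := by
    rw [hK, inf_comm, inf_relIndex_right]
    exact ((Nat.dvd_prime h.ht).1 h9).resolve_left fun e => hKne (relIndex_eq_one.1 e)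
  refine hfin fun a ha haI => ?_
  refine ((fe_eq_or_of_relIndex (h11 ▸ h.ht) le_sup_left
    (sup_le hKT (cj_le_of_le_of_mem_normalizer hKT (h.hAT ha)))).resolve_left fun e => ?_).ge
  have h12 : A ≤ 𝐍(K) := by
    rw [← h.pq.sup_eq hIA hI0 (zpowers_le.2 ha) (mt zpowers_le.1 haI)]
    exact sup_le ((BG1.le_cent_symm (hKT.trans h8)).trans (centralizer_le_normalizer _))
      (zpowers_le.2 (mem_normalizer_of_cj_le (le_sup_right.trans e.le)))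
  have h13 := fb_card_dvd (hC.trans h.hAT) hKT (le_normalizer_inf le_normalizer (le_norm_centQuo hTZ h.hTQ)) (hC.trans h12)
    (Coprime.coprime_card_of_le h.hcT hC le_rfl) fun c hc h1 => by
      rw [Coprime.centralizer_singleton_eq_of_card_prime hCp hc h1]
      refine le_trans ?_ (h.hfT.le.trans bot_le)
      rw [← hBC, centralizer_sup]
      exact le_inf inf_le_left (le_inf (inf_le_left.trans h8) inf_le_right)
  rw [h11] at h13
  rw [← inf_relIndex_right, inf_comm, h11, ← hN, ← one_pow 2, Nat.sq_sub_sq, h6] at h10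
  have h14 : t.Coprime (Nat.card I) := by
    rw [← h11]; exact (hcIT.coprime_dvd_right (relIndex_dvd_card _ _)).symm
  have hpos := hψR.deg_pos
  have h15 := Nat.le_of_dvd (by omega) (h14.dvd_of_dvd_mul_left h10)
  have h16 := Nat.le_of_dvd (by have := h.ht.one_lt; omega) h13
  omega

theorem ff_hyper [IsMulCommutative Q] (hn : A ≤ 𝐍(Q)) (hRA : Q ⊓ A = ⊥) (hχ : CharOn (Q ⊔ A) χ) (h0 : dot A χ 1 = 0)
    (hN : N ≤ Q) (hp : (N.relIndex Q).Prime) (h : dot N χ 1 ≠ dot Q χ 1) : ∃ a ∈ A, a ≠ 1 ∧ ⁅Q, zpowers a⁆ ≤ N := by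
  have hχ' := (hχ.mono le_sup_left : CharOn Q χ).classOn
  rw [← dot_ind_right hN hχ', InvOn.dot_eq_sum hχ', InvOn.dot_eq_sum hχ'] at h
  obtain ⟨θ, hθ', h1⟩ : ∃ θ ∈ Irr Q, dot Q χ θ * dot Q θ (ind N Q 1) ≠ dot Q χ θ * dot Q θ 1 := by
    by_contra hc
    push Not at hc
    exact h (Finset.sum_congr rfl hc)
  have hθ := irrOn_of_mem hθ'
  rw [dot_ind_right hN hθ.classOn] at h1
  have hd : dot Q χ θ ≠ 0 := fun e => h1 (by rw [e, zero_mul, zero_mul])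
  have h2 : dot N θ 1 ≠ dot Q θ 1 := fun e => h1 (by rw [e])
  have h3 : ¬ Triv Q θ := fun e => h2 ((e.mono hN).dot_one.trans e.dot_one.symm)
  have h4 : Triv N θ := by
    rw [hθ.triv_iff hN (nrm_of_le_normalizer ((le_centralizer Q).trans ((centralizer_le hN).trans
      (centralizer_le_normalizer _))))]
    rwa [not_not.1 (mt (hθ.triv_iff le_rfl (nrm_self Q)).2 h3)] at h2
  have h5 := (fe_eq_or_of_relIndex hp ((hθ.charOn.le_kerOn hN).2 h4) kerOn_le).resolve_right fun e =>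
    h3 ((hθ.charOn.le_kerOn le_rfl).1 e.ge)
  obtain ⟨a, ha, ha1⟩ := (bot_or_exists_ne_one _).resolve_left (fa_inertia_ne_bot hn hRA hχ h0 hθ hd)
  have hz : zpowers a ≤ inertia A Q θ := zpowers_le.2 ha
  exact ⟨a, inertia_le ha, ha1, h5 ▸ fb_triv_of_lin (hz.trans (inertia_le.trans hn)) hθ
    (hθ.linOn_of_comm fun a ha b hb => Coprime.mul_comm_of_mem ha hb).deg ((fa_invOn_inertia hn).mono hz le_rfl)⟩

theorem FCore.not_forall [IsMulCommutative Q] (h : FCore A T Q r t) (hN : N ≤ Q) (hne : ¬ Q ≤ N) :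
    ¬ ∀ u ∈ T, ∃ a ∈ A, a ≠ 1 ∧ ⁅Q, zpowers a⁆ ≤ cj u N := fun hh => by
  have hQN : Q ≤ 𝐍(N) := (le_centralizer Q).trans ((centralizer_le hN).trans (centralizer_le_normalizer _))
  have h1 : ∀ u ∈ T, ∀ a ∈ A, ⁅Q, zpowers a⁆ ≤ cj u N → u⁻¹ * a * u ∈ centQuo N Q := fun u hu a ha e => by
    rw [le_cj_iff, cj_commutator, cj_of_mem_normalizer (h.hTQ (inv_mem hu)), cj_zpowers, inv_inv] at e
    exact zpowers_le.1 (le_centQuo hQN (fe_norm_of_der e hN) e)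
  obtain ⟨a, ha, ha1, e⟩ := hh 1 T.one_mem
  have ha' := h1 1 T.one_mem a ha e
  rw [inv_one, one_mul, mul_one] at ha'
  have hB : zpowers a ≤ A := zpowers_le.2 ha
  have hB0 := zpowers_ne_bot.2 ha1
  by_cases h2 : ∀ u ∈ T, u⁻¹ * a * u ∈ centQuo N Q
  · refine hne ((h.key hB (h.pq.zpowers_ne a) hB0).ge.trans (commutator_le_of_le_centQuo hQN
      (sup_le (commutator_le.2 fun u hu b hb => ?_) (zpowers_le.2 ha'))))
    have h3 : cj u (zpowers a) ≤ centQuo N Q := by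
      rw [cj_zpowers, zpowers_le]; simpa using h2 u⁻¹ (inv_mem hu)
    exact mul_mem (h3 (conj_mem_cj u hb)) (inv_mem (zpowers_le.2 ha' hb))
  push Not at h2
  obtain ⟨u, hu, h2⟩ := h2
  obtain ⟨b, hb, hb1, e'⟩ := hh u hu
  have h3 : ¬ zpowers b ≤ zpowers a := fun e'' => h2 (h1 u hu a ha (by
    rwa [← fe_eq_of_prime (h.pq.prime hB (h.pq.zpowers_ne a) hB0) e'' (zpowers_ne_bot.2 hb1)]))
  set S := centQuo N Q ⊓ (T ⊔ A)
  have h4 : A ≤ T ⊔ S := by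
    rw [← h.pq.sup_eq hB hB0 (zpowers_le.2 hb) h3]
    refine sup_le (zpowers_le.2 (mem_sup_right ⟨ha', mem_sup_right ha⟩)) (zpowers_le.2 ?_)
    have : u⁻¹ * b * u ∈ S := ⟨h1 u hu b hb e', mul_mem (mul_mem (mem_sup_left (inv_mem hu)) (mem_sup_right hb))
      (mem_sup_left hu)⟩
    simpa [mul_assoc] using mul_mem (mul_mem (mem_sup_left hu) (mem_sup_right this)) (mem_sup_left (T := S) (inv_mem hu))
  obtain ⟨k, hk, h5⟩ := Coprime.glauberman_exists_fixed h.hAT h.hcT (Or.inr h.hsT) ((1 : G) : G ⧸ centQuo N Q)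
    fun c hc => by
      obtain ⟨k, hk, s, hs, rfl⟩ := (Coprime.mem_sup_iff_of_le_normalizer
        ((inf_le_right : S ≤ _).trans (sup_le le_normalizer h.hAT))).1 (h4 hc)
      exact ⟨k, hk, QuotientGroup.eq.2 (by simpa using inv_mem (mem_inf.1 hs).1)⟩
  have h6 : cj k⁻¹ A ≤ centQuo N Q := cj_le_iff'.2 fun c hc => by
    simpa [mul_assoc] using QuotientGroup.eq.1 (h5 c⁻¹ (inv_mem hc))
  have h7 := commutator_le_of_le_centQuo hQN h6
  rw [← cj_of_mem_normalizer (h.hTQ (inv_mem hk)), ← cj_commutator, fe_eq_commutator h.hAQ h.hc h.hsQ h.hfQ,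
    cj_of_mem_normalizer (h.hTQ (inv_mem hk))] at h7
  exact hne h7

theorem FCore.le_cent (h : FCore A T Q r t) (hV : Group.IsSolvable V) (hAV : A ≤ 𝐍(V)) (hTV : T ≤ 𝐍(V)) (hQV : Q ≤ 𝐍(V))
    (hcA : (Nat.card A).Coprime (Nat.card V)) (hcQ : (Nat.card Q).Coprime (Nat.card V)) (hfV : V ⊓ 𝐂(A) = ⊥)
    (hf : Q ⊓ 𝐂(V) = ⊥) : Q = ⊥ := by
  by_contra hQ0
  haveI := Fact.mk h.hr
  have hRA : Q ⊓ A = ⊥ := Coprime.inf_eq_bot_of_coprime_card h.hc
  obtain ⟨χ, hχ, hd⟩ := Coprime.exists_brauer_lift (sup_le hQV hAV) (by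
    rw [Coprime.card_sup_of_disjoint' h.hAQ hRA]; exact Nat.Coprime.mul_left hcQ hcA) hV
  have h0 : dot A χ 1 = 0 := by rw [hd _ le_sup_right, hfV, card_bot]; simp
  have hQ' : ⁅Q, Q⁆ ≤ Q := Subgroup.commutator_le_self Q
  have h1 : Triv ⁅Q, Q⁆ χ := by
    by_contra h1
    obtain ⟨θ, hθ, hθd, h1⟩ := fd_exists_not_triv (hχ.mono le_sup_left) hQ' h1
    exact h1 (h.triv hχ h0 hθ hθd)
  rw [Coprime.triv_iff_le_centralizer_of_lift hχ hd (hQ'.trans le_sup_left)] at h1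
  have h2 : ⁅Q, Q⁆ = ⊥ := le_bot_iff.1 ((le_inf hQ' h1).trans hf.le)
  haveI : IsMulCommutative Q := le_centralizer_iff_isMulCommutative.1 (commutator_eq_bot_iff_le_centralizer.1 h2)
  have h3 : (frattini Q).map Q.subtype ≤ ⊥ := by
    rw [← Coprime.centralizer_inf_commutator_eq_bot h.hTQ h.hcQ, h.hQT]
    exact le_inf (le_inf (frattiniOf_le Q) (BG1.le_cent_symm (h.hmin _ (frattiniOf_lt hQ0)
      ((sup_le h.hTQ h.hAQ).trans (normalizer_le_normalizer_frattiniOf Q))))) (frattiniOf_le Q)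
  refine hQ0 (le_bot_iff.1 ((le_inf le_rfl (BG1.le_cent_symm (Coprime.le_of_forall_hyperplane
    (fun a ha => mem_bot.1 (h3 (pow_mem_frattiniOf h.hQ ha))) hQ0 hQV hcQ fun N hN hNr => ?_))).trans hf.le))
  by_contra h4
  refine h.not_forall hN (fun e => h.hr.one_lt.ne' (hNr.symm.trans (relIndex_eq_one.2 e))) fun u hu => ?_
  have e := cj_of_mem_normalizer (h.hTQ hu)
  have hN' : cj u N ≤ Q := cj_le_of_le_of_mem_normalizer hN (h.hTQ hu)
  refine ff_hyper h.hAQ hRA hχ h0 hN' (by rw [← e, relIndex_cj, hNr]; exact h.hr) fun h5 => h4 ?_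
  rw [hd _ (hN'.trans le_sup_left), hd _ le_sup_left, Nat.cast_inj, ← cj_centralizer, ← cj_of_mem_normalizer (hTV hu),
    ← cj_inf, card_cj, cj_of_mem_normalizer (hTV hu)] at h5
  have h6 : V ⊓ 𝐂(Q) ≤ V ⊓ 𝐂(N) := inf_le_inf_left _ (centralizer_le hN)
  rw [← card_mul_relIndex h6, ArithmeticFunction.cardFactors_mul Nat.card_pos.ne' relIndex_ne_zero', add_eq_left,
    ArithmeticFunction.cardFactors_eq_zero_iff_eq_zero_or_one, or_iff_right relIndex_ne_zero', relIndex_eq_one] at h5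
  exact h5.trans inf_le_right

theorem ff_tower (hA : PQ A) (ht : t.Prime) (hr : r.Prime) (hrt : r ≠ t) (hT : IsPGroup t T) (hR : IsPGroup r R)
    (hV : Group.IsSolvable V) (hAT : A ≤ 𝐍(T)) (hAR : A ≤ 𝐍(R)) (hAV : A ≤ 𝐍(V)) (hTR : T ≤ 𝐍(R)) (hTV : T ≤ 𝐍(V))
    (hRV : R ≤ 𝐍(V)) (hcT : (Nat.card A).Coprime (Nat.card T)) (hc : (Nat.card A).Coprime (Nat.card R))
    (hcA : (Nat.card A).Coprime (Nat.card V)) (hcR : (Nat.card R).Coprime (Nat.card V)) (hfT : T ⊓ 𝐂(A) = ⊥)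
    (hfR : R ⊓ 𝐂(A) = ⊥) (hfV : V ⊓ 𝐂(A) = ⊥) : ⁅R, T⁆ ≤ 𝐂(V) := by
  by_contra hne
  set N := R ⊓ 𝐂(V) with hN
  have hn : ∀ X : Subgroup G, X ≤ 𝐍(R) → X ≤ 𝐍(V) → X ≤ 𝐍(N) := fun X h h' =>
    le_normalizer_inf h (h'.trans (PGrp.normalizer_le_normalizer_centralizer' V))
  have hRN := hn R le_normalizer hRV
  have hAN := hn A hAR hAV
  have hTN := hn T hTR hTV
  have hVN : V ≤ 𝐍(N) := (BG1.le_cent_symm inf_le_right).trans (centralizer_le_normalizer _)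
  have hcN := Coprime.coprime_card_of_le hc le_rfl (inf_le_left : N ≤ R)
  have hsN := solvable_of_le (inf_le_left : N ≤ R) (solvable_of_nilpotent (nilpotent_of_pgroup hr hR))
  obtain ⟨S, hS, hAS, hRS, hSmin⟩ := fb_exists_min (P := quo N A) (B := quo N R) (mim_norm _ hAT) fun h =>
    hne (((quo_cent_iff hRN hTN).1 h).trans inf_le_right)
  have hSR := hS.trans (mim_norm _ hTR)
  obtain ⟨Q, hQ, hAQ, hBQ, hmin⟩ := fb_exists_min (P := S ⊔ quo N A) (B := S) (sup_le hSR (mim_norm _ hAR))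
    fun h => hRS (BG1.le_cent_symm h)
  have hQr := (isPGroup_mim (qmk N) hR).to_le hQ
  have hSt := (isPGroup_mim (qmk N) hT).to_le hS
  obtain ⟨h1, -, h3, h4⟩ := fb_min_props (nilpotent_of_pgroup hr hQr) le_sup_left (sup_le le_normalizer hAS) hAQ
    (fc_coprime_of_ne ht hr hrt.symm hSt hQr) hBQ hmin
  have hf : ∀ X, X ≤ 𝐍(N) → A ≤ 𝐍(X) → X ⊓ 𝐂(A) = ⊥ → ∀ Y ≤ quo N X, Y ⊓ 𝐂(quo N A) = ⊥ := fun X h h' e Y hY =>
    le_bot_iff.1 ((inf_le_inf_right _ hY).trans (by rw [← quo_inf_cent hAN h h' hcN (Or.inr hsN), e, mim_bot]))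
  have h5 : FCore (quo N A) S Q r t := ⟨hA.quo hAN hcN, hr, ht, hrt, hQr, hSt, le_sup_right.trans hAQ, hAS,
    le_sup_left.trans hAQ, Coprime.coprime_card_of_le (coprime_card_mim _ hc) le_rfl hQ,
    Coprime.coprime_card_of_le (coprime_card_mim _ hcT) le_rfl hS, hf R hRN hAR hfR Q hQ, hf T hTN hAT hfT S hS, h1, h3, h4,
    hmin, fun X hX hn => (BG1.le_cent_symm (hSmin X hX hn)).trans (centralizer_le hQ)⟩
  have h6 := h5.le_cent (isSolvable_mim _ hV) (mim_norm _ hAV) (hS.trans (mim_norm _ hTV)) (hQ.trans (mim_norm _ hRV))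
    (coprime_card_mim _ hcA) (Coprime.coprime_card_of_le (coprime_card_mim _ hcR) hQ le_rfl) (hf V hVN hAV hfV _ le_rfl)
    (le_bot_iff.1 ((inf_le_inf_right _ hQ).trans (fb_quo_faithful hRV hcR).le))
  exact hBQ (BG1.le_cent_symm (h6.le.trans bot_le))

theorem ff_two (hA : PQ A) (hs : Group.IsSolvable K) (hn : A ≤ 𝐍(K)) (hc : (Nat.card A).Coprime (Nat.card K))
    (hfix : K ⊓ 𝐂(A) = ⊥) : SigC.nresN 2 K = ⊥ := by
  rw [← fe_eq_commutator hn hc hs hfix]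
  refine fc_red2 hs hn hc le_rfl hfix fun t r s ht hr hs' hrt hsr T R hT hR hTt hRr hAT hAR hTR => ?_
  have hO : 𝐎[s](K) ≤ K := piCoreOf_le' _ _
  have hf : ∀ X ≤ K, X ⊓ 𝐂(A) = ⊥ := fun X hX => le_bot_iff.1 ((inf_le_inf_right _ hX).trans hfix.le)
  exact (commutator_mono le_rfl (commutator_le_left_of_norm hAT)).trans (ff_tower hA ht hr hrt hTt hRr
    (solvable_of_le hO hs) hAT hAR (le_norm_piCoreOf _ hn) hTR (hT.trans (le_norm_piCoreOf_self _ _))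
    (hR.trans (le_norm_piCoreOf_self _ _)) (Coprime.coprime_card_of_le hc le_rfl hT) (Coprime.coprime_card_of_le hc le_rfl hR)
    (Coprime.coprime_card_of_le hc le_rfl hO) (fc_coprime_of_ne hr hs' hsr.symm hRr (pgroup_pCoreOf hs' _))
    (hf T hT) (hf R hR) (hf _ hO))

end Cfsg.Lib.Hall
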