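import Cfsg.Agent.Lib.Hall.FpfF
import Cfsg.Agent.Lib.Coprime.Glaub2
import Cfsg.Agent.Lib.Clifford.Cover

/-! Fixed-point-free coprime action of `S₃`: the derived subgroup is nilpotent. -/

set_option autoImplicit false
set_option linter.unusedSectionVars false

namespace Cfsg.Lib.Hall
open Subgroup Cfsg.Lib.Core Cfsg.Lib.Amalg Cfsg.Lib.BG1 Cfsg.Lib.Clifford Cfsg.Lib.Char
open scoped commutatorElement ComplexConjugate IsMulCommutative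

variable {G : Type*} [Group G] [Finite G] {A B K N R V : Subgroup G} {χ θ : G → ℂ} {p r : ℕ}

theorem fg_triv_of_invOn (hs : Group.IsSolvable A) (hn : A ≤ 𝐍(R)) (hc : (Nat.card A).Coprime (Nat.card R))
    (hfix : R ⊓ 𝐂(A) = ⊥) (hθ : IrrOn R θ) (hi : InvOn A R θ) : Triv R θ := by
  have h1 := Coprime.card_IrrInv_of_solvable hs (nrm_of_le_normalizer hn) hc.symm
  rw [hfix] at h1
  have h2 : (Irr (⊥ : Subgroup G)).card ≤ 1 := Finset.card_le_one.2 fun φ hφ ψ hψ => eq_of_mem_Irr hφ hψ fun x hx => by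
    have h : ∀ η ∈ Irr (⊥ : Subgroup G), η 1 = 1 := fun η hη => (irrOn_of_mem hη).degree_one_of_comm fun a ha b hb => by
      rw [mem_bot.1 ha, mem_bot.1 hb]
    rw [mem_bot.1 hx, h φ hφ, h ψ hψ]
  have h3 := Finset.card_le_one.1 (h1.trans_le h2) _ (Coprime.mem_IrrInv.2 ⟨hθ.cut_mem, hi.cut' (nrm_of_le_normalizer hn) R⟩)
    _ (Coprime.mem_IrrInv.2 ⟨cut_one_mem R, InvOn.cut' (fun _ _ _ _ => rfl) (nrm_of_le_normalizer hn) R⟩)
  exact (triv_cut le_rfl).1 ((irr_eq_one_iff_triv hθ.cut_mem).1 h3)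

theorem fg_three0 {f b : G} {N₁ : Subgroup G} (hf : f * f = f⁻¹) (hb : b * f * b⁻¹ = f⁻¹) (hfR : f ∈ 𝐍(R)) (hN : N₁ ≤ R)
    (hRN : R ≤ 𝐍(N₁)) (hbN : b ∈ 𝐍(N₁)) (h1 : ∀ x ∈ R, ⁅x, b⁆ ∈ N₁) (h0 : N₁ ⊓ cj f N₁ ⊓ cj f⁻¹ N₁ = ⊥)
    (hfix : ∀ y ∈ R, f * y * f⁻¹ = y → b * y * b⁻¹ = y → y = 1) : cj f N₁ ⊓ cj f⁻¹ N₁ = ⊥ := by
  refine eq_bot_iff.2 fun x hx => mem_bot.2 ?_
  obtain ⟨hx2, hx3⟩ := mem_inf.1 hx
  have hb' : b * f⁻¹ * b⁻¹ = f := by rw [show b * f⁻¹ * b⁻¹ = (b * f * b⁻¹)⁻¹ by group, hb, inv_inv]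
  have hf' : f⁻¹ * f⁻¹ = f := by rw [← mul_inv_rev, hf, inv_inv]
  have e1 : cj f (cj f N₁) = cj f⁻¹ N₁ := by rw [← cj_mul, hf]
  have e2 : cj f⁻¹ (cj f⁻¹ N₁) = cj f N₁ := by rw [← cj_mul, hf']
  have e3 : ∀ g, cj b (cj g N₁) = cj (b * g * b⁻¹) N₁ := fun g => by
    rw [cj_mul, cj_mul, cj_of_mem_normalizer (inv_mem hbN)]
  have hn : ∀ g ∈ 𝐍(R), R ≤ 𝐍(cj g N₁) ∧ cj g N₁ ≤ R := fun g hg =>
    ⟨by rw [← cj_normalizer, ← cj_of_mem_normalizer hg]; exact cj_mono _ hRN, cj_le_of_le_of_mem_normalizer hN hg⟩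
  obtain ⟨n2, l2⟩ := hn f hfR
  obtain ⟨n3, l3⟩ := hn f⁻¹ (inv_mem hfR)
  have hc : ∀ {H : Subgroup G} {u v : G}, R ≤ 𝐍(H) → u ∈ R → v ∈ H → ⁅u, v⁆ ∈ H ∧ ⁅v, u⁆ ∈ H := fun h hu hv => by
    have := mul_mem (Coprime.conj_mem h hu hv) (inv_mem hv)
    exact ⟨this, by rw [← commutatorElement_inv]; exact inv_mem this⟩
  set y := f * x * f⁻¹ with hy
  set z := f⁻¹ * x * f⁻¹⁻¹ with hz
  have hy1 : y ∈ N₁ := cj_cj_inv f N₁ ▸ conj_mem_cj f hx3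
  have hy3 : y ∈ cj f⁻¹ N₁ := e1 ▸ conj_mem_cj f hx2
  have hz1 : z ∈ N₁ := cj_inv_cj f N₁ ▸ conj_mem_cj f⁻¹ hx2
  have hz2 : z ∈ cj f N₁ := e2 ▸ conj_mem_cj f⁻¹ hx3
  have hxR := l2 hx2
  have hk : ∀ {w}, w ∈ N₁ → w ∈ cj f N₁ → w ∈ cj f⁻¹ N₁ → w = 1 := fun h h' h'' => mem_bot.1 (h0.le ⟨⟨h, h'⟩, h''⟩)
  have c1 : x * y = y * x := commutatorElement_eq_one_iff_mul_comm.1
    (hk (hc hRN hxR hy1).1 (hc n2 (hN hy1) hx2).2 (hc n3 hxR hy3).1)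
  have c2 : x * z = z * x := commutatorElement_eq_one_iff_mul_comm.1
    (hk (hc hRN hxR hz1).1 (hc n2 hxR hz2).1 (hc n3 (hN hz1) hx3).2)
  have c3 : y * z = z * y := commutatorElement_eq_one_iff_mul_comm.1
    (hk (hc hRN (hN hy1) hz1).1 (hc n2 (hN hy1) hz2).1 (hc n3 (hN hz1) hy3).2)
  have c4 : b * x * b⁻¹ = x := by
    have h2 : b * x⁻¹ * b⁻¹ ∈ cj f N₁ := by rw [← hb', ← e3]; exact conj_mem_cj b (inv_mem hx3)
    have h3 : b * x⁻¹ * b⁻¹ ∈ cj f⁻¹ N₁ := by rw [← hb, ← e3]; exact conj_mem_cj b (inv_mem hx2)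
    have e : ⁅x, b⁆ = x * (b * x⁻¹ * b⁻¹) := by rw [commutatorElement_def]; group
    have := commutatorElement_eq_one_iff_mul_comm.1 (hk (h1 x hxR) (e ▸ mul_mem hx2 h2) (e ▸ mul_mem hx3 h3))
    rw [← this, mul_inv_cancel_right]
  have c5 : f * y * f⁻¹ = z := by
    rw [show f * y * f⁻¹ = (f * f) * x * (f * f)⁻¹ by rw [hy]; group, hf]
  have c6 : f * z * f⁻¹ = x := by rw [hz]; group
  have c7 : b * y * b⁻¹ = z := by
    rw [show b * y * b⁻¹ = (b * f * b⁻¹) * (b * x * b⁻¹) * (b * f * b⁻¹)⁻¹ by rw [hy]; group, hb, c4]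
  have c8 : b * z * b⁻¹ = y := by
    rw [show b * z * b⁻¹ = (b * f * b⁻¹)⁻¹ * (b * x * b⁻¹) * (b * f * b⁻¹) by rw [hz]; group, hb, c4, inv_inv]
  have h2 := hfix (x * y * z) (mul_mem (mul_mem hxR (hN hy1)) (hN hz1)) (by
    rw [show f * (x * y * z) * f⁻¹ = y * (f * y * f⁻¹) * (f * z * f⁻¹) by rw [hy]; group, c5, c6, mul_assoc, ← c2,
      ← mul_assoc, ← c1]) (by
    rw [show b * (x * y * z) * b⁻¹ = b * x * b⁻¹ * (b * y * b⁻¹) * (b * z * b⁻¹) by group, c4, c7, c8, mul_assoc, ← c3,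
      ← mul_assoc])
  refine hk ?_ hx2 hx3
  rw [mul_assoc, mul_eq_one_iff_eq_inv] at h2
  exact h2 ▸ inv_mem (mul_mem hy1 hz1)

/-- a copy of `S₃` -/
def S3 (A : Subgroup G) : Prop := Group.IsSolvable A ∧ Nat.card A = 2 * 3 ∧ ¬ IsMulCommutative A ∧
  ∃ f ∈ A, f ≠ 1 ∧ f * f = f⁻¹ ∧ ∀ b ∈ A, b ∈ zpowers f ∨ b * f * b⁻¹ = f⁻¹ ∧ b * b = 1

theorem S3.pq (h : S3 A) : PQ A := ⟨2, 3, Nat.prime_two, Nat.prime_three, h.2.1, Or.inr h.2.2.1⟩

theorem S3.quo (h : S3 A) (hn : A ≤ 𝐍(N)) (hc : (Nat.card A).Coprime (Nat.card N)) : S3 (quo N A) := by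
  obtain ⟨h1, h2, h3, f, hf, hf1, hf2, h4⟩ := h
  refine ⟨isSolvable_mim _ h1, (fd_card_quo hn hc).trans h2, fun h' => h3 ?_, qmk N ⟨f, hn hf⟩, mem_mim.2 ⟨f, _, hf, rfl⟩,
    fun e => hf1 (mem_bot.1 ((Coprime.inf_eq_bot_of_coprime_card hc).le ⟨(qmk_eq_one_iff _).1 e, hf⟩)), ?_, fun b' hb' => ?_⟩
  · rw [isMulCommutative_quo_iff hn] at h'
    rw [← le_centralizer_iff_isMulCommutative, ← commutator_eq_bot_iff_le_centralizer, eq_bot_iff,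
      ← Coprime.inf_eq_bot_of_coprime_card hc]
    exact le_inf h' (Subgroup.commutator_le_self A)
  · rw [← map_mul, ← map_inv]; exact congrArg _ (Subtype.ext hf2)
  · obtain ⟨b, hbN, hb, rfl⟩ := mem_mim.1 hb'
    refine (h4 b hb).imp (fun h => ?_) fun h => ⟨?_, ?_⟩
    · rw [← mim_zpowers]; exact mem_mim.2 ⟨b, _, h, rfl⟩
    · rw [← map_inv, ← map_mul, ← map_mul, ← map_inv]; exact congrArg _ (Subtype.ext h.1)
    · rw [← map_mul, ← map_one (qmk N)]; exact congrArg _ (Subtype.ext h.2)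

theorem S3.der_le (h : S3 A) (hs : Group.IsSolvable R) (hn : A ≤ 𝐍(R)) (hc : (Nat.card A).Coprime (Nat.card R))
    (hfix : R ⊓ 𝐂(A) = ⊥) (hB : B ≤ A) (h1 : B ≠ A) (h0 : B ≠ ⊥) : ⁅R, R⁆ ≤ ⁅R, B⁆ := by
  have hA := h.pq
  obtain ⟨hsA, -, -, f, hf, hf1, hf2, h4⟩ := h
  have hF : zpowers f ≤ A := zpowers_le.2 hf
  have hF0 := zpowers_ne_bot.2 hf1
  have hN : ⁅R, B⁆ ≤ R := commutator_le_left_of_norm (hB.trans hn)
  have hRN : R ≤ 𝐍(⁅R, B⁆) := normalizer_commutator_ge_left R B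
  by_cases hBF : B ≤ zpowers f
  · obtain rfl := fe_eq_of_prime (hA.prime hF (hA.zpowers_ne f) hF0) hBF h0
    obtain ⟨b, hb, hbF⟩ := SetLike.not_le_iff_exists.1 fun e => h1 (le_antisymm hB e)
    obtain ⟨h5, h6⟩ := (h4 b hb).resolve_left hbF
    have hbN : zpowers b ≤ 𝐍(zpowers f) := zpowers_le.2 (mem_normalizer_of_cj_le (by
      rw [cj_zpowers, h5, zpowers_inv]))
    haveI := fc_comm_of_two (K := R ⊓ 𝐂(zpowers f)) (A := zpowers b) (by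
      rw [Nat.card_zpowers]; exact orderOf_dvd_of_pow_eq_one ((sq b).trans h6))
      (le_normalizer_inf ((zpowers_le.2 hb).trans hn) (hbN.trans (PGrp.normalizer_le_normalizer_centralizer' _))) (by
        rw [inf_assoc, ← centralizer_sup, hA.sup_eq hF hF0 (zpowers_le.2 hb) (mt zpowers_le.1 hbF), hfix])
    have e := quo_sup_left (X := R ⊓ 𝐂(zpowers f)) (inf_le_left.trans hRN)
    rw [Coprime.commutator_sup_centralizer (hF.trans hn) (Coprime.coprime_card_of_le hc hF le_rfl) (Or.inr hs)] at e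
    rw [← isMulCommutative_quo_iff hRN, e]
    exact isMulCommutative_mim _ inferInstance
  obtain ⟨b, hb, hbF⟩ := SetLike.not_le_iff_exists.1 hBF
  obtain ⟨h5, h6⟩ := (h4 b (hB hb)).resolve_left hbF
  obtain rfl := Coprime.zpowers_eq_of_card_prime (hA.prime hB h1 h0) hb (by rintro rfl; exact hbF (one_mem _))
  set N₁ := ⁅R, zpowers b⁆ with hN₁
  have hbN : b ∈ 𝐍(N₁) := normalizer_commutator_ge_right R _ hb
  have hAe := hA.sup_eq hF hF0 hB hBF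
  have hn' : ∀ g ∈ A, R ≤ 𝐍(cj g N₁) ∧ cj g N₁ ≤ R := fun g hg =>
    ⟨by rw [← cj_normalizer, ← cj_of_mem_normalizer (hn hg)]; exact cj_mono _ hRN, cj_le_of_le_of_mem_normalizer hN (hn hg)⟩
  obtain ⟨n2, l2⟩ := hn' f hf
  obtain ⟨n3, l3⟩ := hn' f⁻¹ (inv_mem hf)
  have hnB : ¬ A ≤ 𝐍(zpowers b) := fun e => by
    have h7 := Coprime.conj_mem e (inv_mem hf) hb
    rw [inv_inv, show f⁻¹ * b * f = f⁻¹ * (b * f * b⁻¹) * b by group, h5, ← mul_inv_rev, hf2, inv_inv] at h7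
    exact hBF (fe_eq_of_prime (hA.prime hB h1 h0) (zpowers_le.2 (by simpa using mul_mem h7 (inv_mem hb))) hF0).ge
  have hfB : f ∉ zpowers b := fun e => hnB (hAe.ge.trans (sup_le ((zpowers_le.2 e).trans le_normalizer) le_normalizer))
  have h7 : ∀ g ∈ A, g ∉ zpowers b → R ≤ N₁ ⊔ cj g N₁ := fun g hg hg' => by
    have := fe_commutator_sup (hB.trans hn) ((cj_le_of_le_of_mem hB hg).trans hn)
    rwa [hA.sup_cj hB h0 hnB hg hg', fe_eq_commutator hn hc hs hfix, ← cj_of_mem_normalizer (hn hg), ← cj_commutator,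
      cj_of_mem_normalizer (hn hg)] at this
  set L := N₁ ⊓ cj f N₁ ⊓ cj f⁻¹ N₁ with hL
  have hLR : L ≤ R := inf_le_right.trans l3
  have hRL : R ≤ 𝐍(L) := le_normalizer_inf (le_normalizer_inf hRN n2) n3
  have hb' : b * f⁻¹ * b⁻¹ = f := by rw [show b * f⁻¹ * b⁻¹ = (b * f * b⁻¹)⁻¹ by group, h5, inv_inv]
  have e3 : ∀ g, cj b (cj g N₁) = cj (b * g * b⁻¹) N₁ := fun g => by
    rw [cj_mul, cj_mul, cj_of_mem_normalizer (inv_mem hbN)]
  have hAL : A ≤ 𝐍(L) := hAe.ge.trans (sup_le (zpowers_le.2 (cj_eq_self_iff.1 (by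
    rw [hL, cj_inf, cj_inf, cj_cj_inv, ← cj_mul, hf2, inf_comm, inf_assoc]))) (zpowers_le.2 (cj_eq_self_iff.1 (by
    rw [hL, cj_inf, cj_inf, e3, e3, h5, hb', cj_of_mem_normalizer hbN, inf_right_comm]))))
  have hq : ∀ g (hg : g ∈ A), cj (qmk L ⟨g, hAL hg⟩) (quo L N₁) = quo L (cj g N₁) := fun g hg => (mim_cj _ _).symm
  have hqf : (qmk L ⟨f, hAL hf⟩)⁻¹ = qmk L ⟨f⁻¹, hAL (inv_mem hf)⟩ := (map_inv _ _).symm
  have h8 := fg_three0 (f := qmk L ⟨f, hAL hf⟩) (b := qmk L ⟨b, hAL (hB hb)⟩) (R := quo L R) (N₁ := quo L N₁)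
    (by rw [← map_mul, ← map_inv]; exact congrArg _ (Subtype.ext hf2))
    (by rw [← map_inv, ← map_mul, ← map_mul, ← map_inv]; exact congrArg _ (Subtype.ext h5))
    (mim_norm _ hn (mem_mim.2 ⟨f, _, hf, rfl⟩)) (mim_mono _ hN) (mim_norm _ hRN)
    (mim_norm _ (zpowers_le.2 hbN) (mem_mim.2 ⟨b, _, hb, rfl⟩)) (fun x' hx' => by
      obtain ⟨x, hxL, hx, rfl⟩ := mem_mim.1 hx'
      rw [← map_commutatorElement]
      exact mem_mim.2 ⟨_, _, commutator_mem_commutator hx hb, rfl⟩) (by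
      rw [hqf, hq f hf, hq _ (inv_mem hf), ← quo_inf (l2.trans hRL) (inf_le_left.trans inf_le_right),
        ← quo_inf (l3.trans hRL) inf_le_right]
      exact (quo_eq_bot_iff le_normalizer).2 le_rfl) fun y hy e1 e2 => by
      have h8 := quo_inf_cent hAL hRL hn (Coprime.coprime_card_of_le hc le_rfl hLR) (Or.inl hsA)
      rw [hfix, mim_bot, ← hAe, mim_sup (hF.trans hAL) (hB.trans hAL), centralizer_sup, mim_zpowers (hAL hf),
        mim_zpowers (hAL (hB hb)), PGrp.centralizer_zpowers, PGrp.centralizer_zpowers] at h8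
      exact mem_bot.1 (h8.ge ⟨hy, mem_centralizer_singleton_iff.2 (mul_inv_eq_iff_eq_mul.1 e1).symm,
        mem_centralizer_singleton_iff.2 (mul_inv_eq_iff_eq_mul.1 e2).symm⟩)
  rw [hqf, hq f hf, hq _ (inv_mem hf), ← quo_inf (l3.trans hRL) inf_le_right,
    quo_eq_bot_iff (inf_le_left.trans (l2.trans hRL))] at h8
  have h9 : ⁅cj f N₁, cj f⁻¹ N₁⁆ ≤ N₁ := (le_inf (commutator_le_left_of_norm (l3.trans n2))
    (commutator_le_right_of_norm (l2.trans n3))).trans (h8.trans (inf_le_left.trans inf_le_left))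
  have h10 : ⁅R, cj f⁻¹ N₁⁆ ≤ N₁ := by
    rw [commutator_comm]
    refine commutator_le_of_le_centQuo (l3.trans hRN) ((h7 f hf hfB).trans (sup_le (self_le_centQuo _ _)
      (le_centQuo (l3.trans hRN) (l2.trans hRN) ((commutator_comm _ _).le.trans h9))))
  exact commutator_le_of_le_centQuo hRN ((h7 _ (inv_mem hf) (mt inv_mem_iff.1 hfB)).trans (sup_le (self_le_centQuo _ _)
    (le_centQuo hRN (l3.trans hRN) h10)))

theorem S3.der_le_cent (h : S3 A) (hs : Group.IsSolvable R) (hV : Group.IsSolvable V) (hn : A ≤ 𝐍(R)) (hAV : A ≤ 𝐍(V))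
    (hRV : R ≤ 𝐍(V)) (hc : (Nat.card A).Coprime (Nat.card R)) (hcA : (Nat.card A).Coprime (Nat.card V))
    (hcR : (Nat.card R).Coprime (Nat.card V)) (hfix : R ⊓ 𝐂(A) = ⊥) (hfV : V ⊓ 𝐂(A) = ⊥) : ⁅R, R⁆ ≤ 𝐂(V) := by
  have hRA : R ⊓ A = ⊥ := Coprime.inf_eq_bot_of_coprime_card hc
  obtain ⟨χ, hχ, hd⟩ := Coprime.exists_brauer_lift (sup_le hRV hAV) (by
    rw [Coprime.card_sup_of_disjoint' hn hRA]; exact Nat.Coprime.mul_left hcR hcA) hV
  have h0 : dot A χ 1 = 0 := by rw [hd _ le_sup_right, hfV, card_bot]; simp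
  have hR' : ⁅R, R⁆ ≤ R := Subgroup.commutator_le_self R
  rw [← Coprime.triv_iff_le_centralizer_of_lift hχ hd (hR'.trans le_sup_left)]
  by_contra h1
  obtain ⟨θ, hθ, hθd, h1⟩ := fd_exists_not_triv (hχ.mono le_sup_left) hR' h1
  have hI : inertia A R θ ≤ A := inertia_le
  have hI0 := fa_inertia_ne_bot hn hRA hχ h0 hθ hθd
  have hI1 : inertia A R θ ≠ A := fun e =>
    h1 ((fg_triv_of_invOn h.1 hn hc hfix hθ (e ▸ fa_invOn_inertia hn)).mono hR')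
  have hp := h.pq.prime hI hI1 hI0
  obtain ⟨ψ, hψ, h2, h3⟩ := fa_exists_inertia hn hRA hχ h0 hθ hθd
  rcases Coprime.triv_commutator_or_of_dot_eq_zero (hI.trans hn) hp (Coprime.coprime_card_of_le hc hI le_rfl) hψ h3 with
    h4 | ⟨h4, h5, h6⟩
  · exact h1 ((h4.mono (h.der_le hs hn hc hfix hI hI1 hI0)).of_dot (hψ.charOn.mono le_sup_left) hR' hθ h2)
  · have h7 := card_dvd_of_le hI
    rw [h.2.1] at h7 hc
    rcases (Nat.Prime.dvd_mul hp).1 h7 with e | e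
    · exact absurd (Nat.le_of_dvd two_pos e) (by omega)
    · rw [(Nat.prime_dvd_prime_iff_eq hp Nat.prime_three).1 e] at h6
      exact absurd ((Nat.Coprime.coprime_mul_right hc).eq_one_of_dvd (h6.trans h4.deg_dvd_card)) (by norm_num)

theorem S3.der_le_fitting (h : S3 A) (hs : Group.IsSolvable K) (hn : A ≤ 𝐍(K)) (hc : (Nat.card A).Coprime (Nat.card K))
    (hfix : K ⊓ 𝐂(A) = ⊥) : ⁅K, K⁆ ≤ fittingOf K := by
  set F := fittingOf K
  have hKF : K ≤ 𝐍(F) := le_norm_fittingOf le_normalizer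
  have hAF : A ≤ 𝐍(F) := le_norm_fittingOf hn
  have hFK : F ≤ K := fittingOf_le K
  have h1 : SigC.nres K ≤ F := le_fittingOf (SigC.nres_le K) (SigC.le_norm_nresN 1 le_normalizer)
    (SigC.nres_eq_bot_iff.1 (ff_two h.pq hs hn hc hfix))
  have h2 : Group.IsNilpotent (quo F K) := SigC.nres_eq_bot_iff.1
    ((SigC.mim_nresN (qmk F) 1 hKF).symm.trans ((quo_eq_bot_iff ((SigC.nres_le K).trans hKF)).2 h1))
  have h3 := fittingOf_eq_self_iff.2 h2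
  rw [← isMulCommutative_quo_iff hKF, ← le_centralizer_iff_isMulCommutative]
  refine h3.ge.trans (fittingOf_le_of_pCoreOf_le fun q hq => BG1.le_cent_symm
    (h3.ge.trans (fittingOf_le_of_pCoreOf_le fun s hs' => ?_)))
  by_cases e : s = q
  swap
  · refine commutator_eq_bot_iff_le_centralizer.1 (le_bot_iff.1 ?_)
    rw [← Coprime.inf_eq_bot_of_coprime_card (fc_coprime_of_ne hq hs' (Ne.symm e) (pgroup_pCoreOf hq _) (pgroup_pCoreOf hs' _))]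
    exact le_inf (commutator_le_left_of_norm ((piCoreOf_le' _ _).trans (le_norm_piCoreOf_self _ _)))
      (commutator_le_right_of_norm ((piCoreOf_le' _ _).trans (le_norm_piCoreOf_self _ _)))
  subst e
  obtain ⟨P, hP, hPK, hAP, h4, h5⟩ := fc_lift hq hs hn hc hFK hAF hKF (piCoreOf_le' {s} _)
    (pgroup_pCoreOf hq _) (le_norm_piCoreOf _ (mim_norm _ hn))
  have hf : ∀ X ≤ K, X ⊓ 𝐂(A) = ⊥ := fun X hX => le_bot_iff.1 ((inf_le_inf_right _ hX).trans hfix.le)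
  rw [← h4, quo_cent_iff (hPK.trans hKF) (hPK.trans hKF)]
  refine fc_le_fitting hq hP.isPGroup hPK (by rw [h5]; exact le_norm_mpre hKF (le_norm_piCoreOf_self _ _))
    (Subgroup.commutator_le_self P) fun t ht hts => ?_
  have hO : 𝐎[t](K) ≤ K := piCoreOf_le' _ _
  exact h.der_le_cent (solvable_of_le hPK hs) (solvable_of_le hO hs) hAP (le_norm_piCoreOf _ hn)
    (hPK.trans (le_norm_piCoreOf_self _ _)) (Coprime.coprime_card_of_le hc le_rfl hPK) (Coprime.coprime_card_of_le hc le_rfl hO)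
    (fc_coprime_of_ne hq ht hts.symm hP.isPGroup (pgroup_pCoreOf ht _)) (hf P hPK) (hf _ hO)

end Cfsg.Lib.Hall
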