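import Cfsg.Agent.Lib.Transfer.Frobenius
import Cfsg.Agent.Lib.Coprime.Basic
import Cfsg.Agent.Lib.Core.PCore

/-! # Maximal Schmidt groups (Gol'fand): field lemmas -/

set_option autoImplicit false
set_option linter.unusedSectionVars false
set_option linter.style.haveILetI false

namespace Cfsg.Lib.Hall.Golf

/-- `K` is the field of order `p ^ a`, `a` the order of `p` mod `q`, and `ζ` has order `q` -/
structure FH (p q a : ℕ) {K : Type*} [Field K] (ζ : K) : Prop where
  hp : p.Prime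
  hq : q.Prime
  ne : p ≠ q
  card : Nat.card K = p ^ a
  ha : a = orderOf (p : ZMod q)
  ord : orderOf ζ = q

variable {K : Type*} [Field K] [Finite K] {p q a : ℕ} {ζ : K}

theorem FH.pow (h : FH p q a ζ) {i : ℕ} (hi : ¬ q ∣ i) : FH p q a (ζ ^ i) :=
  { h with ord := by rw [← h.ord]; exact Nat.Coprime.orderOf_pow (h.ord ▸ h.hq.coprime_iff_not_dvd.2 hi) }

theorem FH.pow_q (h : FH p q a ζ) : ζ ^ q = 1 := h.ord ▸ pow_orderOf_eq_one ζ

theorem FH.ne_one (h : FH p q a ζ) : ζ ≠ 1 := fun e => h.hq.one_lt.ne (by rw [← h.ord, e, orderOf_one])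

theorem FH.ne_zero (h : FH p q a ζ) : ζ ≠ 0 := fun e => by
  have := h.pow_q
  rw [e, zero_pow h.hq.ne_zero] at this
  exact zero_ne_one this

theorem FH.cast_p (h : FH p q a ζ) : (p : K) = 0 := by
  haveI := Fintype.ofFinite K
  have := FiniteField.cast_card_eq_zero K
  rw [← Nat.card_eq_fintype_card, h.card, Nat.cast_pow] at this
  exact pow_eq_zero_iff'.1 this |>.1

theorem FH.charP (h : FH p q a ζ) : CharP K p := (CharP.charP_iff_prime_eq_zero h.hp).2 h.cast_p

theorem FH.cast_q (h : FH p q a ζ) : (q : K) ≠ 0 := by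
  haveI := h.charP
  rw [ne_eq, CharP.cast_eq_zero_iff K p, Nat.prime_dvd_prime_iff_eq h.hp h.hq]
  exact h.ne

theorem FH.irr (h : FH p q a ζ) (W : AddSubgroup K) (hW : ∀ w ∈ W, ζ * w ∈ W) : W = ⊥ ∨ W = ⊤ := by
  classical
  haveI := Fact.mk h.hq
  haveI := Fintype.ofFinite W
  let f : Function.End W := fun w => ⟨ζ * w, hW w w.2⟩
  have hf : ∀ (n : ℕ) (w : W), ((f ^ n) w : K) = ζ ^ n * w := by
    intro n
    induction n with
    | zero => intro w; simp; rfl
    | succ n ih => intro w; rw [pow_succ, pow_succ, mul_assoc]; exact ih (f w)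
  have h1 := Equiv.Perm.card_fixedPoints_modEq (f := f) (p := q) (n := 1) (funext fun w => Subtype.ext (by
    rw [hf, pow_one, h.pow_q, one_mul]; rfl))
  have h2 : Fintype.card f.fixedPoints = 1 := Fintype.card_eq_one_iff.2 ⟨⟨0, Subtype.ext (mul_zero ζ)⟩, fun ⟨w, hw⟩ =>
    Subtype.ext (Subtype.ext ((mul_left_eq_self₀.1 (congrArg Subtype.val hw)).resolve_left h.ne_one))⟩
  obtain ⟨d, hd, e⟩ := (Nat.dvd_prime_pow h.hp).1 (h.card ▸ AddSubgroup.card_addSubgroup_dvd_card W)
  rw [h2, ← Nat.card_eq_fintype_card, e, ← ZMod.natCast_eq_natCast_iff, Nat.cast_pow, Nat.cast_one] at h1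
  have h3 := orderOf_dvd_of_pow_eq_one h1
  rw [← h.ha] at h3
  rcases Nat.eq_zero_or_pos d with rfl | h0
  · exact Or.inl (AddSubgroup.card_eq_one.1 e)
  · exact Or.inr (AddSubgroup.eq_top_of_card_eq W (by rw [e, h.card, le_antisymm hd (Nat.le_of_dvd h0 h3)]))

theorem FH.top (h : FH p q a ζ) (W : AddSubgroup K) (hW : ∀ w ∈ W, ζ * w ∈ W) (h1 : 1 ∈ W) (s : K) : s ∈ W :=
  ((h.irr W hW).resolve_left fun e => one_ne_zero (AddSubgroup.mem_bot.1 (e ▸ h1))) ▸ AddSubgroup.mem_top s

theorem FH.bound (h : FH p q a ζ) {Z : Type*} [AddCommGroup Z] (β : K →+ K →+ Z) (inv : ∀ s t, β (ζ * s) (ζ * t) = β s t)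
    (alt : ∀ s, β s s = 0) : (∀ s t, β s t ∈ (β 1).range) ∧ Nat.card (β 1).range ≤ p ^ (if a % 2 = 1 then 0 else a / 2) := by
  have h0 := h.ne_zero
  have i1 : ∀ s t, β (ζ * s) t = β s (ζ⁻¹ * t) := fun s t => by rw [← inv s, mul_inv_cancel_left₀ h0]
  have i2 : ∀ s t, β (ζ⁻¹ * s) t = β s (ζ * t) := fun s t => by rw [← inv, mul_inv_cancel_left₀ h0]
  have anti : ∀ s t, β s t + β t s = 0 := fun s t => by
    have := alt (s + t)
    simp only [map_add, AddMonoidHom.add_apply, alt, zero_add, add_zero] at this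
    rw [add_comm, this]
  refine ⟨fun s => ?_, ?_⟩
  · let W : AddSubgroup K :=
      { carrier := {s | ∀ t, β s t ∈ (β 1).range}
        add_mem' := fun hs ht t => by rw [map_add]; exact add_mem (hs t) (ht t)
        zero_mem' := fun t => by rw [map_zero]; exact zero_mem _
        neg_mem' := fun hs t => by rw [map_neg]; exact neg_mem (hs t) }
    exact h.top W (fun w hw t => i1 w t ▸ hw _) (fun t => ⟨t, rfl⟩) s
  let F : Subfield K :=
    { carrier := {c | ∀ s t, β (c * s) t = β s (c * t)}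
      mul_mem' := fun {c d} hc hd s t => by rw [mul_assoc, hc, hd, ← mul_assoc, mul_comm d]
      one_mem' := fun s t => by rw [one_mul, one_mul]
      add_mem' := fun {c d} hc hd s t => by rw [add_mul, add_mul, map_add, map_add, AddMonoidHom.add_apply, hc, hd]
      zero_mem' := fun s t => by simp
      neg_mem' := fun {c} hc s t => by rw [neg_mul, neg_mul, map_neg, map_neg, AddMonoidHom.neg_apply, hc]
      inv_mem' := fun c hc s t => by
        by_cases e : c = 0
        · simp [e]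
        · have := hc (c⁻¹ * s) (c⁻¹ * t)
          rw [mul_inv_cancel_left₀ e, mul_inv_cancel_left₀ e] at this
          exact this.symm }
  have hθ : ζ + ζ⁻¹ ∈ F := fun s t => by
    rw [add_mul, add_mul, map_add, map_add, AddMonoidHom.add_apply, i1, i2, add_comm]
  have hθ0 : ζ + ζ⁻¹ ≠ 0 := by
    intro e
    have e1 : ζ ^ 2 = -1 := by field_simp at e; linear_combination e
    have e2 : q ∣ 2 ^ 2 := h.ord ▸ orderOf_dvd_of_pow_eq_one (by rw [show 2 ^ 2 = 2 * 2 from rfl, pow_mul, e1]; simp)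
    have e3 := (Nat.prime_dvd_prime_iff_eq h.hq Nat.prime_two).1 (h.hq.dvd_of_dvd_pow e2)
    have e4 := h.pow_q
    rw [e3, e1] at e4
    exact h.cast_q (by rw [e3]; push_cast; linear_combination -e4)
  have hk : Nat.card F ≤ Nat.card (β 1).ker := Nat.card_le_card_of_injective
    (fun c : F => (⟨c * (ζ + ζ⁻¹), by
      rw [AddMonoidHom.mem_ker, mul_add, map_add, mul_comm _ ζ⁻¹, ← i1, mul_one, ← c.2, mul_one, anti]⟩ : (β 1).ker))
    fun c d e => Subtype.ext (mul_right_cancel₀ hθ0 (congrArg Subtype.val e))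
  have h2 : Nat.card K ≤ Nat.card F * Nat.card F := by
    rw [← Nat.card_prod]
    let g : F × F →+ K := { toFun := fun x => x.1 + x.2 * ζ, map_zero' := by simp, map_add' := fun x y => by simp; ring }
    refine Nat.card_le_card_of_surjective g fun s => h.top g.range ?_ ⟨(1, 0), by simp [g]⟩ s
    rintro _ ⟨⟨x, y⟩, rfl⟩
    refine ⟨(-y, x + y * ⟨_, hθ⟩), ?_⟩
    simp only [g, AddMonoidHom.coe_mk, ZeroHom.coe_mk]
    push_cast
    field_simp
    ring
  have h3 := Module.natCard_eq_pow_finrank (K := F) (V := K)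
  have h4 : 1 < Nat.card F := Finite.one_lt_card
  have h5 := (β 1).ker.card_mul_index
  rw [AddSubgroup.index_ker] at h5
  have h6 : Module.finrank F K ≤ 2 := (Nat.pow_le_pow_iff_right h4).1 (by rw [← h3, sq]; exact h2)
  have h7 : 0 < Module.finrank F K := Module.finrank_pos
  have h8 := Nat.mul_le_mul_right (Nat.card (β 1).range) hk
  rw [h5] at h8
  obtain e | e : Module.finrank F K = 1 ∨ Module.finrank F K = 2 := by omega
  · rw [e, pow_one] at h3
    exact (Nat.le_of_mul_le_mul_left (h8.trans (by rw [mul_one, h3])) (by omega)).trans (Nat.one_le_pow _ _ h.hp.pos)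
  · rw [e, h.card] at h3
    obtain ⟨d, -, hd⟩ := (Nat.dvd_prime_pow h.hp).1 (h3 ▸ dvd_pow_self (Nat.card F) two_ne_zero)
    rw [hd, ← pow_mul] at h3
    have e2 := Nat.pow_right_injective h.hp.two_le h3
    rw [if_neg (by omega), show a / 2 = d by omega]
    refine Nat.le_of_mul_le_mul_left (h8.trans ?_) (by omega : 0 < Nat.card F)
    rw [h.card, hd, ← pow_add, e2, mul_two]

theorem FH.bound' (h : FH p q a ζ) {Z : Type*} [CommGroup Z] (β : K → K → Z) (h1 : ∀ s s' t, β (s + s') t = β s t * β s' t)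
    (h2 : ∀ s t t', β s (t + t') = β s t * β s t') (inv : ∀ s t, β (ζ * s) (ζ * t) = β s t) (alt : ∀ s, β s s = 1) :
    ∃ W : Subgroup Z, (∀ s t, β s t ∈ W) ∧ Nat.card W ≤ p ^ (if a % 2 = 1 then 0 else a / 2) := by
  let γ : K →+ K →+ Additive Z := AddMonoidHom.mk' (fun s => AddMonoidHom.mk' (fun t => Additive.ofMul (β s t)) (h2 s))
    fun s s' => AddMonoidHom.ext (h1 s s')
  obtain ⟨h3, h4⟩ := h.bound γ inv alt
  exact ⟨AddSubgroup.toSubgroup' (γ 1).range, h3, h4⟩

end Cfsg.Lib.Hall.Golf
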