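import Cfsg.Agent.Lib.Hall.Golf
import Cfsg.Agent.Lib.Core.Frattini

/-! # Maximal Schmidt groups (Gol'fand): structure -/

set_option autoImplicit false
set_option linter.unusedSectionVars false
set_option linter.style.haveILetI false

namespace Cfsg.Lib.Hall.Golf

open Cfsg.Lib Cfsg.Lib.Transfer Subgroup
open scoped commutatorElement

variable {X : Type*} [Group X] [Finite X] {K : Type*} [Field K] [Finite K] {p q a r t : ℕ} {ζ : K}

/-- minimal non-`p`-nilpotent -/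
def Min (p : ℕ) (X : Type*) [Group X] : Prop := ¬ PNil p (⊤ : Subgroup X) ∧ ∀ H : Subgroup X, H ≠ ⊤ → PNil p H

theorem comm_triv {g u : X} {k : ℕ} (hc : Commute g ⁅g, u⁆) (h : ⁅g, u⁆ ^ k = 1) (hk : (orderOf g).Coprime k) :
    g * u = u * g := by
  have key : ∀ n : ℕ, g ^ n * u = ⁅g, u⁆ ^ n * u * g ^ n := by
    intro n
    induction n with
    | zero => simp
    | succ n ih =>
      rw [pow_succ', mul_assoc, ih, ← mul_assoc, ← mul_assoc, (hc.pow_right n).eq, pow_succ, commutatorElement_def]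
      group
  have h1 := key (orderOf g)
  rw [pow_orderOf_eq_one, one_mul, mul_one, right_eq_mul] at h1
  have := pow_gcd_eq_one.2 ⟨h1, h⟩
  rwa [hk.gcd_eq_one, pow_one, commutatorElement_eq_one_iff_mul_comm] at this

theorem pnil_of_central [Fact p.Prime] {Y : Type*} [Group Y] [Finite Y] (f : X →* Y) (hk : IsPGroup p f.ker)
    (hc : f.ker ≤ center X) (h : PNil p f.range) : PNil p (⊤ : Subgroup X) := by
  obtain ⟨T, hT⟩ := exists_sylowIn (p := p) (⊤ : Subgroup X)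
  refine hT.pnil_iff_forall.2 fun Q hQ g _ hn hcop u hu => ?_
  have h1 := h.mem_centralizer ((hT.2.to_le hQ).map f) (map_le_range f Q)
    (mem_resOf ⟨g, rfl⟩ (hcop.coprime_dvd_left (orderOf_map_dvd f g))) (le_normalizer_map f (mem_map_of_mem f hn))
  have h2 : ⁅g, u⁆ ∈ f.ker := by
    rw [MonoidHom.mem_ker, map_commutatorElement, commutatorElement_eq_one_iff_mul_comm]
    exact (h1 _ (mem_map_of_mem f hu)).symm
  obtain ⟨k, e⟩ := hk ⟨_, h2⟩
  exact (comm_triv (mem_center_iff.1 (hc h2) g) (congrArg Subtype.val e) (hcop.pow_right k)).symm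

theorem exists_min [Fact p.Prime] (E : Subgroup X) (h : ¬ PNil p E) : ∃ D ≤ E, Min p D := by
  obtain ⟨D, hD, hm⟩ := exists_minimal_le_of_wellFoundedLT (fun H : Subgroup X => ¬ PNil p H) E h
  refine ⟨D, hD, fun e => hm.1 ?_, fun H hH => ?_⟩
  · rwa [← pnil_map_iff_of_injective D.subtype_injective, ← MonoidHom.range_eq_map, range_subtype] at e
  · by_contra e
    rw [← pnil_map_iff_of_injective D.subtype_injective] at e
    exact hH (eq_top_iff.2 fun g _ => (mem_map_iff_mem D.subtype_injective).1 (hm.2 e (map_subtype_le H) g.2))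

theorem dec {P : Subgroup X} [P.Normal] {x : X} (h : P ⊔ zpowers x = ⊤) (y : X) : ∃ w ∈ P, ∃ k : ℕ, y = w * x ^ k := by
  obtain ⟨w, hw, b, hb, e⟩ := (Coprime.mem_sup_iff_of_le_normalizer le_normalizer_of_normal).1 (h ▸ mem_top y)
  obtain ⟨k, rfl⟩ := mem_powers_iff_mem_zpowers.2 hb
  exact ⟨w, hw, k, e⟩

theorem cop [Fact p.Prime] (hq : q.Prime) (ne : p ≠ q) {P : Subgroup X} (hP : IsPGroup p P) {x : X} (hx : orderOf x = q ^ r) :
    (Nat.card (zpowers x)).Coprime (Nat.card P) := by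
  rw [Nat.card_zpowers, hx]
  exact Coprime.coprime_card_of_isPGroup hP (Nat.Coprime.pow_left _ ((Nat.coprime_primes hq Fact.out).2 ne.symm))

theorem pre [hp : Fact p.Prime] (hq : q.Prime) (ne : p ≠ q) (hr : 1 ≤ r) (hX : Min p X) (hc : Nat.card X = p ^ t * q ^ r) :
    ∃ (P : Subgroup X) (x : X), P.Normal ∧ IsPGroup p P ∧ P ≠ ⊥ ∧ orderOf x = q ^ r ∧ P ⊔ zpowers x = ⊤ ∧ ⁅P, zpowers x⁆ = P ∧
      x ^ q ∈ centralizer (P : Set X) ∧ ∀ N : Subgroup X, N.Normal → N ≤ P → N ≠ P → N ≤ center X := by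
  obtain ⟨T, hT⟩ := exists_sylowIn (p := p) (⊤ : Subgroup X)
  obtain ⟨P, hP, s, hs, hsp, x, -, ⟨k, hk⟩, hn, hx⟩ := hT.exists_of_not_pnil hX.1
  have pg : IsPGroup p P := hT.2.to_le hP
  obtain ⟨j, -, hj⟩ := (Nat.dvd_prime_pow hs).1 (orderOf_dvd_of_pow_eq_one hk)
  have hcop : (orderOf x).Coprime p := hj ▸ Nat.Coprime.pow_left _ ((Nat.coprime_primes hs hp.out).2 hsp)
  have cent : ∀ (N : Subgroup X) (y : X), N ≤ P → y ∈ zpowers x → y ∈ normalizer (N : Set X) → N ⊔ zpowers y ≠ ⊤ →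
      y ∈ centralizer (N : Set X) := fun N y hN hy hn h => (hX.2 _ h).mem_centralizer (pg.to_le hN) le_sup_left
    (mem_resOf (mem_sup_right (mem_zpowers y)) (hcop.coprime_dvd_left (orderOf_dvd_of_mem_zpowers hy))) hn
  have top : P ⊔ zpowers x = ⊤ := by
    by_contra h
    exact hx (cent P x le_rfl (mem_zpowers x) hn h)
  haveI nrm : P.Normal := normalizer_eq_top_iff.1 (eq_top_iff.2 (top ▸ sup_le le_normalizer (zpowers_le.2 hn)))
  have hcop' := cop hs hsp.symm pg hj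
  have dis := Coprime.inf_eq_bot_of_coprime_card hcop'
  have ord : orderOf x = q ^ r := by
    have h1 := Coprime.card_sup_of_disjoint' (zpowers_le.2 hn) dis
    obtain ⟨n, e⟩ := IsPGroup.iff_card.1 pg
    rw [top, card_top, hc, e, Nat.card_zpowers, hj] at h1
    have c1 : ∀ m n : ℕ, (q ^ m).Coprime (p ^ n) := fun m n => Nat.Coprime.pow _ _ ((Nat.coprime_primes hq hp.out).2 ne.symm)
    have h2 : q ^ r ∣ s ^ j := (c1 r n).dvd_of_dvd_mul_left (h1 ▸ Dvd.intro_left _ rfl)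
    obtain rfl := (Nat.prime_dvd_prime_iff_eq hq hs).1 (hq.dvd_of_dvd_pow ((dvd_pow_self q (by omega)).trans h2))
    exact hj.trans (Nat.dvd_antisymm ((c1 j t).dvd_of_dvd_mul_left (h1 ▸ Dvd.intro_left _ rfl)) h2)
  have c2 : ∀ N : Subgroup X, N.Normal → N ≤ P → N ≠ P → x ∈ centralizer (N : Set X) := by
    intro N _ hN hne
    refine cent N x hN (mem_zpowers x) (by rw [normalizer_eq_top]; trivial) fun h => hne (le_antisymm hN fun u hu => ?_)
    obtain ⟨w, hw, i, rfl⟩ := dec h u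
    have : x ^ i ∈ P ⊓ zpowers x := ⟨(P.mul_mem_cancel_left (hN hw)).1 hu, npow_mem_zpowers x i⟩
    rw [dis, mem_bot] at this
    rwa [this, mul_one]
  have com : ⁅P, zpowers x⁆ = P := by
    by_contra h
    have h1 := c2 _ (normalizer_eq_top_iff.1 (eq_top_iff.2 (top ▸ sup_le (normalizer_commutator_ge_left _ _)
      (normalizer_commutator_ge_right _ _)))) (commutator_le_left _ _) h
    exact hx (Coprime.le_centralizer_of_commutator_le_centralizer (zpowers_le.2 hn) hcop'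
      (le_centralizer_iff.1 (zpowers_le.2 h1)) (mem_zpowers x))
  refine ⟨P, x, nrm, pg, fun e => hx fun u hu => by rw [mem_bot.1 (e ▸ hu : u ∈ (⊥ : Subgroup X)), one_mul, mul_one], ord, top, com,
    cent P _ le_rfl (npow_mem_zpowers x q) (by rw [normalizer_eq_top]; trivial) fun h => ?_, fun N _ hN hne => ?_⟩
  · obtain ⟨w, hw, i, e⟩ := dec h x
    have h1 : w ∈ P ⊓ zpowers x := ⟨hw, by
      rw [eq_mul_inv_of_mul_eq e.symm]
      exact (zpowers x).mul_mem (mem_zpowers x) (inv_mem (pow_mem (npow_mem_zpowers x q) i))⟩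
    rw [dis, mem_bot] at h1
    rw [h1, one_mul, ← pow_mul, ← pow_one x, ← pow_mul, pow_eq_pow_iff_modEq, ord, one_mul] at e
    have h2 := (e.of_dvd (dvd_pow_self q (by omega))).trans (Nat.modEq_zero_iff_dvd.2 (Dvd.intro _ rfl))
    exact hq.one_lt.ne' (Nat.dvd_one.1 (Nat.modEq_zero_iff_dvd.1 h2))
  · have h1 := zpowers_le.2 (c2 N inferInstance hN hne)
    have h2 : P ≤ centralizer (N : Set X) := com.ge.trans ((commutator_mono le_rfl h1).trans (commutator_le_right _ _))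
    have h3 := sup_le h2 h1
    rw [top] at h3
    exact fun n hn => mem_center_iff.2 fun g => (h3 (mem_top g) n hn).symm

/-- coordinates on a Schmidt group -/
structure Sch (p q r : ℕ) (ζ : K) (P : Subgroup X) (x : X) (l : X → K) : Prop where
  nrm : P.Normal
  pg : IsPGroup p P
  ord : orderOf x = q ^ r
  top : P ⊔ zpowers x = ⊤
  com : ⁅P, zpowers x⁆ = P
  add : ∀ u ∈ P, ∀ w ∈ P, l (u * w) = l u + l w
  surj : ∀ s, ∃ u ∈ P, l u = s
  eqv : ∀ u ∈ P, l (x * u * x⁻¹) = ζ * l u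
  cen : ∀ u ∈ P, l u = 0 → u ∈ center X

section
variable {P : Subgroup X} {x : X} {l : X → K}

theorem l_one (add : ∀ u ∈ P, ∀ w ∈ P, l (u * w) = l u + l w) : l 1 = 0 := by simpa using add 1 P.one_mem 1 P.one_mem

theorem l_inv (add : ∀ u ∈ P, ∀ w ∈ P, l (u * w) = l u + l w) {u : X} (hu : u ∈ P) : l u⁻¹ = -l u := by
  have := add u hu _ (P.inv_mem hu)
  rw [mul_inv_cancel, l_one add] at this
  linear_combination -this

theorem l_pow [P.Normal] (eqv : ∀ u ∈ P, l (x * u * x⁻¹) = ζ * l u) (k : ℕ) {u : X} (hu : u ∈ P) :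
    l (x ^ k * u * (x ^ k)⁻¹) = ζ ^ k * l u := by
  induction k with
  | zero => simp
  | succ k ih =>
    rw [pow_succ', show x * x ^ k * u * (x * x ^ k)⁻¹ = x * (x ^ k * u * (x ^ k)⁻¹) * x⁻¹ by group,
      eqv _ (Normal.conj_mem inferInstance _ hu _), ih, pow_succ', mul_assoc]

/-- the kernel of `l` -/
def ker (add : ∀ u ∈ P, ∀ w ∈ P, l (u * w) = l u + l w) : Subgroup X where
  carrier := {u | u ∈ P ∧ l u = 0}
  mul_mem' := fun hu hw => ⟨P.mul_mem hu.1 hw.1, by rw [add _ hu.1 _ hw.1, hu.2, hw.2, add_zero]⟩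
  one_mem' := ⟨P.one_mem, l_one add⟩
  inv_mem' := fun hu => ⟨P.inv_mem hu.1, by rw [l_inv add hu.1, hu.2, neg_zero]⟩
end

theorem exists_sch (h : FH p q a ζ) (hr : 1 ≤ r) (hX : Min p X) (hc : Nat.card X = p ^ t * q ^ r) :
    ∃ (P : Subgroup X) (x : X) (l : X → K), Sch p q r ζ P x l := by
  classical
  haveI := Fact.mk h.hp
  haveI := h.charP
  obtain ⟨P, x, nrm, pg, h0, ord, top, com, hq, cen⟩ := pre h.hq h.ne hr hX hc
  haveI : Nontrivial P := (nontrivial_iff_ne_bot P).2 h0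
  obtain ⟨M, hM, -⟩ := (eq_top_or_exists_le_coatom (⊥ : Subgroup P)).resolve_left bot_ne_top
  haveI := Core.normal_of_isCoatom_of_isPGroup pg hM
  let e := mulEquivOfPrimeCardEq (G := P ⧸ M) (G' := Multiplicative (ZMod p))
    (Core.index_eq_of_isCoatom_of_isPGroup pg hM) (by simp)
  let ν : X → K := fun u => if hu : u ∈ P then ZMod.castHom dvd_rfl K (e (⟨u, hu⟩ : P)).toAdd else 0
  have hν : ∀ u ∈ P, ∀ w ∈ P, ν (u * w) = ν u + ν w := fun u hu w hw => by
    simp only [ν, dif_pos hu, dif_pos hw, dif_pos (P.mul_mem hu hw)]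
    rw [← map_add, ← toAdd_mul, ← map_mul]; rfl
  obtain ⟨u₀, -, hu₀⟩ := SetLike.exists_of_lt hM.lt_top
  have hν0 : ν u₀ ≠ 0 := by
    simp only [ν, dif_pos u₀.2]
    rw [map_ne_zero_iff _ (RingHom.injective _), ne_eq, toAdd_eq_zero, map_eq_one_iff e e.injective, QuotientGroup.eq_one_iff]
    exact hu₀
  let L : ℕ → X → K := fun i u => ∑ j ∈ Finset.range q, (ζ ^ i)⁻¹ ^ j * ν (x ^ j * u * (x ^ j)⁻¹)
  have add : ∀ i, ∀ u ∈ P, ∀ w ∈ P, L i (u * w) = L i u + L i w := fun i u hu w hw => by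
    simp only [L]
    rw [← Finset.sum_add_distrib]
    refine Finset.sum_congr rfl fun j _ => ?_
    rw [← mul_add, ← hν _ (nrm.conj_mem _ hu _) _ (nrm.conj_mem _ hw _)]
    congr 2; group
  have eqv : ∀ i, ∀ u ∈ P, L i (x * u * x⁻¹) = ζ ^ i * L i u := fun i u hu => by
    have h1 := Finset.sum_range_succ (fun j => (ζ ^ i)⁻¹ ^ j * ν (x ^ j * u * (x ^ j)⁻¹)) q
    rw [Finset.sum_range_succ', ← hq u hu, mul_inv_cancel_right, inv_pow _ q, ← pow_mul, mul_comm i, pow_mul, h.pow_q] at h1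
    simp only [pow_zero, one_mul, inv_one, mul_one, one_pow, add_left_inj] at h1
    simp only [L]
    rw [← h1, Finset.mul_sum]
    refine Finset.sum_congr rfl fun j _ => ?_
    rw [pow_succ', mul_assoc (ζ ^ i)⁻¹, mul_inv_cancel_left₀ (pow_ne_zero i h.ne_zero), pow_succ]
    congr 2; group
  obtain ⟨i, hi, hi0⟩ : ∃ i ∈ Finset.range q, L i u₀ ≠ 0 := by
    refine Finset.exists_ne_zero_of_sum_ne_zero ?_
    simp only [L]
    rw [Finset.sum_comm, Finset.sum_eq_single 0]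
    · simpa using ⟨h.cast_q, hν0⟩
    · intro j hj hj0
      have h1 := h.pow (Nat.not_dvd_of_pos_of_lt (Nat.pos_of_ne_zero hj0) (Finset.mem_range.1 hj))
      have h2 := mul_geom_sum (ζ ^ j)⁻¹ q
      rw [inv_pow, h1.pow_q, inv_one, sub_self, mul_eq_zero, sub_eq_zero, inv_eq_one] at h2
      rw [← Finset.sum_mul, Finset.sum_congr rfl (g := fun i => (ζ ^ j)⁻¹ ^ i) fun i _ => by
        rw [inv_pow, inv_pow, ← pow_mul, ← pow_mul, mul_comm], h2.resolve_left h1.ne_one, zero_mul]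
    · exact fun e => absurd (Finset.mem_range.2 h.hq.pos) e
  have hiq : ¬ q ∣ i := by
    intro hd
    obtain rfl := Nat.eq_zero_of_dvd_of_lt hd (Finset.mem_range.1 hi)
    have : ⁅P, zpowers x⁆ ≤ ker (add 0) := commutator_le.2 fun u hu y hy => by
      obtain ⟨k, rfl⟩ := mem_powers_iff_mem_zpowers.2 hy
      have h1 := nrm.conj_mem _ (P.inv_mem hu) (x ^ k)
      rw [commutatorElement_def, mul_assoc, mul_assoc, ← mul_assoc (x ^ k)]
      exact ⟨P.mul_mem hu h1, by rw [add 0 _ hu _ h1, l_pow (eqv 0) k (P.inv_mem hu), l_inv (add 0) hu]; simp⟩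
    exact hi0 (this (com.symm ▸ u₀.2)).2
  obtain ⟨k, hk⟩ := exists_pow_eq_self_of_coprime (x := ζ) (n := i) (h.ord ▸ (h.hq.coprime_iff_not_dvd.2 hiq).symm)
  have hkq : (orderOf x).Coprime k := by
    rw [ord]
    refine Nat.Coprime.pow_left _ (h.hq.coprime_iff_not_dvd.2 ?_)
    rintro ⟨m, rfl⟩
    rw [pow_mul, (h.pow hiq).pow_q, one_pow] at hk
    exact h.ne_one hk.symm
  have hz : zpowers (x ^ k) = zpowers x := le_antisymm (zpowers_le.2 (npow_mem_zpowers x k))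
    (zpowers_le.2 (mem_of_pow_mem_of_coprime hkq (mem_zpowers _)))
  refine ⟨P, x ^ k, L i, nrm, pg, hkq.orderOf_pow.trans ord, hz ▸ top, hz ▸ com, add i, fun s => ?_,
    fun u hu => by rw [l_pow (eqv i) k hu, hk], fun u hu h1 => cen (ker (add i)) ⟨fun n hn g => ?_⟩ (fun _ h => h.1)
      (fun e => hi0 (e.symm ▸ u₀.2 : (u₀ : X) ∈ ker (add i)).2) ⟨hu, h1⟩⟩
  · let W : AddSubgroup K :=
      { carrier := {s | ∃ u ∈ P, L i u = s}
        add_mem' := by rintro _ _ ⟨u, hu, rfl⟩ ⟨w, hw, rfl⟩; exact ⟨_, P.mul_mem hu hw, add i u hu w hw⟩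
        zero_mem' := ⟨1, P.one_mem, l_one (add i)⟩
        neg_mem' := by rintro _ ⟨u, hu, rfl⟩; exact ⟨_, P.inv_mem hu, l_inv (add i) hu⟩ }
    have := ((h.pow hiq).irr W (by rintro _ ⟨u, hu, rfl⟩; exact ⟨_, nrm.conj_mem _ hu x, eqv i u hu⟩)).resolve_left
      fun e => hi0 (AddSubgroup.mem_bot.1 (e ▸ (⟨u₀, u₀.2, rfl⟩ : L i u₀ ∈ W)))
    exact (this ▸ AddSubgroup.mem_top s : s ∈ W)
  · refine ⟨nrm.conj_mem _ hn.1 g, ?_⟩
    obtain ⟨w, hw, m, rfl⟩ := dec top g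
    have h2 := nrm.conj_mem _ hn.1 (x ^ m)
    rw [show w * x ^ m * n * (w * x ^ m)⁻¹ = w * (x ^ m * n * (x ^ m)⁻¹) * w⁻¹ by group, add i _ (P.mul_mem hw h2) _ (P.inv_mem hw),
      add i _ hw _ h2, l_pow (eqv i) m hn.1, hn.2, l_inv (add i) hw]
    simp

end Cfsg.Lib.Hall.Golf
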