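import Cfsg.Agent.Lib.Hall.Golf2

/-! # Maximal Schmidt groups (Gol'fand): order bound and amalgamation -/

set_option autoImplicit false
set_option linter.unusedSectionVars false
set_option linter.style.haveILetI false

namespace Cfsg.Lib.Hall.Golf

open Cfsg.Lib Cfsg.Lib.Transfer Subgroup
open scoped commutatorElement

variable {X : Type*} [Group X] [Finite X] {K : Type*} [Field K] [Finite K] {p q a r t : ℕ} {ζ : K}
  {P : Subgroup X} {x : X} {l : X → K}

theorem Sch.bound (S : Sch p q r ζ P x l) (h : FH p q a ζ) :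
    Nat.card X ≤ p ^ (if a % 2 = 1 then 0 else a / 2) * p ^ a * q ^ r := by
  haveI := Fact.mk h.hp
  haveI := S.nrm
  choose c hc hl using S.surj
  have cm : ∀ u ∈ P, ∀ w ∈ P, ⁅u, w⁆ ∈ center X := fun u hu w hw => by
    refine S.cen _ (P.mul_mem (P.mul_mem (P.mul_mem hu hw) (P.inv_mem hu)) (P.inv_mem hw)) ?_
    rw [commutatorElement_def, S.add _ (P.mul_mem (P.mul_mem hu hw) (P.inv_mem hu)) _ (P.inv_mem hw),
      S.add _ (P.mul_mem hu hw) _ (P.inv_mem hu), S.add _ hu _ hw, l_inv S.add hu, l_inv S.add hw]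
    ring
  have e1 : ∀ u ∈ P, ∀ u' ∈ P, l u = l u' → ∀ w, ⁅u, w⁆ = ⁅u', w⁆ := fun u hu u' hu' e w => by
    have h1 := mem_center_iff.1 (S.cen _ (P.mul_mem (P.inv_mem hu') hu) (by rw [S.add _ (P.inv_mem hu') _ hu, l_inv S.add hu', e]; ring)) w
    calc ⁅u, w⁆ = u' * (u'⁻¹ * u * w) * u⁻¹ * w⁻¹ := by rw [commutatorElement_def]; group
      _ = _ := by rw [← h1, commutatorElement_def]; group
  have e2 : ∀ u ∈ P, ∀ w ∈ P, ⁅u, w⁆ = ⁅c (l u), c (l w)⁆ := fun u hu w hw => by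
    rw [e1 u hu _ (hc _) (hl _).symm, ← commutatorElement_inv, e1 w hw _ (hc _) (hl _).symm, commutatorElement_inv]
  have e3 : ∀ u ∈ P, ∀ u' ∈ P, ∀ w ∈ P, ⁅u * u', w⁆ = ⁅u, w⁆ * ⁅u', w⁆ := fun u hu u' hu' w hw => by
    calc ⁅u * u', w⁆ = u * ⁅u', w⁆ * (w * u⁻¹ * w⁻¹) := by simp only [commutatorElement_def]; group
      _ = _ := by rw [mul_assoc, ← mem_center_iff.1 (cm u' hu' w hw), commutatorElement_def u w]; group
  letI : CommGroup (center X) := IsMulCommutative.instCommGroup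
  obtain ⟨W, hW, hb⟩ := h.bound' (Z := center X) (fun s t => ⟨⁅c s, c t⁆, cm _ (hc s) _ (hc t)⟩)
    (fun s s' t => Subtype.ext (by
      change ⁅c (s + s'), c t⁆ = ⁅c s, c t⁆ * ⁅c s', c t⁆
      rw [← e3 _ (hc s) _ (hc s') _ (hc t)]
      exact e1 _ (hc _) _ (P.mul_mem (hc s) (hc s')) (by rw [S.add _ (hc s) _ (hc s'), hl, hl, hl]) _))
    (fun s t t' => Subtype.ext (by
      change ⁅c s, c (t + t')⁆ = ⁅c s, c t⁆ * ⁅c s, c t'⁆
      rw [← inv_inj, mul_inv_rev, commutatorElement_inv, commutatorElement_inv, commutatorElement_inv,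
        ← e3 _ (hc t') _ (hc t) _ (hc s)]
      exact e1 _ (hc _) _ (P.mul_mem (hc t') (hc t)) (by rw [S.add _ (hc t') _ (hc t), hl, hl, hl, add_comm]) _))
    (fun s t => Subtype.ext (by
      change ⁅c (ζ * s), c (ζ * t)⁆ = ⁅c s, c t⁆
      have := e2 _ (S.nrm.conj_mem _ (hc s) x) _ (S.nrm.conj_mem _ (hc t) x)
      rw [S.eqv _ (hc s), S.eqv _ (hc t), hl, hl] at this
      rw [← this, ← conjugate_commutatorElement, mem_center_iff.1 (cm _ (hc s) _ (hc t)) x, mul_inv_cancel_right]))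
    fun s => Subtype.ext (commutatorElement_self _)
  let W' := W.map (center X).subtype
  haveI : W'.Normal := ⟨fun n hn g => by
    rw [mem_center_iff.1 (map_subtype_le W hn) g, mul_inv_cancel_right]; exact hn⟩
  have hco := cop h.hq h.ne S.pg S.ord
  have hk : ker S.add ≤ W' := by
    let π := QuotientGroup.mk' W'
    haveI : IsMulCommutative (P.map π) := ⟨⟨by
      rintro ⟨_, u, hu, rfl⟩ ⟨_, w, hw, rfl⟩
      refine Subtype.ext (commutatorElement_eq_one_iff_mul_comm.1 ?_)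
      rw [← map_commutatorElement]
      exact (QuotientGroup.eq_one_iff _).2 (e2 u hu w hw ▸ mem_map_of_mem (center X).subtype (hW _ _))⟩⟩
    haveI : (P.map π).Normal := S.nrm.map _ (QuotientGroup.mk'_surjective _)
    have h1 := Coprime.centralizer_inf_commutator_eq_bot (A := (zpowers x).map π) (V := P.map π) le_normalizer_of_normal
      ((hco.coprime_dvd_left (card_map_dvd _ _)).coprime_dvd_right (card_map_dvd _ _))
    rw [← map_commutator, S.com] at h1
    intro z hz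
    have h2 : π z ∈ (P.map π ⊓ centralizer ((zpowers x).map π : Set (X ⧸ W'))) ⊓ P.map π :=
      ⟨⟨mem_map_of_mem _ hz.1, by
        rintro _ ⟨y, -, rfl⟩
        rw [← map_mul, ← map_mul, mem_center_iff.1 (S.cen z hz.1 hz.2) y]⟩, mem_map_of_mem _ hz.1⟩
    exact (QuotientGroup.eq_one_iff _).1 (mem_bot.1 (h1 ▸ h2))
  let L : P →* Multiplicative K := MonoidHom.mk' (fun u => Multiplicative.ofAdd (l u)) fun u w => S.add _ u.2 _ w.2
  have h1 := Coprime.card_sup_of_disjoint' (le_normalizer_of_normal : zpowers x ≤ _) (Coprime.inf_eq_bot_of_coprime_card hco)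
  rw [S.top, card_top, Nat.card_zpowers, S.ord, ← L.ker.card_mul_index, index_ker] at h1
  rw [h1]
  refine Nat.mul_le_mul_right _ (Nat.mul_le_mul ?_ ?_)
  · refine le_trans ?_ (((card_le_of_le hk).trans (card_map_of_injective (center X).subtype_injective).le).trans hb)
    exact Nat.card_le_card_of_injective (fun u : L.ker => (⟨u.1, u.1.2, u.2⟩ : ker S.add))
      fun u w e => Subtype.ext (Subtype.ext (congrArg (fun z : ker S.add => (z : X)) e))
  · exact (Nat.card_le_card_of_injective _ L.range.subtype_injective).trans h.card.le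

theorem Min.bound (hX : Min p X) (h : FH p q a ζ) (hr : 1 ≤ r) (hc : Nat.card X = p ^ t * q ^ r) :
    Nat.card X ≤ p ^ (if a % 2 = 1 then 0 else a / 2) * p ^ a * q ^ r :=
  let ⟨_, _, _, S⟩ := exists_sch h hr hX hc
  S.bound h

variable {Y : Type*} [Group Y] [Finite Y] {P' : Subgroup Y} {y : Y} {l' : Y → K}

theorem half (h : FH p q a ζ) (S : Sch p q r ζ P x l) (S' : Sch p q r ζ P' y l') (hX : Min p X) {Γ : Type*} [Group Γ] [Finite Γ]
    (f : Γ →* X) (f' : Γ →* Y) (inj : ∀ g, f g = 1 → f' g = 1 → g = 1)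
    (hD : ∀ g, ∃ k : ℕ, ∃ u ∈ P, ∃ u' ∈ P', l u = l' u' ∧ f g = u * x ^ k ∧ f' g = u' * y ^ k)
    (hn : ¬ PNil p (⊤ : Subgroup Γ)) : Function.Surjective f ∧ f.ker ≤ center Γ ∧ IsPGroup p f.ker := by
  haveI := Fact.mk h.hp
  have key : ∀ g ∈ f.ker, f' g ∈ ker S'.add := by
    intro g hg
    obtain ⟨k, u, hu, u', hu', e, e1, e2⟩ := hD g
    rw [MonoidHom.mem_ker.1 hg] at e1
    have h1 : x ^ k ∈ P ⊓ zpowers x := ⟨by rw [eq_inv_of_mul_eq_one_right e1.symm]; exact P.inv_mem hu, npow_mem_zpowers x k⟩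
    rw [Coprime.inf_eq_bot_of_coprime_card (cop h.hq h.ne S.pg S.ord), mem_bot] at h1
    rw [h1, mul_one] at e1
    rw [← orderOf_dvd_iff_pow_eq_one, S.ord, ← S'.ord, orderOf_dvd_iff_pow_eq_one] at h1
    rw [e2, h1, mul_one]
    exact ⟨hu', by rw [← e, ← e1, l_one S.add]⟩
  have h1 : f.ker ≤ center Γ := fun g hg => mem_center_iff.2 fun b => commutatorElement_eq_one_iff_mul_comm.1 (inj _
    (by rw [map_commutatorElement, MonoidHom.mem_ker.1 hg, commutatorElement_one_right])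
    (by rw [map_commutatorElement, commutatorElement_eq_one_iff_mul_comm]
        exact mem_center_iff.1 (S'.cen _ (key g hg).1 (key g hg).2) _))
  have h2 : IsPGroup p f.ker := fun ⟨g, hg⟩ => by
    obtain ⟨k, hk⟩ := S'.pg ⟨_, (key g hg).1⟩
    exact ⟨k, Subtype.ext (inj _ (f.ker.pow_mem hg _) (by rw [coe_pow, map_pow]; exact congrArg Subtype.val hk))⟩
  refine ⟨MonoidHom.range_eq_top.1 ?_, h1, h2⟩
  by_contra e
  exact hn (pnil_of_central f h2 h1 (hX.2 _ e))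

theorem univ (h : FH p q a ζ) (hr : 1 ≤ r) (hX : Min p X) (hc : Nat.card X = p ^ ((if a % 2 = 1 then 0 else a / 2) + a) * q ^ r)
    (hY : Min p Y) (hc' : Nat.card Y = p ^ t * q ^ r) : ∃ φ : X →* Y, Function.Surjective φ ∧ φ.ker ≤ center X := by
  haveI := Fact.mk h.hp
  obtain ⟨P, x, l, S⟩ := exists_sch h hr hX hc
  obtain ⟨P', y, l', S'⟩ := exists_sch h hr hY hc'
  haveI := S.nrm
  haveI := S'.nrm
  let N : Subgroup (X × Y) :=
    { carrier := {g | g.1 ∈ P ∧ g.2 ∈ P' ∧ l g.1 = l' g.2}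
      mul_mem' := fun hu hw => ⟨P.mul_mem hu.1 hw.1, P'.mul_mem hu.2.1 hw.2.1,
        (S.add _ hu.1 _ hw.1).trans (by rw [hu.2.2, hw.2.2]; exact (S'.add _ hu.2.1 _ hw.2.1).symm)⟩
      one_mem' := ⟨P.one_mem, P'.one_mem, (l_one S.add).trans (l_one S'.add).symm⟩
      inv_mem' := fun hu => ⟨P.inv_mem hu.1, P'.inv_mem hu.2.1,
        (l_inv S.add hu.1).trans (by rw [hu.2.2]; exact (l_inv S'.add hu.2.1).symm)⟩ }
  have hN : zpowers (x, y) ≤ normalizer (N : Set (X × Y)) := le_normalizer_iff.2 fun b hb n hn => by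
    obtain ⟨k, rfl⟩ := mem_powers_iff_mem_zpowers.2 hb
    exact ⟨S.nrm.conj_mem _ hn.1 _, S'.nrm.conj_mem _ hn.2.1 _,
      (l_pow S.eqv k hn.1).trans (by rw [hn.2.2]; exact (l_pow S'.eqv k hn.2.1).symm)⟩
  obtain ⟨D, hD, hm⟩ := exists_min (p := p) (N ⊔ zpowers (x, y)) fun e => hX.1 ((e.map (MonoidHom.fst X Y)).mono (by
    rw [← S.top]
    refine sup_le (fun u hu => ?_) (zpowers_le.2 ⟨_, mem_sup_right (mem_zpowers _), rfl⟩)
    obtain ⟨u', hu', e⟩ := S'.surj (l u)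
    exact ⟨(u, u'), mem_sup_left ⟨hu, hu', e.symm⟩, rfl⟩))
  let f := (MonoidHom.fst X Y).comp D.subtype
  let f' := (MonoidHom.snd X Y).comp D.subtype
  have hd : ∀ g : D, ∃ k : ℕ, ∃ u ∈ P, ∃ u' ∈ P', l u = l' u' ∧ f g = u * x ^ k ∧ f' g = u' * y ^ k := fun g => by
    obtain ⟨n, hn, b, hb, e⟩ := (Coprime.mem_sup_iff_of_le_normalizer hN).1 (hD g.2)
    obtain ⟨k, rfl⟩ := mem_powers_iff_mem_zpowers.2 hb
    exact ⟨k, n.1, hn.1, n.2, hn.2.1, hn.2.2, congrArg Prod.fst e, congrArg Prod.snd e⟩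
  obtain ⟨s1, -, k1⟩ := half h S S' hX f f' (fun g e e' => Subtype.ext (Prod.ext e e')) hd hm.1
  obtain ⟨s2, c2, -⟩ := half h S' S hY f' f (fun g e e' => Subtype.ext (Prod.ext e' e)) (fun g =>
    let ⟨k, u, hu, u', hu', e, e1, e2⟩ := hd g; ⟨k, u', hu', u, hu, e.symm, e2, e1⟩) hm.1
  obtain ⟨n, hn⟩ := IsPGroup.iff_card.1 k1
  have h1 := f.ker.card_mul_index
  rw [index_ker, MonoidHom.range_eq_top.2 s1, card_top, hn, hc, ← mul_assoc, ← pow_add] at h1
  have h2 := hm.bound h hr h1.symm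
  rw [← pow_add, ← hc] at h2
  let e := MulEquiv.ofBijective f (s1.bijective_of_nat_card_le h2)
  refine ⟨f'.comp e.symm.toMonoidHom, s2.comp e.symm.surjective, fun g hg => mem_center_iff.2 fun b => ?_⟩
  exact e.symm.injective (by rw [map_mul, map_mul]; exact mem_center_iff.1 (c2 hg) _)

end Cfsg.Lib.Hall.Golf
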