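import Cfsg.Agent.Lib.Hall.Golf3

/-! # Maximal Schmidt groups (Gol'fand): construction -/

set_option autoImplicit false
set_option linter.unusedSectionVars false
set_option linter.style.haveILetI false

namespace Cfsg.Lib.Hall.Golf

open Cfsg.Lib Cfsg.Lib.Transfer Subgroup
open scoped commutatorElement

universe u
variable {K : Type u} [Field K] {C : Type} [CommGroup C]

/-- construction data -/
structure Dat (K : Type u) [Field K] (C : Type) [CommGroup C] where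
  χ : C →* Kˣ
  τ : K →+ K
  inv : ∀ c s t, (χ c : K) * s * τ (χ c * t) = s * τ t

/-- a Heisenberg-type group extended by `C` -/
@[ext] structure U (d : Dat K C) where
  s : K
  z : K
  c : C

variable {d : Dat K C}

instance : Mul (U d) := ⟨fun g h => ⟨g.s + d.χ g.c * h.s, g.z + h.z + g.s * d.τ (d.χ g.c * h.s), g.c * h.c⟩⟩
instance : One (U d) := ⟨⟨0, 0, 1⟩⟩
instance : Inv (U d) := ⟨fun g => ⟨-(d.χ g.c⁻¹ * g.s), -g.z + g.s * d.τ g.s, g.c⁻¹⟩⟩

theorem U.mul_s (g h : U d) : (g * h).s = g.s + d.χ g.c * h.s := rfl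
theorem U.mul_z (g h : U d) : (g * h).z = g.z + h.z + g.s * d.τ (d.χ g.c * h.s) := rfl
theorem U.mul_c (g h : U d) : (g * h).c = g.c * h.c := rfl
theorem U.one_s : (1 : U d).s = 0 := rfl
theorem U.one_z : (1 : U d).z = 0 := rfl
theorem U.one_c : (1 : U d).c = 1 := rfl

instance : Group (U d) := Group.ofLeftAxioms
  (fun g h k => U.ext (by simp only [U.mul_s, U.mul_c, map_mul, Units.val_mul]; ring)
    (by
      simp only [U.mul_s, U.mul_z, U.mul_c, map_mul, Units.val_mul, mul_add, map_add, add_mul, mul_assoc (d.χ g.c : K) (d.χ h.c)]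
      rw [d.inv]; ring) (mul_assoc _ _ _))
  (fun g => U.ext (by simp [U.mul_s, U.one_s, U.one_c]) (by simp [U.mul_z, U.one_s, U.one_z]) (one_mul _))
  fun g => U.ext (neg_add_cancel _) (by
    change -g.z + g.s * d.τ g.s + g.z + -(d.χ g.c⁻¹ * g.s) * d.τ (d.χ g.c⁻¹ * g.s) = 0
    rw [neg_mul, d.inv]; ring) (inv_mul_cancel _)

theorem U.inv_s (g : U d) : (g⁻¹).s = -(d.χ g.c⁻¹ * g.s) := rfl
theorem U.inv_z (g : U d) : (g⁻¹).z = -g.z + g.s * d.τ g.s := rfl
theorem U.inv_c (g : U d) : (g⁻¹).c = g.c⁻¹ := rfl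

/-- the projection -/
def U.pr (d : Dat K C) : U d →* C := MonoidHom.mk' U.c fun _ _ => rfl

instance [Finite K] [Finite C] : Finite (U d) :=
  Finite.of_injective (fun g : U d => (g.s, g.z, g.c)) fun _ _ e => by
    simp only [Prod.mk.injEq] at e; exact U.ext e.1 e.2.1 e.2.2

theorem U.cen {g : U d} (h1 : g.s = 0) (h2 : d.χ g.c = 1) (k : U d) : k * g = g * k :=
  U.ext (by simp [U.mul_s, h1, h2]) (by simp [U.mul_z, h1, add_comm]) (mul_comm _ _)

theorem U.comm {g k : U d} (h1 : d.χ g.c = 1) (h2 : d.χ k.c = 1) : ⁅g, k⁆ = ⟨0, g.s * d.τ k.s - k.s * d.τ g.s, 1⟩ := by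
  rw [commutatorElement_def, mul_inv_eq_iff_eq_mul, mul_inv_eq_iff_eq_mul]
  exact U.ext (by simp [U.mul_s, U.mul_c, h1, h2, add_comm]) (by simp [U.mul_z, U.mul_s, U.mul_c, h1, h2]; ring)
    (by simp [U.mul_c, mul_comm])

theorem U.conj_s (g : U d) {k : U d} (h : k.c = 1) : (g * k * g⁻¹).s = d.χ g.c * k.s := by
  simp [U.mul_s, U.mul_c, U.inv_s, h]

theorem exists_max [Finite K] [Finite C] {p q a r : ℕ} {ζ : Kˣ} (h : FH p q a (ζ : K)) (hr : 1 ≤ r) (d : Dat K C) {c₀ : C}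
    (hc : ∀ c, c ∈ zpowers c₀) (ho : orderOf c₀ = q ^ r) (hχ : d.χ c₀ = ζ)
    (hb : p ^ (if a % 2 = 1 then 0 else a / 2) ≤ Nat.card (AddMonoidHom.mulRight (d.τ 1) - d.τ).range) :
    ∃ D : Subgroup (U d), Min p D ∧ Nat.card D = p ^ ((if a % 2 = 1 then 0 else a / 2) + a) * q ^ r := by
  haveI := Fact.mk h.hp
  have hC : Nat.card C = q ^ r := by rw [← ho, orderOf_eq_card_of_forall_mem_zpowers hc]
  have hcop : (q ^ r).Coprime p := Nat.Coprime.pow_left _ ((Nat.coprime_primes h.hq h.hp).2 h.ne.symm)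
  have hk : IsPGroup p (U.pr d).ker := IsPGroup.of_card (n := a + a) (by
    rw [pow_add, ← h.card, ← Nat.card_prod]
    exact Nat.card_congr ⟨fun g => (g.1.s, g.1.z), fun x => ⟨⟨x.1, x.2, 1⟩, rfl⟩, fun g => Subtype.ext (U.ext rfl rfl g.2.symm),
      fun _ => rfl⟩)
  have hx : (⟨0, 0, c₀⟩ : U d) ^ q ^ r = 1 := by
    let j : C →* U d := MonoidHom.mk' (fun c => ⟨0, 0, c⟩) fun _ _ => U.ext (by simp [U.mul_s]) (by simp [U.mul_z]) rfl
    change j c₀ ^ _ = 1
    rw [← map_pow, ← ho, pow_orderOf_eq_one, map_one]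
  obtain ⟨D, -, hm⟩ := exists_min (p := p) (⊤ : Subgroup (U d)) fun e => h.ne_one (by
    have := congrArg U.s (e.mem_centralizer hk le_top (mem_resOf trivial (hcop.coprime_dvd_left (orderOf_dvd_of_pow_eq_one hx)))
      (by rw [normalizer_eq_top]; trivial) ⟨1, 0, 1⟩ rfl)
    simpa [U.mul_s, hχ] using this.symm)
  refine ⟨D, hm, ?_⟩
  have hD : ¬ PNil p D := fun e => hm.1 (by
    rwa [← pnil_map_iff_of_injective D.subtype_injective, ← MonoidHom.range_eq_map, range_subtype])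
  obtain ⟨T, hT⟩ := exists_sylowIn (p := p) D
  obtain ⟨Q, hQ, s, hs, hsp, g, hg, ⟨k, hgk⟩, -, hx⟩ := hT.exists_of_not_pnil hD
  obtain ⟨u, hu, hgu⟩ : ∃ u ∈ Q, u * g ≠ g * u := by simpa [mem_centralizer_iff] using hx
  have huc : u.c = 1 := by
    obtain ⟨m, hm⟩ := hT.2 ⟨u, hQ hu⟩
    have h1 : U.pr d u ^ p ^ m = 1 := by rw [← map_pow, show u ^ p ^ m = 1 from congrArg Subtype.val hm, map_one]
    have := pow_gcd_eq_one.2 ⟨pow_card_eq_one', h1⟩
    rwa [hC, (hcop.pow_right m).gcd_eq_one, pow_one] at this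
  have hu1 : d.χ u.c = 1 := by rw [huc, map_one]
  have hus : u.s ≠ 0 := fun e => hgu (U.cen e hu1 g).symm
  have hgc : d.χ g.c ≠ 1 := by
    intro e
    obtain ⟨m, hm⟩ := hk ⟨⁅g, u⁆, by rw [U.comm e hu1]; rfl⟩
    refine hgu (comm_triv (k := p ^ m) (U.cen (by rw [U.comm e hu1]) (by rw [U.comm e hu1]; exact map_one _) g)
      (congrArg Subtype.val hm) ?_).symm
    exact (Nat.Coprime.pow _ _ ((Nat.coprime_primes hs h.hp).2 hsp)).coprime_dvd_left (orderOf_dvd_of_pow_eq_one hgk)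
  obtain ⟨j, hj⟩ := mem_powers_iff_mem_zpowers.2 (hc g.c)
  have hj' : (d.χ g.c : K) = ζ ^ j := by rw [← hj, map_pow, hχ, Units.val_pow_eq_pow_val]
  have hjq : ¬ q ∣ j := by
    rintro ⟨m, rfl⟩
    exact hgc (Units.ext (by rw [hj', pow_mul, h.pow_q, one_pow]; rfl))
  let f := (U.pr d).comp D.subtype
  have hf : f.range = ⊤ := eq_top_iff.2 fun c _ => (zpowers_le (H := f.range)).2 (mem_of_pow_mem_of_coprime (n := j)
    (ho ▸ Nat.Coprime.pow_left _ (h.hq.coprime_iff_not_dvd.2 hjq)) ⟨⟨g, hg⟩, hj.symm⟩) (hc c)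
  let σ : f.ker →* Multiplicative K := MonoidHom.mk' (fun v => Multiplicative.ofAdd v.1.1.s) fun v w => by
    change v.1.1.s + d.χ v.1.1.c * w.1.1.s = v.1.1.s + w.1.1.s
    rw [show v.1.1.c = 1 from v.2]; simp
  have hσ : σ.range = ⊤ := by
    let W : AddSubgroup K :=
      { carrier := {t | Multiplicative.ofAdd t ∈ σ.range}
        add_mem' := fun h1 h2 => σ.range.mul_mem h1 h2
        zero_mem' := σ.range.one_mem
        neg_mem' := fun h1 => σ.range.inv_mem h1 }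
    have h5 : ∀ w ∈ W, (ζ : K) ^ j * w ∈ W := by
      intro w ⟨v, hv⟩
      have e : v.1.1.s = w := hv
      have h7 := f.normal_ker.conj_mem v.1 v.2 ⟨g, hg⟩
      refine ⟨⟨_, h7⟩, ?_⟩
      change Multiplicative.ofAdd (g * v.1.1 * g⁻¹).s = _
      rw [U.conj_s g (show v.1.1.c = 1 from v.2), hj', e]
    have h6 : u.s ∈ W := ⟨⟨⟨u, hT.1 (hQ hu)⟩, huc⟩, rfl⟩
    have := ((h.pow hjq).irr W h5).resolve_left fun e => hus (AddSubgroup.mem_bot.1 (e ▸ h6))
    exact eq_top_iff.2 fun v _ => (this ▸ AddSubgroup.mem_top v.toAdd : v.toAdd ∈ W)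
  have h1 := f.ker.card_mul_index
  have h2 := σ.ker.card_mul_index
  rw [index_ker, hf, card_top, hC] at h1
  rw [index_ker, hσ, card_top, Nat.card_congr Multiplicative.toAdd, h.card] at h2
  have h3 : Nat.card (AddMonoidHom.mulRight (d.τ 1) - d.τ).range ≤ Nat.card σ.ker := by
    have : ∀ y : (AddMonoidHom.mulRight (d.τ 1) - d.τ).range, (⟨0, y, 1⟩ : U d) ∈ D := by
      rintro ⟨_, t, rfl⟩
      obtain ⟨v, hv⟩ := (hσ ▸ mem_top _ : Multiplicative.ofAdd t ∈ σ.range)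
      obtain ⟨w, hw⟩ := (hσ ▸ mem_top _ : Multiplicative.ofAdd 1 ∈ σ.range)
      have e := (⁅v.1, w.1⁆).2
      change ⁅v.1.1, w.1.1⁆ ∈ D at e
      rw [U.comm (by rw [show v.1.1.c = 1 from v.2, map_one]) (by rw [show w.1.1.c = 1 from w.2, map_one]),
        show v.1.1.s = t from hv, show w.1.1.s = 1 from hw, one_mul] at e
      exact e
    exact Nat.card_le_card_of_injective (fun y => (⟨⟨⟨_, this y⟩, rfl⟩, rfl⟩ : σ.ker))
      fun y y' e => Subtype.ext (congrArg (fun v : σ.ker => v.1.1.1.z) e)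
  have h4 : IsPGroup p f.ker := fun ⟨v, hv⟩ => by
    obtain ⟨m, hm⟩ := hk ⟨v.1, hv⟩
    have e : v.1 ^ p ^ m = 1 := congrArg Subtype.val hm
    exact ⟨m, Subtype.ext (Subtype.ext e)⟩
  obtain ⟨n, hn⟩ := IsPGroup.iff_card.1 h4
  refine le_antisymm (pow_add p _ _ ▸ hm.bound h hr (by rw [← h1, hn])) ?_
  rw [← h1, ← h2, pow_add]
  exact Nat.mul_le_mul_right _ (Nat.mul_le_mul_right _ (hb.trans h3))

theorem exists_model (p q r : ℕ) [hp : Fact p.Prime] [hq : Fact q.Prime] (hpq : p ≠ q) (hr : 1 ≤ r) {a : ℕ}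
    (ha : a = orderOf (p : ZMod q)) : ∃ (K : Type u) (_ : Field K) (_ : Finite K) (ζ : K) (G : Type u) (_ : Group G) (_ : Finite G),
      FH p q a ζ ∧ Min p G ∧ Nat.card G = p ^ ((if a % 2 = 1 then 0 else a / 2) + a) * q ^ r := by
  have hp0 : (p : ZMod q) ≠ 0 := by
    rw [ne_eq, ZMod.natCast_eq_zero_iff, Nat.prime_dvd_prime_iff_eq hq.out hp.out]; exact hpq.symm
  have ha0 : 0 < a := ha ▸ orderOf_pos_iff.2 (isOfFinOrder_iff_pow_eq_one.2
    ⟨q - 1, Nat.sub_pos_of_lt hq.out.one_lt, ZMod.pow_card_sub_one_eq_one hp0⟩)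
  let K := ULift.{u} (GaloisField p a)
  have hK : Nat.card K = p ^ a := (Nat.card_ulift _).trans (GaloisField.card p a ha0.ne')
  obtain ⟨ζ, hζ⟩ := exists_prime_orderOf_dvd_card' (G := Kˣ) q (by
    rw [Nat.card_units, hK, ← Nat.modEq_iff_dvd' (Nat.one_le_pow _ _ hp.out.pos), ← ZMod.natCast_eq_natCast_iff, Nat.cast_pow,
      ha, pow_orderOf_eq_one, Nat.cast_one])
  have h : FH p q a (ζ : K) := ⟨hp.out, hq.out, hpq, hK, ha, orderOf_units.trans hζ⟩
  haveI : NeZero (q ^ r) := ⟨pow_ne_zero _ hq.out.ne_zero⟩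
  let C := Multiplicative (ZMod (q ^ r))
  obtain ⟨c₀, hc⟩ := IsCyclic.exists_generator (α := C)
  have ho : orderOf c₀ = q ^ r := by rw [orderOf_eq_card_of_forall_mem_zpowers hc]; simp [C]
  have hd : orderOf ζ ∣ orderOf c₀ := by rw [hζ, ho]; exact dvd_pow_self _ (by omega)
  let χ := monoidHomOfForallMemZpowers hc hd
  have hχ : χ c₀ = ζ := monoidHomOfForallMemZpowers_apply_gen hc hd
  suffices ∃ d : Dat K C, d.χ = χ ∧ p ^ (if a % 2 = 1 then 0 else a / 2) ≤ Nat.card (AddMonoidHom.mulRight (d.τ 1) - d.τ).range by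
    obtain ⟨d, e, hb⟩ := this
    obtain ⟨D, h1, h2⟩ := exists_max h hr d hc ho (e ▸ hχ) hb
    exact ⟨K, inferInstance, inferInstance, ζ, D, inferInstance, inferInstance, h, h1, h2⟩
  split_ifs with hodd
  · exact ⟨⟨χ, 0, by simp⟩, rfl, Nat.card_pos⟩
  obtain ⟨m, hm⟩ : ∃ m, a = m + m := ⟨a / 2, by omega⟩
  haveI := h.charP
  have h1 : q ∣ p ^ m + 1 := by
    rw [← ZMod.natCast_eq_zero_iff, Nat.cast_add, Nat.cast_pow, Nat.cast_one, add_eq_zero_iff_eq_neg]
    refine (mul_self_eq_one_iff.1 (by rw [← pow_add, ← hm, ha, pow_orderOf_eq_one])).resolve_left fun e => ?_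
    have := Nat.le_of_dvd (by omega) (orderOf_dvd_of_pow_eq_one e)
    omega
  refine ⟨⟨χ, iterateFrobenius K p m, fun c s t => ?_⟩, rfl, ?_⟩
  · obtain ⟨j, rfl⟩ := mem_powers_iff_mem_zpowers.2 (hc c)
    have h2 : ((ζ : K) ^ j) ^ (p ^ m + 1) = 1 := by
      rw [← pow_mul, mul_comm, pow_mul, orderOf_dvd_iff_pow_eq_one.1 (h.ord.dvd.trans h1), one_pow]
    change (χ (c₀ ^ j) : K) * s * (χ (c₀ ^ j) * t) ^ p ^ m = s * t ^ p ^ m
    rw [map_pow, hχ, Units.val_pow_eq_pow_val, mul_pow]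
    linear_combination s * t ^ p ^ m * h2
  set δ := AddMonoidHom.mulRight ((iterateFrobenius K p m : K →+ K) 1) - (iterateFrobenius K p m : K →+ K)
  have h2 := δ.ker.card_mul_index
  rw [AddSubgroup.index_ker, hK, show p ^ a = p ^ m * p ^ m by rw [← pow_add, ← hm]] at h2
  have h3 : Nat.card δ.ker ≤ p ^ m := by
    classical
    have h4 : 1 < p ^ m := Nat.one_lt_pow (by omega) hp.out.one_lt
    have h5 := FiniteField.X_pow_card_sub_X_ne_zero K h4
    refine le_trans ?_ ((Multiset.toFinset_card_le _).trans ((Polynomial.card_roots' _).trans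
      (FiniteField.X_pow_card_sub_X_natDegree_eq K h4).le))
    rw [← Nat.card_eq_finsetCard]
    refine Nat.card_le_card_of_injective (fun y => ⟨y.1, ?_⟩) fun y y' e => Subtype.ext (Subtype.mk.inj e)
    have h6 : y.1 * 1 ^ p ^ m - y.1 ^ p ^ m = 0 := y.2
    rw [Multiset.mem_toFinset, Polynomial.mem_roots h5]
    simp only [Polynomial.IsRoot.def, Polynomial.eval_sub, Polynomial.eval_pow, Polynomial.eval_X]
    rw [one_pow] at h6
    linear_combination -h6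
  rw [show a / 2 = m by omega]
  exact Nat.le_of_mul_le_mul_left (h2.ge.trans (Nat.mul_le_mul_right _ h3)) (Nat.pow_pos hp.out.pos)

end Cfsg.Lib.Hall.Golf
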