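import Cfsg.Agent.Lib.HH.Std
import Cfsg.Agent.Lib.Coprime.CharAction

/-! # Exceptional elements (Hall-Higman): the linear part -/

set_option autoImplicit false
set_option linter.unusedSectionVars false
set_option linter.style.haveILetI false

namespace Cfsg.Lib.Hall.HX

open Cfsg Cfsg.Lib Cfsg.Lib.HH Cfsg.Lib.Coprime Module Subgroup
open scoped commutatorElement

theorem unip {R M : Type*} [Ring R] [AddCommGroup M] [Module R M] (f : End R M) (v : M) (h : (f - 1) ((f - 1) v) = 0) (k : ℕ) :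
    (f ^ k) v = v + k • (f - 1) v := by
  induction k with
  | zero => simp
  | succ k ih =>
    have e : f ((f - 1) v) = (f - 1) v := by simpa [sub_eq_zero] using h
    rw [pow_succ', Module.End.mul_apply, ih, map_add, map_nsmul, e, succ_nsmul]
    simp only [LinearMap.sub_apply, Module.End.one_apply]; abel

theorem unip' {M : Type*} [AddCommGroup M] [Finite M] (f : End ℤ M) {k : ℕ} (hk : k.Coprime (Nat.card M)) (h1 : f ^ k = 1) (v : M)
    (h : (f - 1) ((f - 1) v) = 0) : (f - 1) v = 0 := by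
  have := unip f v h k
  rw [h1, Module.End.one_apply, left_eq_add] at this
  exact AddMonoid.addOrderOf_eq_one_iff.1 (Nat.eq_one_of_dvd_coprimes hk (addOrderOf_dvd_of_nsmul_eq_zero this) (addOrderOf_dvd_natCard _))

theorem dec {M : Type*} [AddCommGroup M] [Finite M] (f : End ℤ M) {k : ℕ} (hk : k.Coprime (Nat.card M)) (h1 : f ^ k = 1)
    (T : Submodule ℤ M) (hT : ∀ m ∈ T, f m ∈ T) (m : M) (hm : m ∈ T) : ∃ b ∈ T, (f - 1) (m - (f - 1) b) = 0 := by
  have t : ∀ m ∈ T, (f - 1) m ∈ T := fun m hm => T.sub_mem (hT m hm) hm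
  let g : T.map (f - 1) → T.map (f - 1) := fun x => ⟨(f - 1) x, Submodule.mem_map_of_mem (by
    obtain ⟨x, y, hy, rfl⟩ := x; exact t y hy)⟩
  obtain ⟨⟨_, b, hb, rfl⟩, e⟩ := Finite.injective_iff_surjective.1 (show Function.Injective g by
    rintro ⟨_, x, hx, rfl⟩ ⟨_, y, hy, rfl⟩ e
    exact Subtype.ext (sub_eq_zero.1 ((map_sub _ _ _).symm.trans (unip' f hk h1 (x - y) (by
      rw [map_sub, map_sub]; exact sub_eq_zero.2 (congrArg Subtype.val e)))))) ⟨_, Submodule.mem_map_of_mem hm⟩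
  exact ⟨b, hb, by rw [map_sub]; exact sub_eq_zero.2 (congrArg Subtype.val e).symm⟩

theorem exfix {M : Type*} [AddCommGroup M] [Finite M] {p : ℕ} (hp : p.Prime) (hk : p.Coprime (Nat.card M)) (y z : End ℤ M) (hy : y ^ p = 1)
    (hz : z ^ p = 1) (c : Commute y z) (fz : ∀ m, z m = m → m = 0) (T : Submodule ℤ M) (h1 : ∀ m ∈ T, y m ∈ T) (h2 : ∀ m ∈ T, z m ∈ T)
    (m : M) (hm : m ∈ T) (h0 : m ≠ 0) : ∃ i, ∃ u ∈ T, u ≠ 0 ∧ (y * z ^ i) u = u := by
  by_contra! h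
  have k : ∀ a : End ℤ M, a ^ p = 1 → ∀ v, a (∑ i ∈ Finset.range p, (a ^ i) v) = ∑ i ∈ Finset.range p, (a ^ i) v := fun a ha v => by
    have := mul_geom_sum a p
    rw [ha, sub_self, sub_mul, one_mul, sub_eq_zero] at this
    rw [← LinearMap.sum_apply, ← Module.End.mul_apply, this]
  have pw : ∀ a : End ℤ M, (∀ m ∈ T, a m ∈ T) → ∀ i, ∀ m ∈ T, (a ^ i) m ∈ T := fun a ha i => by
    induction i with
    | zero => exact fun _ => id
    | succ i ih => exact fun m hm => by rw [pow_succ']; exact ha _ (ih m hm)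
  have a1 : ∀ i, ∑ k ∈ Finset.range p, ((y * z ^ i) ^ k) m = 0 := fun i => by_contra fun t => h i _
    (T.sum_mem fun k _ => pw _ (fun m hm => h1 ((z ^ i) m) (pw z h2 i m hm)) k m hm) t (k _ (by
      rw [(c.pow_right i).mul_pow, hy, ← pow_mul, mul_comm i, pow_mul, hz, one_pow, one_mul]) m)
  have a2 : ∀ j ∈ Finset.range p, j ≠ 0 → ∑ i ∈ Finset.range p, ((y * z ^ i) ^ j) m = 0 := fun j hj j0 => by
    have e : ∀ i, ((y * z ^ i) ^ j) m = ((z ^ j) ^ i) ((y ^ j) m) := fun i => by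
      rw [(c.pow_right i).mul_pow, ← pow_mul, ← pow_mul, mul_comm j, (c.pow_pow _ _).eq]; rfl
    simp only [e]
    have := k (z ^ j) (by rw [← pow_mul, mul_comm j, pow_mul, hz, one_pow]) ((y ^ j) m)
    generalize ∑ i ∈ Finset.range p, ((z ^ j) ^ i) ((y ^ j) m) = v at this
    obtain ⟨l, -, hl⟩ := Nat.exists_mul_mod_eq_one_of_coprime (Nat.coprime_of_lt_prime j0 (Finset.mem_range.1 hj) hp).symm hp.one_lt
    refine fz v ?_
    have t : ((z ^ j) ^ l) v = v := by rw [Module.End.pow_apply]; exact Function.iterate_fixed this l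
    rwa [← pow_mul, ← Nat.mod_add_div (j * l) p, hl, pow_add, pow_mul, hz, one_pow, mul_one, pow_one] at t
  have := Finset.sum_comm.trans (Finset.sum_eq_zero (s := Finset.range p) fun i _ => a1 i)
  rw [Finset.sum_eq_single_of_mem 0 (Finset.mem_range.2 hp.pos) a2] at this
  exact h0 (AddMonoid.addOrderOf_eq_one_iff.1 (Nat.eq_one_of_dvd_coprimes hk (addOrderOf_dvd_of_nsmul_eq_zero (by simpa using this))
    (addOrderOf_dvd_natCard _)))

theorem ringq {A : Type*} [Ring A] {s t e c : A} (us : IsUnit s) (ut : IsUnit t) (uc : IsUnit c) (h : t * s = e * s * t) (es : s * e = e * s)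
    (et : t * e = e * t) (sc : s * c = c * s) (tc : t * c = c * t) (ec : e * c = c * e) (q : (s * c - 1) * (s - 1) = 0) :
    (e * e - 1) * (e * e - 1) = 0 := by
  have l : ∀ {a b : A}, a * b = b * a → ∀ x, a * (b * x) = b * (a * x) := fun h x => by rw [← mul_assoc, h, mul_assoc]
  have h' : ∀ x, t * (s * x) = e * (s * (t * x)) := fun x => by rw [← mul_assoc, h]; simp only [mul_assoc]
  rw [mul_assoc] at h
  have q1 : (e * s * c - 1) * (e * s - 1) = 0 := ut.mul_left_eq_zero.1 (((by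
    simp only [mul_sub, sub_mul, mul_assoc, mul_one, one_mul, h, h', es, et, sc, tc, ec, l es, l et, l sc, l tc, l ec]) :
    _ = t * ((s * c - 1) * (s - 1))).trans (by rw [q, mul_zero]))
  have r0 : (e - 1) * (c * (e + 1) * s - (c + 1)) = 0 := us.mul_left_eq_zero.1 (((by
    simp only [mul_sub, sub_mul, mul_add, add_mul, mul_assoc, mul_one, one_mul, es, sc, ec, l es, l sc, l ec]; abel) :
    _ = (e * s * c - 1) * (e * s - 1) - (s * c - 1) * (s - 1)).trans (by rw [q, q1, sub_zero]))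
  have r1 : (e - 1) * (c * (e + 1) * (e * s) - (c + 1)) = 0 := ut.mul_left_eq_zero.1 (((by
    simp only [mul_sub, sub_mul, mul_add, add_mul, mul_assoc, mul_one, one_mul, h, h', es, et, sc, tc, ec, l es, l et, l sc, l tc, l ec]) :
    _ = t * ((e - 1) * (c * (e + 1) * s - (c + 1)))).trans (by rw [r0, mul_zero]))
  refine us.mul_left_eq_zero.1 (uc.mul_right_eq_zero.1 (((by
    simp only [mul_sub, sub_mul, mul_add, add_mul, mul_assoc, mul_one, one_mul, es, sc, ec, l es, l sc, l ec]; abel) :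
    _ = (e + 1) * ((e - 1) * (c * (e + 1) * (e * s) - (c + 1)) - (e - 1) * (c * (e + 1) * s - (c + 1)))).trans (by
      rw [r0, r1, sub_zero, mul_zero])))

theorem commq {C M : Type*} [Group C] [Finite C] [AddCommGroup M] [Finite M] {p : ℕ} [hp : Fact p.Prime] (hp2 : p ≠ 2) (hC : IsPGroup p C)
    (hk : p.Coprime (Nat.card M)) (θ : C →* End ℤ M) (S : Set C) (hS : ∀ s ∈ S, ∀ t ∈ S, t * s * t⁻¹ ∈ S)
    (hq : ∀ s ∈ S, ∃ c : C, (∀ g, θ g * θ c = θ c * θ g) ∧ (θ s * θ c - 1) * (θ s - 1) = 0) : ∀ s ∈ S, ∀ t ∈ S, θ ⁅t, s⁆ = 1 := by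
  haveI := hC.isNilpotent
  have k : ∀ n, ∀ s ∈ S, ∀ t ∈ S, t * s⁻¹ ∈ Subgroup.upperCentralSeries C n → θ ⁅t, s⁆ = 1 := fun n => by
    induction n with
    | zero => intro s _ t _ h; rw [mul_inv_eq_one.1 h]; simp
    | succ n ih =>
      intro s hs t ht h
      have m := Subgroup.mem_upperCentralSeries_succ_iff.1 h
      have u : ∀ g, IsUnit (θ g) := fun g => (Group.isUnit g).map θ
      have a1 := ih s hs _ (hS s hs t ht) (by convert m s using 1; rw [commutatorElement_def]; group)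
      have a2 := ih t ht _ (hS t ht s hs) (by
        convert inv_mem (m s) using 1; rw [commutatorElement_def]; group)
      have cm : ∀ {a b}, θ ⁅a, b⁆ = 1 → θ a * θ b = θ b * θ a := fun {a b} h => by
        rw [← one_mul (θ b * θ a), ← h]; simp only [← map_mul, commutatorElement_def]; congr 1; group
      obtain ⟨c, c1, c2⟩ := hq s hs
      have := ringq (e := θ ⁅t, s⁆) (u s) (u t) (u c) (by simp only [← map_mul, commutatorElement_def]; congr 1; group)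
        ((u s).mul_left_inj.1 (by
          have := cm a1
          simp only [← map_mul, commutatorElement_def] at this ⊢
          convert this.symm using 2 <;> group))
        ((u ⁅s, t⁆).mul_right_inj.1 ((u ⁅s, t⁆).mul_left_inj.1 ((u t).mul_left_inj.1 (by
          have := cm a2
          simp only [← map_mul, commutatorElement_def] at this ⊢
          convert this using 2 <;> group)))) (c1 s) (c1 t) (c1 _) c2
      obtain ⟨a, ha⟩ := hC ⁅t, s⁆
      have e : θ ⁅t, s⁆ * θ ⁅t, s⁆ = 1 := sub_eq_zero.1 (LinearMap.ext fun v => unip' _ (hk.pow_left a) (by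
        rw [← sq, ← pow_mul, mul_comm, pow_mul, ← map_pow, ha, map_one, one_pow]) v (LinearMap.congr_fun this v))
      obtain ⟨b, hb⟩ := (hp.out.odd_of_ne_two hp2).pow (n := a)
      have := congrArg θ ha
      rwa [hb, map_pow, pow_succ, pow_mul, sq, e, one_pow, one_mul, map_one] at this
  obtain ⟨n, hn⟩ := Group.IsNilpotent.nilpotent C
  exact fun s hs t ht => k n s hs t ht (hn ▸ mem_top _)

theorem perp {Q Γ : Type*} [Group Q] [Monoid Γ] (f : Q →* Γ) (d : MulAut Q) (hd : ∀ g h, f ⁅d g, d h⁆ = f ⁅g, h⁆) {c : Q}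
    (hc : ∀ h, f (c⁻¹ * d c) * f h = f h * f (c⁻¹ * d c)) (b : Q) : f (b⁻¹ * d b) * f c = f c * f (b⁻¹ * d b) := by
  have u : ∀ g, IsUnit (f g) := fun g => (Group.isUnit g).map f
  have a := hd b c
  have e : f ⁅d b, d c⁆ = f ⁅d b, c⁆ := by
    rw [show ⁅d b, d c⁆ = d b * c * ((c⁻¹ * d c) * (d b)⁻¹) * (d c)⁻¹ by rw [commutatorElement_def]; group, map_mul, map_mul,
      map_mul f (c⁻¹ * d c), hc]
    simp only [← map_mul, commutatorElement_def]; congr 1; group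
  have := congrArg (fun x => f b⁻¹ * x * f (c * d b)) (e.symm.trans a)
  simp only [← map_mul, commutatorElement_def] at this ⊢
  convert this using 2 <;> group

variable {K : Type*} [Field K] [IsAlgClosed K] {p : ℕ} [hp : Fact p.Prime] [CharP K p] {Q : Type*} [Group Q] [Finite Q]
  {W : Type*} [AddCommGroup W] [Module K W] [FiniteDimensional K W]

def Sc (σ : Q →* End K W) : Subgroup Q where
  carrier := {g | ∃ c : K, σ g = c • 1}
  one_mem' := ⟨1, by simp⟩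
  mul_mem' := by rintro a b ⟨c, hc⟩ ⟨d, hd⟩; exact ⟨c * d, by rw [map_mul, hc, hd, smul_mul_smul_comm, mul_one]⟩
  inv_mem' := by
    rintro a ⟨c, hc⟩
    have : σ a * σ a⁻¹ = 1 := by rw [← map_mul, mul_inv_cancel, map_one]
    rw [hc, smul_mul_assoc, one_mul] at this
    by_cases h : c = 0
    · exact ⟨0, by rw [← mul_one (σ a⁻¹), ← this, h]; simp⟩
    · exact ⟨c⁻¹, by rw [← this, smul_smul, inv_mul_cancel₀ h, one_smul]⟩

theorem sc_iff {σ : Q →* End K W} {Z : End K W} {β : MulAut Q} (hZ : ∀ g, Z * σ g = σ (β g) * Z) (u : IsUnit Z) (g : Q) (c : K) :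
    σ (β g) = c • 1 ↔ σ g = c • 1 := by
  rw [← u.mul_left_inj, ← hZ, ← u.mul_right_inj (b := σ g)]; simp

theorem dimF {σ : Q →* End K W} (hQ : ¬ p ∣ Nat.card Q) {Z : End K W} {β : MulAut Q} (hZ : ∀ g, Z * σ g = σ (β g) * Z) {j : ℕ}
    (hZN : Z ^ p ^ (j + 1) = 1) (hβN : β ^ p ^ (j + 1) = 1) (hs : (Z - 1) ^ (p ^ (j + 1) - 1) = 0) (cl : ∀ g h : Q, ⁅g, h⁆ ∈ Sc σ)
    (F : Subgroup Q) (hF : ∀ g ∈ F, β g ∈ F) (nd : ∀ g ∈ F, (∀ h ∈ F, σ g * σ h = σ h * σ g) → g ∈ Sc σ)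
    (fpf : ∀ g ∈ F, g⁻¹ * (β ^ p ^ j) g ∈ Sc σ → g ∈ Sc σ) (nt : ∃ g ∈ F, g ∉ Sc σ) (W' : Submodule K W)
    (hW : ∀ g, ∀ u ∈ W', (σ.comp F.subtype) g u ∈ W') (irr : Irr (sub _ W' hW)) : finrank K W' + 1 = p ^ (j + 1) := by
  haveI := Fintype.ofFinite F
  have hK : (Fintype.card F : K) ≠ 0 := card_ne_zero fun d => hQ (d.trans (card_subgroup_dvd_card F))
  have pos : 0 < p ^ (j + 1) := pow_pos hp.out.pos _
  have u : IsUnit Z := IsUnit.of_pow_eq_one hZN pos.ne'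
  let γ : MulAut F := MulEquiv.ofBijective ((β.toMonoidHom.comp F.subtype).codRestrict F fun g => hF g g.2)
    (Finite.injective_iff_bijective.1 fun a b e => Subtype.ext (β.injective (congrArg Subtype.val e)))
  have hγ : ∀ i (g : F), ((γ ^ i) g : Q) = (β ^ i) g := fun i g => by
    induction i with
    | zero => rfl
    | succ i ih => rw [pow_succ', pow_succ', MulAut.mul_apply, MulAut.mul_apply, ← ih]; rfl
  haveI := irr.1
  obtain ⟨w, hw⟩ := exists_ne (0 : W')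
  have g1 : γ ^ p ^ (j + 1) = 1 := by ext g; rw [hγ, hβN]; rfl
  have sc : ∀ (g : F) (c : K), σ g = c • 1 → sub _ W' hW g = c • 1 := fun g c e => by
    ext v; exact LinearMap.congr_fun e v
  have cm : ∀ g h (c : K), σ ⁅g, h⁆ = c • 1 → σ g * σ h = c • (σ h * σ g) := fun g h c e => by
    rw [← smul_one_mul, ← e]; simp only [← map_mul, commutatorElement_def]; congr 1; group
  have z : ∀ g : F, g.1 ∉ Sc σ → ch (sub _ W' hW) g = 0 := fun g hg => by
    by_contra t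
    refine hg (nd g g.2 fun h hh => ?_)
    obtain ⟨c, hc⟩ := cl h g
    have := ch_conj (sub _ W' hW) g ⟨h, hh⟩
    rw [show ⟨h, hh⟩ * g * ⟨h, hh⟩⁻¹ = ⁅(⟨h, hh⟩ : F), g⁆ * g by rw [commutatorElement_def]; group, ch, map_mul, sc _ c hc,
      smul_mul_assoc, one_mul, map_smul] at this
    rw [cm _ _ _ hc, (mul_eq_right₀ t).1 this, one_smul]
  obtain ⟨k, -, -, h2, Z', h3, h4, h5⟩ := irr.orbit hK (tw_sub _ W' hW) (fun e => hw (Subtype.ext (LinearMap.congr_fun e w))) (X := Z)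
    (α := γ) (fun g => hZ g) hZN g1
  obtain rfl : k = 0 := by_contra fun t => h2 1 one_pos (Nat.one_lt_pow t hp.out.one_lt) fun g => by
    by_cases hg : g.1 ∈ Sc σ
    · obtain ⟨c, hc⟩ := hg
      rw [ch, ch, sc g c hc, sc _ c ((sc_iff hZ u g c).2 hc)]
    · rw [z g hg, z _ fun ⟨c, hc⟩ => hg ⟨c, (sc_iff hZ u g c).1 hc⟩]
  rw [pow_zero, pow_one] at h4
  have := irr.crit hK h4 h3 g1 (fun g e => (fpf g g.2 (by rw [← hγ, e, inv_mul_cancel]; exact one_mem _)).imp (sc g)) ?_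
    (s := p ^ (j + 1) - 1) (by_contra fun t => by have := h5 _ _ hs t; rw [pow_zero, one_mul] at this; omega) (by omega)
  · omega
  rintro rfl
  obtain ⟨g, hg, n⟩ := nt
  have t : sub _ W' hW ((⟨g, hg⟩ : F)⁻¹ * (γ ^ p ^ j) ⟨g, hg⟩) = 1 := by
    have := semi_pow h4 (p ^ j) ⟨g, hg⟩
    rw [one_pow, one_mul, mul_one] at this
    rw [map_mul, ← this, ← map_mul, inv_mul_cancel, map_one]
  refine n (fpf g hg ?_)
  rw [← hγ (p ^ j) ⟨g, hg⟩]
  show ((⟨g, hg⟩ : F)⁻¹ * (γ ^ p ^ j) ⟨g, hg⟩).1 ∈ _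
  generalize (⟨g, hg⟩ : F)⁻¹ * (γ ^ p ^ j) ⟨g, hg⟩ = a at t ⊢
  refine nd _ a.2 fun h hh => ?_
  obtain ⟨c, hc⟩ := cl a h
  have := sc ⁅a, ⟨h, hh⟩⁆ c hc
  have t' : sub _ W' hW a⁻¹ = 1 := by rw [← one_mul (sub _ W' hW a⁻¹), ← t, ← map_mul, mul_inv_cancel, map_one, t]
  rw [commutatorElement_def, map_mul, map_mul, map_mul, t, t', one_mul, mul_one, ← map_mul, mul_inv_cancel, map_one] at this
  have := LinearMap.congr_fun this w
  rw [cm _ _ _ hc, smul_left_injective K hw (this.symm.trans (one_smul K w).symm), one_smul]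

theorem sc_of_comm {σ : Q →* End K W} (irr : Irr σ) {g : Q} (h : ∀ k, σ g * σ k = σ k * σ g) : g ∈ Sc σ :=
  irr.schur fun k w => LinearMap.congr_fun (h k) w

theorem comm_of_sc {σ : Q →* End K W} {g : Q} (h : g ∈ Sc σ) (f : End K W) : σ g * f = f * σ g := by
  obtain ⟨c, hc⟩ := h; simp [hc]

theorem quadR {σ : Q →* End K W} (irr : Irr σ) (hQ : ¬ p ∣ Nat.card Q) {Z : End K W} {β ζ : MulAut Q} (hZ : ∀ g, Z * σ g = σ (β g) * Z)
    {j : ℕ} (hZN : Z ^ p ^ (j + 1) = 1) (hβN : β ^ p ^ (j + 1) = 1) (hs : (Z - 1) ^ (p ^ (j + 1) - 1) = 0) (cl : ∀ g h : Q, ⁅g, h⁆ ∈ Sc σ)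
    (hy : ∀ g h, σ ⁅(β ^ p ^ j) g, (β ^ p ^ j) h⁆ = σ ⁅g, h⁆) (hζ : ∀ g h, σ ⁅ζ g, ζ h⁆ = σ ⁅g, h⁆) {M : Type*} [AddCommGroup M] [Finite M]
    (π : Q →* Multiplicative M) (sj : Function.Surjective π) (hπ : ∀ g, π g = 1 ↔ g ∈ Sc σ) (hk : p.Coprime (Nat.card M)) (b z : End ℤ M)
    (hb : ∀ g, (π (β g)).toAdd = b (π g).toAdd) (hz : ∀ g, (π (ζ g)).toAdd = z (π g).toAdd) (c : Commute b z) (zp : z ^ p = 1)
    (fz : ∀ m, z m = m → m = 0) : ∃ i, (b ^ p ^ j * z ^ i - 1) * (b ^ p ^ j - 1) = 0 := by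
  have pw : ∀ (β : MulAut Q) (b : End ℤ M), (∀ g, (π (β g)).toAdd = b (π g).toAdd) → ∀ i g, (π ((β ^ i) g)).toAdd = (b ^ i) (π g).toAdd :=
    fun β b hb i g => by
      induction i with
      | zero => rfl
      | succ i ih => rw [pow_succ', pow_succ', MulAut.mul_apply, hb, ih]; rfl
  have sj' : ∀ m : M, ∃ g, (π g).toAdd = m := fun m => sj (Multiplicative.ofAdd m)
  set y := b ^ p ^ j with ey
  have hy' : ∀ g, (π ((β ^ p ^ j) g)).toAdd = y (π g).toAdd := pw β b hb _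
  have yp : y ^ p = 1 := LinearMap.ext fun m => by
    obtain ⟨g, rfl⟩ := sj' m
    rw [← pow_mul, ← pow_succ, ← pw β b hb, hβN]; rfl
  have yz : Commute y z := c.pow_left _
  have by' : Commute b y := (Commute.refl b).pow_right _
  have iv : ∀ {a f : End ℤ M}, Commute a f → ∀ m ∈ LinearMap.range (f - 1), a m ∈ LinearMap.range (f - 1) := by
    rintro a f h _ ⟨m, rfl⟩
    exact ⟨a m, (LinearMap.congr_fun (h.sub_right (Commute.one_right a)).eq m).symm⟩
  by_cases h0 : y - 1 = 0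
  · exact ⟨0, by rw [h0, mul_zero]⟩
  obtain ⟨m, hm⟩ : ∃ m, (y - 1) m ≠ 0 := by by_contra! t; exact h0 (LinearMap.ext t)
  obtain ⟨i, u, hu, u0, e⟩ := exfix hp.out hk y z yp zp yz fz _ (iv (Commute.refl y)) (iv yz.symm) _ ⟨m, rfl⟩ hm
  refine ⟨i, ?_⟩
  set w := y * z ^ i
  have hw : ∀ g, (π ((β ^ p ^ j * ζ ^ i) g)).toAdd = w (π g).toAdd := fun g => by rw [MulAut.mul_apply, hy', pw ζ z hz]; rfl
  have hw' : ∀ g h, σ ⁅(β ^ p ^ j * ζ ^ i) g, (β ^ p ^ j * ζ ^ i) h⁆ = σ ⁅g, h⁆ := fun g h => by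
    rw [MulAut.mul_apply, MulAut.mul_apply, hy]
    clear hw e
    induction i with
    | zero => rfl
    | succ i ih => rw [pow_succ', MulAut.mul_apply, MulAut.mul_apply, hζ, ih]
  have wp : w ^ p = 1 := by rw [(yz.pow_right i).mul_pow, yp, ← pow_mul, mul_comm i, pow_mul, zp, one_pow, one_mul]
  have wy : Commute w y := (Commute.refl y).mul_left (yz.symm.pow_left i)
  let pre : Submodule ℤ M → Subgroup Q := fun T => T.toAddSubgroup.toSubgroup.comap π
  have mp : ∀ T g, g ∈ pre T ↔ (π g).toAdd ∈ T := fun _ _ => Iff.rfl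
  have h0' : ∀ g, (π g).toAdd = 0 ↔ g ∈ Sc σ := fun g => hπ g
  have dl : ∀ (d : MulAut Q) (f : End ℤ M), (∀ g, (π (d g)).toAdd = f (π g).toAdd) → ∀ g, (π (g⁻¹ * d g)).toAdd = (f - 1) (π g).toAdd :=
    fun d f h g => by rw [map_mul, map_inv, toAdd_mul, toAdd_inv, h, neg_add_eq_sub]; rfl
  let P : M → M → Prop := fun a b => ∀ g h, (π g).toAdd = a → (π h).toAdd = b → σ g * σ h = σ h * σ g
  have P1 : ∀ {g h}, σ g * σ h = σ h * σ g → P (π g).toAdd (π h).toAdd := fun {g h} e g' h' e1 e2 => by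
    have k : ∀ {g g'}, (π g').toAdd = (π g).toAdd → ∃ c : K, σ g' = c • σ g := fun {g g'} e => by
      obtain ⟨c, hc⟩ := (hπ (g' * g⁻¹)).1 (by rw [map_mul, map_inv, Multiplicative.toAdd.injective e, mul_inv_cancel])
      exact ⟨c, by rw [← smul_one_mul, ← hc, ← map_mul, inv_mul_cancel_right]⟩
    obtain ⟨c, hc⟩ := k e1
    obtain ⟨d, hd⟩ := k e2
    rw [hc, hd, smul_mul_smul_comm, smul_mul_smul_comm, e, mul_comm c]
  have Ps : ∀ {a b}, P a b → P b a := fun h g k e1 e2 => (h k g e2 e1).symm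
  have Pa : ∀ {a b c}, P a b → P a c → P a (b + c) := fun {a b c} h1 h2 => by
    obtain ⟨g, rfl⟩ := sj' a
    obtain ⟨h, rfl⟩ := sj' b
    obtain ⟨k, rfl⟩ := sj' c
    rw [← toAdd_mul, ← map_mul]
    exact P1 (by rw [map_mul, ← mul_assoc, h1 g h rfl rfl, mul_assoc, h2 g k rfl rfl, mul_assoc])
  have Pd : ∀ (d : MulAut Q) (f : End ℤ M), (∀ g, (π (d g)).toAdd = f (π g).toAdd) → (∀ g h, σ ⁅d g, d h⁆ = σ ⁅g, h⁆) →
      ∀ a c, (f - 1) c = 0 → P ((f - 1) a) c := fun d f h1 h2 a c e => by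
    obtain ⟨g, rfl⟩ := sj' a
    obtain ⟨h, rfl⟩ := sj' c
    rw [← dl d f h1] at e ⊢
    exact P1 (perp σ d h2 (fun k => comm_of_sc ((h0' _).1 e) _) g)
  have N1 : ∀ a ∈ LinearMap.range (y - 1), (∀ c ∈ LinearMap.range (y - 1), P a c) → a = 0 := by
    rintro _ ⟨a, rfl⟩ h
    obtain ⟨g, hg⟩ := sj' ((y - 1) a)
    rw [← hg, h0']
    refine sc_of_comm irr fun k => ?_
    obtain ⟨d, -, hd⟩ := dec y hk yp ⊤ (fun _ _ => trivial) (π k).toAdd trivial
    exact Pa (h _ ⟨d, rfl⟩) (Pd _ y hy' hy a _ hd) g k hg (add_sub_cancel _ _).symm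
  have fp : ∀ g ∈ pre (LinearMap.range (y - 1)), g⁻¹ * (β ^ p ^ j) g ∈ Sc σ → g ∈ Sc σ := fun g ⟨a, ha⟩ h => by
    rw [← h0', dl _ y hy'] at h
    have ha : (y - 1) a = (π g).toAdd := ha
    rw [← h0', ← ha]
    exact unip' y hk yp a (ha ▸ h)
  obtain ⟨g, rfl⟩ := sj' u
  have le : pre (LinearMap.range (y - 1) ⊓ LinearMap.ker (w - 1)) ≤ pre (LinearMap.range (y - 1)) := fun _ h => h.1
  have d1 := dimF hQ hZ hZN hβN hs cl (pre (LinearMap.range (y - 1))) (fun g hg => by rw [mp, hb]; exact iv by' _ hg)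
    (fun g hg h => (h0' g).1 (N1 _ hg fun c hc => by obtain ⟨k, rfl⟩ := sj' c; exact P1 (h k hc))) fp ⟨g, hu, fun h => u0 ((h0' g).2 h)⟩
  have d2 := dimF hQ hZ hZN hβN hs cl (pre (LinearMap.range (y - 1) ⊓ LinearMap.ker (w - 1))) (fun g hg => by
      rw [mp, hb]
      refine ⟨iv by' _ hg.1, ?_⟩
      have := LinearMap.congr_fun (((by'.mul_right (c.pow_right i)).sub_right (Commute.one_right b)).eq) (π g).toAdd
      exact this.symm.trans (by rw [Module.End.mul_apply, show (w - 1) (π g).toAdd = 0 from hg.2, map_zero]))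
    (fun g hg h => (h0' g).1 (N1 _ hg.1 fun c hc => by
      obtain ⟨d, hd, e⟩ := dec w hk wp _ (iv wy) c hc
      obtain ⟨k, ek⟩ := sj' (c - (w - 1) d)
      rw [← add_sub_cancel ((w - 1) d) c, ← ek]
      exact Pa (Ps (Pd _ w hw hw' d _ hg.2)) (P1 (h k (by
        rw [mp, ek]; exact ⟨sub_mem hc (iv (wy.sub_left (Commute.one_left y)) _ hd), e⟩)))))
    (fun g hg => fp g hg.1) ⟨g, ⟨hu, LinearMap.mem_ker.2 (sub_eq_zero.2 e)⟩, fun h => u0 ((h0' g).2 h)⟩
  haveI := irr.1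
  obtain ⟨W₁, i1, -, r1⟩ := exists_irr_le (σ.comp (pre (LinearMap.range (y - 1))).subtype) ⊤ top_ne_bot fun _ _ _ => trivial
  obtain ⟨W₂, i2, l2, r2⟩ := exists_irr_le (σ.comp (pre (LinearMap.range (y - 1) ⊓ LinearMap.ker (w - 1))).subtype) W₁
    (Submodule.nontrivial_iff_ne_bot.1 r1.1) fun g => i1 ⟨g, le g.2⟩
  obtain rfl : W₂ = W₁ := Submodule.eq_of_le_of_finrank_eq l2 (by have := d1 _ _ r1; have := d2 _ _ r2; omega)
  refine LinearMap.ext fun a => N1 _ (iv (wy.sub_left (Commute.one_left y)) _ ⟨a, rfl⟩) fun c hc h k e1 e2 => ?_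
  have m1 : h ∈ pre (LinearMap.range (y - 1)) := by rw [mp, e1]; exact iv (wy.sub_left (Commute.one_left y)) _ ⟨a, rfl⟩
  have m2 : k ∈ pre (LinearMap.range (y - 1)) := by rwa [mp, e2]
  obtain ⟨t, ht⟩ := r2.schur (A := sub _ _ i1 ⟨h, m1⟩) fun g v => Subtype.ext
    (LinearMap.congr_fun (Pd _ w hw hw' ((y - 1) a) _ g.2.2 h g e1 rfl) v)
  obtain ⟨s, hs⟩ := cl h k
  haveI := r1.1
  obtain ⟨v, hv⟩ := exists_ne (0 : W₂)
  have e : σ h * σ k = s • (σ k * σ h) := by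
    rw [← smul_one_mul, ← hs]; simp only [← map_mul, commutatorElement_def]; congr 1; group
  have e' : sub _ _ i1 (⟨k, m2⟩ * ⟨h, m1⟩) v = s • sub _ _ i1 (⟨k, m2⟩ * ⟨h, m1⟩) v := by
    conv_lhs => rw [map_mul, ht, mul_smul_comm, mul_one, ← smul_one_mul, ← ht]
    rw [map_mul]
    exact Subtype.ext (LinearMap.congr_fun e v)
  rw [e, smul_left_injective K (fun t => hv (rep_injective _ _ (t.trans (map_zero _).symm))) (e'.symm.trans (one_smul K _).symm), one_smul]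

end Cfsg.Lib.Hall.HX
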