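import Cfsg.Agent.Lib.Hall.HHa

/-! # Exceptional elements (Hall-Higman): `l_p ≤ 2 e_p` -/

set_option autoImplicit false
set_option linter.unusedSectionVars false
set_option linter.style.haveILetI false

namespace Cfsg.Lib.Hall.HX

open Cfsg Cfsg.Lib Cfsg.Lib.HH Cfsg.Lib.Coprime Cfsg.Lib.Core Module Subgroup
open scoped commutatorElement

universe u

section
variable {K : Type*} [Field K] [IsAlgClosed K] {p : ℕ} [hp : Fact p.Prime] [CharP K p] {Q : Type*} [Group Q] [Finite Q]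
  {V : Type*} [AddCommGroup V] [Module K V] [FiniteDimensional K V]

theorem exirr (hQ : ¬ p ∣ Nat.card Q) (ρ : Q →* End K V) {t : Q} (ht : t ∈ center Q) (h : ρ t ≠ 1) :
    ∃ (W : Submodule K V) (hW : ∀ g, ∀ u ∈ W, ρ g u ∈ W), Irr (sub ρ W hW) ∧ sub ρ W hW t ≠ 1 := by
  obtain ⟨W, hW, le, irr⟩ := exists_irr_le ρ (LinearMap.range (ρ t - 1)) (fun e => h (sub_eq_zero.1 (LinearMap.range_eq_bot.1 e))) (by
    rintro g _ ⟨v, rfl⟩
    exact ⟨ρ g v, by simp only [LinearMap.sub_apply, Module.End.one_apply, map_sub, rep_mul_apply, mem_center_iff.1 ht g]⟩)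
  refine ⟨W, hW, irr, fun e => ?_⟩
  haveI := irr.1
  obtain ⟨w, hw⟩ := exists_ne (0 : W)
  obtain ⟨v, hv⟩ := le w.2
  have := unip (ρ t) v (by rw [hv]; exact sub_eq_zero.2 (congrArg Subtype.val (LinearMap.congr_fun e w))) (Nat.card Q)
  rw [← map_pow, pow_card_eq_one', map_one, Module.End.one_apply, left_eq_add, hv, ← Nat.cast_smul_eq_nsmul K, smul_eq_zero,
    CharP.cast_eq_zero_iff K p] at this
  exact this.elim hQ fun t => hw (Subtype.ext t)

theorem ne0 {ρ : Q →* End K V} {W : Submodule K V} {hW : ∀ g, ∀ u ∈ W, ρ g u ∈ W} (irr : Irr (sub ρ W hW)) : W.subtype ≠ 0 := fun e => by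
  haveI := irr.1
  obtain ⟨w, hw⟩ := exists_ne (0 : W)
  exact hw (Subtype.ext (LinearMap.congr_fun e w))

theorem exc_aut {B : Type*} [Group B] [Finite B] (hp2 : p ≠ 2) (hB : IsPGroup p B) (hQ : ¬ p ∣ Nat.card Q) (φ : B →* MulAut Q)
    (ρ : Q →* End K V) (hf : ∀ g, ρ g = 1 → g = 1) (X : B → End K V) (hX : ∀ b g, X b * ρ g = ρ (φ b g) * X b) {n : ℕ}
    (h1 : ∀ b, X b ^ p ^ (n + 1) = 1) (h2 : ∀ b : B, b ^ p ^ (n + 1) = 1) (hr : ∀ b, (X b - 1) ^ (p ^ (n + 1) - 1) = 0)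
    (cl : ∀ g h : Q, ⁅g, h⁆ ∈ center Q) {z : B} (hz : z ∈ closure {c | ∃ a b : B, c = ⁅a ^ p ^ n, b ^ p ^ n⁆})
    (zc : ∀ b, φ b * φ z = φ z * φ b) (zp : φ z ^ p = 1) (zf : ∀ g, φ z g = g → g ∈ center Q) : φ z = 1 := by
  have pos : 0 < p ^ (n + 1) := pow_pos hp.out.pos _
  have cz : ∀ a, ∀ x ∈ center Q, φ a x ∈ center Q := fun a x hx => mem_center_iff.2 fun g => by
    rw [← (φ a).apply_symm_apply g, ← map_mul, ← map_mul, mem_center_iff.1 hx]
  have s1 : ∀ b : B, b ^ p ^ n ∈ (subAut φ _ cz).ker := fun b => MulEquiv.ext fun g => by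
    by_contra t
    haveI := Fintype.ofFinite (center Q)
    have cc : ∀ t : center Q, t ∈ center (center Q) := fun t => mem_center_iff.2 fun g => Subtype.ext (mem_center_iff.1 t.2 g)
    have hZ : ¬ p ∣ Nat.card (center Q) := fun d => hQ (d.trans (card_subgroup_dvd_card _))
    obtain ⟨W, hW, irr, ne⟩ := exirr hZ (ρ.comp (center Q).subtype) (t := g⁻¹ * subAut φ _ cz (b ^ p ^ n) g)
      (cc _) fun e => t (inv_mul_eq_one.1 (Subtype.ext (hf _ e))).symm
    rcases irr.core (card_ne_zero hZ) (tw_sub _ W hW) (ne0 irr) (X := X b) (α := subAut φ _ cz b) (fun g => hX b g) (h1 b)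
      (by rw [← map_pow, h2, map_one]) (fun g _ => irr.scalar_of_center (cc _))
      (fun e => ne (by rw [map_mul, map_pow, e, ← map_mul, inv_mul_cancel, map_one])) (hr b) with t | ⟨_, -, -, -, t, -⟩
    · omega
    · have := irr.finrank_eq_one inferInstance; omega
  have s2 : z ∈ (subAut φ _ cz).ker := (closure_le _).2 (by
    rintro _ ⟨a, b, rfl⟩; exact (Subgroup.commutator_le_left _ ⊤) (commutator_mem_commutator (s1 a) trivial)) hz
  have s3 : ∀ b ∈ (subAut φ _ cz).ker, ∀ g ∈ center Q, φ b g = g := fun b hb g hg => by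
    have := congrArg Subtype.val (DFunLike.congr_fun hb ⟨g, hg⟩); exact this
  by_cases ab : ∀ g h : Q, ⁅g, h⁆ = 1
  · exact MulEquiv.ext fun g => s3 z s2 g (mem_center_iff.2 fun h => commutatorElement_eq_one_iff_mul_comm.1 (ab h g))
  push Not at ab
  obtain ⟨g₀, h₀, n0⟩ := ab
  exfalso
  obtain ⟨W, hW, irr, ne⟩ := exirr hQ ρ (cl g₀ h₀) fun e => n0 (hf _ e)
  set σ := sub ρ W hW
  have cs : center Q ≤ Sc σ := fun g => irr.scalar_of_center
  haveI : (Sc σ).Normal := ⟨fun g hg h => by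
    have := mul_mem (cs (cl h g)) hg
    rwa [commutatorElement_def, inv_mul_cancel_right] at this⟩
  letI : CommGroup (Q ⧸ Sc σ) := { (inferInstance : Group _) with
    mul_comm := by
      rintro ⟨a⟩ ⟨b⟩
      exact QuotientGroup.eq.2 (by convert cs (cl b⁻¹ a⁻¹) using 1; rw [commutatorElement_def]; group) }
  let C : Subgroup B :=
    { carrier := {b | ∀ g, φ b g ∈ Sc σ ↔ g ∈ Sc σ}
      one_mem' := fun g => by simp
      mul_mem' := fun {a b} ha hb g => by rw [map_mul, MulAut.mul_apply, ha, hb]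
      inv_mem' := fun {a} ha g => by rw [← ha]; simp }
  have kc : ∀ b ∈ (subAut φ _ cz).ker, ∀ g h, σ ⁅φ b g, φ b h⁆ = σ ⁅g, h⁆ := fun b hb g h => by
    rw [← map_commutatorElement, s3 b hb _ (cl g h)]
  have cm : ∀ {a b}, σ ⁅a, b⁆ = 1 → σ a * σ b = σ b * σ a := fun {a b} h => by
    rw [← one_mul (σ b * σ a), ← h]; simp only [← map_mul, commutatorElement_def]; congr 1; group
  have si : ∀ g, g ∈ Sc σ ↔ ∀ h, σ ⁅g, h⁆ = 1 := fun g => ⟨fun hg h => by
    rw [commutatorElement_def, map_mul, map_mul, map_mul, comm_of_sc hg, mul_assoc (σ h)]; simp [← map_mul],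
    fun h => sc_of_comm irr fun k => cm (h k)⟩
  have kC : (subAut φ _ cz).ker ≤ C := fun b hb g => by
    rw [si, si, (φ b).surjective.forall]; simp only [kc b hb]
  let ψ := quotAut (φ.comp C.subtype) (Sc σ) fun a g => (a.2 g).2
  let θ : C →* End ℤ (Additive (Q ⧸ Sc σ)) :=
    { toFun a := (MonoidHom.toAdditive (ψ a).toMonoidHom).toIntLinearMap
      map_one' := by ext x; simp
      map_mul' a b := by ext x; simp }
  have hk : p.Coprime (Nat.card (Additive (Q ⧸ Sc σ))) :=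
    (Nat.Prime.coprime_iff_not_dvd hp.out).2 fun d => hQ (d.trans (card_quotient_dvd_card _))
  have hφ : ∀ a b : C, φ a = φ b → θ a = θ b := fun a b e => by
    ext ⟨x⟩; exact congrArg (fun f : MulAut Q => ((f x : Q) : Q ⧸ Sc σ)) e
  have fz : ∀ m, θ ⟨z, kC s2⟩ m = m → m = 0 := by
    rintro ⟨g⟩ e
    obtain ⟨c, c1, c2⟩ := act_exists_fixed_mk (φ := φ) (B := zpowers z) (Sc σ) (fun b hb x => ((zpowers_le.2 (kC s2) hb) x).2)
      (coprime_card_of_isPGroup hp.out (hB.to_subgroup _) ((Nat.Prime.coprime_iff_not_dvd hp.out).2 fun d =>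
        hQ (d.trans (card_subgroup_dvd_card _))).symm) (Or.inl inferInstance) (k := g) fun b hb => by
      have := (mem_actFix_zpowers (φ := ψ) (b := ⟨z, kC s2⟩) (x := (g : Q ⧸ Sc σ))).2 e ⟨b, zpowers_le.2 (kC s2) hb⟩ (by
        obtain ⟨i, rfl⟩ := hb; exact ⟨i, rfl⟩)
      exact this
    exact c2.symm.trans ((QuotientGroup.eq_one_iff _).2 (cs (zf c (c1 z (mem_zpowers z)))))
  have zc' : ∀ a : C, θ a * θ ⟨z, kC s2⟩ = θ ⟨z, kC s2⟩ * θ a := fun a => by
    rw [← map_mul, ← map_mul]; exact hφ _ _ (by simpa using zc a)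
  have key := commq hp2 (hB.to_subgroup C) hk θ {s | ∃ b : B, s.1 = b ^ p ^ n} (by
    rintro s ⟨a, e⟩ t -; exact ⟨t.1 * a * t.1⁻¹, by rw [conj_pow, ← e]; rfl⟩) (by
    rintro s ⟨b, e⟩
    haveI := Fintype.ofFinite Q
    obtain ⟨k, hk', -, -, Z, z1, z2, z3⟩ := irr.orbit (card_ne_zero hQ) (tw_sub _ W hW) (ne0 irr) (hX b) (h1 b)
      (by rw [← map_pow, h2, map_one])
    haveI := irr.1
    obtain ⟨j, rfl⟩ : ∃ j, n = k + j := ⟨n - k, by
      rcases hk'.eq_or_lt with rfl | t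
      · have := z3 _ 0 (hr b) (by rw [pow_zero]; exact one_ne_zero); omega
      · omega⟩
    rw [show k + j + 1 - k = j + 1 by omega] at z1
    have pos : 0 < p ^ (j + 1) := pow_pos hp.out.pos _
    have m : b ^ p ^ k ∈ C := fun g => exists_congr fun c => by
      rw [map_pow]; exact sc_iff z2 (IsUnit.of_pow_eq_one z1 pos.ne') g c
    have e1 : (φ b ^ p ^ k) ^ p ^ j = φ (b ^ p ^ (k + j)) := by rw [← pow_mul, ← pow_add, map_pow]
    obtain ⟨i, hi⟩ := quadR irr hQ (ζ := φ z) z2 z1 (by rw [← pow_mul, ← pow_add, ← add_assoc, ← map_pow, h2, map_one]) (by_contra fun t => by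
        have := z3 _ _ (hr b) t
        rw [Nat.sub_add_cancel pos, ← pow_add, ← add_assoc] at this; omega) (fun g h => cs (cl g h)) (by rw [e1]; exact kc _ (s1 b))
      (kc z s2) (M := Additive (Q ⧸ Sc σ)) (QuotientGroup.mk' _) (QuotientGroup.mk'_surjective _) (fun g => QuotientGroup.eq_one_iff g) hk
      (θ ⟨_, m⟩) (θ ⟨z, kC s2⟩) (fun g => by rw [← map_pow]; rfl) (fun g => rfl) (zc' _)
      (by rw [← map_pow, ← map_one θ]; exact hφ _ _ (by simpa using zp)) fz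
    rw [← map_pow, show (⟨_, m⟩ : C) ^ p ^ j = s from Subtype.ext (by rw [e, coe_pow, ← pow_mul, ← pow_add]), ← map_pow] at hi
    exact ⟨_, fun g => by rw [map_pow]; exact (Commute.pow_right (zc' g) i).eq, hi⟩)
  obtain ⟨z', e1, e2⟩ : z ∈ θ.ker.map C.subtype := (closure_le _).2 (by
    rintro _ ⟨a, b, rfl⟩
    exact ⟨⁅⟨_, kC (s1 a)⟩, ⟨_, kC (s1 b)⟩⁆, key _ ⟨b, rfl⟩ _ ⟨a, rfl⟩, rfl⟩) hz
  obtain rfl : z'.1 = z := e2
  exact ne ((si g₀).1 ((QuotientGroup.eq_one_iff g₀).1 (fz (Additive.ofMul (g₀ : Q ⧸ Sc σ)) (LinearMap.congr_fun e1 _))) h₀)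

end

local notation "𝐍 " H:max => Subgroup.normalizer (H : Set _)
local notation "𝐂 " H:max => Subgroup.centralizer (H : Set _)

variable {G : Type u} [Group G] [Finite G] {p : ℕ} [hp : Fact p.Prime]

theorem exc_closed {K : Type*} [Field K] [IsAlgClosed K] [CharP K p] (hp2 : p ≠ 2) {V : Type*} [AddCommGroup V] [Module K V]
    [FiniteDimensional K V] (ρ : G →* End K V) {L B : Subgroup G} (hL : (Nat.card L).Coprime p) (hf : ∀ g ∈ L, ρ g = 1 → g = 1)
    (hB : IsPGroup p B) (hBL : B ≤ 𝐍 L) {n : ℕ} (hn : ∀ x ∈ B, x ^ p ^ (n + 1) = 1) (hr : ∀ x ∈ B, (ρ x - 1) ^ (p ^ (n + 1) - 1) = 0) :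
    ∀ a ∈ B, ∀ b ∈ B, ⁅a ^ p ^ n, b ^ p ^ n⁆ ∈ 𝐂 L := by
  set N := closure {c | ∃ a b : B, c = ⁅a ^ p ^ n, b ^ p ^ n⁆}
  haveI : N.Normal := ⟨fun x hx g => by
    have : N ≤ N.comap (MulAut.conj g).toMonoidHom := (closure_le _).2 (by
      rintro _ ⟨a, b, rfl⟩
      exact subset_closure ⟨g * a * g⁻¹, g * b * g⁻¹, by
        rw [conj_pow, conj_pow, MulEquiv.coe_toMonoidHom, MulAut.conj_apply, conjugate_commutatorElement]⟩)
    exact this hx⟩
  suffices h : N.map B.subtype ≤ 𝐂 L from fun a ha b hb => h ⟨_, subset_closure ⟨⟨a, ha⟩, ⟨b, hb⟩, rfl⟩, rfl⟩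
  by_contra hy
  obtain ⟨q, Q, hq, hqp, hQ, hQL, hPQ, hA, hmin⟩ := exists_min hB hL hBL hy
  haveI := Fact.mk hq
  have hQp := coprime_of_le hL hQL
  haveI := hQ.isNilpotent
  obtain ⟨-, h4⟩ := min_props inferInstance (map_subtype_le N) (le_normalizer_map_subtype N)  hPQ
    (coprime_card_of_isPGroup hp.out (hB.to_le (map_subtype_le N)) hQp) hA hmin
  have h5 : ∀ R < Q, B ≤ 𝐍 R → ∀ g : Q, g.1 ∈ R → g ∈ center Q := fun R hR hn g hg => mem_center_iff.2 fun k =>
    Subtype.ext (h4 ⟨g.2, le_centralizer_iff.1 (hmin R hR hn) hg⟩ k k.2)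
  set φ := conjAut hPQ
  obtain ⟨⟨_, ⟨z, hz, rfl⟩, zc⟩, z1⟩ := ne_bot_iff_exists_ne_one.1 (inf_centralizer_ne_bot_of_isPGroup ((hB.to_subgroup N).map φ)
    ((hB.to_subgroup ⊤).map φ) ((map_mono le_normalizer_of_normal).trans (le_normalizer_map φ)) fun e => hA (by
      rintro _ ⟨c, hc, rfl⟩ g hg
      have : φ c = 1 := (Subgroup.map_eq_bot_iff _).1 e hc
      exact ((conjAut_eq_iff hPQ c ⟨g, hg⟩).1 (by rw [this]; rfl)).symm))
  replace z1 : φ z ≠ 1 := fun e => z1 (Subtype.ext e)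
  obtain ⟨k, hk⟩ := hB z
  obtain ⟨k, k1, k2⟩ : ∃ k, φ z ^ p ^ k ≠ 1 ∧ φ z ^ p ^ (k + 1) = 1 := by
    by_contra! t
    have : ∀ k, φ z ^ p ^ k ≠ 1 := fun k => by induction k with | zero => simpa | succ k ih => exact t k ih
    exact this k (by rw [← map_pow, hk, map_one])
  have zc' : ∀ b, φ b * φ (z ^ p ^ k) = φ (z ^ p ^ k) * φ b := fun b => by
    rw [map_pow]; exact (Commute.pow_right (zc (φ b) ⟨b, trivial, rfl⟩) _).eq
  rw [← map_pow] at k1
  refine k1 (exc_aut hp2 hB ((Nat.Prime.coprime_iff_not_dvd hp.out).1 hQp.symm) φ (ρ.comp Q.subtype)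
    (fun g e => Subtype.ext (hf g (hQL g.2) e)) (fun b => ρ b) (fun b g => by
      simp only [MonoidHom.comp_apply, coe_subtype, ← map_mul, φ, coe_conjAut]; congr 1; group)
    (fun b => by rw [← map_pow, hn b b.2, map_one]) (fun b => Subtype.ext (hn b b.2)) (fun b => hr b b.2) (fun g h => ?_) (pow_mem hz _) zc'
    (by rw [map_pow, ← pow_mul, ← pow_succ, k2]) fun g hg => ?_)
  · exact h5 ⁅Q, Q⁆ (commutator_lt_of_isPGroup hQ hQ le_normalizer fun e => hA fun x _ g hg => by rw [mem_bot.1 (e.le hg)]; simp) (le_normalizer_commutator hPQ hPQ) _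
      (commutator_mem_commutator g.2 h.2)
  · refine h5 ((actFix φ (zpowers (z ^ p ^ k))).map Q.subtype) ((map_subtype_le _).lt_of_ne fun e => k1 (MulEquiv.ext fun g => ?_)) ?_ g
      ⟨g, mem_actFix_zpowers.2 hg, rfl⟩
    · obtain ⟨g', h, e⟩ := e.ge g.2
      obtain rfl : g' = g := Subtype.ext e
      exact mem_actFix_zpowers.1 h
    · refine fun b hb => mem_normalizer_fintype ?_
      rintro _ ⟨g, h, rfl⟩
      exact ⟨φ ⟨b, hb⟩ g, mem_actFix_zpowers.2 (by rw [← MulAut.mul_apply, ← zc', MulAut.mul_apply, mem_actFix_zpowers.1 h]), rfl⟩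

theorem Std.comm_mem (h : Std p G) (hp2 : p ≠ 2) {n : ℕ} (P : Sylow p G) (hexp : ∀ x ∈ (P : Subgroup G), x ^ p ^ (n + 1) = 1) :
    ∀ a ∈ (P : Subgroup G), ∀ b ∈ (P : Subgroup G), ⁅a ^ p ^ n, b ^ p ^ n⁆ ∈ pCore p G := fun a ha b hb => by
  haveI := Fact.mk h.elem
  set V := pCore p G
  have hk : ∀ g ∈ V, nrep p V g = 1 := fun g hg => nrep_eq_one_iff.2 (le_centralizer_iff_isMulCommutative.2 h.elem.1 hg)
  haveI := pPrimeCore_characteristic p (G ⧸ V)
  have hB := P.isPGroup'.map (QuotientGroup.mk' V)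
  have := exc_closed hp2 ((BG1.extEnd (AlgebraicClosure (ZMod p)) _).toMonoidHom.comp (QuotientGroup.lift V _ hk))
    (coprime_card_pPrimeCore p _) (fun g _ e => by
      obtain ⟨g, rfl⟩ := QuotientGroup.mk_surjective g
      exact (QuotientGroup.eq_one_iff _).2 (h.cent (nrep_eq_one_iff.1 (BG1.extEnd_injective _ _ (e.trans (map_one _).symm))))) hB
    (by rw [normalizer_eq_top]; exact le_top) (n := n) (by rintro _ ⟨x, hx, rfl⟩; rw [← map_pow, hexp x hx, map_one]) (by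
      rintro _ ⟨x, hx, rfl⟩
      have : (nrep p V x - 1) ^ (p ^ (n + 1) - 1) = 0 := by
        rw [sub_one_pow_eq_sum (K := ZMod p) p]
        ext v
        have h1 := mul_pow_eq x v (p ^ (n + 1))
        rw [hexp x hx, mul_one, hexp _ (mul_mem (pCore_le_sylow P v.val_mem) hx)] at h1
        exact BG1.EV.val_eq_one.1 h1.symm
      have := congrArg (BG1.extEnd (AlgebraicClosure (ZMod p)) _) this
      rw [map_pow, map_sub, map_one, map_zero] at this
      exact this) _ (mem_map_of_mem _ ha) _ (mem_map_of_mem _ hb)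
  have t : _ ∈ P.1.map (QuotientGroup.mk' V) ⊓ pPrimeCore p (G ⧸ V) := ⟨by
    rw [← map_pow, ← map_pow, ← map_commutatorElement]
    exact mem_map_of_mem _ (mul_mem (mul_mem (mul_mem (pow_mem ha _) (pow_mem hb _)) (inv_mem (pow_mem ha _))) (inv_mem (pow_mem hb _))), centralizer_pPrimeCore_le_of_isPSolvable hp.out
      (isPSolvable_quotient hp.out h.solv _) pCore_quotient_pCore this⟩
  rwa [inf_eq_bot_of_isPGroup_of_coprime hp.out hB (coprime_card_pPrimeCore p _), mem_bot, ← map_pow, ← map_pow, ← map_commutatorElement,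
    QuotientGroup.mk'_apply, QuotientGroup.eq_one_iff] at t

theorem Std.pow_mem' (h : Std p G) (hp2 : p ≠ 2) {n : ℕ} (P : Sylow p G) (hexp : ∀ x ∈ (P : Subgroup G), x ^ p ^ (n + 1) = 1)
    (hc : ∀ a ∈ (P : Subgroup G), ∀ b ∈ (P : Subgroup G), ⁅a ^ p ^ n, b ^ p ^ n⁆ = 1) {x : G} (hx : x ∈ (P : Subgroup G)) :
    x ^ p ^ n ∈ pCore p G := by
  haveI := Fact.mk h.elem
  by_contra hy
  have pos : 0 < p ^ n := pow_pos hp.out.pos _
  have p3 : 3 ≤ p := by have := hp.out.two_le; omega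
  have e3 : 3 * p ^ n ≤ p ^ (n + 1) := by rw [pow_succ']; gcongr
  rcases h.thmB (by rw [hexp x hx]; exact one_mem _) hy (r := p ^ n + (p ^ n - 1)) (by
    rw [pow_add, sub_one_pow_char (K := ZMod p) p, sub_one_pow_eq_sum (K := ZMod p) p, ← map_pow]
    ext v
    have := hc x hx _ (mul_mem (pCore_le_sylow P v.val_mem) hx)
    rw [mul_pow_eq x v] at this
    rw [Module.End.mul_apply, LinearMap.zero_apply, ← BG1.EV.val_eq_one, nrep_sub_val, ← this, commutatorElement_def]; group)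
    with t | ⟨m, q, k, m1, m2, -, -, -, -, t⟩
  · omega
  · rw [Nat.mul_sub, ← pow_add, Nat.sub_add_cancel m2, mul_one] at t
    have : p ^ (n + 1 - m) ≤ p ^ n := Nat.pow_le_pow_right hp.out.pos (by omega)
    omega

theorem len2 (hp2 : p ≠ 2) (n : ℕ) : ∀ {G : Type u} [Group G] [Finite G], IsPSolvable p G → ∀ P : Sylow p G,
    (∀ x ∈ (P : Subgroup G), x ^ p ^ n = 1) → PLengthLE p (2 * n) G := by
  induction n with
  | zero =>
    intro G _ _ _ P hexp
    have h : (P : Subgroup G) = ⊥ := eq_bot_iff.2 fun x hx => by simpa using hexp x hx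
    have h2 := P.not_dvd_index
    rw [h, index_bot] at h2
    exact pLengthLE_zero_iff.2 ((Nat.Prime.coprime_iff_not_dvd hp.out).2 h2).symm
  | succ n ih =>
    intro G _ _ hG P hexp
    have ex : ∀ {G H : Type u} [Group G] [Group H] (f : G →* H) (P : Subgroup G), (∀ x ∈ P, x ^ p ^ (n + 1) = 1) →
        ∀ x ∈ P.map f, x ^ p ^ (n + 1) = 1 := by
      rintro G H _ _ f P h _ ⟨x, hx, rfl⟩; rw [← map_pow, h x hx, map_one]
    haveI := pPrimePCore_normal p G
    have hf := QuotientGroup.mk'_surjective (pPrimePCore p G)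
    have h1 := isPSolvable_quotient hp.out hG (pPrimePCore p G)
    haveI := pPrimePCore_normal p (G ⧸ pPrimePCore p G)
    have hg := QuotientGroup.mk'_surjective (pPrimePCore p (G ⧸ pPrimePCore p G))
    refine pLengthLE_succ_of_quotient _ le_rfl (pLengthLE_succ_of_quotient _ le_rfl (ih (isPSolvable_quotient hp.out h1 _)
      ((P.mapSurjective hf).mapSurjective hg) ?_))
    rintro _ ⟨y, hy, rfl⟩
    rw [← map_pow, QuotientGroup.mk'_apply, QuotientGroup.eq_one_iff]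
    obtain ⟨H, _, _, f, sf, hH, he⟩ := exists_std hG
    obtain ⟨H', _, _, f', sf', hH', he'⟩ := exists_std h1
    rw [← he', mem_comap, map_pow]
    refine Std.pow_mem' hH' hp2 ((P.mapSurjective hf).mapSurjective sf') (ex _ _ (ex _ _ hexp)) ?_ (mem_map_of_mem f' hy)
    rintro _ ⟨_, ⟨a, ha, rfl⟩, rfl⟩ _ ⟨_, ⟨b, hb, rfl⟩, rfl⟩
    have := Std.comm_mem hH hp2 (P.mapSurjective sf) (ex _ _ hexp) _ (mem_map_of_mem f ha) _ (mem_map_of_mem f hb)
    rw [← map_pow, ← map_pow, ← map_commutatorElement, ← mem_comap, he] at this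
    simp only [← map_pow, ← map_commutatorElement]
    rw [QuotientGroup.mk'_apply, (QuotientGroup.eq_one_iff _).2 this, map_one]

end Cfsg.Lib.Hall.HX
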