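import Cfsg.Agent.Lib.Perm.Sharp2
import Cfsg.Agent.Lib.Small.Simple
import Cfsg.Agent.Lib.Coprime.FrobKernel

/-! 3/2-transitive permutation groups. -/

namespace Cfsg.Lib.Hall

open Subgroup MulAction _root_.Cfsg.Lib.Core
open scoped Pointwise commutatorElement

local notation "𝐂" X:max => centralizer (SetLike.coe (X : Subgroup _))

variable {G Ω : Type*} [Group G] [MulAction G Ω] {m : ℕ}

theorem card_orbit_subgroup (H : Subgroup G) (b : Ω) : Nat.card (orbit H b) = (stabilizer G b).relIndex H := by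
  rw [Nat.card_coe_set_eq, ← index_stabilizer]; rfl

theorem le_stabilizer_of_coprime [Finite G] [Finite Ω] {H S : Subgroup G} (hS : S ≤ H) {B : Set Ω}
    (hB : ∀ s ∈ S, ∀ y ∈ B, s • y ∈ B) (h1 : ∀ y ∈ B, (stabilizer G y).relIndex H = m)
    (h2 : ∀ y ∈ B, H ⊓ stabilizer G y ≤ S) (hc : (Nat.card B).Coprime m) {y : Ω} (hy : y ∈ B) : S ≤ stabilizer G y := by
  have h3 : ∀ y ∈ B, (stabilizer G y).relIndex S * S.relIndex H = m := fun y hy => by
    rw [← h1 y hy, ← inf_relIndex_left H (stabilizer G y), ← relIndex_mul_relIndex _ _ _ (h2 y hy) hS, ← inf_relIndex_left S (stabilizer G y),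
      ← inf_relIndex_right (H ⊓ stabilizer G y), inf_right_comm, inf_eq_right.mpr hS]
  have h4 : (stabilizer G y).relIndex S ∣ Nat.card B := Small.dvd_card_of_orbits (H := S) (· ∈ B) (fun s => hB s s.2)
    fun z hz => by
      rw [card_orbit_subgroup, Nat.eq_of_mul_eq_mul_right (Nat.pos_of_ne_zero FiniteIndex.index_ne_zero)
        ((h3 z hz).trans (h3 y hy).symm)]
  exact relIndex_eq_one.mp (Nat.eq_one_of_dvd_coprimes hc h4 (Dvd.intro _ (h3 y hy)))

/-- two-point stabilisers have index `m` in the point stabilisers -/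
def Half (G Ω : Type*) [Group G] [MulAction G Ω] (m : ℕ) : Prop :=
  ∀ a b : Ω, b ≠ a → (stabilizer G b).relIndex (stabilizer G a) = m

theorem relIndex_stabilizer_smul (g : G) (a b : Ω) :
    (stabilizer G (g • b)).relIndex (stabilizer G (g • a)) = (stabilizer G b).relIndex (stabilizer G a) := by
  rw [stabilizer_smul_eq_stabilizer_map_conj, stabilizer_smul_eq_stabilizer_map_conj, relIndex_map_map_of_injective _ _ (MulAut.conj g).injective]

theorem exists_half [IsPretransitive G Ω] (a : Ω) (h : ∀ b c : Ω, b ≠ a → c ≠ a →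
    (stabilizer G b).relIndex (stabilizer G a) = (stabilizer G c).relIndex (stabilizer G a)) : ∃ m, Half G Ω m := by
  by_cases h1 : ∃ b, b ≠ a
  · obtain ⟨b, hb⟩ := h1
    refine ⟨(stabilizer G b).relIndex (stabilizer G a), fun c d hd => ?_⟩
    obtain ⟨g, rfl⟩ := exists_smul_eq G a c
    rw [← smul_inv_smul g d, relIndex_stabilizer_smul]
    exact h _ b (fun e => hd (by rw [← e, smul_inv_smul])) hb
  · push Not at h1
    exact ⟨0, fun c d hd => absurd ((h1 d).trans (h1 c).symm) hd⟩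

theorem exists_half_of_normal (h2 : IsMultiplyPretransitive G Ω 2) (N : Subgroup G) [hN : N.Normal] [IsPretransitive N Ω]
    (a : Ω) : ∃ m, Half N Ω m := exists_half a fun b c hb hc => by
  obtain ⟨g, h1, h3⟩ := is_two_pretransitive_iff.mp h2 hb.symm hc.symm
  have e : ∀ x : Ω, stabilizer N (g • x) = (stabilizer N x).map (MulAut.conjNormal g).toMonoidHom := fun x => by
    ext y
    rw [mem_map_equiv, mem_stabilizer_iff, mem_stabilizer_iff, Subgroup.smul_def, Subgroup.smul_def, MulAut.conjNormal_symm_apply,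
      mul_smul, mul_smul, inv_smul_eq_iff]
  rw [← h3]
  conv_rhs => rw [← h1]
  rw [e, e]
  exact (relIndex_map_map_of_injective (f := (MulAut.conjNormal g).toMonoidHom) _ _ (MulAut.conjNormal g).injective).symm

namespace Half

variable [Finite G] [Finite Ω] (h : Half G Ω m)
include h

theorem coprime {B : Set Ω} {a : Ω} (ha : a ∈ B) (hB : ∀ s ∈ stabilizer G a, ∀ y ∈ B, s • y ∈ B) : (Nat.card B).Coprime m := by
  have h1 : m ∣ Nat.card ↥(B \ {a}) := Small.dvd_card_of_orbits (H := stabilizer G a) (· ∈ B \ {a})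
    (fun s y hy => ⟨hB s s.2 y hy.1, fun e => hy.2 (smul_left_cancel (s : G) (e.trans s.2.symm))⟩)
    fun z hz => by rw [card_orbit_subgroup, h a z hz.2]
  rw [Nat.card_coe_set_eq] at h1 ⊢
  rw [← Set.ncard_sdiff_singleton_add_one ha]
  obtain ⟨k, hk⟩ := h1
  rw [hk, Nat.coprime_mul_left_add_left]
  exact Nat.coprime_one_left _

omit [Finite Ω] in
theorem eq_of_le {a b c : Ω} (hb : b ≠ a) (hc : c ≠ a) (e : stabilizer G a ⊓ stabilizer G b ≤ stabilizer G c) :
    stabilizer G a ⊓ stabilizer G b = stabilizer G a ⊓ stabilizer G c := by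
  refine eq_of_le_of_card_ge (le_inf inf_le_left e) (Nat.le_of_mul_le_mul_right (le_of_eq ?_)
    (Nat.pos_of_ne_zero (h a b hb ▸ FiniteIndex.index_ne_zero) : 0 < m))
  conv_lhs => rw [← h a c hc, inf_comm, Core.card_inf_mul_relIndex]
  rw [← h a b hb, inf_comm, Core.card_inf_mul_relIndex]

omit [Finite Ω] in
theorem ne_bot [IsPretransitive G Ω] (hF : ∃ a b : Ω, a ≠ b ∧ stabilizer G a ⊓ stabilizer G b ≠ ⊥) {a b : Ω} (hb : b ≠ a) :
    stabilizer G a ⊓ stabilizer G b ≠ ⊥ := fun e => by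
  obtain ⟨c, d, h1, h2⟩ := hF
  obtain ⟨g, rfl⟩ := exists_smul_eq G a c
  have e1 := Core.card_inf_mul_relIndex (stabilizer G b) (stabilizer G a)
  have e2 := Core.card_inf_mul_relIndex (stabilizer G d) (stabilizer G (g • a))
  rw [h _ _ h1.symm, inf_comm, stabilizer_smul_eq_stabilizer_map_conj g a, card_map_of_injective (MulAut.conj g).injective, ← e1, h _ _ hb,
    inf_comm (stabilizer G b), e, ← stabilizer_smul_eq_stabilizer_map_conj, card_bot] at e2
  exact h2 (card_eq_one.mp (Nat.eq_of_mul_eq_mul_right (Nat.pos_of_ne_zero (h a b hb ▸ FiniteIndex.index_ne_zero)) e2))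

variable [FaithfulSMul G Ω] [IsPretransitive G Ω] (hF : ∃ a b : Ω, a ≠ b ∧ stabilizer G a ⊓ stabilizer G b ≠ ⊥)
include hF

theorem preprimitive : IsPreprimitive G Ω := by
  obtain ⟨a, -⟩ := id hF
  refine IsPreprimitive.of_isTrivialBlock_base a fun {B} ha hB => by_contra fun hc => ?_
  simp only [IsTrivialBlock, not_or, Set.not_subsingleton_iff] at hc
  obtain ⟨c, hc1, hc2⟩ := hc.1.exists_ne a
  have h1 : ∀ b ∉ B, ∀ y ∈ B, stabilizer G a ⊓ stabilizer G b ≤ stabilizer G y := fun b hb y hy => by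
    have h2 : ∀ y ∈ B, stabilizer G b ⊓ stabilizer G y ≤ stabilizer G b ⊓ stabilizer G B := fun y hy =>
      inf_le_inf_left _ (hB.stabilizer_le hy)
    exact (inf_comm _ _).le.trans ((h2 a ha).trans (le_stabilizer_of_coprime inf_le_left
      (fun s hs y hy => (show s • B = B from hs.2) ▸ Set.smul_mem_smul_set hy) (fun y hy => h b y fun e => hb (e ▸ hy)) h2
      (h.coprime ha fun s hs y hy => (show s • B = B from hB.stabilizer_le ha hs) ▸ Set.smul_mem_smul_set hy) hy))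
  have h2 : ∀ b ∉ B, stabilizer G a ⊓ stabilizer G b = stabilizer G a ⊓ stabilizer G c := fun b hb =>
    h.eq_of_le (fun e => hb (e ▸ ha)) hc2 (h1 b hb c hc1)
  obtain ⟨b, hb⟩ := (Set.ne_univ_iff_exists_notMem B).mp hc.2
  refine h.ne_bot hF hc2 (eq_bot_iff.mpr fun g hg => eq_of_smul_eq_smul (α := Ω) fun y => ?_)
  rw [one_smul]
  by_cases hy : y ∈ B
  · exact h1 b hb y hy (h2 b hb ▸ hg)
  · exact (h2 y hy ▸ hg : g ∈ stabilizer G a ⊓ stabilizer G y).2

theorem comm_of_regular {N : Subgroup G} [hN : N.Normal] [IsPretransitive N Ω] (hr : ∀ a : Ω, stabilizer N a = ⊥) :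
    IsMulCommutative N := by
  obtain ⟨a, -⟩ := id hF
  have h0 : ∀ x ∈ N, x ≠ 1 → x • a ≠ a := fun x hx h1 e => h1 (Perm.stabilizer_subgroup_eq_bot_iff.mp (hr a) x hx e)
  have h1 : ∀ x ∈ N, ∀ g, g • a = a → (g • x • a = x • a ↔ g * x * g⁻¹ = x) := fun x hx g hg =>
    have e : (g * x * g⁻¹) • a = g • x • a := by rw [mul_smul, mul_smul, inv_smul_eq_iff.mpr hg.symm]
    ⟨fun e1 => Perm.eq_of_smul_eq_of_semiregular (hr a) (hN.conj_mem _ hx g) hx (e.trans e1), fun e1 => by rw [← e, e1]⟩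
  have h2 : ∀ x ∈ N, x ≠ 1 → ∀ n ∈ N, ∀ g, g • a = a → g * x * g⁻¹ = x → g * (n * x * n⁻¹) * g⁻¹ = n * x * n⁻¹ := by
    intro x hx x1 n hn g hg e
    refine (h1 _ (hN.conj_mem _ hx n) g hg).mp (le_stabilizer_of_coprime (H := stabilizer G a) (m := m)
      (S := stabilizer G a ⊓ (N ⊔ centralizer {x})) inf_le_left (B := {y | ∃ n ∈ N, y = (n * x * n⁻¹) • a}) ?_ ?_ ?_ ?_ ⟨n, hn, rfl⟩
      ⟨hg, mem_sup_right (mem_centralizer_singleton_iff.mpr (mul_inv_eq_iff_eq_mul.mp e))⟩)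
    · rintro s ⟨s1, s2⟩ _ ⟨n, hn, rfl⟩
      obtain ⟨u, hu, c, hc, rfl⟩ := mem_sup_of_normal_left.mp s2
      refine ⟨u * c * n * c⁻¹, by simpa [mul_assoc] using mul_mem hu (hN.conj_mem _ hn c), ?_⟩
      conv_lhs => rw [← inv_smul_eq_iff.mpr (show a = (u * c) • a from s1.symm), smul_smul, smul_smul]
      congr 1
      calc _ = u * c * n * c⁻¹ * (c * x * c⁻¹) * (u * c * n * c⁻¹)⁻¹ * u * u⁻¹ := by group
        _ = _ := by rw [mem_centralizer_singleton_iff.mp hc]; group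
    · rintro _ ⟨n, hn, rfl⟩
      exact h a _ (h0 _ (hN.conj_mem _ hx n) (by simpa using x1))
    · rintro _ ⟨n, hn, rfl⟩ s ⟨s1, s2⟩
      have := (h1 _ (hN.conj_mem _ hx n) s s1).mp s2
      refine ⟨s1, ?_⟩
      rw [show s = n * (n⁻¹ * s * n) * n⁻¹ by group]
      refine mul_mem (mul_mem (mem_sup_left hn) (mem_sup_right (mem_centralizer_singleton_iff.mpr ?_))) (mem_sup_left (inv_mem hn))
      calc n⁻¹ * s * n * x = n⁻¹ * (s * (n * x * n⁻¹) * s⁻¹) * s * n := by group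
        _ = _ := by rw [this]; group
    · have : {y | ∃ n ∈ N, y = (n * x * n⁻¹) • a} = (fun z : N => z • a) '' orbit (ConjAct N) (⟨x, hx⟩ : N) := by
        ext y
        exact ⟨fun ⟨n, hn, e⟩ => ⟨_, ⟨ConjAct.toConjAct ⟨n, hn⟩, rfl⟩, e.symm⟩,
          fun ⟨_, ⟨n, rfl⟩, e⟩ => ⟨_, (ConjAct.ofConjAct n).2, e.symm⟩⟩
      rw [this, Nat.card_coe_set_eq, Set.ncard_image_of_injective (f := fun z : N => z • a) _ fun u v e =>
        Subtype.ext (Perm.eq_of_smul_eq_of_semiregular (hr a) u.2 v.2 e), ← index_stabilizer]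
      refine (h.coprime (Set.mem_univ a) fun _ _ _ _ => trivial).coprime_dvd_left ?_
      rw [Nat.card_univ, ← Perm.card_eq_of_regular a (hr a)]
      exact index_dvd_card _
  have h3 : ∀ x ∈ N, ∀ z ∈ N, x ≠ 1 → (∃ g, g • a = a ∧ g * x * g⁻¹ = x ∧ g * z * g⁻¹ ≠ z) → x * z = z * x := by
    rintro x hx z hz x1 ⟨g, g1, g2, g3⟩
    by_contra hc
    have z1 : z ≠ 1 := fun e => hc (by simp [e])
    have c0 : x * z * x⁻¹ * z⁻¹ ∈ N := mul_mem (hN.conj_mem _ hz x) (inv_mem hz)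
    have c1 : x * z * x⁻¹ * z⁻¹ ≠ 1 := fun e => hc (by rwa [mul_inv_eq_one, mul_inv_eq_iff_eq_mul] at e)
    have e1 := h.eq_of_le (h0 x hx x1) (h0 _ c0 c1) fun s hs => (h1 _ c0 s hs.1).mpr (by
      have a1 := (h1 x hx s hs.1).mp hs.2
      have a2 := h2 x hx x1 z hz s hs.1 a1
      calc _ = (s * x * s⁻¹) * (s * (z * x * z⁻¹) * s⁻¹)⁻¹ := by group
        _ = _ := by rw [a1, a2]; group)
    have e2 := h.eq_of_le (h0 z hz z1) (h0 _ c0 c1) fun s hs => (h1 _ c0 s hs.1).mpr (by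
      have a1 := (h1 z hz s hs.1).mp hs.2
      have a2 := h2 z hz z1 x hx s hs.1 a1
      calc _ = (s * (x * z * x⁻¹) * s⁻¹) * (s * z * s⁻¹)⁻¹ := by group
        _ = _ := by rw [a1, a2])
    have : g ∈ stabilizer G a ⊓ stabilizer G (z • a) := e2 ▸ e1 ▸ ⟨g1, (h1 x hx g g1).mpr g2⟩
    exact g3 ((h1 z hz g g1).mp this.2)
  refine ⟨⟨fun ⟨x, hx⟩ ⟨y, hy⟩ => Subtype.ext (by_contra fun hc => ?_)⟩⟩
  have x1 : x ≠ 1 := fun e => hc (by simp [e])
  obtain ⟨⟨g, g1, g2⟩, hg⟩ := ne_bot_iff_exists_ne_one.mp (h.ne_bot hF (h0 x hx x1))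
  have g3 := (h1 x hx g g1).mp g2
  obtain ⟨z, hz, e⟩ : ∃ z ∈ N, g * z * g⁻¹ ≠ z := by
    by_contra hc
    push Not at hc
    refine hg (Subtype.ext (eq_of_smul_eq_smul (α := Ω) fun y => ?_))
    obtain ⟨⟨z, hz⟩, rfl⟩ := exists_smul_eq N a y
    exact ((h1 z hz g g1).mpr (hc z hz)).trans (one_smul _ _).symm
  have e1 : g * y * g⁻¹ = y := by_contra fun e1 => hc (h3 x hx y hy x1 ⟨g, g1, g3, e1⟩)
  have e2 := h3 x hx z hz x1 ⟨g, g1, g3, e⟩
  have e3 := h3 x hx _ (mul_mem hy hz) x1 ⟨g, g1, g3, fun e3 => e (mul_left_cancel (a := y) (by rw [← e3, ← conj_mul, e1]))⟩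
  exact hc (mul_right_cancel (b := z) (by show x * y * z = y * x * z; rw [mul_assoc, e3, mul_assoc, mul_assoc, e2]))

theorem le_of_regular {N : Subgroup G} [hN : N.Normal] [IsPretransitive N Ω] (hr : ∀ a : Ω, stabilizer N a = ⊥)
    (M : Subgroup G) [M.Normal] (hM : M ≠ ⊥) : N ≤ M := by
  haveI := h.preprimitive hF
  obtain ⟨a, -⟩ := id hF
  by_cases h1 : M ⊓ N = ⊥
  · refine absurd (eq_bot_iff.mpr fun x hx => ?_) hM
    obtain ⟨⟨n, hn⟩, e⟩ := exists_smul_eq N a (x • a)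
    have : x = n := eq_of_smul_eq_smul (α := Ω) fun y => by
      obtain ⟨⟨z, hz⟩, rfl⟩ := exists_smul_eq N a y
      show x • z • a = n • z • a
      rw [smul_smul, (commute_of_normal_of_disjoint M N inferInstance hN (disjoint_iff.mpr h1) x z hx hz).eq, mul_smul, ← e, smul_smul n,
        show n * z = z * n from congrArg Subtype.val ((h.comm_of_regular hF hr).is_comm.comm ⟨n, hn⟩ ⟨z, hz⟩), mul_smul]
      rfl
    exact h1 ▸ ⟨hx, this ▸ hn⟩
  · intro n hn
    obtain ⟨⟨x, hx⟩, e⟩ := (Perm.isPretransitive_of_normal (α := Ω) _ h1).exists_smul_eq a (n • a)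
    exact Perm.eq_of_smul_eq_of_semiregular (hr a) hx.2 hn e ▸ hx.1

end Half

theorem stabilizer_eq_bot_of_one [IsPretransitive G Ω] {a : Ω} (h : stabilizer G a = ⊥) (b : Ω) : stabilizer G b = ⊥ := by
  obtain ⟨g, rfl⟩ := exists_smul_eq G a b
  rw [stabilizer_smul_eq_stabilizer_map_conj, h, Subgroup.map_bot]

theorem semiregular_of_commute [FaithfulSMul G Ω] {M K : Subgroup G} [IsPretransitive K Ω] (h : ∀ x ∈ M, ∀ y ∈ K, x * y = y * x)
    (a : Ω) : stabilizer M a = ⊥ := Perm.stabilizer_subgroup_eq_bot_iff.mpr fun x hx e => eq_of_smul_eq_smul (α := Ω) fun b => by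
  obtain ⟨⟨y, hy⟩, rfl⟩ := exists_smul_eq K a b
  show x • y • a = (1 : G) • y • a
  rw [one_smul, smul_smul, h x hx y hy, mul_smul, e]

theorem exists_kernel_of_frob [Finite G] [Nontrivial Ω] (N : Subgroup G) [hN : N.Normal] [IsPretransitive N Ω]
    (h : ∀ a b : Ω, a ≠ b → stabilizer N a ⊓ stabilizer N b = ⊥) :
    ∃ K : Subgroup G, K.Normal ∧ K ≤ N ∧ IsPretransitive K Ω ∧ ∀ a : Ω, stabilizer K a = ⊥ := by
  obtain ⟨a, b, hab⟩ := exists_pair_ne Ω
  by_cases h1 : stabilizer N a = ⊥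
  · exact ⟨N, hN, le_rfl, inferInstance, stabilizer_eq_bot_of_one h1⟩
  have e : ∀ g : N, MulAut.conj g • stabilizer N a = stabilizer N (g • a) := fun g =>
    (stabilizer_smul_eq_stabilizer_map_conj g a).symm
  obtain ⟨K, k1, k2, -, -, -, k3⟩ := Coprime.exists_frobKernel (H := stabilizer N a) ⟨h1, fun e => by
    obtain ⟨g, rfl⟩ := exists_smul_eq N a b
    exact hab (show g ∈ stabilizer N a from e ▸ mem_top g).symm, fun g hg => by rw [e]; exact h _ _ fun e => hg e.symm⟩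
  have k4 : ∀ x : N, x ∈ K ↔ x = 1 ∨ ∀ c : Ω, (x : G) • c ≠ c := fun x => by
    rw [← SetLike.mem_coe, k1]
    refine or_congr Iff.rfl ⟨fun H c => ?_, fun H g => by rw [e]; exact H _⟩
    obtain ⟨g, rfl⟩ := exists_smul_eq N a c
    have := H g
    rwa [e] at this
  refine ⟨K.map N.subtype, ⟨?_⟩, map_subtype_le _, Perm.isPretransitive_subgroup_iff.mpr fun c d => ?_, fun c =>
    Perm.stabilizer_subgroup_eq_bot_iff.mpr ?_⟩
  · rintro _ ⟨x, hx, rfl⟩ g
    refine ⟨⟨_, hN.conj_mem _ x.2 g⟩, (k4 _).mpr (((k4 x).mp hx).imp (fun e => by simp [e]) fun H c e => H (g⁻¹ • c) ?_), rfl⟩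
    rw [eq_inv_smul_iff, smul_smul, smul_smul]; exact e
  · have : ∀ c : Ω, ∃ x ∈ K, x • a = c := fun c => by
      obtain ⟨g, rfl⟩ := exists_smul_eq N a c
      obtain ⟨x, hx, y, hy, rfl⟩ := mem_sup_of_normal_left.mp (k3 ▸ mem_top g : g ∈ K ⊔ stabilizer N a)
      exact ⟨x, hx, by rw [mul_smul, show y • a = a from hy]⟩
    obtain ⟨x, hx, rfl⟩ := this c
    obtain ⟨y, hy, rfl⟩ := this d
    exact ⟨_, ⟨y * x⁻¹, mul_mem hy (inv_mem hx), rfl⟩, by show (y * x⁻¹) • x • a = _; rw [mul_smul, inv_smul_smul]⟩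
  · rintro _ ⟨x, hx, rfl⟩ e
    exact ((k4 x).mp hx).elim (fun e => by simp [e]) fun H => absurd e (H c)

/-- A normal subgroup of a doubly transitive group contains a regular normal subgroup or is primitive and not Frobenius. -/
theorem normal_of_two [Finite G] [Finite Ω] [FaithfulSMul G Ω] (h2 : IsMultiplyPretransitive G Ω 2) (N : Subgroup G) [N.Normal]
    (hN : N ≠ ⊥) : (∃ K : Subgroup G, K.Normal ∧ K ≤ N ∧ IsPretransitive K Ω ∧ ∀ a : Ω, stabilizer K a = ⊥) ∨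
      ∃ m, Half N Ω m ∧ ∃ a b : Ω, a ≠ b ∧ stabilizer N a ⊓ stabilizer N b ≠ ⊥ := by
  haveI := isPreprimitive_of_is_two_pretransitive h2
  haveI := Perm.isPretransitive_of_normal (α := Ω) N hN
  haveI : Nontrivial Ω := not_subsingleton_iff_nontrivial.mp fun _ =>
    hN (eq_bot_iff.mpr fun x _ => eq_of_smul_eq_smul (α := Ω) fun _ => Subsingleton.elim _ _)
  by_cases hF : ∃ a b : Ω, a ≠ b ∧ stabilizer N a ⊓ stabilizer N b ≠ ⊥
  · obtain ⟨m, hm⟩ := exists_half_of_normal h2 N (Classical.arbitrary Ω)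
    exact Or.inr ⟨m, hm, hF⟩
  · push Not at hF
    exact Or.inl (exists_kernel_of_frob N hF)

theorem burnside_two [Finite G] [Finite Ω] [FaithfulSMul G Ω] (h2 : IsMultiplyPretransitive G Ω 2) (N : Subgroup G) [hN : N.Normal]
    (h0 : N ≠ ⊥) (hmin : ∀ M : Subgroup G, M.Normal → M ≤ N → M = ⊥ ∨ M = N) :
    (∀ a : Ω, stabilizer N a = ⊥) ∨ (IsSimpleGroup N ∧ IsPreprimitive N Ω) := by
  haveI := isPreprimitive_of_is_two_pretransitive h2
  haveI := Perm.isPretransitive_of_normal (α := Ω) N h0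
  rcases normal_of_two h2 N h0 with ⟨K, k1, k2, k3, k4⟩ | ⟨m, h, hF⟩
  · rcases hmin K k1 k2 with rfl | rfl
    · refine absurd (eq_bot_iff.mpr fun x _ => eq_of_smul_eq_smul (α := Ω) fun a => ?_) h0
      obtain ⟨⟨y, hy⟩, e⟩ := k3.exists_smul_eq ((1 : G) • a) (x • a)
      rw [← e, Subgroup.mk_smul, mem_bot.mp hy, one_smul]
    · exact Or.inl k4
  haveI := h.preprimitive hF
  haveI := (nontrivial_iff_ne_bot N).mpr h0
  refine Or.inr ⟨⟨fun L _ => or_iff_not_imp_left.mpr fun hL => ?_⟩, inferInstance⟩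
  obtain ⟨M, _, m1, m2, m3⟩ := exists_minimal_normal_le L hL
  have e : ∀ g : G, M.map (MulAut.conjNormal g).toMonoidHom = M := fun g => by
    haveI : (M.map (MulAut.conjNormal g).toMonoidHom).Normal := Normal.map inferInstance _ (MulAut.conjNormal g).surjective
    have m4 : M.map (MulAut.conjNormal g).toMonoidHom ≠ ⊥ := fun e => m1 ((map_eq_bot_iff_of_injective _ (MulAut.conjNormal g).injective).mp e)
    haveI := Perm.isPretransitive_of_normal (α := Ω) _ m4
    haveI := Perm.isPretransitive_of_normal (α := Ω) _ m1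
    have : M ≤ M.map (MulAut.conjNormal g).toMonoidHom := (m3 (M ⊓ M.map (MulAut.conjNormal g).toMonoidHom) inferInstance inf_le_left).elim
      (fun e => h.le_of_regular hF (semiregular_of_commute fun x hx y hy =>
        (commute_of_normal_of_disjoint _ _ inferInstance inferInstance (disjoint_iff.mpr e) x y hx hy).eq) _ m4) inf_eq_left.mp
    exact (eq_of_le_of_card_ge this (card_map_of_injective (MulAut.conjNormal g).injective).le).symm
  rcases hmin (M.map N.subtype) ⟨by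
    rintro _ ⟨x, hx, rfl⟩ g
    exact ⟨_, (e g).le ⟨x, hx, rfl⟩, rfl⟩⟩ (map_subtype_le _) with e | e
  · exact absurd ((map_eq_bot_iff_of_injective _ N.subtype_injective).mp e) m1
  · exact eq_top_iff.mpr fun x _ => m2 (by
      obtain ⟨y, hy, e⟩ : (x : G) ∈ M.map N.subtype := e.symm ▸ x.2
      exact (Subtype.ext e : y = x) ▸ hy)

end Cfsg.Lib.Hall
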