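import Cfsg.Agent.Lib.Hall.MTrans

/-! Homogeneous permutation groups: basics. -/

namespace Cfsg.Lib.Hall

open Subgroup MulAction SubMulAction _root_.Cfsg.Lib.Core
open scoped Pointwise commutatorElement

variable {G Ω : Type*} [Group G] [MulAction G Ω] [DecidableEq Ω] {k : ℕ}

theorem hom_iff : IsPretransitive G (Set.powersetCard Ω k) ↔ ∀ s t : Finset Ω, s.card = k → t.card = k → ∃ g : G, g • s = t :=
  ⟨fun h s t hs ht => (h.exists_smul_eq ⟨s, hs⟩ ⟨t, ht⟩).imp fun _ => congrArg Subtype.val,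
    fun h => ⟨fun s t => (h s t s.2 t.2).imp fun _ => Subtype.ext⟩⟩

theorem choose_mul_card [Finite Ω] (h : IsPretransitive G (Set.powersetCard Ω k)) {s : Finset Ω} (hs : s.card = k) :
    Nat.card G = (Nat.card Ω).choose k * Nat.card (stabilizer G s) := by
  rw [Perm.card_eq_mul_of_transitive (G := G) (⟨s, hs⟩ : Set.powersetCard Ω k), Set.powersetCard.card,
    show stabilizer G (⟨s, hs⟩ : Set.powersetCard Ω k) = stabilizer G s from Subgroup.ext fun g => Subtype.ext_iff]

theorem hom_two (h : IsPretransitive G (Set.powersetCard Ω 2)) {a b c d : Ω} (hab : a ≠ b) (hcd : c ≠ d) :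
    ∃ g : G, (g • a = c ∧ g • b = d) ∨ (g • a = d ∧ g • b = c) :=
  (hom_iff.mp h {a, b} {c, d} (Finset.card_pair hab) (Finset.card_pair hcd)).imp fun g e => by
    rw [← Finset.coe_inj, Finset.coe_smul_finset, Finset.coe_pair, Finset.coe_pair, Set.smul_set_insert, Set.smul_set_singleton] at e
    exact Set.pair_eq_pair_iff.mp e

end Cfsg.Lib.Hall
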