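import Cfsg.Agent.Lib.Hall.Homog

/-! Homogeneous permutation groups: Wielandt's lemma and induced permutation groups. -/

namespace Cfsg.Lib.Hall

open Subgroup MulAction SubMulAction _root_.Cfsg.Lib.Core
open scoped Pointwise commutatorElement

theorem coprime_choose {p a k : ℕ} (hp : p.Prime) (h : p ^ a ∣ k) : (p ^ a).Coprime ((k + (p ^ a - 1)).choose (p ^ a - 1)) := by
  refine Nat.Coprime.pow_left _ (hp.coprime_iff_not_dvd.mpr fun h1 => hp.one_lt.ne' (Nat.dvd_one.mp ?_))
  rw [Nat.add_choose_eq, ← Finset.add_sum_erase _ _ (a := (0, p ^ a - 1)) (by simp)] at h1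
  simpa using (Nat.dvd_add_left (Finset.dvd_sum fun ⟨i, j⟩ hi => by
    simp only [Finset.mem_erase, Finset.HasAntidiagonal.mem_antidiagonal] at hi
    refine Dvd.dvd.mul_right (by_contra fun h2 => ?_) _
    obtain ⟨i, rfl⟩ : ∃ l, i = l + 1 := ⟨i - 1, by have : i ≠ 0 := fun e => hi.1 (by simpa [e] using hi.2); omega⟩
    rcases k with _ | k
    · simp at h2
    have h3 := h.mul_right (k.choose i)
    rw [Nat.add_one_mul_choose_eq] at h3
    have := Nat.le_of_dvd i.succ_pos ((Nat.Coprime.pow_left _ (hp.coprime_iff_not_dvd.mpr h2)).dvd_of_dvd_mul_left h3)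
    have := Nat.pow_pos (n := a) hp.pos
    omega)).mp h1

variable {G Ω ι : Type*} [Group G] [MulAction G Ω] {k : ℕ}

theorem hom_pred [DecidableEq Ω] [Fintype Ω] (hk : 1 ≤ k) (hG : IsPretransitive G (Set.powersetCard Ω (k + 1)))
    (hq : ∀ q : ℕ, IsPrimePow q → q ∣ k + 1 → k + q ≤ Fintype.card Ω) : IsPretransitive G (Set.powersetCard Ω k) := by
  classical
  have hn : k + 1 ≤ Fintype.card Ω := by
    have := hq _ (Nat.minFac_prime (n := k + 1) (by omega)).isPrimePow (Nat.minFac_dvd _)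
    have := Nat.minFac_pos (k + 1)
    omega
  refine hom_iff.mpr fun s t hs ht => ?_
  let d : Finset Ω → ℕ := fun B => ((B.powersetCard k).filter (· ∈ orbit G s)).card
  have d1 : ∀ (g : G) B, d B ≤ d (g • B) := fun g B => Finset.card_le_card_of_injOn (g • ·) (fun A hA => by
    simp only [Finset.coe_filter, Finset.mem_powersetCard, Set.mem_ofPred_eq] at hA ⊢
    exact ⟨⟨Finset.smul_finset_subset_smul_finset hA.1.1, by rw [Finset.card_smul_finset, hA.1.2]⟩, mapsTo_smul_orbit g s hA.2⟩)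
    (MulAction.injective g).injOn
  have d2 : ∀ B C : Finset Ω, B.card = k + 1 → C.card = k + 1 → d B = d C := fun B C hB hC => by
    obtain ⟨g, rfl⟩ := hom_iff.mp hG B C hB hC
    exact (d1 g B).antisymm (by simpa using d1 g⁻¹ (g • B))
  obtain ⟨B, b1, -, b2⟩ := Finset.exists_subsuperset_card_eq (n := k + 1) s.subset_univ (by omega) hn
  obtain ⟨C, c1, -, c2⟩ := Finset.exists_subsuperset_card_eq (n := k + 1) t.subset_univ (by omega) hn
  have d3 : k + 1 ∣ d C := (Nat.dvd_iff_prime_pow_dvd_dvd _ _).mpr fun p a hp h => by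
    rcases a.eq_zero_or_pos with rfl | ha
    · simp
    have h0 := Nat.pow_pos (n := a) hp.pos
    obtain ⟨D, -, hD⟩ := Finset.exists_subset_card_eq (s := Finset.univ) (hq _ (hp.isPrimePow.pow ha.ne') h)
    have := Finset.card_mul_eq_card_mul (s := (D.powersetCard k).filter (· ∈ orbit G s)) (t := D.powersetCard (k + 1)) (· ⊆ ·)
      (m := p ^ a) (n := d C) (fun A hA => by
        rw [Finset.mem_filter, Finset.mem_powersetCard] at hA
        rw [Finset.bipartiteAbove, Finset.card_filter_powersetCard_subset _ _ _ hA.1.1 (by omega), hD, hA.1.2]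
        simp) fun E hE => by
        rw [Finset.mem_powersetCard] at hE
        rw [← d2 E C hE.2 c2, Finset.bipartiteBelow]
        congr 1
        ext A
        simp only [Finset.mem_filter, Finset.mem_powersetCard]
        exact ⟨fun h => ⟨⟨h.2, h.1.1.2⟩, h.1.2⟩, fun h => ⟨⟨⟨h.1.1.trans hE.1, h.1.2⟩, h.2⟩, h.1.1⟩⟩
    rw [Finset.card_powersetCard, hD, show k + p ^ a = k + 1 + (p ^ a - 1) by omega, Nat.choose_symm_add] at this
    exact (coprime_choose hp h).dvd_of_dvd_mul_left (this ▸ Dvd.intro_left _ rfl)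
  have d4 := Nat.le_of_dvd (d2 B C b2 c2 ▸ Finset.card_pos.mpr ⟨s, by simp [b1, hs]⟩) d3
  have d5 := Finset.eq_of_subset_of_card_le (Finset.filter_subset (· ∈ orbit G s) (C.powersetCard k))
    (by rw [Finset.card_powersetCard, c2, Nat.choose_succ_self_right]; exact d4)
  exact (Finset.mem_filter.mp (d5.ge (Finset.mem_powersetCard.mpr ⟨c1, ht⟩))).2

variable (G) in
/-- the permutations of the entries of `x` that are induced by `G` -/
def ind (x : ι → Ω) : Subgroup (Equiv.Perm ι) where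
  carrier := {π | ∃ g : G, ∀ i, g • x i = x (π i)}
  one_mem' := ⟨1, fun _ => one_smul _ _⟩
  mul_mem' := fun ⟨g, hg⟩ ⟨h, hh⟩ => ⟨g * h, fun i => by rw [mul_smul, hh, hg]; rfl⟩
  inv_mem' := fun ⟨g, hg⟩ => ⟨g⁻¹, fun i => by rw [inv_smul_eq_iff, hg]; simp⟩

theorem mem_ind {x : ι → Ω} {π : Equiv.Perm ι} : π ∈ ind G x ↔ ∃ g : G, ∀ i, g • x i = x (π i) := Iff.rfl

theorem mem_ind_of {κ : Type*} {x : ι → Ω} {y : κ → Ω} {g : G} {e : κ ≃ ι} (h : ∀ i, g • y i = x (e i)) {π : Equiv.Perm κ}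
    (hπ : e.permCongr π ∈ ind G x) : π ∈ ind G y := by
  obtain ⟨u, hu⟩ := hπ
  exact ⟨g⁻¹ * u * g, fun i => by rw [mul_smul, mul_smul, h, hu, inv_smul_eq_iff, h]; simp⟩

theorem alt_le_ind_of {κ : Type*} [Fintype ι] [DecidableEq ι] [Fintype κ] [DecidableEq κ] {x : ι → Ω} {y : κ → Ω} {g : G} {e : κ ≃ ι}
    (h : ∀ i, g • y i = x (e i)) (hx : alternatingGroup ι ≤ ind G x) : alternatingGroup κ ≤ ind G y := fun π hπ =>
  mem_ind_of h (hx (by rwa [Equiv.Perm.mem_alternatingGroup, Equiv.Perm.sign_permCongr]))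

theorem exists_equiv_of_hom [DecidableEq Ω] [Fintype ι] {κ : Type*} [Fintype κ] (h : IsPretransitive G (Set.powersetCard Ω k))
    {x : ι → Ω} {y : κ → Ω} (hx : Function.Injective x) (hy : Function.Injective y) (hι : Fintype.card ι = k) (hκ : Fintype.card κ = k) :
    ∃ (g : G) (e : κ ≃ ι), ∀ i, g • y i = x (e i) := by
  obtain ⟨g, hg⟩ := hom_iff.mp h (Finset.univ.image y) (Finset.univ.image x) (by rw [Finset.card_image_of_injective _ hy]; exact hκ)
    (by rw [Finset.card_image_of_injective _ hx]; exact hι)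
  choose f hf using fun i => Finset.mem_image.mp (hg ▸ Finset.smul_mem_smul_finset (Finset.mem_image_of_mem y (Finset.mem_univ i)))
  exact ⟨g, Equiv.ofBijective f ((Fintype.bijective_iff_injective_and_card f).mpr ⟨fun i j e =>
    hy (smul_left_cancel g (by rw [← (hf i).2, ← (hf j).2, e])), hκ.trans hι.symm⟩), fun i => (hf i).2.symm⟩

theorem mt_of_ind_eq_top [DecidableEq Ω] [Fintype ι] (h : IsPretransitive G (Set.powersetCard Ω k)) {x : ι → Ω}
    (hx : Function.Injective x) (hι : Fintype.card ι = k) (ht : ind G x = ⊤) : IsMultiplyPretransitive G Ω k :=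
  Perm.mt_iff.mpr fun y z hy hz => by
    obtain ⟨g, e, h1⟩ := exists_equiv_of_hom h hx hy hι (Fintype.card_fin k)
    obtain ⟨g', e', h2⟩ := exists_equiv_of_hom h hx hz hι (Fintype.card_fin k)
    obtain ⟨u, hu⟩ : e.symm.trans e' ∈ ind G x := ht ▸ mem_top _
    exact ⟨g'⁻¹ * u * g, fun i => by rw [mul_smul, mul_smul, h1, hu, inv_smul_eq_iff, h2]; simp⟩

theorem ind_eq_top_of_mt [Fintype ι] (h : IsMultiplyPretransitive G Ω k) {x : ι → Ω} (hx : Function.Injective x)
    (hι : Fintype.card ι = k) : ind G x = ⊤ :=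
  eq_top_iff.mpr fun π _ => Perm.exists_smul_of_mt h hι x (x ∘ π) hx (hx.comp π.injective)

theorem ind_eq_top_of_swap [Fintype ι] [DecidableEq ι] {x : ι → Ω} (h : ∀ i j, i ≠ j → Equiv.swap i j ∈ ind G x) : ind G x = ⊤ :=
  eq_top_iff.mpr fun π _ => Equiv.Perm.swap_induction_on π (one_mem _) fun _ i j hij hf => mul_mem (h i j hij) hf

theorem eq_top_of_alt_le [Fintype ι] [DecidableEq ι] {H : Subgroup (Equiv.Perm ι)} (h : alternatingGroup ι ≤ H) {π : Equiv.Perm ι}
    (h1 : π ∈ H) (h2 : Equiv.Perm.sign π = -1) : H = ⊤ := eq_top_iff.mpr fun σ _ => by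
  rcases Int.units_eq_one_or (Equiv.Perm.sign σ) with e | e
  · exact h e
  · simpa using mul_mem h1 (h (x := π⁻¹ * σ) (by simp [Equiv.Perm.mem_alternatingGroup, h2, e]))

theorem isPGroup_ind {p : ℕ} (h : IsPGroup p G) {x : ι → Ω} (hx : Function.Injective x) : IsPGroup p (ind G x) := by
  rintro ⟨π, g, hg⟩
  obtain ⟨k, hk⟩ := h g
  have : ∀ n i, g ^ n • x i = x ((π ^ n) i) := fun n => by
    induction n with
    | zero => simp
    | succ n ih => exact fun i => by rw [pow_succ, mul_smul, hg, ih, pow_succ]; rfl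
  exact ⟨k, Subtype.ext (Equiv.ext fun i => hx ((this _ i).symm.trans (by rw [hk, one_smul]; rfl)))⟩

end Cfsg.Lib.Hall
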