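import Cfsg.Agent.Lib.Hall.Homog2
import Cfsg.Agent.Lib.Hall.FC1
import Cfsg.Agent.Lib.BG1.Sec1

/-! Quadruply transitive groups whose four-point stabilisers have odd order. -/

namespace Cfsg.Lib.Hall

open Subgroup MulAction SubMulAction _root_.Cfsg.Lib.Core
open scoped Pointwise commutatorElement

variable {G Ω : Type*} [Group G] [MulAction G Ω] {a b c d a' b' c' d' : Ω} {g s t : G}

/-- four distinct points -/
def D4 (a b c d : Ω) : Prop := a ≠ b ∧ a ≠ c ∧ a ≠ d ∧ b ≠ c ∧ b ≠ d ∧ c ≠ d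

theorem D4.inj (h : D4 a b c d) : Function.Injective ![a, b, c, d] :=
  Perm.inj_four h.1 h.2.1 h.2.2.1 h.2.2.2.1 h.2.2.2.2.1 h.2.2.2.2.2

theorem exists_notMem_list [Finite Ω] (l : List Ω) (h : l.length < Nat.card Ω) : ∃ p, p ∉ l := by
  classical
  haveI := Fintype.ofFinite Ω
  obtain ⟨p, hp⟩ := Finset.exists_mem_notMem_of_card_lt_card (s := l.toFinset) (t := Finset.univ)
    ((List.toFinset_card_le l).trans_lt (by rwa [Finset.card_univ, ← Nat.card_eq_fintype_card]))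
  exact ⟨p, by simpa using hp.2⟩

theorem exists_four (h : IsMultiplyPretransitive G Ω 4) (h1 : D4 a b c d) (h2 : D4 a' b' c' d') :
    ∃ g : G, g • a = a' ∧ g • b = b' ∧ g • c = c' ∧ g • d = d' :=
  (Perm.mt_iff.mp h _ _ h1.inj h2.inj).imp fun _ hg => ⟨hg 0, hg 1, hg 2, hg 3⟩

theorem pow_smul_of_odd {m : ℕ} (hm : Odd m) (h : g • g • a = a) : g ^ m • a = g • a := by
  obtain ⟨m, rfl⟩ := hm
  rw [pow_succ', mul_smul, pow_mul, show (g ^ 2) ^ m • a = a from pow_mem (show g ^ 2 ∈ stabilizer G a by rwa [sq, mem_stabilizer_iff, mul_smul]) m]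

/-- `s` is an involution interchanging `a, b` and `c, d` -/
structure DT (s : G) (a b c d : Ω) : Prop where
  sq : s * s = 1
  d4 : D4 a b c d
  ab : s • a = b
  cd : s • c = d

theorem smul_smul_of_sq (h : s * s = 1) (a : Ω) : s • s • a = a := by rw [smul_smul, h, one_smul]
theorem DT.ba (h : DT s a b c d) : s • b = a := by rw [← h.ab, smul_smul_of_sq h.sq]
theorem DT.dc (h : DT s a b c d) : s • d = c := by rw [← h.cd, smul_smul_of_sq h.sq]

/-- quadruply transitive, and involutions fix at most three points -/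
structure O4 (G Ω : Type*) [Group G] [MulAction G Ω] : Prop where
  tr : IsMultiplyPretransitive G Ω 4
  fix : ∀ {g : G}, g * g = 1 → ∀ {a b c d : Ω}, D4 a b c d → g • a = a → g • b = b → g • c = c → g • d = d → g = 1

/-- five-point stabilisers are trivial -/
def S5 (G Ω : Type*) [Group G] [MulAction G Ω] : Prop := ∀ (g : G) (a b c d e : Ω), D4 a b c d → e ∉ [a, b, c, d] → g • a = a →
  g • b = b → g • c = c → g • d = d → g • e = e → g = 1

/-- no element induces a transposition or a four-cycle on five points -/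
structure NoOdd (G Ω : Type*) [Group G] [MulAction G Ω] : Prop where
  o1 : ∀ (g : G) (a b c d e : Ω), D4 a b c d → e ∉ [a, b, c, d] → g • a = b → g • b = a → g • c = c → g • d = d → g • e ≠ e
  o2 : ∀ (g : G) (a b c d e : Ω), D4 a b c d → e ∉ [a, b, c, d] → g • a = b → g • b = c → g • c = d → g • d = a → g • e ≠ e

namespace O4

variable [Finite G] (h : O4 G Ω)
include h

theorem odd (h1 : D4 a b c d) (ha : g • a = a) (hb : g • b = b) (hc : g • c = c) (hd : g • d = d) : Odd (orderOf g) :=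
  Nat.not_even_iff_odd.mp fun ⟨m, hm⟩ => by
    have e : ∀ x : Ω, g • x = x → g ^ m • x = x := fun x hx => pow_mem (show g ∈ stabilizer G x from hx) m
    have := orderOf_pos g
    exact pow_ne_one_of_lt_orderOf (x := g) (n := m) (by omega) (by omega)
      (h.fix (by rw [← pow_add, ← hm, pow_orderOf_eq_one]) h1 (e _ ha) (e _ hb) (e _ hc) (e _ hd))

theorem exists_inv (h1 : D4 a b c d) (ha : g • g • a = a) (hb : g • g • b = b) (hc : g • g • c = c) (hd : g • g • d = d) :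
    ∃ x ∈ zpowers g, x * x = 1 ∧ x • a = g • a ∧ x • b = g • b ∧ x • c = g • c ∧ x • d = g • d := by
  have := h.odd (g := g * g) h1 (by rwa [mul_smul]) (by rwa [mul_smul]) (by rwa [mul_smul]) (by rwa [mul_smul])
  exact ⟨g ^ orderOf (g * g), pow_mem (mem_zpowers g) _, by rw [← (Commute.refl g).mul_pow, pow_orderOf_eq_one],
    pow_smul_of_odd this ha, pow_smul_of_odd this hb, pow_smul_of_odd this hc, pow_smul_of_odd this hd⟩

theorem conj (hs : DT s a b c d) (ht : DT t a' b' c' d') :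
    ∃ g : G, g • a = a' ∧ g • b = b' ∧ g • c = c' ∧ g • d = d' ∧ g * s = t * g := by
  obtain ⟨g, rfl, rfl, rfl, rfl⟩ := exists_four h.tr hs.d4 ht.d4
  have e : ∀ x y : Ω, s • x = y → t • g • y = g • x → (t * (g * s * g⁻¹)) • g • x = g • x := fun x y e1 e2 => by
    simp only [mul_smul, inv_smul_smul, e1, e2]
  set r := t * (g * s * g⁻¹) with hr
  have e1 := e _ _ hs.ab ht.ba
  have e2 := e _ _ hs.ba ht.ab
  have e3 := e _ _ hs.cd ht.dc
  have e4 := e _ _ hs.dc ht.cd
  obtain ⟨m, hm⟩ := h.odd ht.d4 e1 e2 e3 e4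
  have e5 : ∀ x : Ω, r • g • x = g • x → (r ^ (m + 1) * g) • x = g • x := fun x hx => by
    rw [mul_smul]; exact pow_mem (show r ∈ stabilizer G (g • x) from hx) _
  refine ⟨r ^ (m + 1) * g, e5 _ e1, e5 _ e2, e5 _ e3, e5 _ e4, ?_⟩
  have e6 : t * r * t⁻¹ = r⁻¹ := by
    rw [hr, ← mul_assoc, ht.sq, one_mul, mul_inv_rev, conj_inv, inv_eq_of_mul_eq_one_right hs.sq]
  have e7 : t * r ^ (m + 1) * t⁻¹ = r ^ m := by
    rw [← conj_pow, e6, inv_pow, inv_eq_iff_mul_eq_one, ← pow_add, show m + 1 + m = orderOf r by omega, pow_orderOf_eq_one]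
  calc r ^ (m + 1) * g * s = t⁻¹ * (t * r ^ (m + 1) * t⁻¹) * (t * (g * s * g⁻¹)) * g := by group
    _ = _ := by rw [e7, ← hr, inv_eq_of_mul_eq_one_right ht.sq, pow_succ]; group

theorem exists_klein (h1 : D4 a b c d) : ∃ z x : G, DT z a b c d ∧ x * x = 1 ∧ x * z = z * x ∧ x • a = b ∧ x • c = c ∧ x • d = d := by
  obtain ⟨g, g1, g2, g3, g4⟩ := exists_four h.tr (a' := b) (b' := a) (c' := d) (d' := c) h1 (by grind [D4])
  obtain ⟨z, -, z0, z1, -, z3, -⟩ := h.exists_inv (g := g) h1 (by simp [*]) (by simp [*]) (by simp [*]) (by simp [*])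
  have hz : DT z a b c d := ⟨z0, h1, z1.trans g1, z3.trans g3⟩
  obtain ⟨u, u1, u2, u3, u4, u5⟩ := h.conj hz (⟨z0, by grind [D4], hz.ba, hz.cd⟩ : DT z b a c d)
  obtain ⟨x, x0, x1, x2, -, x3, x4⟩ := h.exists_inv (g := u) h1 (by simp [*]) (by simp [*]) (by simp [*]) (by simp [*])
  exact ⟨z, x, hz, x1, mem_centralizer_singleton_iff.mp (zpowers_le.mpr (mem_centralizer_singleton_iff.mpr u5) x0), x2.trans u1,
    x3.trans u3, x4.trans u4⟩

theorem two_fix [Finite Ω] (hn : 6 ≤ Nat.card Ω) (hs : DT s a b c d) : ∃ e f : Ω, e ≠ f ∧ s • e = e ∧ s • f = f := by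
  have h1 := hs.d4
  obtain ⟨-, x, -, x1, -, x2, x3, x4⟩ := h.exists_klein h1
  obtain ⟨p, hp, p1⟩ : ∃ p ∉ [a, b, c, d], x • p ≠ p := by
    by_contra hc
    push Not at hc
    obtain ⟨p, hp⟩ := exists_notMem_list [a, b, c, d] (by simp; omega)
    obtain ⟨q, hq⟩ := exists_notMem_list [p, a, b, c, d] (by simp; omega)
    exact h1.1 (by rw [← x2, h.fix x1 (a := c) (b := d) (c := p) (d := q) (by grind [D4]) x3 x4 (hc p hp) (hc q (by grind)), one_smul])
  have p2 := smul_smul_of_sq x1 p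
  have p3 := smul_smul_of_sq x1 a
  obtain ⟨g, -, -, -, -, e⟩ := h.conj (⟨x1, by grind [D4], x2, rfl⟩ : DT x a b p (x • p)) hs
  exact ⟨g • c, g • d, (MulAction.injective g).ne h1.2.2.2.2.2, by rw [smul_smul, ← e, mul_smul, x3], by rw [smul_smul, ← e, mul_smul, x4]⟩

theorem key [Finite Ω] (hn : 6 ≤ Nat.card Ω) (h1 : ∀ (z : G) (a b c d : Ω), DT z a b c d → ∃ p ∉ [a, b, c, d], z • p ≠ p)
    (h2 : ∀ (z x : G) (a b c d : Ω), DT z a b c d → x * x = 1 → x * z = z * x → x • a = c → ∀ e : Ω, z • e = e → x • e = e) : False := by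
  obtain ⟨a, -⟩ := exists_notMem_list ([] : List Ω) (by simp; omega)
  obtain ⟨b, hb⟩ := exists_notMem_list [a] (by simp; omega)
  obtain ⟨c, hc⟩ := exists_notMem_list [a, b] (by simp; omega)
  obtain ⟨d, hd⟩ := exists_notMem_list [a, b, c] (by simp; omega)
  have h0 : D4 a b c d := by grind [D4]
  obtain ⟨z, x, hz, x1, x2, x3, x4, x5⟩ := h.exists_klein h0
  obtain ⟨e, f, e1, e2, e3⟩ := h.two_fix hn hz
  obtain ⟨p, p1, p2⟩ := h1 z a b c d hz
  have c1 : ∀ y : Ω, x • z • y = z • x • y := fun y => by rw [smul_smul, x2, mul_smul]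
  have c2 := smul_smul_of_sq (Ω := Ω) x1
  have c3 := smul_smul_of_sq (Ω := Ω) hz.sq
  have c4 := hz.ab
  have c5 := hz.cd
  have x0 : x ≠ 1 := fun e => h0.1 (by rw [← x3, e, one_smul])
  have p3 : x • p ≠ p := fun e => x0 (h.fix x1 (a := c) (b := d) (c := p) (d := z • p) (by grind [D4]) x4 x5 e (by rw [c1, e]))
  have p4 : x • z • p ≠ p := fun e => h0.2.2.2.2.2 (by
    rw [← c5, ← x4, smul_smul, ← x2, h.fix (g := x * z) (by rw [mul_assoc, ← mul_assoc z, ← x2, mul_assoc, hz.sq, mul_one, x1])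
      (a := a) (b := b) (c := p) (d := z • p) (by grind [D4]) (by rw [mul_smul]; grind) (by rw [mul_smul]; grind) (by rwa [mul_smul])
      (by rw [mul_smul]; grind), one_smul, x4])
  have := h2 z x p (z • p) (x • p) (z • x • p) ⟨hz.sq, by grind [D4], rfl, rfl⟩ x1 x2 rfl
  exact x0 (h.fix x1 (a := c) (b := d) (c := e) (d := f) (by grind [D4]) x4 x5 (this e e2) (this f e3))

theorem le_seven [Finite Ω] (hs : S5 G Ω) (h0 : D4 a' b' c' d') (hg : g ≠ 1) (g1 : g • a' = a') (g2 : g • b' = b') (g3 : g • c' = c')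
    (g4 : g • d' = d') : Nat.card Ω ≤ 7 := by_contra fun hn => h.key (by omega) (fun z a b c d hz => by
  by_contra hc
  push Not at hc
  obtain ⟨p, hp⟩ := exists_notMem_list [a, b, c, d] (by simp; omega)
  obtain ⟨q, hq⟩ := exists_notMem_list [p, a, b, c, d] (by simp; omega)
  obtain ⟨r, hr⟩ := exists_notMem_list [p, q, a, b, c, d] (by simp; omega)
  obtain ⟨s, hs⟩ := exists_notMem_list [p, q, r, a, b, c, d] (by simp; omega)
  exact hz.d4.1 (by rw [← hz.ab, h.fix hz.sq (a := p) (b := q) (c := r) (d := s) (by grind [D4]) (hc p hp) (hc q (by grind))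
    (hc r (by grind)) (hc s (by grind)), one_smul])) fun z x a b c d hz x1 x2 x3 e he => by
  have h1 := hz.d4
  have e0 : e ∉ [a, b, c, d] := by have := hz.ab; have := hz.ba; have := hz.cd; have := hz.dc; grind [D4]
  set L := stabilizer G a ⊓ stabilizer G b ⊓ stabilizer G c with hL
  have k1 : (stabilizer G d).subgroupOf L ≠ ⊥ := fun e => by
    obtain ⟨u, rfl, rfl, rfl, rfl⟩ := exists_four h.tr h0 h1
    have : (⟨u * g * u⁻¹, ⟨by simp [mul_smul, g1], by simp [mul_smul, g2]⟩, by simp [mul_smul, g3]⟩ : L) ∈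
      (stabilizer G (u • d')).subgroupOf L := by simp [mem_subgroupOf, mul_smul, g4]
    exact hg (by simpa [e, Subtype.ext_iff] using this)
  set K := (stabilizer G d).subgroupOf L with hK
  have k2 : FC K := FC.of_isFrobeniusComplement ⟨k1, fun e => by
    obtain ⟨p, hp⟩ := exists_notMem_list [a, b, c, d] (by simp; omega)
    obtain ⟨u, u1, u2, u3, u4⟩ := exists_four h.tr (a' := a) (b' := b) (c' := c) (d' := p) h1 (by grind [D4])
    have : (⟨u, ⟨u1, u2⟩, u3⟩ : L) ∈ K := e ▸ mem_top _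
    exact hp (by simp [← u4, show u • d = d from this]), fun u hu => eq_bot_iff.mpr fun k hk => Subtype.ext (by
      have := mem_conj_smul.mp hk.2
      refine hs k a b c d ((u : G) • d) h1 (fun e => ?_) k.2.1.1 k.2.1.2 k.2.2 hk.1 (by
        simpa [hK, mem_subgroupOf, mul_smul, inv_smul_eq_iff] using this)
      have e1 : (u : G) • a = a := u.2.1.1
      have e2 : (u : G) • b = b := u.2.1.2
      have e3 : (u : G) • c = c := u.2.2
      have e4 : (u : G) • d ≠ d := hu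
      have := @smul_left_cancel G Ω _ _ u
      grind [D4])⟩
  have k3 : ∀ k : K, Odd (orderOf k) := fun k => by
    rw [← orderOf_coe, ← orderOf_coe]; exact h.odd h1 k.1.2.1.1 k.1.2.1.2 k.1.2.2 k.2
  haveI := k2.isZGroup_of_odd (Nat.not_even_iff_odd.mp fun e => by
    obtain ⟨k, hk⟩ := exists_prime_orderOf_dvd_card' 2 e.two_dvd
    exact absurd (hk ▸ k3 k) (by decide))
  obtain ⟨p, hp, k4⟩ := Nat.exists_prime_and_dvd (fun e => k1 (card_eq_one.mp e))
  haveI := Fact.mk hp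
  obtain ⟨y, hy⟩ := exists_prime_orderOf_dvd_card' p k4
  have k5 : ∀ u v : K, u ^ p = 1 → v ^ p = 1 → u * v = v * u := fun u v hu hv => by
    by_cases u1 : u = 1
    · simp [u1]
    by_cases v1 : v = 1
    · simp [v1]
    have e := (orderOf_eq_prime hu u1).symm ▸ hp
    haveI := k2.normal_zpowers_of_isZGroup e
    exact k2.commute_of_prime e ((orderOf_eq_prime hv v1).symm ▸ hp) (by simp [normalizer_eq_top])
  let Y₀ : Subgroup K :=
    { carrier := {u | u ^ p = 1}
      one_mem' := one_pow _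
      inv_mem' := fun {u} (hu : u ^ p = 1) => show u⁻¹ ^ p = 1 by rw [inv_pow, hu, inv_one]
      mul_mem' := fun {u v} (hu : u ^ p = 1) (hv : v ^ p = 1) => show (u * v) ^ p = 1 by
        rw [Commute.mul_pow (k5 u v hu hv), hu, hv, one_mul] }
  haveI := k2.isCyclic_of_comm (E := Y₀) ⟨⟨fun u v => Subtype.ext (k5 _ _ u.2 v.2)⟩⟩
  set Y := Y₀.map (L.subtype.comp K.subtype) with hY
  have k6 : IsCyclic Y := isCyclic_of_surjective _ (MonoidHom.subgroupMap_surjective _ _)
  have k7 : ∀ u : G, (∀ q ∈ [a, b, c, d], u • q ∈ [a, b, c, d]) → u ∈ normalizer (Y : Set G) := fun u hu =>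
    inv_mem_iff.mp (Amalg.mem_normalizer_of_cj_le (Amalg.cj_le_iff'.mpr (by
      rintro _ ⟨k, hk, rfl⟩
      have e1 : ∀ q ∈ [a, b, c, d], (k.1 : G) • q = q := by simpa using ⟨k.1.2.1.1, k.1.2.1.2, k.1.2.2, k.2⟩
      have e2 : ∀ q ∈ [a, b, c, d], (u⁻¹ * k.1 * u⁻¹⁻¹) • q = q := fun q hq => by
        rw [inv_inv, mul_smul, mul_smul, e1 _ (hu q hq), inv_smul_smul]
      exact ⟨⟨⟨_, ⟨e2 a (by simp), e2 b (by simp)⟩, e2 c (by simp)⟩, e2 d (by simp)⟩, Subtype.ext (Subtype.ext (by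
        simp only [SubmonoidClass.coe_pow, conj_pow]; rw [← Subgroup.coe_pow, ← Subgroup.coe_pow, show k ^ p = 1 from hk]; simp)), rfl⟩)))
  have c1 : ∀ y : Ω, x • z • y = z • x • y := fun y => by rw [smul_smul, x2, mul_smul]
  have c2 := smul_smul_of_sq (Ω := Ω) x1
  have c3 := smul_smul_of_sq (Ω := Ω) hz.sq
  have c4 := hz.ab
  have c5 := hz.cd
  have k8 : ∀ t : G, ∀ a' b' c' d', DT t a' b' c' d' → (∀ q ∈ [a', b', c', d'], q ∈ [a, b, c, d]) → Commute (y.1 : G) (z * t) :=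
    fun t a' b' c' d' ht e => by
      obtain ⟨u, u1, u2, u3, u4, u5⟩ := h.conj hz ht
      have := BG1.der_norm_le_cent_of_cyclic k6 le_rfl (commutator_mem_commutator (k7 z (by simp [c4, c5, hz.ba, hz.dc]))
        (k7 u (by simpa [u1, u2, u3, u4] using e)))
      rw [commutatorElement_def, inv_eq_of_mul_eq_one_right hz.sq, mul_assoc z u, u5, mul_assoc, mul_inv_cancel_right] at this
      exact this _ ⟨y, show y ^ p = 1 from hy ▸ pow_orderOf_eq_one y, rfl⟩
  have k9 := k8 x a c b d ⟨x1, by grind [D4], x3, by grind⟩ (by simp)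
  have k10 := k8 (z * x) a d b c ⟨by rw [mul_assoc, ← mul_assoc x, x2, mul_assoc, x1, mul_one, hz.sq], by grind [D4],
    by rw [mul_smul]; grind, by rw [mul_smul]; grind⟩ (by simp)
  rw [← mul_assoc, hz.sq, one_mul] at k10
  have d1 : ∀ q : Ω, (y.1 : G) • x • q = x • (y.1 : G) • q := fun q => by rw [smul_smul, k10, mul_smul]
  have d2 : ∀ q : Ω, (y.1 : G) • z • q = z • (y.1 : G) • q := fun q => by
    rw [← c2 q, smul_smul z, smul_smul, k9, mul_smul, mul_smul, ← d1]
  have d3 : ∀ j, (y ^ 2 ^ j).1.1 • e ≠ e := fun j e1 => hp.one_lt.ne' (hy ▸ Nat.eq_one_of_dvd_coprimes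
    ((Nat.coprime_two_right.mpr (k3 y)).pow_right j) dvd_rfl (orderOf_dvd_of_pow_eq_one (Subtype.ext (Subtype.ext
      (hs _ a b c d e h1 e0 (y ^ 2 ^ j).1.2.1.1 (y ^ 2 ^ j).1.2.1.2 (y ^ 2 ^ j).1.2.2 (mem_subgroupOf.mp (y ^ 2 ^ j).2) e1)))))
  have d4 := d3 0
  have d5 := d3 1
  have d6 := d3 2
  simp only [pow_succ, pow_zero, one_mul, pow_mul, Subgroup.coe_mul, mul_smul] at d4 d5 d6
  have d7 := @smul_left_cancel G Ω _ _ y
  generalize (y.1 : G) = w at *
  by_contra hc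
  exact h1.1 (by rw [← c4, h.fix hz.sq (a := e) (b := w • e) (c := w • w • e) (d := x • e) (by grind [D4]) he
    (by grind) (by grind) (by grind), one_smul])

end O4

theorem exists_odd_five [Finite G] [Finite Ω] [FaithfulSMul G Ω] (h4 : IsMultiplyPretransitive G Ω 4) (hn : 7 ≤ Nat.card Ω) :
    ∃ x : Fin 5 → Ω, Function.Injective x ∧ ∃ π ∈ ind G x, Equiv.Perm.sign π = -1 := by
  by_contra hc
  have h0 : ∀ {a b c d e : Ω}, D4 a b c d → e ∉ [a, b, c, d] → Function.Injective ![e, a, b, c, d] := fun h1 h2 =>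
    Fin.cons_injective_iff.mpr ⟨by simp; grind, h1.inj⟩
  have o : NoOdd G Ω := ⟨fun g a b c d e h1 h2 _ _ _ _ _ =>
    hc ⟨_, h0 h1 h2, Equiv.swap 1 2, ⟨g, fun i => by fin_cases i <;> assumption⟩, by decide⟩, fun g a b c d e h1 h2 _ _ _ _ _ =>
    hc ⟨_, h0 h1 h2, Equiv.swap 1 2 * Equiv.swap 2 3 * Equiv.swap 3 4, ⟨g, fun i => by fin_cases i <;> assumption⟩, by decide⟩⟩
  clear h0 hc
  have h : O4 G Ω := ⟨h4, fun {g} hg {a b c d} h1 e1 e2 e3 _ => eq_of_smul_eq_smul (α := Ω) fun p => by_contra fun e => by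
    have := smul_smul_of_sq hg p
    rw [one_smul] at e
    exact o.o1 g p (g • p) a b c (by grind [D4]) (by grind [D4]) rfl this e1 e2 e3⟩
  refine h.key (by omega) (fun z a b c d hz => ?_) fun z x a b c d hz x1 x2 x3 e he => by_contra fun h1 => ?_
  · by_contra hc
    push Not at hc
    obtain ⟨p, hp⟩ := exists_notMem_list [a, b, c, d] (by simp; omega)
    obtain ⟨q, hq⟩ := exists_notMem_list [p, a, b, c, d] (by simp; omega)
    obtain ⟨r, hr⟩ := exists_notMem_list [p, q, a, b, c, d] (by simp; omega)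
    exact o.o1 z a b p q r (by have := hz.d4; grind [D4]) (by grind) hz.ab hz.ba (hc p hp) (hc q (by grind)) (hc r (by grind))
  · have h2 := hz.d4
    obtain ⟨u, u1, u2, u3, u4, u5⟩ := h.conj hz (⟨hz.sq, by grind [D4], hz.ba, hz.cd⟩ : DT z b a c d)
    have c0 : ∀ y : Ω, u • z • y = z • u • y := fun y => by rw [smul_smul, u5, mul_smul]
    have c1 : ∀ y : Ω, x • z • y = z • x • y := fun y => by rw [smul_smul, x2, mul_smul]
    have c2 := smul_smul_of_sq (Ω := Ω) x1
    have c3 := smul_smul_of_sq (Ω := Ω) hz.sq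
    have c4 := hz.ab
    have c5 := hz.cd
    have e1 : e ∉ [a, b, c, d] := by grind [D4]
    have e2 := o.o1 u a b c d e h2 e1 u1 u2 u3 u4
    have e3 : x • e = u • e := by_contra fun e3 =>
      o.o1 z a b e (u • e) (x • e) (by grind [D4]) (by grind [D4]) c4 hz.ba he (by grind) (by grind)
    refine o.o2 (u⁻¹ * x) a c b d e (by grind [D4]) (by grind) ?_ ?_ ?_ ?_ ?_ <;> rw [mul_smul, inv_smul_eq_iff] <;> grind

end Cfsg.Lib.Hall
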