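import Cfsg.Agent.Lib.Hall.Homog3
import Cfsg.Agent.Lib.Golay.Jordan
import Cfsg.Agent.S0743
import Cfsg.Agent.S0744
import Cfsg.Agent.S0735
import Cfsg.Agent.Lib.BN.ZassAff
import Cfsg.Agent.Lib.Perm.PrimeDeg

/-! Set stabilisers of multiply transitive groups and the Livingstone-Wagner theorem. -/

namespace Cfsg.Lib.Hall

open Subgroup MulAction SubMulAction _root_.Cfsg.Lib.Core _root_.Cfsg.Lib.Amalg
open scoped Pointwise commutatorElement

universe u

section

variable {G Ω ι : Type*} [Group G] [MulAction G Ω] {k : ℕ}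

instance faithful_ofFixingSubgroup [FaithfulSMul G Ω] (s : Set Ω) : FaithfulSMul (fixingSubgroup G s) (ofFixingSubgroup G s) :=
  ⟨fun {g h} H => Subtype.ext (eq_of_smul_eq_smul (α := Ω) fun b => by
    by_cases e : b ∈ s
    · exact ((mem_fixingSubgroup_iff G).mp g.2 b e).trans ((mem_fixingSubgroup_iff G).mp h.2 b e).symm
    · exact congrArg Subtype.val (H ⟨b, e⟩))⟩

theorem card_ofFixingSubgroup [Finite Ω] (s : Finset Ω) : Nat.card (ofFixingSubgroup G (s : Set Ω)) = Nat.card Ω - s.card := by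
  rw [← Set.ncard_coe_finset, ← Set.ncard_compl]; rfl

theorem mt_of_base (x : Fin k → Ω) (h : ∀ y : Fin k → Ω, Function.Injective y → ∃ g : G, ∀ i, g • x i = y i) :
    IsMultiplyPretransitive G Ω k := Perm.mt_iff.mpr fun y z hy hz => by
  obtain ⟨g, hg⟩ := h y hy
  obtain ⟨u, hu⟩ := h z hz
  exact ⟨u * g⁻¹, fun i => by rw [← hg, ← hu, mul_smul, inv_smul_smul]⟩

theorem exists_ind_of_normalizer [Finite Ω] {U : Subgroup G} {g : G} (hg : g ∈ normalizer (U : Set G)) :
    ∃ π : Equiv.Perm (fixedPoints U Ω), ∀ x : fixedPoints U Ω, g • x.1 = π x :=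
  ⟨Equiv.ofBijective (fun x => ⟨g • x.1, fun u => by
    have := x.2 ⟨_, (mem_normalizer_iff''.mp hg u).mp u.2⟩
    rwa [Subgroup.mk_smul, mul_smul, mul_smul, inv_smul_eq_iff] at this⟩)
    (Finite.injective_iff_bijective.mp fun x y e => Subtype.ext (smul_left_cancel g (congrArg Subtype.val e))), fun _ => rfl⟩

theorem exists_enum (s : Finset Ω) (hs : s.card = k) : ∃ x : Fin k → Ω, Function.Injective x ∧ ∀ a, a ∈ s ↔ ∃ i, x i = a :=
  ⟨fun i => (s.equivFinOfCardEq hs).symm i, Subtype.val_injective.comp (Equiv.injective _), fun a =>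
    ⟨fun h => ⟨s.equivFinOfCardEq hs ⟨a, h⟩, by simp⟩, fun ⟨_, h⟩ => h ▸ Subtype.prop _⟩⟩

/-- the semiregular case with an involution -/
theorem ind_eq_top_of_inv [Fintype Ω] [DecidableEq Ω] (h : IsMultiplyPretransitive G Ω (k + 1))
    (hs : ∀ (g : G) (s : Finset Ω), k + 2 ≤ s.card → (∀ a ∈ s, g • a = a) → g = 1) {t : G} (t1 : t * t = 1) (t2 : t ≠ 1)
    {s : Finset Ω} (s1 : s.card = k + 1) (s2 : ∀ a ∈ s, t • a = a) {x : Fin (k + 2) → Ω} (hx : Function.Injective x) : ind G x = ⊤ := by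
  refine ind_eq_top_of_swap fun i j hij => ?_
  set Γ := ((Finset.univ.erase i).erase j).image x with hΓ
  have g1 : Γ.card = k := by
    rw [Finset.card_image_of_injective _ hx, Finset.card_erase_of_mem (by simpa using hij.symm)]; simp
  have g2 : x i ∉ Γ := by simp [hΓ, hx.eq_iff]
  have g3 : x j ∉ Γ := by simp [hΓ, hx.eq_iff]
  have g4 : ∀ c ∉ Γ, ∃ u : G, u * u = 1 ∧ u ≠ 1 ∧ ∀ a ∈ insert c Γ, u • a = a := fun c hc => by
    obtain ⟨g, hg⟩ := hom_iff.mp (Set.powersetCard.isPretransitive_of_isMultiplyPretransitive G h) s (insert c Γ) s1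
      (by rw [Finset.card_insert_of_notMem hc, g1])
    refine ⟨g * t * g⁻¹, by rw [conj_mul, t1]; simp, by simpa using t2, fun a ha => ?_⟩
    obtain ⟨b, hb, rfl⟩ := Finset.mem_smul_finset.mp (hg ▸ ha)
    rw [mul_smul, mul_smul, inv_smul_smul, s2 b hb]
  choose! u u1 u2 u3 using g4
  have g5 : ∀ (g : G) (a b : Ω), a ∉ Γ → b ∉ Γ → a ≠ b → (∀ c ∈ Γ, g • c = c) → g • a = a → g • b = b → g = 1 := fun g a b ha hb hab e e1 e2 =>
    hs g (insert a (insert b Γ)) (by rw [Finset.card_insert_of_notMem (by simp [ha, hab]), Finset.card_insert_of_notMem hb, g1])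
      (by simpa [e1, e2] using e)
  have u4 : ∀ c ∉ Γ, ∀ a ∈ Γ, u c • a = a := fun c hc a ha => u3 c hc a (Finset.mem_insert_of_mem ha)
  have u5 : ∀ c ∉ Γ, u c • c = c := fun c hc => u3 c hc c (Finset.mem_insert_self _ _)
  have u6 : ∀ c ∉ Γ, u c • x i ∉ Γ := fun c hc e => g2 (smul_left_cancel (u c) (u4 c hc _ e) ▸ e)
  have u7 : ∀ c ∉ Γ, c ≠ x i → u c • x i ≠ x i := fun c hc h1 e => u2 c hc (g5 _ c (x i) hc g2 h1 (u4 c hc) (u5 c hc) e)
  obtain ⟨c, hc, e⟩ := Finset.surjOn_of_injOn_of_card_le (s := (insert (x i) Γ)ᶜ) (t := (insert (x i) Γ)ᶜ) (fun c => u c • x i)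
    (fun c hc => by simp only [Finset.coe_compl, Finset.coe_insert, Set.mem_compl_iff, Set.mem_insert_iff, not_or] at hc ⊢
                    exact ⟨u7 c hc.2 hc.1, u6 c hc.2⟩)
    (fun c hc d hd (e : u c • x i = u d • x i) => by_contra fun h1 => by
      simp only [Finset.coe_compl, Finset.coe_insert, Set.mem_compl_iff, Set.mem_insert_iff, not_or] at hc hd
      have := g5 (u c * u d) (x i) (u c • x i) g2 (u6 c hc.2) (u7 c hc.2 hc.1).symm
        (fun a ha => by rw [mul_smul, u4 d hd.2 a ha, u4 c hc.2 a ha]) (by rw [mul_smul, ← e, smul_smul_of_sq (u1 c hc.2)])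
        (by rw [mul_smul, e, smul_smul_of_sq (u1 d hd.2), e])
      exact u2 c hc.2 (g5 _ c d hc.2 hd.2 h1 (u4 c hc.2) (u5 c hc.2)
        (by rw [mul_right_cancel (this.trans (u1 d hd.2).symm), u5 d hd.2]))) le_rfl (show x j ∈ _ by simp [g3, hx.ne hij.symm])
  simp only [Finset.coe_compl, Finset.coe_insert, Set.mem_compl_iff, Set.mem_insert_iff, not_or] at hc e
  refine ⟨u c, fun l => ?_⟩
  by_cases h1 : l = i
  · rw [h1, e, Equiv.swap_apply_left]
  by_cases h2 : l = j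
  · rw [h2, ← e, smul_smul_of_sq (u1 c hc.2), Equiv.swap_apply_right]
  · rw [Equiv.swap_apply_of_ne_of_ne h1 h2, u4 c hc.2 _ (Finset.mem_image_of_mem _ (by simp [*]))]

/-- the semiregular case without involutions -/
theorem mt_succ_of_odd [Finite G] [Fintype Ω] [DecidableEq Ω] (h : IsMultiplyPretransitive G Ω (k + 4))
    (hs : ∀ (g : G) (s : Finset Ω), k + 5 ≤ s.card → (∀ a ∈ s, g • a = a) → g = 1)
    (ht : ∀ (g : G) (s : Finset Ω), g * g = 1 → s.card = k + 4 → (∀ a ∈ s, g • a = a) → g = 1) {g : G} (hg : g ≠ 1)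
    {s : Finset Ω} (s1 : s.card = k + 4) (s2 : ∀ a ∈ s, g • a = a) : IsMultiplyPretransitive G Ω (k + 5) := by
  have hn : Fintype.card Ω ≤ k + 7 := by
    obtain ⟨t, t1, t2⟩ := Finset.exists_subset_card_eq (s := s) (n := 4) (by omega)
    obtain ⟨x, x1, x2⟩ := exists_enum t t2
    have e : (s \ t).card = k := by rw [Finset.card_sdiff_of_subset t1]; omega
    generalize hr : s \ t = r at e
    have e1 : ∀ {a b c d : ofFixingSubgroup G (r : Set Ω)}, D4 a b c d → (insert a.1 (insert b.1 (insert c.1 (insert d.1 r)))).card = k + 4 :=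
      fun {a b c d} h1 => by
        have := a.2; have := b.2; have := c.2; have := d.2
        simp only [D4, ne_eq, Subtype.ext_iff, mem_ofFixingSubgroup_iff, Finset.mem_coe] at *
        rw [Finset.card_insert_of_notMem (by simp [*]), Finset.card_insert_of_notMem (by simp [*]), Finset.card_insert_of_notMem (by simp [*]),
          Finset.card_insert_of_notMem (by simp [*]), e]
    have e2 : ∀ i, x i ∈ ofFixingSubgroup G (r : Set Ω) := fun i => by simp [mem_ofFixingSubgroup_iff, ← hr, (x2 _).mpr ⟨i, rfl⟩]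
    have e3 : ∀ i j, i ≠ j → (⟨x i, e2 i⟩ : ofFixingSubgroup G (r : Set Ω)) ≠ ⟨x j, e2 j⟩ := fun i j h e => h (x1 (congrArg Subtype.val e))
    have e4 : ∀ i, g • x i = x i := fun i => s2 _ (t1 ((x2 _).mpr ⟨i, rfl⟩))
    have := O4.le_seven (G := fixingSubgroup G (r : Set Ω)) (Ω := ofFixingSubgroup G (r : Set Ω))
      ⟨ofFixingSubgroup.isMultiplyPretransitive G _ (by rw [Set.ncard_coe_finset, e]), fun {u} hu {a b c d} h1 f1 f2 f3 f4 =>
        Subtype.ext (ht u _ (congrArg Subtype.val hu) (e1 h1) (by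
          simpa using ⟨congrArg Subtype.val f1, congrArg Subtype.val f2, congrArg Subtype.val f3, congrArg Subtype.val f4,
            (mem_fixingSubgroup_iff G).mp u.2⟩))⟩
      (fun u a b c d p h1 h2 f1 f2 f3 f4 f5 => Subtype.ext (hs u (insert p.1 (insert a.1 (insert b.1 (insert c.1 (insert d.1 r)))))
        (by rw [Finset.card_insert_of_notMem (by
          have := p.2
          simp only [List.mem_cons, Subtype.ext_iff, mem_ofFixingSubgroup_iff, Finset.mem_coe, not_or] at h2 this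
          simp [h2, this]), e1 h1]) (by
          simpa using ⟨congrArg Subtype.val f5, congrArg Subtype.val f1, congrArg Subtype.val f2, congrArg Subtype.val f3,
            congrArg Subtype.val f4, (mem_fixingSubgroup_iff G).mp u.2⟩)))
      ⟨e3 0 1 (by decide), e3 0 2 (by decide), e3 0 3 (by decide), e3 1 2 (by decide), e3 1 3 (by decide), e3 2 3 (by decide)⟩
      (g := ⟨g, (mem_fixingSubgroup_iff G).mpr fun a ha => s2 a (Finset.sdiff_subset (hr ▸ ha))⟩) (fun e => hg (congrArg Subtype.val e))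
      (Subtype.ext (e4 0)) (Subtype.ext (e4 1)) (Subtype.ext (e4 2)) (Subtype.ext (e4 3))
    rw [card_ofFixingSubgroup, Nat.card_eq_fintype_card] at this
    omega
  refine Perm.mt_succ_of_exists h s s1 fun a ha b hb => by_contra fun hc => ?_
  have e1 : ∀ u : G, u ≠ 1 → (∀ c ∈ s, u • c = c) → u • a ≠ a := fun u h1 h2 e =>
    h1 (hs u (insert a s) (by rw [Finset.card_insert_of_notMem ha, s1]) (by simpa [*]))
  have s3 : ∀ c ∈ s, (g * g) • c = c := fun c hc => by rw [mul_smul, s2 c hc, s2 c hc]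
  have e2 := e1 g hg s2
  have e3 := e1 (g * g) (fun e => hg (ht g s e s1 s2)) s3
  have e4 : ∀ u : G, (∀ c ∈ s, u • c = c) → u • a ∉ s ∧ u • a ≠ b := fun u h2 =>
    ⟨fun e => ha (smul_left_cancel u (h2 _ e) ▸ e), fun e => hc ⟨u, h2, e⟩⟩
  have e5 := e4 1 (by simp)
  have e6 := e4 g s2
  have e7 := e4 _ s3
  rw [mul_smul] at e3 e7
  rw [one_smul] at e5
  have := Finset.card_le_univ (insert a (insert (g • a) (insert (g • g • a) (insert b s))))
  rw [Finset.card_insert_of_notMem (by simp [*, e2.symm, e3.symm]), Finset.card_insert_of_notMem (by simp [*, e2.symm]),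
    Finset.card_insert_of_notMem (by simp [*]), Finset.card_insert_of_notMem hb] at this
  omega

end

theorem exists_alt_le_ind {k : ℕ} (n : ℕ) : ∀ (α : Type u) [Fintype α] [DecidableEq α], Fintype.card α = n →
    ∀ G : Subgroup (Equiv.Perm α), k + 4 < n → IsMultiplyPretransitive G α (k + 4) →
      ∃ x : Fin (k + 5) → α, Function.Injective x ∧ alternatingGroup (Fin (k + 5)) ≤ ind G x := by
  induction n using Nat.strong_induction_on with
  | _ n ih =>
  intro α _ _ hn G hk h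
  classical
  obtain ⟨x⟩ : Nonempty (Fin (k + 5) ↪ α) := Function.Embedding.nonempty_of_card_le (by simp; omega)
  by_cases hs : ∀ (g : G) (s : Finset α), k + 5 ≤ s.card → (∀ a ∈ s, g • a = a) → g = 1
  · by_cases ht : ∀ (g : G) (s : Finset α), g * g = 1 → s.card = k + 4 → (∀ a ∈ s, g • a = a) → g = 1
    swap
    · push Not at ht
      obtain ⟨t, s, t1, s1, s2, t2⟩ := ht
      exact ⟨x, x.2, ind_eq_top_of_inv h hs t1 t2 s1 s2 x.2 ▸ le_top⟩
    by_cases hu : ∀ (g : G) (s : Finset α), s.card = k + 4 → (∀ a ∈ s, g • a = a) → g = 1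
    swap
    · push Not at hu
      obtain ⟨t, s, s1, s2, t2⟩ := hu
      exact ⟨x, x.2, ind_eq_top_of_mt (mt_succ_of_odd h hs ht t2 s1 s2) x.2 (Fintype.card_fin _) ▸ le_top⟩
    by_cases hn' : n ≤ k + 6
    · have := IsMultiplyPretransitive.alternatingGroup_le α G (isMultiplyPretransitive_of_le (n := k + 4) (by simp; omega) (by simp; omega))
      exact ⟨x, x.2, fun π hπ => ⟨⟨_, this (x := π.viaFintypeEmbedding x) (by
        rwa [Equiv.Perm.mem_alternatingGroup, Equiv.Perm.viaFintypeEmbedding_sign])⟩, π.viaFintypeEmbedding_apply_image x⟩⟩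
    have h1 := Golay.sharp_univ (G := G) (k := k + 4) fun y => eq_bot_iff.mpr fun g hg => hu g (Finset.univ.map y) (by simp) (by
      simpa using fun i => congrArg (· i) (show g • y = y from hg))
    obtain ⟨B, b1, b2⟩ : ∃ B : Finset α, B.card = k + 5 ∧ Golay.Full G B := by
      rcases k with _ | _ | k
      · obtain ⟨e1, B, e2, e3, e, e4, e5, e6⟩ := h1.core (by simp; omega)
        exact ⟨_, by rw [Finset.card_insert_of_notMem e5, e3], h1.full le_rfl e1 e2 e3 e4 e5 e6⟩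
      · obtain ⟨e1, B, e2, e3, e, e4, e5, e6⟩ := h1.five (by simp; omega)
        exact ⟨_, by rw [Finset.card_insert_of_notMem e5, e3], h1.full (by omega) e1 e2 e3 e4 e5 e6⟩
      · have := h1.large (by omega)
        simp at this
        omega
    obtain ⟨y, y1, y2⟩ := exists_enum B b1
    refine ⟨y, y1, fun π _ => ?_⟩
    obtain ⟨g, g1, g2⟩ := b2 (π.viaFintypeEmbedding ⟨y, y1⟩) fun a ha => by
      obtain ⟨i, rfl⟩ := (y2 a).mp ha
      exact (y2 _).mpr ⟨_, (π.viaFintypeEmbedding_apply_image ⟨y, y1⟩ i).symm⟩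
    exact ⟨⟨g, g1⟩, fun i => (g2 _ ((y2 _).mpr ⟨i, rfl⟩)).trans (π.viaFintypeEmbedding_apply_image ⟨y, y1⟩ i)⟩
  push Not at hs
  obtain ⟨g, s, s1, s2, g1⟩ := hs
  obtain ⟨p, hp, g2⟩ := Nat.exists_prime_and_dvd (fun e => g1 (orderOf_eq_one_iff.mp e))
  haveI := Fact.mk hp
  have g3 := orderOf_pow_orderOf_div (orderOf_pos g).ne' g2
  obtain ⟨U, u1, u2, u3⟩ := Finite.exists_le_maximal (p := fun U : Subgroup G => IsPGroup p U ∧ k + 5 ≤ Nat.card (fixedPoints U α))
    (a := zpowers (g ^ (orderOf g / p))) ⟨Amalg.isPGroup_zpowers_of_orderOf (g3.trans (pow_one p).symm), s1.trans (by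
      rw [← Set.ncard_coe_finset, Nat.card_coe_set_eq]
      exact Set.ncard_le_ncard fun a ha u => zpowers_le.mpr (pow_mem (show g ∈ stabilizer G a from s2 a ha) _) u.2)⟩
  have u4 : Fintype.card (fixedPoints U α) < n := hn ▸ Fintype.card_subtype_lt (x := Classical.choose (not_forall.mp fun H =>
    hp.one_lt.ne' (g3.symm.trans (orderOf_eq_one_iff.mpr (eq_of_smul_eq_smul (α := α) fun a =>
      (H a : a ∈ fixedPoints U α) ⟨_, u1 (mem_zpowers _)⟩))))) (Classical.choose_spec (p := fun a => ¬ a ∈ fixedPoints U α) _)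
  rw [Nat.card_eq_fintype_card] at u2
  suffices H : IsMultiplyPretransitive (ind G (Subtype.val : fixedPoints U α → α)) (fixedPoints U α) (k + 4) by
    obtain ⟨y, y1, y2⟩ := ih _ u4 _ rfl _ u2.2 H
    exact ⟨Subtype.val ∘ y, Subtype.val_injective.comp y1, fun π hπ => by
      obtain ⟨⟨σ, u, hu⟩, hσ⟩ := y2 hπ
      exact ⟨u, fun i => (hu _).trans (congrArg Subtype.val (hσ i))⟩⟩
  by_cases hU : ∃ t : Finset (fixedPoints U α), t.card = k + 4 ∧ Syl p U (fixingSubgroup G (Subtype.val '' (t : Set (fixedPoints U α))))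
  · obtain ⟨t, t1, t2⟩ := hU
    obtain ⟨y, y1, y2⟩ := exists_enum t t1
    refine mt_of_base y fun z hz => ?_
    obtain ⟨u, hu⟩ := Perm.mt_iff.mp h _ _ (Subtype.val_injective.comp y1) (Subtype.val_injective.comp hz)
    obtain ⟨v, v1, v2⟩ := Perm.witt_normalizer t2 u (by
      rintro _ ⟨a, ha, rfl⟩ w hw
      obtain ⟨i, rfl⟩ := (y2 a).mp ha
      exact (hu i).symm ▸ (z i).2 ⟨w, hw⟩)
    obtain ⟨π, hπ⟩ := exists_ind_of_normalizer (Ω := α) v1
    exact ⟨⟨π, v, hπ⟩, fun i => Subtype.ext ((hπ _).symm.trans ((v2 _ ⟨_, (y2 _).mpr ⟨i, rfl⟩, rfl⟩).trans (hu i)))⟩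
  refine Cfsg.Agent.S0743.result _ hp (by omega) u2.2 fun t t1 => ?_
  obtain ⟨T, T1, T2⟩ := exists_syl_ge u2.1 (H := fixingSubgroup G (Subtype.val '' (t : Set (fixedPoints U α)))) fun w hw =>
    (mem_fixingSubgroup_iff G).mpr (by rintro _ ⟨a, -, rfl⟩; exact a.2 ⟨w, hw⟩)
  have r1 := lt_inf_normalizer_of_lt T1.isPGroup (T2.lt_of_ne fun e => hU ⟨t, t1, e ▸ T1⟩)
  have r2 := T1.isPGroup.to_le (inf_le_left (b := normalizer (U : Set G)))
  have r3 : Subtype.val '' (t : Set (fixedPoints U α)) = fixedPoints ↥(T ⊓ normalizer (U : Set G)) α :=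
    Set.eq_of_subset_of_ncard_le (fun a ha w => (mem_fixingSubgroup_iff G).mp (T1.le w.2.1) a ha) (by
      rw [Set.ncard_image_of_injective _ Subtype.val_injective, Set.ncard_coe_finset, t1, ← Nat.card_coe_set_eq]
      exact Nat.le_of_lt_succ (not_le.mp fun e => r1.not_ge (u3 ⟨r2, e⟩ r1.le)))
  refine ⟨(ind ↥(T ⊓ normalizer (U : Set G)) Subtype.val).subgroupOf _, Amalg.isPGroup_subgroupOf (isPGroup_ind r2 Subtype.val_injective) _,
    Set.ext fun a => ?_⟩
  rw [← Subtype.val_injective.mem_set_image (s := (t : Set (fixedPoints U α))), r3]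
  refine ⟨fun H w => ?_, fun H ⟨⟨π, _⟩, w, hw⟩ => Subtype.ext ((hw a).symm.trans (H w))⟩
  obtain ⟨π, hπ⟩ := exists_ind_of_normalizer (Ω := α) w.2.2
  exact (hπ a).trans (congrArg Subtype.val (H ⟨⟨π, w, hπ⟩, w, hπ⟩))

theorem mt_succ_of_hom {α : Type*} [Fintype α] [DecidableEq α] {G : Subgroup (Equiv.Perm α)} {k : ℕ}
    (h : IsMultiplyPretransitive G α (k + 4)) (hh : IsPretransitive G (Set.powersetCard α (k + 5))) (hn : k + 7 ≤ Fintype.card α) :
    IsMultiplyPretransitive G α (k + 5) := by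
  obtain ⟨x, x1, x2⟩ := exists_alt_le_ind _ α rfl G (by omega) h
  obtain ⟨s, -, hs⟩ := Finset.exists_subset_card_eq (s := (Finset.univ : Finset α)) (n := k) (by simp; omega)
  obtain ⟨y, y1, π, ⟨g, hg⟩, y2⟩ := exists_odd_five (G := fixingSubgroup G (s : Set α))
    (ofFixingSubgroup.isMultiplyPretransitive G (s : Set α) (by rw [Set.ncard_coe_finset, hs])) (by
      rw [card_ofFixingSubgroup, Nat.card_eq_fintype_card]; omega)
  have z1 : Function.Injective (Sum.elim (Subtype.val : s → α) (Subtype.val ∘ y)) :=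
    Subtype.val_injective.sumElim (Subtype.val_injective.comp y1) fun a i (e : a.1 = (y i).1) => (y i).2 (e ▸ a.2)
  have z2 : Fintype.card (s ⊕ Fin 5) = k + 5 := by simp [hs]
  obtain ⟨u, e, hu⟩ := exists_equiv_of_hom hh x1 z1 (Fintype.card_fin _) z2
  refine mt_of_ind_eq_top hh z1 z2 (eq_top_of_alt_le (alt_le_ind_of hu x2) (π := Equiv.Perm.sumCongr 1 π) ⟨g, ?_⟩ (by simp [y2]))
  rintro (a | i)
  · exact (mem_fixingSubgroup_iff G).mp g.2 a a.2
  · exact congrArg Subtype.val (hg i)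

theorem prime_degree_count {G Ω : Type*} [Group G] [MulAction G Ω] [Finite Ω] [FaithfulSMul G Ω] [IsPretransitive G Ω] {p : ℕ}
    (hp : p.Prime) (h : Nat.card Ω = p) : ∃ d m, d ∣ p - 1 ∧ m % p = 1 ∧ Nat.card G = p * d * m := by
  classical
  haveI := Fintype.ofFinite Ω
  haveI := Fact.mk hp
  haveI : IsPretransitive (toPermHom G Ω).range Ω := ⟨fun a b => (exists_smul_eq G a b).elim fun g hg => ⟨⟨_, g, rfl⟩, hg⟩⟩
  obtain ⟨d, m, h1, -, h2, h3⟩ := Perm.primeDeg_sylow_count (Nat.card_eq_fintype_card.symm.trans h) (toPermHom G Ω).range default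
  exact ⟨d, m, h1, h2, (Nat.card_congr (MonoidHom.ofInjective toPerm_injective).toEquiv).trans h3⟩

theorem card_stabilizer_eq_ind {G Ω : Type*} [Group G] [MulAction G Ω] [DecidableEq Ω] {t : Finset Ω}
    (h : fixingSubgroup G (t : Set Ω) = ⊥) : Nat.card (stabilizer G t) = Nat.card (ind G (Subtype.val : ↥(t : Set Ω) → Ω)) := by
  rw [← stabilizer_coe_finset, Nat.card_congr (MonoidHom.ofInjective (f := toPermHom (stabilizer G (t : Set Ω)) (t : Set Ω))
    ((injective_iff_map_eq_one _).mpr fun g hg => Subtype.ext (mem_bot.mp (h ▸ (mem_fixingSubgroup_iff G).mpr fun a ha =>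
      congrArg Subtype.val (Equiv.ext_iff.mp hg ⟨a, ha⟩))))).toEquiv]
  congr 2
  refine le_antisymm (by rintro _ ⟨g, rfl⟩; exact ⟨g, fun _ => rfl⟩) fun π ⟨g, hg⟩ => ⟨⟨g, Set.Subset.antisymm ?_ fun a ha => ?_⟩,
    Equiv.ext fun a => Subtype.ext (hg a)⟩
  · rintro _ ⟨a, ha, rfl⟩
    exact Set.mem_of_eq_of_mem (hg ⟨a, ha⟩) (π _).2
  · exact ⟨_, (π.symm ⟨a, ha⟩).2, (hg _).trans (by simp)⟩

variable {α : Type*} [Fintype α] [DecidableEq α] {G : Subgroup (Equiv.Perm α)} {k : ℕ}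

theorem card_fixingSubgroup_eq_of_hom (h : IsPretransitive G (Set.powersetCard α k)) {s t : Finset α} (hs : s.card = k) (ht : t.card = k) :
    Nat.card (fixingSubgroup G (t : Set α)) = Nat.card (fixingSubgroup G (s : Set α)) := by
  obtain ⟨g, rfl⟩ := hom_iff.mp h s t hs ht
  rw [Finset.coe_smul_finset, fixingSubgroup_smul_eq_fixingSubgroup_map_conj, card_map_of_injective (MulAut.conj g).injective]

theorem lw_num (hn : k + 2 ≤ Fintype.card α) (ht : IsMultiplyPretransitive G α k) (hnt : ¬ IsMultiplyPretransitive G α (k + 1))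
    (h1 : IsPretransitive G (Set.powersetCard α (k + 1))) (h2 : IsPretransitive G (Set.powersetCard α (k + 2))) :
    ∃ σ, σ ∣ (k + 1).factorial ∧ σ ≠ (k + 1).factorial ∧ (k + 1).factorial ∣ (Fintype.card α - k) * σ ∧
      Fintype.card α - (k + 1) ∣ (k + 2) * σ ∧ Nat.card G = (Fintype.card α).choose (k + 1) * σ := by
  obtain ⟨r, -, hr⟩ := Finset.exists_subset_card_eq (s := (Finset.univ : Finset α)) (n := k) (by simp; omega)
  obtain ⟨s, -, hs⟩ := Finset.exists_subset_card_eq (s := (Finset.univ : Finset α)) (n := k + 1) (by simp; omega)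
  obtain ⟨t, -, ht'⟩ := Finset.exists_subset_card_eq (s := (Finset.univ : Finset α)) (n := k + 2) (by simpa)
  have e1 : fixingSubgroup G (s : Set α) = ⊥ := by_contra fun e => hnt (Cfsg.Agent.S0744.result G (k := k + 2) (by omega) hn _ _
    ((one_lt_card_iff_ne_bot _).mpr e) (fun u hu => card_fixingSubgroup_eq_of_hom h1 hs hu) fun u hu => card_fixingSubgroup_eq_of_hom h2 ht' hu)
  have e2 := choose_mul_card h1 hs
  have e3 := choose_mul_card h2 ht'
  have e4 : Nat.card (Equiv.Perm (s : Set α)) = (k + 1).factorial := by rw [Nat.card_perm]; simp [hs]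
  have e5 := (fixingSubgroup G (r : Set α)).index_dvd_card
  rw [IsMultiplyPretransitive.index_of_fixingSubgroup_eq _ (by rwa [Set.ncard_coe_finset, hr]), Set.ncard_coe_finset, hr] at e5
  rw [Nat.card_eq_fintype_card (α := α)] at e2 e3 e5
  refine ⟨_, ?_, fun e => hnt (mt_of_ind_eq_top h1 (ι := (s : Set α)) Subtype.val_injective (by simp [hs]) (eq_top_of_card_eq _ (by
    rw [← card_stabilizer_eq_ind e1, e, e4]))), ?_, ?_, e2⟩
  · rw [card_stabilizer_eq_ind e1, ← e4]; exact card_subgroup_dvd_card _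
  · refine Nat.dvd_of_mul_dvd_mul_left (Nat.choose_pos (show k ≤ Fintype.card α by omega)) ?_
    rw [← mul_assoc, ← Nat.choose_succ_right_eq, mul_right_comm, ← e2, Nat.factorial_succ, mul_comm (k + 1), ← mul_assoc]
    exact mul_dvd_mul_right e5 _
  · refine Nat.dvd_of_mul_dvd_mul_left (Nat.choose_pos (show k + 1 ≤ Fintype.card α by omega)) ?_
    rw [← Nat.choose_succ_right_eq, mul_left_comm, ← e2, e3, mul_comm]
    exact mul_dvd_mul_left _ (Dvd.intro _ rfl)

set_option synthInstance.maxSize 100000 in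
theorem lw_exceptions (hn : k + 3 ≤ Fintype.card α) (ht : IsMultiplyPretransitive G α (k + 1)) (hnt : ¬ IsMultiplyPretransitive G α (k + 2))
    (h1 : IsPretransitive G (Set.powersetCard α (k + 2))) (h2 : IsPretransitive G (Set.powersetCard α (k + 3))) :
    (k + 3 = Fintype.card α ∧ G = alternatingGroup α) ∨ (Fintype.card α = 5 ∧ k + 3 = 4 ∧ Nat.card G = 20) ∨
      (Fintype.card α = 6 ∧ k + 3 = 5 ∧ Nat.card G = 120) ∨ (Fintype.card α = 9 ∧ k + 3 = 5 ∧ (Nat.card G = 504 ∨ Nat.card G = 1512)) := by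
  rcases hn.eq_or_lt with e | hn'
  · refine Or.inl ⟨e, by_contra fun e1 => hnt ?_⟩
    have h3 := IsMultiplyPretransitive.alternatingGroup_le α G (by rwa [Nat.card_eq_fintype_card, ← e])
    obtain ⟨π, h4, h5⟩ := SetLike.exists_of_lt (h3.lt_of_ne' e1)
    rw [eq_top_of_alt_le h3 h4 ((Int.units_eq_one_or _).resolve_left h5)]
    exact Perm.mt_iff.mpr fun x y hx hy => (Perm.mt_iff.mp (Equiv.Perm.isMultiplyPretransitive α _) x y hx hy).elim
      fun g hg => ⟨⟨g, trivial⟩, hg⟩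
  obtain ⟨σ, s1, s2, s3, s4, s5⟩ := lw_num hn ht hnt h1 h2
  have s0 := Nat.pos_of_dvd_of_pos s1 (Nat.factorial_pos _)
  have s6 := Nat.le_of_dvd (by positivity) s4
  have s7 := Nat.le_of_dvd (Nat.factorial_pos _) s1
  haveI : IsPretransitive G α := is_one_pretransitive_iff.mp (isMultiplyPretransitive_of_le (n := k + 1) (by omega) (by simp; omega))
  obtain ⟨a⟩ : Nonempty α := Fintype.card_pos_iff.mp (by omega)
  have p1 := fun p hp => prime_degree_count (G := G) (Ω := α) (p := p) hp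
  have a1 := Perm.card_eq_mul_of_transitive (G := G) a
  have a2 := nat_card_ofStabilizer_add_one_eq G a
  rw [Nat.card_eq_fintype_card (α := α)] at p1 a1 a2
  rcases k with _ | _ | _ | k
  · change σ ≤ 2 at s7
    have : ∀ σ ≤ 2, ∀ n ≤ 8, σ ∣ 2 → σ ≠ 2 → 3 < n → n - 2 ∣ 3 * σ → n = 5 ∧ σ = 1 := by decide
    obtain ⟨e, rfl⟩ := this σ s7 _ (by omega) s1 s2 hn' s4
    exact absurd ((Cfsg.Agent.S0735.result G h1 hn).1 (by rw [s5, e]; decide)) hnt
  · change σ ≤ 6 at s7
    have : ∀ σ ≤ 6, ∀ n ≤ 27, σ ∣ 6 → σ ≠ 6 → 4 < n → n - 3 ∣ 4 * σ → 6 ∣ (n - 2) * σ →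
        (n = 5 ∧ σ = 2) ∨ (n = 11 ∧ σ = 2) ∨ (n = 6 ∧ σ = 3) := by decide +kernel
    rcases this σ s7 _ (by omega) s1 s2 hn' s4 s3 with ⟨e, rfl⟩ | ⟨e, rfl⟩ | ⟨e, rfl⟩ <;> rw [e] at s5 a1 <;>
      norm_num [Nat.choose, -Nat.card_eq_fintype_card] at s5
    · exact Or.inr (Or.inl ⟨e, rfl, s5⟩)
    · obtain ⟨d, m, d1, d2, d3⟩ := p1 11 (by norm_num) e
      have := Nat.le_of_dvd (by norm_num) d1
      interval_cases d <;> omega
    · obtain ⟨⟨g, g1⟩, g2⟩ := exists_prime_orderOf_dvd_card' (G := stabilizer G a) 2 (by omega)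
      replace g2 : orderOf g = 2 := (orderOf_coe _).trans g2
      obtain ⟨c, hc⟩ : ∃ c : α, g • c ≠ c := not_forall.mp fun H => by
        simp [show g = 1 from eq_of_smul_eq_smul (α := α) fun c => (H c).trans (one_smul _ _).symm] at g2
      have g3 := smul_smul_of_sq (show g * g = 1 by rw [← sq, ← g2, pow_orderOf_eq_one]) c
      rw [mem_stabilizer_iff] at g1
      have g4 := choose_mul_card h1 (s := {a, c, g • c}) (Finset.card_eq_three.mpr ⟨_, _, _, by grind, by grind, hc.symm, rfl⟩)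
      have g5 := (stabilizer G ({a, c, g • c} : Finset α)).orderOf_dvd_natCard (x := g) (by
        rw [mem_stabilizer_iff, Finset.smul_finset_insert, Finset.smul_finset_insert, Finset.smul_finset_singleton, g1, g3,
          Finset.pair_comm])
      rw [Nat.card_eq_fintype_card (α := α), e, show Nat.choose 6 (0 + 1 + 2) = 20 from rfl] at g4
      rw [g2] at g5
      omega
  · haveI := is_one_pretransitive_iff.mp ((ofStabilizer.isMultiplyPretransitive (a := a)).mp
      (isMultiplyPretransitive_of_le (G := G) (m := 2) (n := 3) (by omega) (by simp; omega)))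
    have p2 := fun p hp => prime_degree_count (G := stabilizer G a) (Ω := ofStabilizer G a) (p := p) hp
    have p3 := fun p d (hp : Fact p.Prime) => BN.classify_prime_add_one (G := stabilizer G a) (Ω := ofStabilizer G a) (p := p) (d := d)
    change σ ≤ 24 at s7
    have : ∀ σ ≤ 24, ∀ n ≤ 124, σ ∣ 24 → σ ≠ 24 → 5 < n → n - 4 ∣ 5 * σ → 24 ∣ (n - 3) * σ → (n = 6 ∧ σ = 8) ∨ (n = 9 ∧ σ = 4) ∨
        (n = 9 ∧ σ = 12) ∨ (n = 7 ∧ σ = 6) ∨ (n = 9 ∧ σ = 8) ∨ (n = 12 ∧ σ = 8) ∨ (n = 24 ∧ σ = 8) ∨ (n = 7 ∧ σ = 12) ∨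
        (n = 19 ∧ σ = 3) ∨ (n = 19 ∧ σ = 6) ∨ (n = 19 ∧ σ = 12) := by decide +kernel
    rcases this σ s7 _ (by omega) s1 s2 hn' s4 s3 with ⟨e, rfl⟩ | ⟨e, rfl⟩ | ⟨e, rfl⟩ | ⟨e, rfl⟩ | ⟨e, rfl⟩ | ⟨e, rfl⟩ | ⟨e, rfl⟩ |
      ⟨e, rfl⟩ | ⟨e, rfl⟩ | ⟨e, rfl⟩ | ⟨e, rfl⟩ <;> rw [e] at s5 a1 <;>
      norm_num [Nat.choose, -Nat.card_eq_fintype_card] at s5
    · exact Or.inr (Or.inr (Or.inl ⟨e, rfl, s5⟩))
    · exact Or.inr (Or.inr (Or.inr ⟨e, rfl, Or.inl s5⟩))
    · exact Or.inr (Or.inr (Or.inr ⟨e, rfl, Or.inr s5⟩))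
    · rcases p3 5 1 ⟨by norm_num⟩ (by omega) (by omega) (by omega) with h | h | ⟨q, -, h, -⟩
      · omega
      · omega
      · exact absurd (Nat.prime_two.eq_one_or_self_of_dvd 3 (Nat.prime_three.dvd_of_dvd_pow (n := q) (by rw [← h]; norm_num))) (by omega)
    · rcases p3 7 2 ⟨by norm_num⟩ (by omega) (by omega) (by omega) with h | h | ⟨q, -, h, h' | rfl, -⟩ <;> omega
    · obtain ⟨d, m, d1, d2, d3⟩ := p2 11 (by norm_num) (by omega)
      have := Nat.le_of_dvd (by norm_num) d1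
      interval_cases d <;> omega
    · obtain ⟨d, m, d1, d2, d3⟩ := p2 23 (by norm_num) (by omega)
      have := Nat.le_of_dvd (by norm_num) d1
      interval_cases d <;> omega
    · obtain ⟨d, m, d1, d2, d3⟩ := p1 7 (by norm_num) e
      have := Nat.le_of_dvd (by norm_num) d1
      interval_cases d <;> omega
    all_goals
      obtain ⟨d, m, d1, d2, d3⟩ := p1 19 (by norm_num) e
      have := Nat.le_of_dvd (by norm_num) d1
      interval_cases d <;> omega
  · exact absurd (mt_succ_of_hom ht h1 hn') hnt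

theorem lw_pred (hn : 2 * (k + 2) ≤ Fintype.card α) (h : IsPretransitive G (Set.powersetCard α (k + 2))) :
    IsMultiplyPretransitive G α (k + 1) := by
  have h0 : ∀ k, 2 * (k + 2) ≤ Fintype.card α → IsPretransitive G (Set.powersetCard α (k + 2)) →
      IsPretransitive G (Set.powersetCard α (k + 1)) := fun k hn h => hom_pred (by omega) h fun q _ hq => by
    have := Nat.le_of_dvd (by omega) hq
    omega
  induction k with
  | zero => exact is_one_pretransitive_iff.mpr ⟨fun a b => by simpa using hom_iff.mp (h0 0 hn h) {a} {b} rfl rfl⟩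
  | succ k ih =>
    by_contra hc
    rcases lw_exceptions (by omega) (ih (by omega) (h0 _ hn h)) hc (h0 _ hn h) h with h | h | h | h <;> omega

end Cfsg.Lib.Hall
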