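import Cfsg.Agent.Lib.Hall.KRa
import Cfsg.Agent.S4958

/-! # Class numbers of affine groups with a solvable coprime linear part -/

set_option autoImplicit false
set_option linter.unusedSectionVars false
set_option linter.style.haveILetI false

namespace Cfsg.Lib.Hall.KR

open Cfsg Cfsg.Lib Subgroup Cfsg.Lib.Block.B2 Cfsg.Lib.Hall.B3 Cfsg.Lib.Hall.MW
open scoped commutatorElement

local notation "𝐤" X => Nat.card (ConjClasses X)
local notation "𝐂" S => centralizer (SetLike.coe S)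

section sd
variable {G G' N V V' W : Type*} [Group G] [Finite G] [AddCommGroup V] [Finite V] [DistribMulAction G V]
  [Group G'] [Finite G'] [AddCommGroup V'] [Finite V'] [DistribMulAction G' V']
  [Group N] [Finite N] [AddCommGroup W] [Finite W] [DistribMulAction N W]

variable (G V) in
def ac : G →* MulAut (Multiplicative V) where
  toFun h := AddEquiv.toMultiplicative (DistribMulAction.toAddEquiv V h)
  map_one' := by ext x; exact one_smul G x.toAdd
  map_mul' a b := by ext x; exact mul_smul a b x.toAdd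

variable (G V) in
abbrev SD := Multiplicative V ⋊[ac G V] G

instance : Finite (SD G V) := Finite.of_equiv _ SemidirectProduct.equivProd.symm

def sdmap (f : G →* G') (e : V →+ V') (h : ∀ (g : G) v, e (g • v) = f g • e v) : SD G V →* SD G' V' :=
  SemidirectProduct.map (AddMonoidHom.toMultiplicative e) f fun g => MonoidHom.ext fun v => h g v.toAdd

theorem sd_step (f : G →* G') (e : V →+ V') (hf : Function.Surjective f) (he : Function.Surjective e)
    (h : ∀ (g : G) v, e (g • v) = f g • e v) (i : N →* G) (j : W →+ V) (h' : ∀ (n : N) w, j (n • w) = i n • j w)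
    (h1 : ∀ g, f g = 1 → ∃ n, i n = g) (h2 : ∀ v, e v = 0 → ∃ w, j w = v) (h3 : ∀ n, f (i n) = 1) (h4 : ∀ w, e (j w) = 0) :
    (𝐤 (SD G V)) ≤ (𝐤 (SD N W)) * 𝐤 (SD G' V') := by
  refine (k_mul (sdmap f e h) fun y => ?_).trans (Nat.mul_le_mul_right _ (k_surj ((sdmap i j h').codRestrict _ fun x =>
    SemidirectProduct.ext (h4 x.left.toAdd) (h3 x.right)) fun y => ?_))
  · obtain ⟨g, hg⟩ := hf y.right
    obtain ⟨v, hv⟩ := he y.left.toAdd
    exact ⟨⟨Multiplicative.ofAdd v, g⟩, SemidirectProduct.ext hv hg⟩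
  · obtain ⟨n, hn⟩ := h1 y.1.right (congrArg SemidirectProduct.right y.2)
    obtain ⟨w, hw⟩ := h2 y.1.left.toAdd (congrArg SemidirectProduct.left y.2)
    exact ⟨⟨Multiplicative.ofAdd w, n⟩, Subtype.ext (SemidirectProduct.ext hw hn)⟩

theorem sd_nrm (N : Subgroup G) [N.Normal] : (𝐤 (SD G V)) ≤ (𝐤 (SD N V)) * 𝐤 (G ⧸ N) := by
  refine (k_mul ((QuotientGroup.mk' N).comp (SemidirectProduct.rightHom : SD G V →* G))
    ((QuotientGroup.mk'_surjective N).comp SemidirectProduct.rightHom_surjective)).trans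
    (Nat.mul_le_mul_right _ (k_surj ((sdmap N.subtype (AddMonoidHom.id V) fun _ _ => rfl).codRestrict _ fun x =>
    (QuotientGroup.eq_one_iff _).2 x.right.2) fun y => ?_))
  exact ⟨⟨y.1.left, y.1.right, (QuotientGroup.eq_one_iff _).1 y.2⟩, rfl⟩

theorem sd_ab {p : ℕ} [Fact p.Prime] (hp : ∀ v : V, p • v = 0) (hG : ¬ p ∣ Nat.card G)
    (hf : ∀ g : G, (∀ v : V, g • v = v) → g = 1) (v : V) (hab : ∀ a b : G, a • v = v → b • v = v → a * b = b * a) :
    (𝐤 (SD G V)) ≤ Nat.card V := by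
  open SemidirectProduct in
  have e : ∀ (g : G) (w : V), (inl (Multiplicative.ofAdd w) * inr g : SD G V) = inr g * inl (Multiplicative.ofAdd w) → g • w = w :=
    fun g w h => by
      have : ac G V g (Multiplicative.ofAdd w) = Multiplicative.ofAdd w := by simpa using (congrArg SemidirectProduct.left h).symm
      exact this
  open SemidirectProduct in
  have := Cfsg.Agent.S4958.result p (rightHom : SD G V →* G).ker (fun x hx => by
      rw [← range_inl_eq_ker_rightHom] at hx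
      obtain ⟨w, rfl⟩ := hx
      rw [← map_pow, show w ^ p = 1 from hp w.toAdd, map_one])
    (by rwa [index_ker, MonoidHom.range_eq_top.2 rightHom_surjective, card_top])
    (le_antisymm (fun x hx => hf _ fun w => by
        have := congrArg SemidirectProduct.left (hx (inl (Multiplicative.ofAdd w)) (by simp))
        simp only [mul_left, left_inl, right_inl, map_one, MulAut.one_apply] at this
        rw [mul_comm] at this
        exact (mul_left_cancel this).symm)
      fun x hx y hy => by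
        rw [SetLike.mem_coe, ← range_inl_eq_ker_rightHom] at *
        obtain ⟨w, rfl⟩ := hx
        obtain ⟨u, rfl⟩ := hy
        rw [← map_mul, ← map_mul, mul_comm])
    inr.range (isComplement'_of_disjoint_and_mul_eq_univ (disjoint_def.2 (by
      rintro _ h ⟨g, rfl⟩; rw [show g = 1 from h, map_one]))
      (Set.eq_univ_of_forall fun x => ⟨inl x.left, by simp, inr x.right, ⟨_, rfl⟩, inl_left_mul_inr_right x⟩))
    (inl (Multiplicative.ofAdd v)) (by simp) (by
      rintro _ ⟨⟨a, rfl⟩, ha⟩ _ ⟨⟨b, rfl⟩, hb⟩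
      rw [← map_mul, ← map_mul, hab a b (e a v (ha _ rfl)) (e b v (hb _ rfl))])
  rwa [← SemidirectProduct.range_inl_eq_ker_rightHom,
    ← Nat.card_congr (MonoidHom.ofInjective SemidirectProduct.inl_injective).toEquiv] at this

@[reducible] def quoAct {U : AddSubgroup V} (h : Inv G V U) : DistribMulAction G (V ⧸ U) where
  smul g := QuotientAddGroup.map U U (DistribSMul.toAddMonoidHom V g) (h g)
  one_smul x := by obtain ⟨v, rfl⟩ := QuotientAddGroup.mk_surjective x; exact congrArg _ (one_smul G v)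
  mul_smul a b x := by obtain ⟨v, rfl⟩ := QuotientAddGroup.mk_surjective x; exact congrArg _ (mul_smul a b v)
  smul_zero g := map_zero _
  smul_add g := map_add _

/-- Clifford's theorem -/
theorem cr_normal (h : CR G V) (N : Subgroup G) [hN : N.Normal] : CR N V := by
  let Mn : AddSubgroup V → Prop := fun M => Minimal (fun M => Inv N V M ∧ M ≠ ⊥) M
  have tr : ∀ (g : G) (M : AddSubgroup V), Inv N V M → Inv N V (M.map (DistribSMul.toAddMonoidHom V g)) := by
    rintro g M hM n _ ⟨v, hv, rfl⟩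
    exact ⟨_, hM ⟨_, hN.conj_mem' _ n.2 g⟩ v hv, by simp [Subgroup.smul_def, ← mul_smul, mul_assoc]⟩
  have ij : ∀ g : G, Function.Injective (DistribSMul.toAddMonoidHom V g) := fun g => MulAction.injective g
  have bk : ∀ (g : G) (M : AddSubgroup V), (M.map (DistribSMul.toAddMonoidHom V g)).map (DistribSMul.toAddMonoidHom V g⁻¹) = M :=
    fun g M => by
      rw [AddSubgroup.map_map, show (DistribSMul.toAddMonoidHom V g⁻¹).comp (DistribSMul.toAddMonoidHom V g) = AddMonoidHom.id V from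
        AddMonoidHom.ext fun v => inv_smul_smul g v, AddSubgroup.map_id]
  have tm : ∀ (g : G) M, Mn M → Mn (M.map (DistribSMul.toAddMonoidHom V g)) := fun g M hM =>
    ⟨⟨tr g M hM.1.1, mt (AddSubgroup.map_eq_bot_iff_of_injective _ (ij g)).1 hM.1.2⟩, fun L hL l => by
      have := AddSubgroup.map_mono (f := DistribSMul.toAddMonoidHom V g) (hM.2 ⟨tr g⁻¹ L hL.1,
        mt (AddSubgroup.map_eq_bot_iff_of_injective _ (ij g⁻¹)).1 hL.2⟩ (bk g M ▸ AddSubgroup.map_mono l))
      have t := bk g⁻¹ L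
      rw [inv_inv] at t
      rwa [t] at this⟩
  have soc : sSup {M | Mn M} = ⊤ := by
    obtain ⟨C, c1, c2, c3⟩ := h (sSup {M | Mn M}) fun g v hv =>
      (sSup_le fun M hM x hx => le_sSup (s := {M | Mn M}) (tm g M hM) ⟨x, hx, rfl⟩ :
        sSup {M | Mn M} ≤ (sSup {M | Mn M}).comap (DistribSMul.toAddMonoidHom V g)) hv
    by_cases t : C = ⊥
    · simpa [t] using c3
    obtain ⟨M, m1, m2⟩ := Finite.exists_le_minimal (p := fun M => Inv N V M ∧ M ≠ ⊥) (a := C) ⟨fun n => c1 n.1, t⟩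
    exact absurd (le_bot_iff.1 (c2 ▸ le_inf (le_sSup m2) m1)) m2.1.2
  intro U hU
  obtain ⟨W, -, ⟨w1, w2⟩, w3⟩ := Finite.exists_le_maximal (p := fun W => Inv N V W ∧ U ⊓ W = ⊥) (a := ⊥)
    ⟨fun a v hv => by rw [AddSubgroup.mem_bot.1 hv, smul_zero]; exact zero_mem _, by simp⟩
  refine ⟨W, w1, w2, top_le_iff.1 (soc ▸ sSup_le fun M hM => ?_)⟩
  have iv : ∀ A B : AddSubgroup V, Inv N V A → Inv N V B → Inv N V (A ⊔ B) := fun A B hA hB n v hv => by
    obtain ⟨a, ha, b, hb, rfl⟩ := AddSubgroup.mem_sup.1 hv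
    rw [smul_add]; exact AddSubgroup.add_mem_sup (hA n a ha) (hB n b hb)
  by_cases t : M ⊓ (U ⊔ W) = ⊥
  · refine le_sup_right.trans ((w3 (y := W ⊔ M) ⟨iv _ _ w1 hM.1.1, eq_bot_iff.2 fun u hu => ?_⟩ le_sup_left).trans le_sup_right)
    obtain ⟨a, ha, b, hb, rfl⟩ := AddSubgroup.mem_sup.1 hu.2
    have : b = 0 := AddSubgroup.mem_bot.1 (t ▸ ⟨hb, by
      simpa using sub_mem (AddSubgroup.mem_sup_left hu.1 : a + b ∈ U ⊔ W) (AddSubgroup.mem_sup_right ha)⟩)
    subst this
    exact w2 ▸ ⟨hu.1, by simpa using ha⟩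
  · exact (hM.2 (y := M ⊓ (U ⊔ W)) ⟨fun n v hv => ⟨hM.1.1 n v hv.1, iv _ _ hU w1 n v hv.2⟩, t⟩ inf_le_left).trans inf_le_right
end sd

universe u
variable {p : ℕ} [hp : Fact p.Prime]

/-- a chain of invariant subgroups of length `t` -/
def Ch (G V : Type*) [Group G] [AddCommGroup V] [DistribMulAction G V] (t : ℕ) : Prop :=
  ∃ c : ℕ → AddSubgroup V, (∀ i, Inv G V (c i)) ∧ ∀ i < t, c i < c (i + 1)

variable (p) in
def VB (n t : ℕ) : Prop := ∀ (G V : Type u) [Group G] [Finite G] [Group.IsSolvable G] [AddCommGroup V] [Finite V]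
  [DistribMulAction G V] (r : ℕ), Nat.card V < n → Nat.card V = p ^ r → (∀ v : V, p • v = 0) → ¬ p ∣ Nat.card G →
  (∀ g : G, (∀ v : V, g • v = v) → g = 1) → Ch G V t → 3 ^ t * (𝐤 (SD G V)) ≤ 3 ^ r * Nat.card V

theorem vb_two {n : ℕ} (ih : ∀ t, VB.{u} p n (t + 1)) (t : ℕ) : VB.{u} p (n + 1) (t + 2) := by
  intro G V _ _ _ _ _ _ r hn hr hV hG hf ⟨c, c1, c2⟩
  set W := c (t + 1)
  have w1 : W ≠ ⊤ := (c2 _ (by omega)).ne_top
  letI := quoAct (c1 (t + 1))
  letI := subAct (c1 (t + 1))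
  haveI := im_solv (G := G) (V := V ⧸ W)
  haveI : Finite (V ⧸ W) := Quotient.finite _
  have lt := card_lt w1
  have e := W.card_eq_card_quotient_mul_card_addSubgroup
  have w0 : W ≠ ⊥ := (c2 t (by omega)).ne_bot
  have w2 : 2 ≤ Nat.card W := (AddSubgroup.one_lt_card_iff_ne_bot W).2 w0
  have q0 : 0 < Nat.card (V ⧸ W) := Nat.card_pos
  obtain ⟨a, -, ha⟩ := (Nat.dvd_prime_pow hp.out).1 (hr ▸ W.card_addSubgroup_dvd_card)
  obtain ⟨b, -, hb⟩ := (Nat.dvd_prime_pow hp.out).1 (hr ▸ Dvd.intro _ e.symm : Nat.card (V ⧸ W) ∣ p ^ r)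
  obtain rfl : r = b + a := Nat.pow_right_injective hp.out.two_le (by simp only [← hr, e, ha, hb, pow_add])
  have t1 := ih t (kr G (V ⧸ W)) W a (by omega) ha (fun v => Subtype.ext (hV v.1))
    (fun d => hG (d.trans (card_subgroup_dvd_card _))) (fun g hg => ?_)
    ⟨fun i => (c i).addSubgroupOf W, fun i g v hv => c1 i g.1 v.1 hv, fun i hi => ?_⟩
  have t2 := ih 0 (rp G (V ⧸ W)).range (V ⧸ W) b (by nlinarith) hb (fun v => ?_)
    (fun d => hG (d.trans (card_dvd_of_surjective _ (rp G (V ⧸ W)).rangeRestrict_surjective))) im_faith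
    ⟨fun i => if i = 0 then ⊥ else ⊤, fun i g v hv => ?_, fun i hi => ?_⟩
  · have t3 := sd_step (rp G (V ⧸ W)).rangeRestrict (QuotientAddGroup.mk' W) (rp G (V ⧸ W)).rangeRestrict_surjective
      (QuotientAddGroup.mk'_surjective W) (fun _ _ => rfl) (kr G (V ⧸ W)).subtype W.subtype (fun _ _ => rfl)
      (fun g hg => ⟨⟨g, fun v => by rw [← im_smul, hg, one_smul]⟩, rfl⟩)
      (fun v hv => ⟨⟨v, (QuotientAddGroup.eq_zero_iff v).1 hv⟩, rfl⟩) (fun n => im_faith _ n.2)
      fun w => (QuotientAddGroup.eq_zero_iff w.1).2 w.2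
    calc _ ≤ 3 ^ (t + 2) * _ := Nat.mul_le_mul_left _ t3
      _ = (3 ^ (t + 1) * _) * (3 ^ (0 + 1) * _) := by ring
      _ ≤ _ := Nat.mul_le_mul t1 t2
      _ = _ := by rw [e]; ring
  · obtain ⟨v, rfl⟩ := QuotientAddGroup.mk_surjective v
    rw [← QuotientAddGroup.mk_nsmul, hV]; rfl
  · dsimp only at hv ⊢
    split_ifs at hv ⊢
    · rw [AddSubgroup.mem_bot.1 hv, smul_zero]; exact zero_mem _
    · trivial
  · obtain rfl : i = 0 := by omega
    haveI : Nontrivial (V ⧸ W) := Finite.one_lt_card_iff_nontrivial.1 (by nlinarith)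
    simp
  · have k : ∀ (m : ℕ) (v : V), g.1 ^ m • v = v + m • (g.1 • v - v) := fun m v => by
      have t : g.1 • v - v ∈ W := by
        have := QuotientAddGroup.eq.1 (g.2 (QuotientAddGroup.mk v)).symm
        rwa [neg_add_eq_sub] at this
      have t' : g.1 • (g.1 • v - v) = g.1 • v - v := congrArg Subtype.val (hg ⟨_, t⟩)
      induction m with
      | zero => simp
      | succ m ih => rw [pow_succ', mul_smul, ih, smul_add, smul_comm, t', succ_nsmul]; abel
    have := orderOf_dvd_of_pow_eq_one (hf _ fun v => by rw [k p v, hV, add_zero])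
    rcases hp.out.eq_one_or_self_of_dvd _ this with e | e
    · exact Subtype.ext (orderOf_eq_one_iff.1 e)
    · exact absurd (e ▸ orderOf_dvd_natCard g.1) hG
  · have m : ∀ j, j ≤ t + 1 → c j ≤ W := fun j hj => by
      induction hj using Nat.decreasingInduction with
      | self => exact le_rfl
      | of_succ k hk ih => exact (c2 k (by omega)).le.trans ih
    obtain ⟨l1, l2⟩ := SetLike.lt_iff_le_and_exists.1 (c2 i (by omega))
    obtain ⟨x, x1, x2⟩ := l2
    exact SetLike.lt_iff_le_and_exists.2 ⟨fun v hv => l1 hv, ⟨x, m _ (by omega) x1⟩, x1, x2⟩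

theorem vb_all (n : ℕ) : ∀ t, VB.{u} p n (t + 1) := by
  induction n with
  | zero => intro t G V _ _ _ _ _ _ r h; omega
  | succ n ih =>
  intro t
  rcases t with _ | t
  swap
  · exact vb_two ih t
  intro G V _ _ _ _ _ _ r hn hr hV hG hf hc
  haveI : Nontrivial V := by
    obtain ⟨c, -, c2⟩ := hc
    obtain ⟨x, -, hx⟩ := SetLike.exists_of_lt (c2 0 (by omega))
    exact ⟨⟨x, 0, fun e => hx (e ▸ zero_mem _)⟩⟩
  by_cases hi : Block.B2.Irr G V
  swap
  · simp only [Block.B2.Irr, not_forall, not_or] at hi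
    obtain ⟨U, hU, h0, h1⟩ := hi
    refine le_trans (Nat.mul_le_mul_right _ (by norm_num)) (vb_two ih 0 G V r hn hr hV hG hf
      ⟨fun i => if i = 0 then ⊥ else if i = 1 then U else ⊤, fun i g v hv => ?_, fun i hi => ?_⟩)
    · dsimp only at hv ⊢
      split_ifs at hv ⊢
      · rw [AddSubgroup.mem_bot.1 hv, smul_zero]; exact zero_mem _
      · exact hU g v hv
      · trivial
    · interval_cases i
      · simpa using bot_lt_iff_ne_bot.2 h0
      · simpa using lt_top_iff_ne_top.2 h1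
  rcases exists_PS hi hf with ⟨H, e, I⟩ | ⟨K, _, _, _, Z, _, ι, E, _, A, _, _, _, π, β, P⟩
  · obtain ⟨t, ht⟩ : ∃ t, H.index = t + 2 := ⟨H.index - 2, by have := one_lt_index_of_ne_top I.co.1; omega⟩
    let q : Fin (t + 2) ≃ G ⧸ H := (Finite.equivFinOfCardEq ht).symm
    have t1 := vb_two ih t H.normalCore V r hn hr hV (fun d => hG (d.trans (card_subgroup_dvd_card _)))
      (fun g hg => Subtype.ext (hf _ hg)) ⟨fun i =>
        { carrier := {v | ∀ j : Fin (t + 2), i ≤ j.1 → e ((q j).out⁻¹ • v) = 0}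
          zero_mem' := fun j _ => by simp
          add_mem' := fun ha hb j hj => by rw [smul_add, map_add, ha j hj, hb j hj, add_zero]
          neg_mem' := fun ha j hj => by rw [smul_neg, map_neg, ha j hj, neg_zero] }, fun i g v hv j hj => ?_, fun i hi => ?_⟩
    · have t2 := (sd_nrm (V := V) H.normalCore).trans (Nat.mul_le_mul_left _ (kcore H).top)
      rw [ht] at t2
      calc _ ≤ 3 ^ (0 + 1) * _ := Nat.mul_le_mul_left _ t2
        _ = 3 ^ (t + 2) * _ := by rw [show t + 2 - 1 = t + 1 from rfl]; ring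
        _ ≤ _ := t1
    · have := I.comm _ (g.2 (q j).out⁻¹) ((q j).out⁻¹ • v)
      rw [hv j hj, smul_zero, ← mul_smul, inv_mul_cancel_right, mul_smul] at this
      exact this
    · obtain ⟨v, hv⟩ := I.ne
      refine SetLike.lt_iff_le_and_exists.2 ⟨fun v hv j hj => hv j (by omega), (q ⟨i, hi⟩).out • e v, fun j hj => ?_, fun t => hv ?_⟩
      · rw [← mul_smul]
        refine I.orth _ (fun m => ?_) v
        have := q.injective ((q j).out_eq.symm.trans ((QuotientGroup.eq.2 m).trans (q ⟨i, hi⟩).out_eq))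
        simp [this] at hj
      · have := t ⟨i, hi⟩ le_rfl
        rwa [inv_smul_smul, I.idem] at this
  obtain ⟨b, eb⟩ := P.alt.isSquare
  obtain ⟨b0, bn, -, -⟩ := P.bb eb
  obtain ⟨v, hv⟩ := exists_ne (0 : V)
  have t1 := sd_ab (G := E) hV (fun d => hG (d.trans (card_subgroup_dvd_card _))) (fun g hg => Subtype.ext (hf _ hg)) v
    fun x y hx hy => Subtype.ext (commutatorElement_eq_one_iff_mul_comm.1 (by_contra fun n => hv (P.L.fpf (P.form _ x.2 _ y.2).1 n
      (commutator_le_self (MulAction.stabilizer G v) (commutator_mem_commutator hx hy)))))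
  haveI := im_solv (G := G) (V := A)
  haveI : (HH Z A).Normal := Normal.map inferInstance _ (rp G A).rangeRestrict_surjective
  have t2 := (symp P.sy (cr_normal (G := (rp G A).range) (fun U hU => by
    obtain ⟨W, h1, h2⟩ := P.cr U fun a => hU ((rp G A).rangeRestrict a)
    refine ⟨W, fun a => ?_, h2⟩
    obtain ⟨g, rfl⟩ := (rp G A).rangeRestrict_surjective a
    exact h1 g) _) eb).of_hom (ph Z A) (E.subgroupOf (𝐂 Z)) fun g hg => P.ph_eq.1 hg
  have t3 := (sd_nrm (V := V) E).trans (Nat.mul_le_mul t1 (KB.step P.le' t2 (KB.of_card le_rfl)).top)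
  obtain ⟨q0, q1, q2⟩ := P.fld
  have t0 : Nat.card V = Nat.card K ^ Module.finrank K V := Module.natCard_eq_pow_finrank
  have f0 : (𝐂 Z).index ≠ 0 := index_ne_zero_of_finite
  obtain ⟨s, -, hs⟩ := (Nat.dvd_prime_pow hp.out).1 (hr ▸ t0 ▸ q2 ▸ (dvd_pow_self _ f0).trans (dvd_pow_self _ Module.finrank_pos.ne') : q0 ∣ p ^ r)
  have s0 : s ≠ 0 := by rintro rfl; rw [pow_zero] at hs; omega
  have e : r = s * (𝐂 Z).index * Module.finrank K V :=
    Nat.pow_right_injective hp.out.two_le (by simp only [← hr, t0, ← q2, hs, pow_mul])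
  change _ ≤ _ * (_ * (𝐂 Z).index) at t3
  obtain ⟨f, hf⟩ : ∃ f, (𝐂 Z).index = f + 1 := ⟨_, (Nat.succ_pred_eq_of_ne_zero f0).symm⟩
  obtain ⟨c, rfl⟩ : ∃ c, b = c + 1 := ⟨b - 1, by omega⟩
  rw [hf, Nat.add_sub_cancel] at t3
  rw [hf] at e
  have l1 : f + 1 ≤ 3 ^ f := Nat.lt_pow_self (by norm_num)
  have l2 : 3 ^ (c + f + 1) ≤ 3 ^ r := Nat.pow_le_pow_right (by norm_num) (by
    have : (f + 1) * (c + 1) ≤ s * (f + 1) * Module.finrank K V :=
      Nat.mul_le_mul (Nat.le_mul_of_pos_left _ (by omega)) bn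
    nlinarith)
  calc _ ≤ 3 ^ (0 + 1) * (Nat.card V * (3 ^ c * 3 ^ f)) :=
        Nat.mul_le_mul_left _ (t3.trans (Nat.mul_le_mul_left _ (Nat.mul_le_mul_left _ l1)))
    _ = 3 ^ (c + f + 1) * Nat.card V := by ring
    _ ≤ _ := Nat.mul_le_mul_right _ l2

end Cfsg.Lib.Hall.KR
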