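import Cfsg.Agent.Lib.Hall.KRb
import Cfsg.Agent.Lib.Hall.KRc

/-! # Abelian subgroups of small index in solvable linear groups -/

set_option autoImplicit false
set_option linter.unusedSectionVars false
set_option linter.style.haveILetI false

namespace Cfsg.Lib.Hall.KL

open Cfsg Cfsg.Lib Subgroup Cfsg.Lib.Block.B2 Cfsg.Lib.Hall.B3 Cfsg.Lib.Hall.KR

local notation "𝐂" S => centralizer (SetLike.coe S)

universe u
variable {G V : Type u} [Group G] [Finite G] [AddCommGroup V] [Finite V] [DistribMulAction G V]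

variable (G V) in
/-- a subgroup of index at most `i` acts as an abelian group -/
def Ab (i : ℕ) : Prop := ∃ A : Subgroup G, (∀ a ∈ A, ∀ b ∈ A, ∀ v : V, a • b • v = b • a • v) ∧ A.index ≤ i

theorem idx_comap {G' : Type*} [Group G'] (A : Subgroup G) (f : G' →* G) : (A.comap f).index ≤ A.index := by
  rw [index_comap, ← relIndex_top_right]
  exact relIndex_le_of_le_right le_top (by rw [relIndex_top_right]; exact index_ne_zero_of_finite)

theorem Ab.of_im {i : ℕ} (h : Ab (rp G V).range V i) : Ab G V i :=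
  let ⟨A, h1, h2⟩ := h
  ⟨A.comap (rp G V).rangeRestrict, fun a ha b hb => h1 _ ha _ hb, (idx_comap _ _).trans h2⟩

theorem Ab.of_sub {i : ℕ} {C : Subgroup G} (h : Ab C V i) : Ab G V (i * C.index) :=
  let ⟨A, h1, h2⟩ := h
  ⟨A.map C.subtype, by rintro _ ⟨a, ha, rfl⟩ _ ⟨b, hb, rfl⟩; exact h1 a ha b hb, by
    rw [index_map_subtype]; exact Nat.mul_le_mul_right _ h2⟩

theorem Ab.sum {i j : ℕ} {U W : AddSubgroup V} (hU : Inv G V U) (hW : Inv G V W) (h3 : U ⊔ W = ⊤)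
    (b1 : letI := subAct hU; Ab G U i) (b2 : letI := subAct hW; Ab G W j) : Ab G V (i * j) := by
  obtain ⟨A, a1, a2⟩ := b1
  obtain ⟨B, b1, b2⟩ := b2
  refine ⟨A ⊓ B, fun a ha b hb x => ?_, index_inf_le.trans (Nat.mul_le_mul a2 b2)⟩
  obtain ⟨u, hu, w, hw, rfl⟩ := AddSubgroup.mem_sup.1 (h3 ▸ trivial : x ∈ U ⊔ W)
  simp only [smul_add]
  exact congrArg₂ (· + ·) (congrArg Subtype.val (a1 a ha.1 b hb.1 ⟨u, hu⟩)) (congrArg Subtype.val (b1 a ha.2 b hb.2 ⟨w, hw⟩))

theorem Ab.imp {i : ℕ} {H : Subgroup G} {e : V →+ V} (h : Imp V H e) (hi : Block.B2.Irr G V)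
    (b : letI := subAct h.inv; Ab H e.range i) : Ab G V (i ^ H.index * H.normalCore.index) := by
  obtain ⟨A, a1, a2⟩ := b
  haveI := Fintype.ofFinite (G ⧸ H)
  let f : G ⧸ H → (H.normalCore →* H) := fun c => ((MulAut.conj c.out⁻¹).toMonoidHom.comp H.normalCore.subtype).codRestrict H
    fun x => x.2 c.out⁻¹
  refine Ab.of_sub ⟨⨅ c, A.comap (f c), fun a ha b hb v => ?_, (index_iInf_le _).trans ?_⟩
  · have := h.triv hi (g := (b.1 * a.1)⁻¹ * (a.1 * b.1)) (fun c x hx => by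
      have t : (c.out⁻¹ * a.1 * c.out⁻¹⁻¹) • (c.out⁻¹ * b.1 * c.out⁻¹⁻¹) • x =
          (c.out⁻¹ * b.1 * c.out⁻¹⁻¹) • (c.out⁻¹ * a.1 * c.out⁻¹⁻¹) • x :=
        congrArg Subtype.val (a1 _ (mem_iInf.1 ha c) _ (mem_iInf.1 hb c) ⟨x, hx⟩)
      rw [mul_smul, inv_smul_eq_iff]
      simpa [mul_smul] using t) v
    rw [mul_smul, inv_smul_eq_iff, mul_smul, mul_smul] at this
    exact this
  · refine (Finset.prod_le_pow_card _ _ i fun c _ => (idx_comap _ _).trans a2).trans_eq ?_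
    rw [Finset.card_univ, ← Nat.card_eq_fintype_card]; rfl

theorem dixon [Group.IsSolvable G] {H : Subgroup G} (h : IsCoatom H) : 24 * H.normalCore.index ^ 3 ≤ 24 ^ H.index := by
  have h2 : 24 ^ 4 * H.normalCore.index ^ 12 ≤ (24 ^ 4) ^ H.index := by
    by_cases l : 5 ≤ H.index
    · obtain ⟨M, _, hc, M0, i, c1, c2, -⟩ := prim_quot h
      haveI : Nontrivial (AX M hc) := (nontrivial_iff_ne_bot M).2 M0
      have := pw_all _ _ (AX M hc) (Nat.lt_succ_self _) i.cr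
      rw [AX.kr_eq, c2, AX.card, c1] at this
      have t := ind_pow 5 39 1 (24 ^ 4) 1 (by norm_num) (by norm_num) (by norm_num) l
      rw [index, ← M.index_mul_card, c1, mul_pow, ← mul_assoc]
      refine (Nat.mul_le_mul_right _ this).trans ?_
      rw [← pow_add]; simpa using t
    · have : H.normalCore.index ≤ H.index.factorial := by
        rw [normalCore_eq_ker, index_ker, index_eq_card, ← Nat.card_perm]
        exact card_le_card_group _
      have i1 : H.index ≠ 1 := fun e => h.1 (index_eq_one.1 e)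
      have i0 : H.index ≠ 0 := index_ne_zero_of_finite
      refine (Nat.mul_le_mul_left _ (Nat.pow_le_pow_left this _)).trans ?_
      generalize H.index = m at *
      interval_cases m <;> simp_all [Nat.factorial]
  refine (Nat.pow_le_pow_iff_left (n := 4) (by norm_num)).1 ?_
  rwa [mul_pow, ← pow_mul, ← pow_mul, mul_comm H.index, pow_mul 24]

theorem fld2 {Z : Subgroup G} [Z.Normal] (hf : ∀ g : G, (∀ v : V, g • v = v) → g = 1) (hK : IsField (KK V Z)) :
    ∃ F : Subring (KK V Z), Nat.card F ^ (𝐂 Z).index = Nat.card (KK V Z) ∧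
      ∀ r : KK V Z, (∀ g : G, cj V g r.1 = r.1) → r ∈ F := by
  letI := hK.toField
  haveI : Finite (AddMonoid.End V) := DFunLike.finite (V →+ V)
  letI : MulSemiringAction G (KK V Z) :=
    { smul g r := ⟨cj V g r.1, cj_mem g r.2⟩
      one_smul r := Subtype.ext (cj_one r.1)
      mul_smul a b r := Subtype.ext (cj_cj a b r.1).symm
      smul_zero g := Subtype.ext (map_zero (cj V g))
      smul_add g a b := Subtype.ext (map_add (cj V g) a.1 b.1)
      smul_one g := Subtype.ext (map_one (cj V g))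
      smul_mul g a b := Subtype.ext (map_mul (cj V g) a.1 b.1) }
  set φ := MulSemiringAction.toRingAut G (KK V Z)
  haveI : Finite φ.range := Finite.of_surjective _ φ.rangeRestrict_surjective
  haveI := Fintype.ofFinite φ.range
  have e : φ.ker = 𝐂 Z := by
    ext g
    refine ⟨fun h z hz => ?_, fun h => RingEquiv.ext fun r => Subtype.ext ?_⟩
    · have := congrArg Subtype.val (DFunLike.congr_fun (MonoidHom.mem_ker.1 h)
        ⟨DistribMulAction.toAddMonoidEnd G V z, Subring.subset_closure ⟨⟨z, hz⟩, rfl⟩⟩)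
      refine (mul_inv_eq_iff_eq_mul.1 (inv_mul_eq_one.1 (hf _ fun v => ?_)).symm).symm
      rw [mul_smul, inv_smul_eq_iff, mul_smul, mul_smul]
      exact DFunLike.congr_fun this v
    · show cj V g r.1 = r.1
      refine AddMonoidHom.ext fun v => ?_
      have := DFunLike.congr_fun (KK_cent h r.2) (g⁻¹ • v)
      exact this.trans (congrArg r.1 (smul_inv_smul g v))
  refine ⟨(FixedPoints.subfield φ.range (KK V Z)).toSubring, ?_, fun r hr => ?_⟩
  · rw [← e, index_ker, Nat.card_eq_fintype_card (α := φ.range), ← FixedPoints.finrank_eq_card φ.range (KK V Z)]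
    exact (Module.natCard_eq_pow_finrank (K := FixedPoints.subfield φ.range (KK V Z))).symm
  · rintro ⟨_, g, rfl⟩; exact Subtype.ext (hr g)

theorem exists_PS2 [Nontrivial V] [Group.IsSolvable G] (hi : Block.B2.Irr G V) (hf : ∀ g : G, (∀ v : V, g • v = v) → g = 1) :
    (∃ (H : Subgroup G) (e : V →+ V), Imp V H e) ∨ ∃ (K : Type u) (_ : Field K) (_ : Finite K) (_ : Module K V)
      (Z : Subgroup G) (_ : Z.Normal) (ι : Z →* K) (E : Subgroup G) (_ : E.Normal) (A : Type u) (_ : AddCommGroup A)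
      (_ : Finite A) (_ : DistribMulAction G A) (π : G → A) (β : Fm K A), PS V Z ι E π β ∧
      ∃ F : Subring K, Nat.card F ^ (𝐂 Z).index = Nat.card K ∧ ∀ z : Z, (∀ g : G, g * z = z * g) → ι z ∈ F := by
  obtain ⟨Z, -, ⟨hZ, hZ'⟩, hmax⟩ := Finite.exists_le_maximal
    (p := fun Z : Subgroup G => Z.Normal ∧ Z ≤ 𝐂 Z) (a := ⊥) ⟨inferInstance, bot_le⟩
  refine (imp_or_field hi hZ').imp_right fun hK => ?_
  letI := hK.toField
  haveI : Finite (AddMonoid.End V) := DFunLike.finite (V →+ V)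
  let ι : Z →* KK V Z := ((DistribMulAction.toAddMonoidEnd G V).comp Z.subtype).codRestrict (KK V Z)
    fun z => Subring.subset_closure ⟨z, rfl⟩
  have hL : Lx V Z ι := ⟨hf, fun _ _ => rfl, fun a ha k v => DFunLike.congr_fun (KK_cent ha k.2) v⟩
  obtain ⟨E, _, A, _, _, _, π, β, P⟩ := exists_QS hL.inj hZ' hmax
  obtain ⟨F, f1, f2⟩ := fld2 hf hK
  refine ⟨KK V Z, inferInstance, inferInstance, inferInstance, Z, hZ, ι, E, inferInstance, A, inferInstance, inferInstance,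
    inferInstance, π, β, ⟨‹_›, hL, hZ', P.le, P.le', P.alt, P.mul, P.surj, P.zero, P.conj, P.form, P.faith, P.nd,
      fld_KK hf hK⟩, F, f1, fun z hz => f2 _ fun g => AddMonoidHom.ext fun v => ?_⟩
  show g • z.1 • g⁻¹ • v = z.1 • v
  rw [← mul_smul, hz, mul_smul, smul_inv_smul]

section ps
variable {K : Type u} [Field K] [Finite K] [Module K V] {Z : Subgroup G} [hZn : Z.Normal] {ι : Z →* K} {E : Subgroup G}
  [hEn : E.Normal] {A : Type u} [AddCommGroup A] [Finite A] [DistribMulAction G A] {π : G → A} {β : Fm K A}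

theorem ps_ab [Nontrivial V] (P : PS V Z ι E π β) : ∃ b a : ℕ, 0 < b ∧ b ≤ Module.finrank K V ∧
    Ab G V ((𝐂 Z).index * (b * b * a)) ∧ (b = 1 → a = 1) ∧ (b = 3 → a ≤ 24) ∧ (2 ≤ b → 24 ^ 4 * a ^ 12 ≤ b ^ 54) := by
  obtain ⟨b, hb⟩ := P.alt.isSquare
  obtain ⟨b0, bn, -, -⟩ := P.bb hb
  refine ⟨b, Nat.card (HH Z A), b0, bn, ⟨Z, fun x hx y hy v => by rw [← mul_smul, P.comm hy x hx, mul_smul], le_of_eq ?_⟩,
    fun e => ?_, fun e => ?_, P.pw hb⟩
  · refine Nat.eq_of_mul_eq_mul_right (Nat.card_pos (α := Z)) ?_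
    rw [Z.index_mul_card, ← (𝐂 Z).index_mul_card, P.card_C, hb]; ring
  · subst e
    haveI : Subsingleton A := (Nat.card_eq_one_iff_unique.1 hb).1
    haveI : Subsingleton (HH Z A) := ⟨fun x y => inv_mul_eq_one.1 (P.sy.faith _ fun a => Subsingleton.elim _ _)⟩
    exact Nat.card_unique
  · subst e
    simpa using P.sy.rank2 Nat.prime_three.squarefree hb

theorem ps_cent (P : PS V Z ι E π β) {x : G} (hx : ∀ g : G, g * x = x * g) : x ∈ Z := by
  have h : x ∈ E := P.faith x (fun z _ => hx z) fun a => by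
    obtain ⟨y, hy, rfl⟩ := P.surj a
    rw [← P.conj x y hy, ← hx, mul_inv_cancel_right]
  refine (P.zero x h).1 (P.alt.nd _ fun a => ?_)
  obtain ⟨y, hy, rfl⟩ := P.surj a
  exact (P.bz h hy).2 (hx y).symm
end ps

theorem lin_exp {f q k : ℕ} (f0 : 0 < f) (h : 2 ^ k ≤ q) : f ^ k ≤ q ^ (f - 1) := by
  obtain ⟨f, rfl⟩ : ∃ g, f = g + 1 := ⟨f - 1, by omega⟩
  refine (Nat.pow_le_pow_left (show f + 1 ≤ 2 ^ f from Nat.lt_two_pow_self) k).trans ?_
  rw [← pow_mul, mul_comm, pow_mul]; exact Nat.pow_le_pow_left h _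

theorem num1 {f b a r : ℕ} (f0 : 0 < f) (b0 : 0 < b) (hr : f * b ≤ r) (a1 : b = 1 → a = 1) (a3 : b = 3 → a ≤ 24)
    (ha : 2 ≤ b → 24 ^ 4 * a ^ 12 ≤ b ^ 54) : 24 * (f * (b * b * a)) ^ 3 ≤ 1000 ^ r := by
  have t1 : f ^ 3 ≤ 1000 ^ (f - 1) := lin_exp f0 (by norm_num)
  have t2 : 24 * (b * b * a) ^ 3 ≤ 1000 ^ b := by
    by_cases e1 : b = 1
    · rw [a1 e1, e1]; norm_num
    by_cases e3 : b = 3
    · have := a3 e3
      rw [e3]
      calc _ ≤ 24 * (3 * 3 * 24) ^ 3 := by gcongr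
        _ ≤ _ := by norm_num
    have t : b ^ 78 ≤ (1000 ^ 4) ^ b := by
      by_cases e2 : b = 2
      · rw [e2]; norm_num
      · simpa only [one_mul, mul_one] using ind_pow 4 78 1 (1000 ^ 4) 1 (by norm_num) (by norm_num) (by norm_num) (show 4 ≤ b by omega)
    refine (Nat.pow_le_pow_iff_left (n := 4) (by norm_num)).1 ?_
    calc _ = b ^ 24 * (24 ^ 4 * a ^ 12) := by ring
      _ ≤ b ^ 24 * b ^ 54 := Nat.mul_le_mul_left _ (ha (by omega))
      _ ≤ _ := by rw [← pow_add, ← pow_mul, mul_comm b 4, pow_mul]; exact t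
  calc _ = f ^ 3 * (24 * (b * b * a) ^ 3) := by ring
    _ ≤ 1000 ^ (f - 1) * 1000 ^ b := Nat.mul_le_mul t1 t2
    _ ≤ _ := by
      rw [← pow_add]
      refine Nat.pow_le_pow_right (by norm_num) (le_trans ?_ hr)
      obtain ⟨f, rfl⟩ : ∃ g, f = g + 1 := ⟨f - 1, by omega⟩
      rw [Nat.add_sub_cancel]; nlinarith

theorem J1 {p : ℕ} (hp : p.Prime) (n : ℕ) : ∀ (G V : Type u) [Group G] [Finite G] [AddCommGroup V] [Finite V]
    [DistribMulAction G V] [Group.IsSolvable G] [Nontrivial V] (r : ℕ), Nat.card V < n → Nat.card V = p ^ r →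
    Block.B2.Irr G V → ∃ i, Ab G V i ∧ 24 * i ^ 3 ≤ 1000 ^ r := by
  induction n with
  | zero => intro G V _ _ _ _ _ _ _ _ h; omega
  | succ n ih =>
  intro G V _ _ _ _ _ _ _ r hn hr hi
  suffices ∃ i, Ab (rp G V).range V i ∧ 24 * i ^ 3 ≤ 1000 ^ r from this.imp fun i h => ⟨h.1.of_im, h.2⟩
  haveI := im_solv (G := G) (V := V)
  replace hi := im_irr hi
  have hf := im_faith (G := G) (V := V)
  generalize_proofs at *
  set G' := (rp G V).range
  rcases exists_PS hi hf with ⟨H, e, h⟩ | ⟨K, _, _, _, Z, _, ι, E, _, A, _, _, _, π, β, P⟩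
  · letI := subAct h.inv
    haveI := h.nontriv
    obtain ⟨s, -, hs⟩ := (Nat.dvd_prime_pow hp).1 (hr ▸ e.range.card_addSubgroup_dvd_card)
    obtain ⟨i, h1, h2⟩ := ih H e.range s (by have := card_lt h.ne_top; omega) hs (h.irr hi)
    have t := h.pow_le
    rw [hs, hr, ← pow_mul, Nat.pow_le_pow_iff_right hp.one_lt] at t
    refine ⟨_, h1.imp h hi, ?_⟩
    calc _ = (i ^ 3) ^ H.index * (24 * H.normalCore.index ^ 3) := by ring
      _ ≤ (i ^ 3) ^ H.index * 24 ^ H.index := Nat.mul_le_mul_left _ (dixon h.co)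
      _ = (24 * i ^ 3) ^ H.index := by ring
      _ ≤ (1000 ^ s) ^ H.index := Nat.pow_le_pow_left h2 _
      _ ≤ _ := by rw [← pow_mul]; exact Nat.pow_le_pow_right (by norm_num) t
  obtain ⟨b, a, b0, bn, h, a1, a3, ha⟩ := ps_ab P
  obtain ⟨q0, q1, q2⟩ := P.fld
  have f0 : 0 < (𝐂 Z).index := Nat.pos_of_ne_zero index_ne_zero_of_finite
  refine ⟨_, h, num1 f0 b0 ?_ a1 a3 ha⟩
  rw [Module.natCard_eq_pow_finrank (K := K) (V := V), ← q2, ← pow_mul] at hr
  obtain ⟨s, -, rfl⟩ := (Nat.dvd_prime_pow hp).1 (hr ▸ dvd_pow_self q0 (Nat.mul_pos f0 (b0.trans_le bn)).ne')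
  rw [← pow_mul] at hr
  rw [← Nat.pow_right_injective hp.two_le hr]
  exact (Nat.mul_le_mul_left _ bn).trans (Nat.le_mul_of_pos_left _ (Nat.pos_of_ne_zero fun e => by simp [e] at q1))

variable (V) in
/-- the sums of powers of `x` take at most `B` values -/
def Col (N : ℕ) (x : G) (B : ℕ) : Prop := ∃ (κ : Type u) (_ : Finite κ) (col : Finset (Fin N) → κ), Nat.card κ ≤ B ∧
  ∀ S T, col S = col T → ∀ v : V, ∑ j ∈ S, x ^ j.1 • v = ∑ j ∈ T, x ^ j.1 • v

theorem num2 {f b a q n : ℕ} (f0 : 0 < f) (b0 : 0 < b) (bn : b ≤ n) (hq : 1200 ≤ q) (a1 : b = 1 → a = 1)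
    (ha : 2 ≤ b → 24 ^ 4 * a ^ 12 ≤ b ^ 54) : (f * (b * b * a)) ^ 2 * q ≤ (q ^ f) ^ n := by
  have t1 : f ^ 2 ≤ q ^ (f - 1) := lin_exp f0 (by omega)
  have t2 : (b * b * a) ^ 2 ≤ q ^ (b - 1) := by
    by_cases e1 : b = 1
    · rw [a1 e1, e1]; norm_num
    have t := ind_pow 2 78 (1200 ^ 6) (1200 ^ 6) (24 ^ 4) (by norm_num) (by norm_num) (by norm_num) (show 2 ≤ b by omega)
    have h := ha (by omega)
    obtain ⟨c, rfl⟩ : ∃ g, b = g + 1 := ⟨b - 1, by omega⟩
    rw [pow_succ' (1200 ^ 6), mul_assoc] at t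
    refine le_trans ((Nat.pow_le_pow_iff_left (n := 6) (by norm_num)).1 ?_) (Nat.pow_le_pow_left hq _)
    refine Nat.le_of_mul_le_mul_left (c := 24 ^ 4) ?_ (by norm_num)
    calc _ = (c + 1) ^ 24 * (24 ^ 4 * a ^ 12) := by ring
      _ ≤ (c + 1) ^ 24 * (c + 1) ^ 54 := Nat.mul_le_mul_left _ h
      _ ≤ (1200 ^ 6) ^ c * 24 ^ 4 := by rw [← pow_add]; exact Nat.le_of_mul_le_mul_left t (by norm_num)
      _ = _ := by rw [Nat.add_sub_cancel, ← pow_mul, ← pow_mul, mul_comm c, mul_comm]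
  calc _ = f ^ 2 * (b * b * a) ^ 2 * q := by ring
    _ ≤ q ^ (f - 1) * q ^ (b - 1) * q := by gcongr
    _ ≤ _ := by
      rw [← pow_add, ← pow_succ, ← pow_mul]
      refine Nat.pow_le_pow_right (by omega) (le_trans ?_ (Nat.mul_le_mul_left _ bn))
      obtain ⟨f, rfl⟩ : ∃ g, f = g + 1 := ⟨f - 1, by omega⟩
      obtain ⟨b, rfl⟩ : ∃ g, b = g + 1 := ⟨b - 1, by omega⟩
      simp only [Nat.add_sub_cancel]; nlinarith

theorem J2 {p : ℕ} (hp : p.Prime) (p1 : 1200 ≤ p) (N n : ℕ) : ∀ (G V : Type u) [Group G] [Finite G] [AddCommGroup V] [Finite V]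
    [DistribMulAction G V] [Group.IsSolvable G] [Nontrivial V] (x : G), Nat.card V < n → CR G V → (∀ g, g * x = x * g) →
    x ^ p = 1 → (∀ v : V, x • v = v → v = 0) → ∃ i B, Ab G V i ∧ Col V N x B ∧ 24 ≤ B ∧ i ^ 2 * B ≤ Nat.card V := by
  induction n with
  | zero => intro G V _ _ _ _ _ _ _ _ h; omega
  | succ n ih =>
  intro G V _ _ _ _ _ _ _ x hn hcr hx xp hv
  haveI := Fact.mk hp
  by_cases hi : Block.B2.Irr G V
  swap
  · obtain ⟨U, W, hU, hW, u1, w1, u0, w0, h2, h3⟩ := not_irr hcr hi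
    letI := subAct hU
    letI := subAct hW
    haveI := (AddSubgroup.nontrivial_iff_ne_bot U).2 u0
    haveI := (AddSubgroup.nontrivial_iff_ne_bot W).2 w0
    obtain ⟨i, B, a1, ⟨κ, _, c, c1, c2⟩, a3, a4⟩ := ih G U x (by have := card_lt u1; omega) (hcr.sub hU) hx xp
      fun v e => Subtype.ext (hv _ (congrArg Subtype.val e))
    obtain ⟨j, B', b1, ⟨κ', _, d, d1, d2⟩, b3, b4⟩ := ih G W x (by have := card_lt w1; omega) (hcr.sub hW) hx xp
      fun v e => Subtype.ext (hv _ (congrArg Subtype.val e))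
    refine ⟨_, B * B', Ab.sum hU hW h3 a1 b1, ⟨κ × κ', inferInstance, fun S => (c S, d S),
      by rw [Nat.card_prod]; exact Nat.mul_le_mul c1 d1, fun S T e v => ?_⟩, by nlinarith, ?_⟩
    · obtain ⟨u, hu, w, hw, rfl⟩ := AddSubgroup.mem_sup.1 (h3 ▸ trivial : v ∈ U ⊔ W)
      have t1 := congrArg U.subtype (c2 S T (congrArg Prod.fst e) ⟨u, hu⟩)
      have t2 := congrArg W.subtype (d2 S T (congrArg Prod.snd e) ⟨w, hw⟩)
      simp only [map_sum, smul_add, Finset.sum_add_distrib] at t1 t2 ⊢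
      exact congrArg₂ (· + ·) t1 t2
    · calc _ = (i ^ 2 * B) * (j ^ 2 * B') := by ring
        _ ≤ _ := (Nat.mul_le_mul a4 b4).trans (card_mul_le' h2)
  suffices ∃ i B, Ab (rp G V).range V i ∧ Col V N ((rp G V).rangeRestrict x) B ∧ 24 ≤ B ∧ i ^ 2 * B ≤ Nat.card V by
    obtain ⟨i, B, h1, ⟨κ, _, c, c1, c2⟩, h3⟩ := this
    exact ⟨i, B, h1.of_im, ⟨κ, inferInstance, c, c1, fun S T e v => by simpa only [← map_pow, im_smul] using c2 S T e v⟩, h3⟩
  haveI := im_solv (G := G) (V := V)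
  replace hi := im_irr hi
  have hf := im_faith (G := G) (V := V)
  replace hx : ∀ g, g * (rp G V).rangeRestrict x = (rp G V).rangeRestrict x * g := fun g => by
    obtain ⟨g, rfl⟩ := (rp G V).rangeRestrict_surjective g
    rw [← map_mul, hx, map_mul]
  replace xp : (rp G V).rangeRestrict x ^ p = 1 := by rw [← map_pow, xp, map_one]
  replace hv : ∀ v : V, (rp G V).rangeRestrict x • v = v → v = 0 := hv
  generalize (rp G V).rangeRestrict x = y at *
  have y1 : y ≠ 1 := fun e => by obtain ⟨v, h⟩ := exists_ne (0 : V); exact h (hv v (by simp [e]))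
  have yo := orderOf_eq_prime xp y1
  rcases exists_PS2 hi hf with ⟨H, e, h⟩ | ⟨K, _, _, _, Z, _, ι, E, _, A, _, _, _, π, β, P, F, f1, f2⟩
  · letI := subAct h.inv
    haveI := h.nontriv
    have yH : y ∈ H := by_contra fun t => by
      obtain ⟨v, v0⟩ := h.ne
      have t1 := congrArg e (hv _ (nm_mem_fx xp (e v)))
      rw [nm_apply, map_sum, Finset.sum_eq_single 0, map_zero, pow_zero, one_smul, h.idem] at t1
      · exact v0 t1
      · refine fun j hj j0 => h.orth _ (fun m => t ?_) v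
        obtain ⟨k, hk⟩ := exists_pow_eq_self_of_coprime (x := y) (n := j) (by
          rw [yo]; exact (Nat.coprime_of_lt_prime j0 (Finset.mem_range.1 hj) hp).symm)
        exact hk ▸ pow_mem m k
      · simp [hp.pos]
    obtain ⟨i, B, a1, ⟨κ, _, c, c1, c2⟩, a3, a4⟩ := ih H e.range ⟨y, yH⟩ (by have := card_lt h.ne_top; omega) (h.irr hi).cr
      (fun g => Subtype.ext (hx g)) (Subtype.ext xp) fun v e => Subtype.ext (hv _ (congrArg Subtype.val e))
    refine ⟨_, B, a1.imp h hi, ⟨κ, inferInstance, c, c1, fun S T t v => ?_⟩, a3, ?_⟩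
    · let U : AddSubgroup V := AddMonoidHom.eqLocus (∑ j ∈ S, DistribSMul.toAddMonoidHom V (y ^ j.1))
        (∑ j ∈ T, DistribSMul.toAddMonoidHom V (y ^ j.1))
      have mU : ∀ v, v ∈ U ↔ ∑ j ∈ S, y ^ j.1 • v = ∑ j ∈ T, y ^ j.1 • v := fun v => by
        show (∑ j ∈ S, DistribSMul.toAddMonoidHom V (y ^ j.1)) v = (∑ j ∈ T, DistribSMul.toAddMonoidHom V (y ^ j.1)) v ↔ _
        simp [AddMonoidHom.finsetSum_apply]
      have cm : ∀ (g : (rp G V).range) (j : ℕ) (v : V), y ^ j • g • v = g • y ^ j • v := fun g j v => by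
        rw [← mul_smul, ← mul_smul, (Commute.pow_right (hx g) j).eq]
      rcases hi U (fun g w hw => by rw [mU] at hw ⊢; simp only [cm, ← Finset.smul_sum, hw]) with t1 | t1
      · obtain ⟨w, w0⟩ := exists_ne (0 : e.range)
        have t2 := congrArg e.range.subtype (c2 S T t w)
        simp only [map_sum] at t2
        exact (w0 (Subtype.ext (AddSubgroup.mem_bot.1 (t1 ▸ (mU _).2 t2)))).elim
      · exact (mU v).1 (t1 ▸ trivial)
    · have d := dixon h.co
      obtain ⟨m, hm⟩ : ∃ m, H.index = m + 1 := ⟨H.index - 1, by have : H.index ≠ 0 := index_ne_zero_of_finite; omega⟩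
      have t := h.pow_le
      rw [hm] at d t ⊢
      rw [pow_succ' 24] at d
      have d1 : H.normalCore.index ^ 2 ≤ B ^ m := (Nat.pow_le_pow_right (Nat.pos_of_ne_zero index_ne_zero_of_finite)
        (show 2 ≤ 3 by norm_num)).trans ((Nat.le_of_mul_le_mul_left d (by norm_num)).trans (Nat.pow_le_pow_left a3 m))
      calc _ = (i ^ 2) ^ (m + 1) * B * H.normalCore.index ^ 2 := by ring
        _ ≤ (i ^ 2) ^ (m + 1) * B * B ^ m := Nat.mul_le_mul_left _ d1
        _ = (i ^ 2 * B) ^ (m + 1) := by ring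
        _ ≤ _ := (Nat.pow_le_pow_left a4 _).trans t
  obtain ⟨b, a, b0, bn, h, a1, -, ha⟩ := ps_ab P
  have f0 : 0 < (𝐂 Z).index := Nat.pos_of_ne_zero index_ne_zero_of_finite
  have yZ := ps_cent P hx
  have yF := f2 ⟨y, yZ⟩ hx
  have hq : 1200 ≤ Nat.card F := by
    refine p1.trans (le_of_eq_of_le ?_ (orderOf_le_card (x := (⟨_, yF⟩ : F))))
    rw [← orderOf_injective F.subtype.toMonoidHom F.subtype_injective, ← yo]
    exact ((orderOf_injective ι P.L.inj ⟨y, yZ⟩).trans (orderOf_coe (⟨y, yZ⟩ : Z)).symm).symm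
  refine ⟨_, Nat.card F, h, ⟨F, inferInstance, fun S => ∑ j ∈ S, ⟨_, yF⟩ ^ j.1, le_rfl, fun S T t v => ?_⟩, by omega, ?_⟩
  · have k : ∀ j : ℕ, y ^ j • v = ι ⟨y, yZ⟩ ^ j • v := fun j => by rw [← map_pow, ← P.L.smul]; rfl
    have t1 := congrArg F.subtype t
    simp only [map_sum, map_pow, Subring.coe_subtype] at t1
    simp only [k, ← Finset.sum_smul, t1]
  · rw [Module.natCard_eq_pow_finrank (K := K) (V := V), ← f1]
    exact num2 f0 b0 bn hq a1 ha

end Cfsg.Lib.Hall.KL
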