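import Cfsg.Agent.Lib.Hall.KLa
import Cfsg.Agent.Lib.Hall.MinNormal
import Cfsg.Agent.S4200

/-! # A lower bound for the class number of a solvable group with `p ∣ |G : F(G)|` -/

set_option autoImplicit false
set_option linter.unusedSectionVars false
set_option linter.style.haveILetI false

namespace Cfsg.Lib.Hall.KL

open Cfsg Cfsg.Lib Subgroup Cfsg.Lib.Block.B2 Cfsg.Lib.Hall.B3 Cfsg.Lib.Hall.KR

local notation "𝐂" S => centralizer (SetLike.coe S)
local notation "𝐤" X => Nat.card (ConjClasses X)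

universe u
variable {G V : Type u} [Group G] [Finite G] [AddCommGroup V] [Finite V] [DistribMulAction G V]

variable (G V) in
/-- the number of orbits -/
noncomputable def nb : ℕ := Nat.card (MulAction.orbitRel.Quotient G V)

theorem orb_le : Nat.card V ≤ (kr G V).index * nb G V := by
  rw [index, nb, ← Nat.card_prod]
  refine Nat.card_le_card_of_surjective (fun p => p.1.out • p.2.out) fun v => ?_
  obtain ⟨g, hg⟩ : v ∈ MulAction.orbit G (Quotient.out (Quotient.mk (MulAction.orbitRel G V) v)) :=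
    (MulAction.orbitRel G V).symm (Quotient.mk_out v)
  obtain ⟨k, hk⟩ := QuotientGroup.mk_out_eq_mul (kr G V) g
  exact ⟨(QuotientGroup.mk g, Quotient.mk _ v), by
    show (QuotientGroup.mk g : G ⧸ kr G V).out • _ = _
    rw [hk, mul_smul, k.2]; exact hg⟩

theorem two_le_nb [Nontrivial V] : 2 ≤ nb G V := by
  obtain ⟨v, hv⟩ := exists_ne (0 : V)
  haveI : Nontrivial (MulAction.orbitRel.Quotient G V) := ⟨⟨Quotient.mk _ v, Quotient.mk _ 0, fun e => by
    obtain ⟨g, hg⟩ : v ∈ MulAction.orbit G (0 : V) := Quotient.exact e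
    exact hv (hg.symm.trans (smul_zero g))⟩⟩
  exact Finite.one_lt_card

theorem k_add {Y : Type*} [Group Y] [Finite Y] {N : Subgroup G} [hN : N.Normal] (hc : ∀ a ∈ N, ∀ b ∈ N, a * b = b * a)
    (f : G →* Y) (hf : Function.Surjective f) (h : N ≤ f.ker) : (𝐤 Y) + nb G (AX N hc) ≤ (𝐤 G) + 1 := by
  classical
  rw [nb, ← Nat.card_sum, ← Finite.card_option]
  have o : ∀ g : G, IsConj (Quotient.out (ConjClasses.mk g)) g := fun g =>
    ConjClasses.mk_eq_mk_iff_isConj.1 (Quotient.out_eq _)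
  refine Nat.card_le_card_of_surjective (fun c => c.elim (Sum.inl 1) fun c =>
    if t : Quotient.out c ∈ N then Sum.inr (Quotient.mk _ (AX.mk hc _ t)) else Sum.inl (c.map f)) ?_
  rintro (d | d)
  · by_cases e : d = 1
    · exact ⟨none, by rw [e]; rfl⟩
    obtain ⟨y, rfl⟩ := ConjClasses.mk_surjective d
    obtain ⟨g, rfl⟩ := hf y
    refine ⟨some (ConjClasses.mk g), dif_neg fun t => e ?_⟩
    have := f.map_isConj (o g)
    rw [show f _ = 1 from h t, isConj_one_right] at this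
    rw [this]; rfl
  · obtain ⟨a, rfl⟩ := Quotient.exists_rep d
    obtain ⟨g, hg⟩ := isConj_iff.1 (o a.val).symm
    exact ⟨some (ConjClasses.mk a.val), (dif_pos (hg ▸ hN.conj_mem _ a.val_mem g)).trans
      (congrArg _ (Quotient.sound ⟨g, AX.ext hg⟩))⟩

theorem Ab.card_le {i : ℕ} (h : Ab G V i) (hf : ∀ g : G, (∀ v : V, g • v = v) → g = 1) : Nat.card G ≤ i ^ 2 * 𝐤 G := by
  obtain ⟨A, h1, h2⟩ := h
  have t : Nat.card A ≤ 𝐤 A := Nat.card_le_card_of_injective ConjClasses.mk fun a b e => by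
    obtain ⟨c, rfl⟩ := isConj_iff.1 (ConjClasses.mk_eq_mk_iff_isConj.1 e)
    refine Subtype.ext (eq_mul_inv_of_mul_eq (inv_mul_eq_one.1 (hf _ fun v => ?_)))
    rw [mul_smul, inv_smul_eq_iff, mul_smul]
    exact (mul_smul c.1 a.1 v).trans (h1 _ c.2 _ a.2 v)
  rw [← A.index_mul_card, sq, mul_assoc]
  exact Nat.mul_le_mul h2 (t.trans ((Cfsg.Agent.S4200.result A).1.trans (Nat.mul_le_mul_right _ h2)))

theorem k3 [Group.IsSolvable G] (h : ¬ ∀ a b : G, a * b = b * a) : 3 ≤ 𝐤 G := by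
  haveI : Nontrivial G := not_subsingleton_iff_nontrivial.1 fun _ => h fun _ _ => Subsingleton.elim _ _
  obtain ⟨M, -, _, M0, -, hc, -⟩ := exists_minNormal_elementary (G := G)
  have hc' : ∀ a ∈ M, ∀ b ∈ M, a * b = b * a := fun a ha b hb => congrArg Subtype.val (hc.is_comm.comm (⟨a, ha⟩ : M) ⟨b, hb⟩)
  haveI : Nontrivial (AX M hc') := (nontrivial_iff_ne_bot M).2 M0
  have t1 := k_add hc' (QuotientGroup.mk' M) (QuotientGroup.mk'_surjective M) (QuotientGroup.ker_mk' M).ge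
  have t2 := two_le_nb (G := G) (V := AX M hc')
  obtain ⟨g, hg⟩ : ∃ g, g ∉ M := by by_contra! e; exact h fun a b => hc' a (e a) b (e b)
  haveI : Nontrivial (ConjClasses (G ⧸ M)) := ⟨⟨ConjClasses.mk (g : G ⧸ M), ConjClasses.mk 1, fun e =>
    hg ((QuotientGroup.eq_one_iff g).1 (isConj_one_left.1 (ConjClasses.mk_eq_mk_iff_isConj.1 e)))⟩⟩
  have t3 : 1 < 𝐤 (G ⧸ M) := Finite.one_lt_card
  omega

theorem col_ge [Nontrivial V] {M : Subgroup G} [hM : M.Normal] (hc : M ≤ 𝐂 M)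
    (fpf : ∀ y ∈ M, y ≠ 1 → ∀ v : V, y • v = v → v = 0) {x : G} (hx : x ∈ M) (C : Subgroup G)
    (hC : ∀ g, g * x = x * g → g ∈ C) {B : ℕ} (h : Col V C.index x B) : 2 ^ C.index ≤ B := by
  classical
  obtain ⟨κ, _, col, c1, c2⟩ := h
  haveI : Finite (AddMonoid.End V) := DFunLike.finite (V →+ V)
  letI : CommRing (KK V M) :=
    { (inferInstance : Ring (KK V M)) with mul_comm := fun a b => Subtype.ext (KK_comm hc a.2 b.2) }
  haveI : Nontrivial (KK V M) := ⟨⟨1, 0, fun e => by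
    obtain ⟨w, hw⟩ := exists_ne (0 : V); exact hw (DFunLike.congr_fun (congrArg Subtype.val e) w)⟩⟩
  obtain ⟨m, hm⟩ := Ideal.exists_maximal (KK V M)
  letI := Ideal.Quotient.field m
  let ι : M →* KK V M := ((DistribMulAction.toAddMonoidEnd G V).comp M.subtype).codRestrict (KK V M)
    fun z => Subring.subset_closure ⟨z, rfl⟩
  let φ : M →* KK V M ⧸ m := (Ideal.Quotient.mk m).toMonoidHom.comp ι
  have inj : Function.Injective φ := (injective_iff_map_eq_one φ).2 fun y e => by_contra fun y1 =>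
    hm.ne_top (m.eq_top_of_isUnit_mem (x := ι y - 1) (Ideal.Quotient.eq.1 e) (IsLeftRegular.isUnit_of_finite fun s t e =>
      Subtype.ext (AddMonoidHom.ext fun v => sub_eq_zero.1 (fpf y y.2 (fun e => y1 (Subtype.ext e)) _ (by
        have : y.1 • s.1 v - s.1 v = y.1 • t.1 v - t.1 v := DFunLike.congr_fun (congrArg Subtype.val e) v
        show y.1 • (s.1 v - t.1 v) = s.1 v - t.1 v
        rw [smul_sub, sub_eq_sub_iff_sub_eq_sub, this])))))
  let ε : Fin C.index ≃ G ⧸ C := (Finite.equivFin (G ⧸ C)).symm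
  let y : Fin C.index → M := fun i => ⟨_, hM.conj_mem x hx (ε i).out⟩
  refine le_trans (le_of_eq_of_le (by simp) (Nat.card_le_card_of_injective col fun S T e => ?_)) c1
  have := Matrix.eq_zero_of_forall_index_sum_mul_pow_eq_zero (f := fun i => φ (y i))
    (v := fun j => (if j ∈ S then 1 else 0) - (if j ∈ T then 1 else 0)) (fun i j t => ε.injective (by
      have t1 : (ε i).out * x * (ε i).out⁻¹ = (ε j).out * x * (ε j).out⁻¹ := congrArg Subtype.val (inj t)
      rw [← (ε i).out_eq, ← (ε j).out_eq]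
      refine QuotientGroup.eq.2 (hC _ ?_)
      rw [mul_assoc, inv_mul_eq_iff_eq_mul, ← mul_assoc, ← mul_assoc, t1]; group)) fun i => by
      simp only [sub_mul, Finset.sum_sub_distrib, ite_mul, one_mul, zero_mul, Finset.sum_ite_mem, Finset.univ_inter, sub_eq_zero]
      have t : ∑ j ∈ S, ι (y i) ^ j.1 = ∑ j ∈ T, ι (y i) ^ j.1 := Subtype.ext (AddMonoidHom.ext fun v => by
        have k : ∀ S : Finset (Fin C.index), (∑ j ∈ S, ι (y i) ^ j.1).1 v = (ε i).out • ∑ j ∈ S, x ^ j.1 • (ε i).out⁻¹ • v :=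
          fun S => by
            rw [AddSubmonoidClass.coe_finsetSum, Finset.smul_sum]
            refine (AddMonoidHom.finsetSum_apply _ _ _).trans (Finset.sum_congr rfl fun j _ => ?_)
            rw [← map_pow, ← mul_smul, ← mul_smul, ← conj_pow]; rfl
        exact (k S).trans ((congrArg _ (c2 S T e _)).trans (k T).symm))
      have t1 := congrArg (Ideal.Quotient.mk m) t
      simp only [map_sum, map_pow] at t1
      exact t1
  ext j
  have t := sub_eq_zero.1 (congrFun this j)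
  by_cases h1 : j ∈ S <;> by_cases h2 : j ∈ T <;> simp_all

theorem big {p g K : ℕ} (h1 : 2 ^ g ≤ p ^ 3) (h2 : p ≤ g * K) : 2 ^ p ≤ p ^ (3 * K) := by
  rw [pow_mul]
  exact (Nat.pow_le_pow_right two_pos h2).trans (by rw [pow_mul]; exact Nat.pow_le_pow_left h1 _)

theorem big_sq {p g K q : ℕ} (h0 : q ≤ p) (h1 : 2 ^ g ≤ q ^ 3) (h2 : p ^ 2 ≤ (g * K) ^ 2) : 2 ^ p ≤ p ^ (3 * K) :=
  big (h1.trans (Nat.pow_le_pow_left h0 3)) ((Nat.pow_le_pow_iff_left two_ne_zero).1 h2)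

theorem big1 {p K : ℕ} (p2 : 2 ≤ p) (h : p < 1200) (h1 : 4 * p ≤ K ^ 2) : 2 ^ p ≤ p ^ (3 * K) := by
  by_cases a : p ≤ 36
  · exact big_sq (g := 3) p2 (by norm_num) (by nlinarith)
  by_cases b : p ≤ 900
  · exact big_sq (g := 15) (q := 37) (by omega) (by norm_num) (by nlinarith)
  · exact big_sq (g := 29) (q := 900) (by omega) (by norm_num) (by nlinarith)

theorem big2 {p K : ℕ} (p2 : 2 ≤ p) (h : p < 100) (h1 : 5 ≤ K) : 2 ^ p ≤ p ^ (3 * K) :=
  ((by decide +kernel : ∀ p < 100, 2 ≤ p → 2 ^ p ≤ p ^ 15) p h p2).trans (Nat.pow_le_pow_right (by omega) (by omega))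

theorem big3 {p K i k : ℕ} (h : 100 ≤ p) (k2 : 2 ≤ k) (h1 : 24 * i ^ 3 ≤ 1000 ^ k) (h2 : 4 * p ^ k ≤ i ^ 2 * K ^ 2) :
    2 ^ p ≤ p ^ (3 * K) := by
  have t : 8 * i ^ 2 ≤ 100 ^ k := (Nat.pow_le_pow_iff_left (n := 3) (by norm_num)).1 <|
    calc _ ≤ (24 * i ^ 3) ^ 2 := by rw [mul_pow, mul_pow, ← pow_mul, ← pow_mul]; norm_num; omega
      _ ≤ (1000 ^ k) ^ 2 := Nat.pow_le_pow_left h1 2
      _ = _ := by rw [← pow_mul, ← pow_mul, mul_comm k, mul_comm k, pow_mul, pow_mul]; norm_num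
  obtain ⟨j, rfl⟩ : ∃ j, k = j + 2 := ⟨k - 2, by omega⟩
  refine big_sq (g := 18) h (by norm_num) ?_
  have t1 : 100 ^ j * (32 * p ^ 2) ≤ 100 ^ j * (100 ^ 2 * K ^ 2) :=
    calc _ ≤ p ^ j * (32 * p ^ 2) := Nat.mul_le_mul_right _ (Nat.pow_le_pow_left h j)
      _ = 8 * (4 * p ^ (j + 2)) := by ring
      _ ≤ 8 * (i ^ 2 * K ^ 2) := Nat.mul_le_mul_left _ h2
      _ = 8 * i ^ 2 * K ^ 2 := by ring
      _ ≤ 100 ^ (j + 2) * K ^ 2 := Nat.mul_le_mul_right _ t
      _ = _ := by ring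
  have := Nat.le_of_mul_le_mul_left t1 (by positivity)
  rw [mul_pow]; omega

theorem big4 {p K e : ℕ} (h : 4 ≤ p) (h1 : p ^ 3 < 2 ^ e) (h2 : 2 ^ e ≤ e ^ 2 * K ^ 2) : 2 ^ p ≤ p ^ (3 * K) := by
  set g := Nat.log 2 (p ^ 3)
  have g1 : 2 ^ g ≤ p ^ 3 := Nat.pow_log_le_self 2 (by positivity)
  have g2 : p ^ 3 < 2 ^ (g + 1) := Nat.lt_pow_succ_log_self one_lt_two _
  have g3 : 2 ≤ g := by
    by_contra! l
    have := Nat.pow_le_pow_right two_pos (show g + 1 ≤ 2 by omega)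
    have := Nat.pow_le_pow_left h 3
    omega
  have g4 : g + 1 ≤ e := (Nat.pow_lt_pow_iff_right one_lt_two).1 (g1.trans_lt h1)
  have t : 2 ^ (g + 1) * e ^ 2 ≤ 2 ^ e * (g + 1) ^ 2 := ind_pow (g + 1) 2 _ 2 _ le_rfl (by nlinarith) (by omega) g4
  have t1 : p ^ 3 ≤ K ^ 2 * (g + 1) ^ 2 := g2.le.trans (Nat.le_of_mul_le_mul_right (c := e ^ 2)
    (t.trans ((Nat.mul_le_mul_right _ h2).trans_eq (by ring))) (pow_pos (by omega) 2))
  refine big_sq le_rfl g1 (Nat.le_of_mul_le_mul_left (c := 4) ?_ (by norm_num))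
  calc _ ≤ p * p ^ 2 := Nat.mul_le_mul_right _ h
    _ ≤ K ^ 2 * (g + 1) ^ 2 := by rw [← pow_succ']; exact t1
    _ ≤ K ^ 2 * (2 * g) ^ 2 := Nat.mul_le_mul_left _ (Nat.pow_le_pow_left (by omega) 2)
    _ = _ := by ring

theorem lin [Group.IsSolvable G] {p : ℕ} (hp : p.Prime) (hi : Block.B2.Irr G V) (hf : ∀ g : G, (∀ v : V, g • v = v) → g = 1)
    (P : Subgroup G) [P.Normal] (P0 : P ≠ ⊥) (hP : IsPGroup p P) {c K : ℕ} (c2 : 2 ≤ c) (hc : Nat.card V ≤ Nat.card G * c)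
    (hK : (𝐤 G) + c ≤ K + 1) : 2 ^ p ≤ p ^ (3 * K) := by
  haveI := Fact.mk hp
  obtain ⟨M, -, hM, M0, MP, hmin, hc0, -⟩ := exists_minNormal_elementary_le P P0
  have cm : ∀ a ∈ M, ∀ b ∈ M, a * b = b * a := fun a ha b hb => congrArg Subtype.val (hc0.is_comm.comm (⟨a, ha⟩ : M) ⟨b, hb⟩)
  haveI : Nontrivial (AX M cm) := (nontrivial_iff_ne_bot M).2 M0
  obtain ⟨k, hk⟩ := IsPGroup.iff_card.1 (hP.to_le MP)
  have k0 : k ≠ 0 := fun e => M0 (card_eq_one.1 (by rw [hk, e, pow_zero]))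
  have t1 := k_add cm (rp G (AX M cm)).rangeRestrict (rp G (AX M cm)).rangeRestrict_surjective fun g hg =>
    im_faith _ fun a => AX.ext (mul_inv_eq_iff_eq_mul.2 (cm g hg _ a.val_mem))
  have t2 := two_le_nb (G := G) (V := AX M cm)
  have t3 := orb_le (G := G) (V := AX M cm)
  rw [AX.card, hk, ← card_im] at t3
  haveI := im_solv (G := G) (V := AX M cm)
  have t4 : ∀ i, Ab (rp G (AX M cm)).range (AX M cm) i → 4 * p ^ k ≤ i ^ 2 * K ^ 2 := fun i h => by
    have t := t3.trans (Nat.mul_le_mul_right _ (h.card_le im_faith))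
    generalize (𝐤 (rp G (AX M cm)).range) = a at *
    generalize nb G (AX M cm) = b at *
    calc _ ≤ 4 * (i ^ 2 * a * b) := Nat.mul_le_mul_left _ t
      _ = i ^ 2 * (4 * (a * b)) := by ring
      _ ≤ i ^ 2 * (a + b) ^ 2 := Nat.mul_le_mul_left _ (by nlinarith [sq_nonneg ((a : ℤ) - b)])
      _ ≤ _ := Nat.mul_le_mul_left _ (Nat.pow_le_pow_left (by omega) 2)
  have t5 : (∀ (a b : (rp G (AX M cm)).range) (v : AX M cm), a • b • v = b • a • v) → 4 * p ≤ K ^ 2 := fun h => by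
    have := t4 1 ⟨⊤, fun a _ b _ => h a b, index_top.le⟩
    have := Nat.le_self_pow k0 p
    omega
  by_cases p1 : p < 100
  · by_cases ab : ∀ a b : (rp G (AX M cm)).range, a * b = b * a
    · exact big1 hp.two_le (by omega) (t5 fun a b v => by rw [← mul_smul, ab, mul_smul])
    · have := k3 ab
      exact big2 hp.two_le p1 (by omega)
  by_cases k1 : k = 1
  swap
  · obtain ⟨i, h1, h2⟩ := J1 hp _ _ (AX M cm) k (Nat.lt_succ_self _) hk (im_irr (AX.irr hmin))
    exact big3 (by omega) (by omega) h2 (t4 i h1)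
  rw [k1, pow_one] at hk t3
  by_cases p2 : p < 1200
  · refine big1 hp.two_le p2 (t5 fun a b v => ?_)
    haveI : IsAddCyclic (AX M cm) := isAddCyclic_of_prime_card hk
    obtain ⟨x, hx⟩ := IsAddCyclic.exists_zsmul_surjective (G := AX M cm)
    obtain ⟨n, rfl⟩ := hx v
    obtain ⟨r, hr⟩ := hx (a • x)
    obtain ⟨s, hs⟩ := hx (b • x)
    simp only [smul_comm a (_ : ℤ), smul_comm b (_ : ℤ), ← hr, ← hs] at hr hs ⊢
    rw [smul_comm r s]
  rw [card_im, AX.kr_eq] at t3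
  by_cases le : 2 ^ (𝐂 M).index ≤ p ^ 3
  · have : 0 < 𝐤 (rp G (AX M cm)).range := Nat.card_pos
    exact big le (t3.trans (Nat.mul_le_mul_left _ (by omega)))
  haveI : Nontrivial M := (nontrivial_iff_ne_bot M).2 M0
  obtain ⟨x, x1⟩ := exists_ne (1 : M)
  have gen : ∀ {y : G} (hy : y ∈ M), y ≠ 1 → ∀ S : Subgroup G, y ∈ S → M ≤ S := fun {y} hy y1 S hS z hz => by
    obtain ⟨n, e⟩ := mem_zpowers_of_prime_card hk (g := ⟨y, hy⟩) (g' := ⟨z, hz⟩) fun e => y1 (congrArg Subtype.val e)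
    have e' : y ^ n = z := congrArg Subtype.val e
    exact e' ▸ zpow_mem hS n
  have x1' : x.1 ≠ 1 := fun e => x1 (Subtype.ext e)
  haveI : Nontrivial V := not_subsingleton_iff_nontrivial.1 fun _ => x1' (hf _ fun _ => Subsingleton.elim _ _)
  have fpf : ∀ y ∈ M, y ≠ 1 → ∀ v : V, y • v = v → v = 0 := fun y hy y1 v hv => by
    rcases hi (fx V y) (fun g w hw => by
      have : (g⁻¹ * y * g⁻¹⁻¹) • w = w := gen hy y1 (MulAction.stabilizer G w) hw (hM.conj_mem y hy g⁻¹)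
      rw [inv_inv, mul_smul, mul_smul, inv_smul_eq_iff] at this
      exact this) with e | e
    · exact AddSubgroup.mem_bot.1 (e ▸ hv)
    · exact (y1 (hf y fun w => (e ▸ trivial : w ∈ fx V y))).elim
  have xC : x.1 ∈ 𝐂 M := fun a ha => cm a ha x x.2
  obtain ⟨i, B, h1, h2, -, h4⟩ := J2 hp (by omega) (𝐂 M).index _ (𝐂 M) V ⟨x, xC⟩ (Nat.lt_succ_self _)
    (cr_normal hi.cr _) (fun g => Subtype.ext (g.2 x x.2).symm) (Subtype.ext (congrArg (Subtype.val : M → G)
      (hk ▸ pow_card_eq_one' : x ^ p = 1))) (fpf x x.2 x1')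
  have t6 := col_ge (fun a ha b hb => cm b hb a ha) fpf x.2 (𝐂 M) (fun g hg => le_centralizer_iff.1
    (gen x.2 x1' (𝐂 (zpowers g)) (by rintro _ ⟨n, rfl⟩; exact (Commute.zpow_left hg n).eq)) (mem_zpowers g)) h2
  refine big4 (by omega) (not_le.1 le) (t6.trans ?_)
  have t7 := h4.trans (hc.trans (Nat.mul_le_mul_right _ (h1.of_sub.card_le hf)))
  have i0 : 0 < i := by
    obtain ⟨A, -, h⟩ := h1
    exact (Nat.pos_of_ne_zero index_ne_zero_of_finite).trans_le h
  have : 0 < 𝐤 G := Nat.card_pos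
  refine Nat.le_of_mul_le_mul_left (t7.trans ?_) (pow_pos i0 2)
  rw [mul_pow, mul_assoc, mul_assoc, sq K]
  exact Nat.mul_le_mul_left _ (Nat.mul_le_mul_left _ (Nat.mul_le_mul (by omega) (by omega)))

theorem main {p : ℕ} (hp : p.Prime) (n : ℕ) : ∀ (G : Type u) [Group G] [Finite G] [Group.IsSolvable G], Nat.card G < n →
    p ∣ (fittingSubgroup G).index → 2 ^ p ≤ p ^ (3 * 𝐤 G) := by
  induction n with
  | zero => intro G _ _ _ h; omega
  | succ n ih =>
  intro G _ _ _ hn h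
  haveI := Fact.mk hp
  haveI : Nontrivial G := not_subsingleton_iff_nontrivial.1 fun _ => hp.not_dvd_one (by
    rwa [Subsingleton.elim (fittingSubgroup G) ⊤, index_top] at h)
  obtain ⟨M, -, hM, M0, hmin, hc0, -⟩ := exists_minNormal_elementary (G := G)
  have cm : ∀ a ∈ M, ∀ b ∈ M, a * b = b * a := fun a ha b hb => congrArg Subtype.val (hc0.is_comm.comm (⟨a, ha⟩ : M) ⟨b, hb⟩)
  by_cases t : p ∣ (fittingSubgroup (G ⧸ M)).index
  · exact (ih (G ⧸ M) (by have := card_quotient_lt M0; omega) t).trans (Nat.pow_le_pow_right hp.pos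
      (Nat.mul_le_mul_left _ (k_surj _ (QuotientGroup.mk'_surjective M))))
  haveI : Nontrivial (AX M cm) := (nontrivial_iff_ne_bot M).2 M0
  haveI := im_solv (G := G) (V := AX M cm)
  have hk : M ≤ (rp G (AX M cm)).rangeRestrict.ker := fun g hg =>
    im_faith _ fun a => AX.ext (mul_inv_eq_iff_eq_mul.2 (cm g hg _ a.val_mem))
  set L := (pCore p (G ⧸ M)).comap (QuotientGroup.mk' M)
  haveI : (L.map (rp G (AX M cm)).rangeRestrict).Normal :=
    Normal.map inferInstance _ (rp G (AX M cm)).rangeRestrict_surjective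
  refine lin hp (im_irr (AX.irr hmin)) im_faith (L.map (rp G (AX M cm)).rangeRestrict) (fun e => ?_) ?_ two_le_nb
    (card_im (G := G) (V := AX M cm) ▸ orb_le) (k_add cm _ (rp G (AX M cm)).rangeRestrict_surjective hk)
  · haveI := (Core.isPGroup_pCore p (G ⧸ M)).isNilpotent
    have t1 : L ≤ fittingSubgroup G := Core.le_fitting (Subgroup.isNilpotent_of_ker_le_center
      ((QuotientGroup.mk' M).subgroupComap (pCore p (G ⧸ M))) fun a ha => mem_center_iff.2 fun g => Subtype.ext ?_)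
    · haveI := Core.fitting_normal (G ⧸ M)
      obtain ⟨S⟩ : Nonempty (Sylow p (G ⧸ M)) := inferInstance
      have t2 : (S : Subgroup (G ⧸ M)) ≤ fittingSubgroup (G ⧸ M) := by
        refine fun x hx => ?_
        obtain ⟨k, hk⟩ := S.isPGroup' ⟨x, hx⟩
        have o1 : orderOf (x : (G ⧸ M) ⧸ fittingSubgroup (G ⧸ M)) ∣ p ^ k := orderOf_dvd_of_pow_eq_one (by
          rw [← QuotientGroup.mk_pow, show x ^ p ^ k = 1 from congrArg Subtype.val hk, QuotientGroup.mk_one])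
        exact (QuotientGroup.eq_one_iff x).1 (orderOf_eq_one_iff.1 (Nat.eq_one_of_dvd_coprimes
          (((Nat.Prime.coprime_iff_not_dvd hp).2 t).pow_left k) o1 (orderOf_dvd_natCard _)))
      refine S.not_dvd_index (h.trans ((index_dvd_of_le t1).trans ?_))
      rw [index_comap_mk']
      exact index_dvd_of_le (Core.le_pCore_of_le_fitting hp S.isPGroup' t2)
    · have t3 : (rp G (AX M cm)).rangeRestrict g.1 = 1 := mem_bot.1 (e ▸ mem_map_of_mem _ g.2)
      have t4 := congrArg AX.val (im_smul g.1 (AX.mk cm a.1 ((QuotientGroup.eq_one_iff _).1 (congrArg Subtype.val ha))))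
      rw [t3, one_smul] at t4
      exact mul_inv_eq_iff_eq_mul.1 t4.symm
  · rintro ⟨_, g, hg, rfl⟩
    obtain ⟨k, e⟩ := Core.isPGroup_pCore p (G ⧸ M) ⟨_, hg⟩
    refine ⟨k, Subtype.ext ?_⟩
    show (rp G (AX M cm)).rangeRestrict g ^ p ^ k = 1
    rw [← map_pow]
    exact hk ((QuotientGroup.eq_one_iff _).1 (congrArg Subtype.val e))

end Cfsg.Lib.Hall.KL
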