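import Cfsg.Agent.Lib.Hall.KLb
import Cfsg.Agent.Lib.Linear.SmallRec

/-! # Counting classes and orbits of solvable linear groups -/

set_option autoImplicit false
set_option linter.unusedSectionVars false
set_option linter.style.haveILetI false

namespace Cfsg.Lib.Hall.KL

open Cfsg Cfsg.Lib Subgroup Cfsg.Lib.Block.B2 Cfsg.Lib.Hall.B3 Cfsg.Lib.Hall.KR

local notation "𝐂" S => centralizer (SetLike.coe S)
local notation "𝐤" X => Nat.card (ConjClasses X)

theorem cent_sum {X Q : Type*} [Group X] [Finite X] [Group Q] [Fintype Q] (φ : X →* Q) (hs : Function.Surjective φ)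
    (hz : ∀ z ∈ φ.ker, ∀ g, g * z = z * g) (c : Q → ℕ)
    (hc : ∀ σ, (σ = 1 ∧ c σ ≤ Nat.card Q) ∨ ∃ τ, σ ∈ zpowers τ ∧ c σ ≤ orderOf τ) :
    Nat.card φ.ker * ∑ σ, c σ ≤ Nat.card Q * 𝐤 X := by
  classical
  haveI := Fintype.ofFinite X
  have e := sum_card_cent (G := X) (S := Set.univ) fun _ _ _ => trivial
  simp only [Set.mem_univ, Finset.filter_true, kOf_univ] at e
  have c1 : ∀ D : Subgroup Q, Nat.card (D.comap φ) = Nat.card φ.ker * Nat.card D := fun D => by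
    refine Nat.eq_of_mul_eq_mul_left (Nat.pos_of_ne_zero (index_ne_zero_of_finite (H := D))) ?_
    rw [mul_left_comm, D.index_mul_card, ← index_comap_of_surjective D hs, index_mul_card, ← φ.ker.index_mul_card, index_ker,
      MonoidHom.range_eq_top.2 hs, card_top, mul_comm]
  have c2 : Nat.card X = Nat.card φ.ker * Nat.card Q := by simpa using c1 ⊤
  have t : ∀ x : X, Nat.card φ.ker * c (φ x) ≤ Nat.card (centralizer ({x} : Set X)) := fun x => by
    rcases hc (φ x) with ⟨h1, h2⟩ | ⟨τ, h1, h2⟩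
    · rw [show centralizer ({x} : Set X) = ⊤ from eq_top_iff.2 fun g _ => mem_centralizer_singleton_iff.2 (hz x h1 g),
        card_top, c2]
      exact Nat.mul_le_mul_left _ h2
    · refine (Nat.mul_le_mul_left _ h2).trans ?_
      rw [← Nat.card_zpowers, ← c1]
      obtain ⟨y, rfl⟩ := hs τ
      have k : ∀ g, φ g ∈ zpowers (φ y) → ∃ (n : ℤ) (z : X), (∀ g, Commute g z) ∧ g = y ^ n * z := fun g ⟨n, hn⟩ =>
        ⟨n, (y ^ n)⁻¹ * g, hz _ (by rw [MonoidHom.mem_ker, map_mul, map_inv, map_zpow, ← hn, inv_mul_cancel]), by group⟩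
      refine card_le_of_le fun g hg => mem_centralizer_singleton_iff.2 ?_
      obtain ⟨n, z, hz1, rfl⟩ := k g hg
      obtain ⟨m, w, hw, rfl⟩ := k x h1
      exact ((Commute.zpow_zpow_self y n m).mul_right (hw _)).mul_left (hz1 _).symm
  have f : ∀ σ : Q, (Finset.univ.filter fun x => φ x = σ).card = Nat.card φ.ker := fun σ => by
    rw [MonoidHom.card_fiber_eq_of_mem_range φ (hs σ) (hs 1), Nat.card_eq_fintype_card, Fintype.card_subtype]
    exact congrArg _ (Finset.filter_congr fun _ _ => Iff.rfl)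
  refine Nat.le_of_mul_le_mul_left ?_ (Nat.card_pos (α := φ.ker))
  rw [← mul_assoc _ (Nat.card Q), ← c2, ← e]
  refine le_trans (le_of_eq ?_) (Finset.sum_le_sum fun x _ => t x)
  rw [← Finset.mul_sum, ← Finset.sum_fiberwise Finset.univ φ, Finset.mul_sum (a := Nat.card φ.ker) Finset.univ c]
  refine congrArg _ (Finset.sum_congr rfl fun σ _ => ?_)
  rw [Finset.sum_congr rfl fun x hx => by rw [(Finset.mem_filter.1 hx).2], Finset.sum_const, f, smul_eq_mul]

theorem s4_count {X : Type*} [Group X] [Finite X] (φ : X →* Equiv.Perm (Fin 4)) (hs : Function.Surjective φ)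
    (hz : ∀ z ∈ φ.ker, ∀ g, g * z = z * g) : 4 * Nat.card φ.ker ≤ 𝐤 X := by
  let c : Equiv.Perm (Fin 4) → ℕ := fun σ => if σ = 1 then 24 else if σ ^ 3 = 1 then 3 else if σ ^ 2 = 1 ∧ ∃ x, σ x = x then 2 else 4
  have e : Nat.card (Equiv.Perm (Fin 4)) = 24 := by rw [Nat.card_perm]; simp [Nat.factorial]
  have h1 : ∀ σ : Equiv.Perm (Fin 4), σ ≠ 1 → ∃ τ : Equiv.Perm (Fin 4), (τ = σ ∨ τ ^ 2 = σ) ∧ ∀ j < c σ, 0 < j → τ ^ j ≠ 1 := by
    decide +kernel
  have := cent_sum φ hs hz c fun σ => by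
    by_cases t : σ = 1
    · exact Or.inl ⟨t, by rw [e]; simp [c, t]⟩
    · obtain ⟨τ, t1, t2⟩ := h1 σ t
      exact Or.inr ⟨τ, by rcases t1 with rfl | rfl; exacts [mem_zpowers _, pow_mem (mem_zpowers _) 2],
        not_lt.1 fun l => t2 _ l (orderOf_pos τ) (pow_orderOf_eq_one τ)⟩
  rw [show ∑ σ, c σ = 96 by decide +kernel, e] at this
  omega

universe u
variable {G V : Type u} [Group G] [Finite G] [AddCommGroup V] [Finite V] [DistribMulAction G V]

variable (G V) in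
/-- a subgroup of index at most `i` is central in a subgroup of index at most `c` -/
def Ab2 (c i : ℕ) : Prop := ∃ A C : Subgroup G, A ≤ C ∧ (∀ a ∈ A, ∀ b ∈ C, ∀ v : V, a • b • v = b • a • v) ∧
  C.index ≤ c ∧ A.index ≤ i

theorem Ab2.of_im {c i : ℕ} (h : Ab2 (rp G V).range V c i) : Ab2 G V c i :=
  let ⟨A, C, h0, h1, h2, h3⟩ := h
  ⟨A.comap (rp G V).rangeRestrict, C.comap (rp G V).rangeRestrict, comap_mono h0, fun a ha b hb => h1 _ ha _ hb,
    (idx_comap _ _).trans h2, (idx_comap _ _).trans h3⟩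

theorem Ab2.imp {c i : ℕ} {H : Subgroup G} {e : V →+ V} (h : Imp V H e) (hi : Block.B2.Irr G V)
    (b : letI := subAct h.inv; Ab2 H e.range c i) :
    Ab2 G V (c ^ H.index * H.normalCore.index) (i ^ H.index * H.normalCore.index) := by
  obtain ⟨A, C, a0, a1, a2, a3⟩ := b
  haveI := Fintype.ofFinite (G ⧸ H)
  let f : G ⧸ H → (H.normalCore →* H) := fun c => ((MulAut.conj c.out⁻¹).toMonoidHom.comp H.normalCore.subtype).codRestrict H
    fun x => x.2 c.out⁻¹
  have k : ∀ (A : Subgroup H) (i : ℕ), A.index ≤ i →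
      ((⨅ c, A.comap (f c)).map H.normalCore.subtype).index ≤ i ^ H.index * H.normalCore.index := fun A i a2 => by
    rw [index_map_subtype]
    refine Nat.mul_le_mul_right _ ((index_iInf_le _).trans ?_)
    refine (Finset.prod_le_pow_card _ _ i fun c _ => (idx_comap _ _).trans a2).trans_eq ?_
    rw [Finset.card_univ, ← Nat.card_eq_fintype_card]; rfl
  refine ⟨_, _, map_mono (iInf_mono fun c => comap_mono a0), ?_, k C c a2, k A i a3⟩
  rintro _ ⟨a, ha, rfl⟩ _ ⟨b, hb, rfl⟩ v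
  have := h.triv hi (g := (b.1 * a.1)⁻¹ * (a.1 * b.1)) (fun c x hx => by
    have t : (c.out⁻¹ * a.1 * c.out⁻¹⁻¹) • (c.out⁻¹ * b.1 * c.out⁻¹⁻¹) • x =
        (c.out⁻¹ * b.1 * c.out⁻¹⁻¹) • (c.out⁻¹ * a.1 * c.out⁻¹⁻¹) • x :=
      congrArg Subtype.val (a1 _ (mem_iInf.1 ha c) _ (mem_iInf.1 hb c) ⟨x, hx⟩)
    rw [mul_smul, inv_smul_eq_iff]
    simpa [mul_smul] using t) v
  rw [mul_smul, inv_smul_eq_iff, mul_smul, mul_smul] at this
  exact this

theorem Ab2.card_le {c i : ℕ} (h : Ab2 G V c i) (hf : ∀ g : G, (∀ v : V, g • v = v) → g = 1) :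
    3 * Nat.card G ≤ (c * i + 2 * c ^ 2) * (𝐤 G) ∧ Nat.card G ≤ c * i * 𝐤 G := by
  classical
  obtain ⟨A, C, h0, h1, h2, h3⟩ := h
  have cm : ∀ a ∈ A.subgroupOf C, ∀ g : C, g * a = a * g := fun a ha g => Subtype.ext (inv_mul_eq_one.1 (hf _ fun v => by
    rw [mul_smul, inv_smul_eq_iff]
    exact (mul_smul _ _ _).trans ((h1 _ ha _ g.2 v).trans (mul_smul _ _ _).symm)))
  haveI : (A.subgroupOf C).Normal := ⟨fun a ha g => by rwa [cm a ha g, mul_inv_cancel_right]⟩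
  haveI := Fintype.ofFinite (C ⧸ A.subgroupOf C)
  have t := cent_sum (QuotientGroup.mk' (A.subgroupOf C)) (QuotientGroup.mk'_surjective _) (by rwa [QuotientGroup.ker_mk'])
    (fun σ => if σ = 1 then Nat.card (C ⧸ A.subgroupOf C) else 2) fun σ => by
      by_cases e : σ = 1
      · exact Or.inl ⟨e, (if_pos e).le⟩
      · refine Or.inr ⟨σ, mem_zpowers σ, (if_neg e).trans_le ?_⟩
        have := orderOf_pos σ
        have := mt orderOf_eq_one_iff.1 e
        omega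
  rw [← Finset.add_sum_erase _ _ (Finset.mem_univ 1), Finset.sum_congr rfl fun σ hσ => if_neg (Finset.ne_of_mem_erase hσ),
    if_pos rfl, Finset.sum_const, Finset.card_erase_of_mem (Finset.mem_univ _), Finset.card_univ, ← Nat.card_eq_fintype_card,
    QuotientGroup.ker_mk', card_subgroupOf_of_le h0, smul_eq_mul] at t
  have t1 := (Cfsg.Agent.S4200.result C).1
  have t2 : Nat.card (C ⧸ A.subgroupOf C) * C.index = A.index := relIndex_mul_index h0
  obtain ⟨j, hj⟩ : ∃ j, Nat.card (C ⧸ A.subgroupOf C) = j + 1 := Nat.exists_eq_succ_of_ne_zero Nat.card_pos.ne'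
  rw [hj] at t t2
  rw [Nat.add_sub_cancel] at t
  have t3 : 3 * Nat.card G ≤ (C.index * A.index + 2 * C.index ^ 2) * 𝐤 G := by
    rw [← A.index_mul_card, ← t2]
    replace t := Nat.mul_le_mul_left ((j + 3) * C.index) (t.trans (Nat.mul_le_mul_left _ t1))
    refine Nat.le_of_mul_le_mul_left (c := j + 1) (le_trans ?_ (t.trans_eq (by ring))) j.succ_pos
    calc _ = (3 * (j + 1) ^ 2) * (C.index * Nat.card A) := by ring
      _ ≤ ((j + 3) * (j + 1 + j * 2)) * (C.index * Nat.card A) := Nat.mul_le_mul_right _ (by nlinarith)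
      _ = _ := by ring
  refine ⟨t3.trans (by gcongr), Nat.le_of_mul_le_mul_left (t3.trans ?_) three_pos⟩
  rw [← mul_assoc]
  refine Nat.mul_le_mul_right _ ?_
  have t4 : C.index * C.index ≤ C.index * A.index := Nat.mul_le_mul_left _ (index_antitone h0)
  have t5 := Nat.mul_le_mul h2 h3
  rw [sq]; omega

theorem orb_le' : Nat.card V ≤ (kr G V).index * (nb G V - 1) + 1 := by
  have e : nb G V - 1 = Nat.card ({Quotient.mk _ 0}ᶜ : Set (MulAction.orbitRel.Quotient G V)) := by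
    rw [Nat.card_coe_set_eq, Set.ncard_compl, Set.ncard_singleton]; rfl
  rw [index, e, ← Nat.card_prod, ← Finite.card_option]
  refine Nat.card_le_card_of_surjective (fun p => p.elim 0 fun p => p.1.out • p.2.1.out) fun v => ?_
  by_cases v0 : v = 0
  · exact ⟨none, v0.symm⟩
  obtain ⟨g, hg⟩ : v ∈ MulAction.orbit G (Quotient.out (Quotient.mk (MulAction.orbitRel G V) v)) :=
    (MulAction.orbitRel G V).symm (Quotient.mk_out v)
  obtain ⟨k, hk⟩ := QuotientGroup.mk_out_eq_mul (kr G V) g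
  refine ⟨some (QuotientGroup.mk g, ⟨Quotient.mk _ v, fun e => ?_⟩), by
    show (QuotientGroup.mk g : G ⧸ kr G V).out • _ = _
    rw [hk, mul_smul, k.2]; exact hg⟩
  obtain ⟨g, hg⟩ : v ∈ MulAction.orbit G (0 : V) := Quotient.exact e
  exact v0 (hg.symm.trans (smul_zero g))

/-- Landau's bounds -/
def Ld : ℕ → ℕ
  | 0 => 0 | 1 => 1 | 2 => 2 | 3 => 6 | 4 => 42 | _ => 1806

theorem land (n : ℕ) : ∀ (G : Type u) [Group G] [Finite G] [Group.IsSolvable G], Nat.card G < n → (𝐤 G) ≤ 5 →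
    Nat.card G ≤ Ld (𝐤 G) := by
  induction n with
  | zero => intro G _ _ _ h; omega
  | succ n ih =>
  intro G _ _ _ hn h
  have k0 : 0 < 𝐤 G := Nat.card_pos
  rcases subsingleton_or_nontrivial G with t | t
  · rw [Nat.card_unique (α := G)]
    generalize (𝐤 G) = k at *
    interval_cases k <;> simp [Ld]
  obtain ⟨M, -, _, M0, -, hc, -⟩ := exists_minNormal_elementary (G := G)
  have hc' : ∀ a ∈ M, ∀ b ∈ M, a * b = b * a := fun a ha b hb => congrArg Subtype.val (hc.is_comm.comm (⟨a, ha⟩ : M) ⟨b, hb⟩)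
  haveI : Nontrivial (AX M hc') := (nontrivial_iff_ne_bot M).2 M0
  have t1 := k_add hc' (QuotientGroup.mk' M) (QuotientGroup.mk'_surjective M) (QuotientGroup.ker_mk' M).ge
  have t2 := two_le_nb (G := G) (V := AX M hc')
  have t3 := orb_le' (G := G) (V := AX M hc')
  have t4 : M.index ≤ Ld (𝐤 (G ⧸ M)) := ih (G ⧸ M) (by have := card_quotient_lt M0; omega) (by omega)
  have t5 : (kr G (AX M hc')).index ≤ M.index := index_antitone (AX.kr_eq (hc := hc') ▸ fun a ha b hb => hc' b hb a ha)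
  have t6 : 0 < 𝐤 (G ⧸ M) := Nat.card_pos
  rw [← M.index_mul_card]
  refine (Nat.mul_le_mul t4 (t3.trans (Nat.succ_le_succ (Nat.mul_le_mul_right _ (t5.trans t4))))).trans ?_
  generalize (𝐤 G) = k at *
  generalize (𝐤 (G ⧸ M)) = a at *
  generalize nb G (AX M hc') = x at *
  have : a ≤ 5 := by omega
  have : x ≤ 5 := by omega
  interval_cases k <;> interval_cases a <;> interval_cases x <;> simp_all [Ld]

variable (G V) in
/-- at least `W` orbits of nonzero vectors -/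
def Orb (W : ℕ) : Prop := ∃ (ι : Type) (_ : Finite ι) (f : ι → V), W ≤ Nat.card ι ∧ (∀ i, f i ≠ 0) ∧
  ∀ i j (g : G), g • f i = f j → i = j

theorem Orb.of_im {W : ℕ} (h : Orb (rp G V).range V W) : Orb G V W :=
  let ⟨ι, _, f, h1, h2, h3⟩ := h
  ⟨ι, inferInstance, f, h1, h2, fun i j g => h3 i j ((rp G V).rangeRestrict g)⟩

theorem Orb.le {W : ℕ} (h : Orb G V W) : W + 1 ≤ nb G V := by
  obtain ⟨ι, _, f, h1, h2, h3⟩ := h
  refine (Nat.succ_le_succ h1).trans ?_
  rw [Nat.succ_eq_add_one, ← Finite.card_option, nb]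
  refine Nat.card_le_card_of_injective (fun o => Quotient.mk _ (o.elim 0 f)) fun a b e => ?_
  obtain ⟨g, hg⟩ : a.elim 0 f ∈ MulAction.orbit G (b.elim 0 f) := Quotient.exact e
  rcases a with _ | a <;> rcases b with _ | b
  · rfl
  · exact (h2 b ((smul_eq_zero_iff_eq g).1 hg)).elim
  · exact (h2 a (hg.symm.trans (smul_zero g))).elim
  · exact congrArg _ (h3 b a g hg).symm

theorem Orb.one [Nontrivial V] : Orb G V 1 :=
  let ⟨v, hv⟩ := exists_ne (0 : V)
  ⟨Unit, inferInstance, fun _ => v, by simp, fun _ => hv, fun _ _ _ _ => rfl⟩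

theorem Orb.two [Nontrivial V] (hf : ¬ Nat.card V - 1 ∣ Nat.card G) : Orb G V 2 := by
  obtain ⟨v, hv⟩ := exists_ne (0 : V)
  obtain ⟨w, w0, hw⟩ : ∃ w : V, w ≠ 0 ∧ w ∉ MulAction.orbit G v := by
    by_contra! t
    refine hf ?_
    have : MulAction.orbit G v = {0}ᶜ := Set.ext fun w => ⟨by rintro ⟨g, rfl⟩ e; exact hv ((smul_eq_zero_iff_eq g).1 e), t w⟩
    rw [← Set.ncard_singleton (0 : V), ← Set.ncard_compl, ← this, ← MulAction.index_stabilizer]
    exact index_dvd_card _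
  refine ⟨Bool, inferInstance, fun b => if b then v else w, by simp, fun b => by cases b <;> simpa, fun a b g e => ?_⟩
  cases a <;> cases b
  · rfl
  · exact (hw ⟨g⁻¹, inv_smul_eq_iff.2 e.symm⟩).elim
  · exact (hw ⟨g, e⟩).elim
  · rfl

theorem Orb.imp {W : ℕ} {H : Subgroup G} {e : V →+ V} (h : Imp V H e) (b : letI := subAct h.inv; Orb H e.range W) :
    Orb G V (W * H.index) := by
  classical
  obtain ⟨ι, _, f, h1, h2, h3⟩ := b
  haveI := Fintype.ofFinite (G ⧸ H)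
  let ε : G ⧸ H ≃ Fin H.index := Finite.equivFin (G ⧸ H)
  let P : ι × Fin H.index → G ⧸ H → V := fun s c => if ε c ≤ s.2 then (f s.1).1 else 0
  have hP : ∀ s c, P s c ∈ e.range := fun s c => by
    dsimp only [P]; split_ifs; exacts [(f s.1).2, zero_mem _]
  have P0 : ∀ s c, P s c ≠ 0 ↔ ε c ≤ s.2 := fun s c => by
    dsimp only [P]; split_ifs with t
    · exact iff_of_true (fun e => h2 _ (Subtype.ext e)) t
    · simp [t]
  refine ⟨ι × Fin H.index, inferInstance, fun s => ∑ c : G ⧸ H, c.out • P s c, by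
    rw [Nat.card_prod, Nat.card_fin]; exact Nat.mul_le_mul_right _ h1, fun s t => ?_, fun s s' g t => ?_⟩
  · have := h.comp (P s) (hP s) (ε.symm s.2).out
    beta_reduce at t
    rw [t, smul_zero, map_zero, QuotientGroup.out_eq', inv_mul_cancel, one_smul] at this
    exact (P0 s _).2 (by simp) this.symm
  beta_reduce at t
  have k : ∀ c : G ⧸ H, ∃ a : H, a.1 • P s c = P s' (g • c) := fun c => by
    have t1 := h.comp (P s) (hP s) c.out
    have t2 := h.comp (P s') (hP s') (g * c.out)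
    rw [← t, ← mul_smul, mul_inv_rev, inv_mul_cancel_right, t1, QuotientGroup.out_eq', inv_mul_cancel, one_smul] at t2
    refine ⟨⟨_, H.inv_mem (Imp.hout H (g * c.out))⟩, inv_smul_eq_iff.2 (t2.trans ?_)⟩
    rw [show (QuotientGroup.mk (g * c.out) : G ⧸ H) = g • c from MulAction.Quotient.mk_smul_out H g c, mul_inv_rev]
  have k1 : ∀ c, ε c ≤ s.2 ↔ ε (g • c) ≤ s'.2 := fun c => by
    obtain ⟨a, ha⟩ := k c
    rw [← P0, ← P0, ← ha, Ne, Ne, smul_eq_zero_iff_eq]
  refine Prod.ext ?_ (Fin.ext ?_)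
  · obtain ⟨a, ha⟩ := k (ε.symm s.2)
    have t1 : ε (ε.symm s.2) ≤ s.2 := by simp
    dsimp only [P] at ha
    rw [if_pos t1, if_pos ((k1 _).1 t1)] at ha
    exact h3 _ _ a (Subtype.ext ha)
  · have := Finset.card_bijective (s := Finset.Iic s.2) (t := Finset.Iic s'.2) (fun t => ε (g • ε.symm t))
      (ε.bijective.comp ((MulAction.bijective g).comp ε.symm.bijective)) fun t => by simpa using k1 (ε.symm t)
    simpa using this

section ps
variable {K : Type u} [Field K] [Finite K] [Module K V] {Z : Subgroup G} [hZn : Z.Normal] {ι : Z →* K} {E : Subgroup G}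
  [hEn : E.Normal] {A : Type u} [AddCommGroup A] [Finite A] [DistribMulAction G A] {π : G → A} {β : Fm K A}

theorem ps_idx (P : PS V Z ι E π β) : Z.index = (𝐂 Z).index * (Nat.card A * Nat.card (HH Z A)) := by
  refine Nat.eq_of_mul_eq_mul_right (Nat.card_pos (α := Z)) ?_
  rw [Z.index_mul_card, ← (𝐂 Z).index_mul_card, P.card_C]; ring

theorem ps_dim {p r : ℕ} [Nontrivial V] (hp : p.Prime) (P : PS V Z ι E π β) (hr : Nat.card V = p ^ r) :
    ∃ t, 0 < t ∧ Nat.card K = p ^ (t * (𝐂 Z).index) ∧ r = t * (𝐂 Z).index * Module.finrank K V := by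
  obtain ⟨q0, q1, q2⟩ := P.fld
  have f0 : 0 < (𝐂 Z).index := Nat.pos_of_ne_zero index_ne_zero_of_finite
  rw [Module.natCard_eq_pow_finrank (K := K) (V := V), ← q2, ← pow_mul] at hr
  obtain ⟨s, -, rfl⟩ := (Nat.dvd_prime_pow hp).1 (hr ▸ dvd_pow_self q0 (Nat.mul_pos f0 Module.finrank_pos).ne')
  rw [← pow_mul] at hr
  exact ⟨s, Nat.pos_of_ne_zero fun e => by simp [e] at q1, by rw [← q2, pow_mul],
    by rw [← Nat.pow_right_injective hp.two_le hr, mul_assoc]⟩

theorem three_pts (X : Type*) [Group X] [DistribMulAction X A] (hb : Nat.card A = 2 * 2) : ∃ ψ : X →* Equiv.Perm (Fin 3),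
    (∀ g, ψ g = 1 → ∀ a : A, g • a = a) ∧ ∀ (g : X) (w : A), w ≠ 0 → g • w = w → ∃ x, ψ g x = x := by
  letI : MulAction X ({0}ᶜ : Set A) :=
    { smul g x := ⟨g • x.1, fun e => x.2 ((smul_eq_zero_iff_eq g).1 e)⟩
      one_smul x := Subtype.ext (one_smul _ x.1)
      mul_smul a b x := Subtype.ext (mul_smul a b x.1) }
  let ε : ({0}ᶜ : Set A) ≃ Fin 3 := Finite.equivFinOfCardEq (by
    rw [Nat.card_coe_set_eq, Set.ncard_compl, hb, Set.ncard_singleton])
  refine ⟨ε.permCongrHom.toMonoidHom.comp (MulAction.toPermHom X _), fun g e x => ?_, fun g w w0 hw => ⟨ε ⟨w, w0⟩, ?_⟩⟩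
  · by_cases x0 : x = 0
    · simp [x0]
    · exact congrArg (fun f : Equiv.Perm ({0}ᶜ : Set A) => (f ⟨x, x0⟩).1) (ε.permCongrHom.map_eq_one_iff.1 e)
  · show ε (g • ε.symm (ε ⟨w, w0⟩)) = _
    rw [ε.symm_apply_apply]; exact congrArg ε (Subtype.ext hw)

theorem ps_six (P : PS V Z ι E π β) (hb : Nat.card A = 2 * 2) : Nat.card (HH Z A) ∣ 6 := by
  obtain ⟨ψ, h, -⟩ := three_pts (HH Z A) hb
  have := card_dvd_of_injective ψ ((injective_iff_map_eq_one _).2 fun g e => P.sy.faith g (h g e))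
  rwa [Nat.card_perm, Nat.card_fin] at this

theorem ps_s4 (P : PS V Z ι E π β) (hb : Nat.card A = 2 * 2) (hc : (𝐂 Z) = ⊤) (h : Z.index = 24) :
    4 * Nat.card Z ≤ 𝐤 G := by
  obtain ⟨e⟩ := Linear.nonempty_equiv_S4 (G := G ⧸ Z) h fun g hg => by
    obtain ⟨g, rfl⟩ := QuotientGroup.mk_surjective g
    obtain ⟨ψ, h1, h2⟩ := three_pts G hb
    have k : ∀ n, ψ g ^ n = 1 → g ^ n ∈ E := fun n t => P.faith _ (hc ▸ trivial) (h1 _ (by rw [map_pow, t]))
    have k2 : ψ g ^ 2 ≠ 1 := fun t => by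
      have := orderOf_dvd_of_pow_eq_one (x := (g : G ⧸ Z)) (n := 2 * 4) (by
        rw [← QuotientGroup.mk_pow, QuotientGroup.eq_one_iff, pow_mul, ← P.zero _ (pow_mem (k 2 t) 4), P.pow (k 2 t)]
        exact (hb ▸ card_nsmul_eq_zero' : (2 * 2) • π _ = 0))
      rw [hg] at this; omega
    have t := k 3 (((by decide : ∀ σ : Equiv.Perm (Fin 3), σ ^ 2 = 1 ∨ σ ^ 3 = 1) _).resolve_left k2)
    refine k2 ((by decide : ∀ σ : Equiv.Perm (Fin 3), (∃ x, σ x = x) → σ ^ 2 = 1) _ (h2 g (π (g ^ 3)) (fun e => ?_)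
      (by rw [← P.conj _ _ t]; congr 1; group)))
    have := orderOf_dvd_of_pow_eq_one (x := (g : G ⧸ Z)) (n := 3) (by
      rw [← QuotientGroup.mk_pow, QuotientGroup.eq_one_iff, ← P.zero _ t, e])
    rw [hg] at this; omega
  have := s4_count (e.toMonoidHom.comp (QuotientGroup.mk' Z)) (e.surjective.comp (QuotientGroup.mk'_surjective Z)) fun z hz g =>
    ((hc ▸ trivial : g ∈ 𝐂 Z) z ((QuotientGroup.eq_one_iff z).1 (e.map_eq_one_iff.1 hz))).symm
  rwa [show (e.toMonoidHom.comp (QuotientGroup.mk' Z)).ker = Z from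
    Subgroup.ext fun z => e.map_eq_one_iff.trans (QuotientGroup.eq_one_iff z)] at this
end ps

/-- the primitive building blocks -/
def Base (p r c i w : ℕ) : Prop := 0 < r ∧ ((c * i) ^ 3 ≤ 576 ^ (r - 1) ∨
  c = 1 ∧ (r = 2 ∧ i ≤ 24 ∧ (p = 13 → 2 ≤ w) ∨ r = 3 ∧ i ≤ 216 ∨ r = 4 ∧ i ≤ 2832))

theorem base_num {f b a r : ℕ} (f0 : 0 < f) (b0 : 0 < b) (hr : f * b ≤ r) (a1 : b = 1 → a = 1)
    (a3 : Squarefree b → a ≤ b * (b * b - 1) ∨ b = 1) (ha : 2 ≤ b → 24 ^ 4 * a ^ 12 ≤ b ^ 54) :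
    (f * (f * (b * b * a))) ^ 3 ≤ 576 ^ (r - 1) ∨ f = 1 ∧ r = b ∧ (b = 2 ∧ a ≤ 6 ∨ b = 3 ∧ a ≤ 24 ∨ b = 4 ∧ a ≤ 177) := by
  have t1 : f ^ 6 ≤ 576 ^ (f - 1) := lin_exp f0 (by norm_num)
  have fin : ∀ s, (b * b * a) ^ 3 ≤ 576 ^ s → f + s ≤ r → (f * (f * (b * b * a))) ^ 3 ≤ 576 ^ (r - 1) := fun s h1 h2 =>
    calc _ = f ^ 6 * (b * b * a) ^ 3 := by ring
      _ ≤ 576 ^ (f - 1) * 576 ^ s := Nat.mul_le_mul t1 h1
      _ ≤ _ := by rw [← pow_add]; exact Nat.pow_le_pow_right (by norm_num) (by omega)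
  have fb : f + (b - 1) ≤ r := by
    obtain ⟨f, rfl⟩ : ∃ g, f = g + 1 := ⟨f - 1, by omega⟩
    obtain ⟨b, rfl⟩ : ∃ g, b = g + 1 := ⟨b - 1, by omega⟩
    rw [Nat.add_sub_cancel]; nlinarith
  have sm : ∀ c, a ≤ c → (b * b * c) ^ 3 ≤ 576 ^ b → 2 ≤ b → (f * (f * (b * b * a))) ^ 3 ≤ 576 ^ (r - 1) ∨ f = 1 ∧ r = b :=
    fun c h1 h2 h3 => by
      by_cases e : f + b ≤ r
      · exact Or.inl (fin b (le_trans (by gcongr) h2) e)
      · have : f = 1 := by
          by_contra n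
          have : 2 ≤ f := by omega
          exact e (le_trans (by nlinarith) hr)
        exact Or.inr ⟨this, by rw [this] at hr e; omega⟩
  by_cases l : 6 ≤ b
  · refine Or.inl (fin _ ?_ fb)
    have t := ind_pow 6 78 (576 ^ 4) (576 ^ 4) (24 ^ 4) (by norm_num) (by norm_num) (by norm_num) l
    have h := ha (by omega)
    obtain ⟨c, rfl⟩ : ∃ g, b = g + 1 := ⟨b - 1, by omega⟩
    rw [pow_succ' (576 ^ 4), mul_assoc] at t
    refine (Nat.pow_le_pow_iff_left (n := 4) (by norm_num)).1 (Nat.le_of_mul_le_mul_left (c := 24 ^ 4) ?_ (by norm_num))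
    calc _ = (c + 1) ^ 24 * (24 ^ 4 * a ^ 12) := by ring
      _ ≤ (c + 1) ^ 24 * (c + 1) ^ 54 := Nat.mul_le_mul_left _ h
      _ ≤ (576 ^ 4) ^ c * 24 ^ 4 := by rw [← pow_add]; exact Nat.le_of_mul_le_mul_left t (by norm_num)
      _ = _ := by rw [Nat.add_sub_cancel, ← pow_mul, ← pow_mul, mul_comm c, mul_comm]
  have : b < 6 := by omega
  interval_cases b
  · exact Or.inl (fin _ (by simp [a1]) fb)
  · have := (a3 Nat.prime_two.squarefree).resolve_right (by norm_num)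
    exact (sm 6 this (by norm_num) le_rfl).imp_right fun h => ⟨h.1, h.2, Or.inl ⟨rfl, this⟩⟩
  · have := (a3 Nat.prime_three.squarefree).resolve_right (by norm_num)
    exact (sm 24 this (by norm_num) (by norm_num)).imp_right fun h => ⟨h.1, h.2, Or.inr (Or.inl ⟨rfl, this⟩)⟩
  · have : a ≤ 177 := by
      by_contra! n
      have := Nat.pow_le_pow_left (show 178 ≤ a from n) 12
      have := ha (by norm_num)
      omega
    exact (sm 177 this (by norm_num) (by norm_num)).imp_right fun h => ⟨h.1, h.2, Or.inr (Or.inr ⟨rfl, this⟩)⟩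
  · have : a ≤ 120 := (a3 Nat.prime_five.squarefree).resolve_right (by norm_num)
    exact Or.inl (fin _ (le_trans (b := (5 * 5 * 120) ^ 3) (by gcongr) (by norm_num)) fb)

theorem J4 {p : ℕ} (hp : p.Prime) (n : ℕ) : ∀ (G V : Type u) [Group G] [Finite G] [AddCommGroup V] [Finite V]
    [DistribMulAction G V] [Group.IsSolvable G] [Nontrivial V] (r : ℕ), Nat.card V < n → Nat.card V = p ^ r →
    Block.B2.Irr G V → ∃ U S s c i w, 0 < U ∧ 0 < w ∧ 24 * S ^ 3 ≤ 24 ^ U ∧ s * U ≤ r ∧ Ab2 G V (c ^ U * S) (i ^ U * S) ∧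
      Orb G V (w * U) ∧ Base p s c i w := by
  induction n with
  | zero => intro G V _ _ _ _ _ _ _ _ h; omega
  | succ n ih =>
  intro G V _ _ _ _ _ _ _ r hn hr hi
  suffices ∃ U S s c i w, 0 < U ∧ 0 < w ∧ 24 * S ^ 3 ≤ 24 ^ U ∧ s * U ≤ r ∧ Ab2 (rp G V).range V (c ^ U * S) (i ^ U * S) ∧
      Orb (rp G V).range V (w * U) ∧ Base p s c i w by
    obtain ⟨U, S, s, c, i, w, h1, h2, h3, h4, h5, h6, h7⟩ := this
    exact ⟨U, S, s, c, i, w, h1, h2, h3, h4, h5.of_im, h6.of_im, h7⟩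
  haveI := im_solv (G := G) (V := V)
  replace hi := im_irr hi
  have hf := im_faith (G := G) (V := V)
  generalize_proofs at *
  set G' := (rp G V).range
  rcases exists_PS hi hf with ⟨H, e, h⟩ | ⟨K, _, _, _, Z, _, ι, E, _, A, _, _, _, π, β, P⟩
  · letI := subAct h.inv
    haveI := h.nontriv
    obtain ⟨t, -, hs⟩ := (Nat.dvd_prime_pow hp).1 (hr ▸ e.range.card_addSubgroup_dvd_card)
    obtain ⟨U, S, s, c, i, w, h1, h2, h3, h4, h5, h6, h7⟩ := ih H e.range t (by have := card_lt h.ne_top; omega) hs (h.irr hi)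
    have l := h.pow_le
    rw [hs, hr, ← pow_mul, Nat.pow_le_pow_iff_right hp.one_lt] at l
    refine ⟨U * H.index, S ^ H.index * H.normalCore.index, s, c, i, w,
      Nat.mul_pos h1 (Nat.pos_of_ne_zero index_ne_zero_of_finite), h2, ?_, ?_, ?_, mul_assoc w U _ ▸ h6.imp h, h7⟩
    · calc _ = (S ^ 3) ^ H.index * (24 * H.normalCore.index ^ 3) := by ring
        _ ≤ (S ^ 3) ^ H.index * 24 ^ H.index := Nat.mul_le_mul_left _ (dixon h.co)
        _ = (24 * S ^ 3) ^ H.index := by ring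
        _ ≤ _ := by rw [pow_mul]; exact Nat.pow_le_pow_left h3 _
    · rw [← mul_assoc]; exact (Nat.mul_le_mul_right _ h4).trans l
    · simpa only [mul_pow, pow_mul, mul_assoc] using h5.imp h hi
  obtain ⟨b, hb⟩ := P.alt.isSquare
  obtain ⟨b0, bn, -, -⟩ := P.bb hb
  obtain ⟨t, t0, t1, t2⟩ := ps_dim hp P hr
  have f0 : 0 < (𝐂 Z).index := Nat.pos_of_ne_zero index_ne_zero_of_finite
  have t3 := ps_idx P
  rw [hb] at t3
  have t4 : (𝐂 Z).index * b ≤ r := by
    rw [t2, mul_assoc]; exact (Nat.mul_le_mul_left _ bn).trans (Nat.le_mul_of_pos_left _ t0)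
  have t5 := base_num (a := Nat.card (HH Z A)) f0 b0 t4 (fun e => by
    subst e
    haveI : Subsingleton A := (Nat.card_eq_one_iff_unique.1 hb).1
    haveI : Subsingleton (HH Z A) := ⟨fun x y => inv_mul_eq_one.1 (P.sy.faith _ fun a => Subsingleton.elim _ _)⟩
    exact Nat.card_unique) (fun h => P.sy.rank2 h hb) (P.pw hb)
  have ab : Ab2 G' V ((𝐂 Z).index ^ 1 * 1) (Z.index ^ 1 * 1) := ⟨Z, 𝐂 Z, P.comm, fun x hx y hy v => by
    rw [← mul_smul, hy x hx, mul_smul], by simp, by simp⟩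
  have r0 : 0 < r := (Nat.mul_pos f0 b0).trans_le t4
  by_cases d : Nat.card V - 1 ∣ Nat.card G'
  swap
  · refine ⟨1, 1, r, _, _, 2, one_pos, two_pos, by norm_num, by omega, ab, Orb.two d, r0, t5.imp (fun h => t3 ▸ h) ?_⟩
    rintro ⟨e1, e2, h⟩
    rw [t3, e1]
    rcases h with ⟨rfl, h⟩ | ⟨rfl, h⟩ | ⟨rfl, h⟩ <;> omega
  refine ⟨1, 1, r, _, _, 1, one_pos, one_pos, by norm_num, by omega, ab, Orb.one, r0, t5.imp (fun h => t3 ▸ h) ?_⟩
  rintro ⟨e1, e2, h⟩
  rcases h with ⟨rfl, h⟩ | ⟨rfl, h⟩ | ⟨rfl, h⟩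
  · refine ⟨e1, Or.inl ⟨e2, by rw [t3, e1]; omega, fun e => ?_⟩⟩
    have z := P.card_Z
    have : t = 1 := by rw [e2, e1] at t2; nlinarith
    rw [t1, this, e1, e] at z
    rw [hr, e, e2, ← Z.index_mul_card, t3, e1] at d
    have := d.trans (Nat.mul_dvd_mul (Nat.mul_dvd_mul_left _ (Nat.mul_dvd_mul_left _ (ps_six P hb))) z)
    omega
  all_goals rw [t3, e1]; omega

end Cfsg.Lib.Hall.KL
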