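import Cfsg.Agent.Lib.Hall.KLc

/-! # The class number of a solvable group of order divisible by `p²` -/

set_option autoImplicit false
set_option linter.unusedSectionVars false
set_option linter.style.haveILetI false

namespace Cfsg.Lib.Hall.KL

open Cfsg Cfsg.Lib Subgroup Cfsg.Lib.Block.B2 Cfsg.Lib.Hall.B3 Cfsg.Lib.Hall.KR

local notation "𝐂" S => centralizer (SetLike.coe S)
local notation "𝐤" X => Nat.card (ConjClasses X)

theorem fin2 {p r T y a s D : ℕ} (p2 : 11 ≤ p) (hP : 3 * p ^ r ≤ T * y + 3) (hy : 14400 * y ≤ 2401 * p ^ 2) (ha : a + s + 2 ≤ r)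
    (hT : T ≤ D * p ^ a) (hD : 2401 * D + 400 ≤ 43200 * p ^ s) : False := by
  have h1 : p ^ (a + s + 2) ≤ p ^ r := Nat.pow_le_pow_right (by omega) ha
  have h2 : 11 ^ 2 ≤ p ^ (a + 2) := (Nat.pow_le_pow_left p2 2).trans (Nat.pow_le_pow_right (by omega) (by omega))
  have h3 : 14400 * (T * y) ≤ 2401 * D * p ^ (a + 2) :=
    calc _ = T * (14400 * y) := by ring
      _ ≤ D * p ^ a * (2401 * p ^ 2) := Nat.mul_le_mul hT hy
      _ = _ := by ring
  have h4 : (2401 * D + 400) * p ^ (a + 2) ≤ 43200 * p ^ (a + s + 2) := (Nat.mul_le_mul_right _ hD).trans_eq (by ring)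
  rw [add_mul] at h4
  omega

theorem sq_S {S j : ℕ} (h : 24 * S ^ 3 ≤ 24 ^ (j + 1)) : S ^ 2 * 3 ^ j ≤ 25 ^ j := by
  rw [pow_succ' 24] at h
  refine (Nat.pow_le_pow_iff_left (n := 3) (by norm_num)).1 ?_
  calc _ = (S ^ 3) ^ 2 * (3 ^ 3) ^ j := by rw [mul_pow, pow_right_comm S, pow_right_comm 3]
    _ ≤ (24 ^ j) ^ 2 * (3 ^ 3) ^ j := Nat.mul_le_mul_right _ (Nat.pow_le_pow_left (Nat.le_of_mul_le_mul_left h (by norm_num)) 2)
    _ = (24 ^ 2 * 3 ^ 3) ^ j := by rw [mul_pow, pow_right_comm 24]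
    _ ≤ (25 ^ 3) ^ j := Nat.pow_le_pow_left (by norm_num) j
    _ = _ := pow_right_comm _ _ _

theorem blk {S j i ν q : ℕ} (h : 24 * S ^ 3 ≤ 24 ^ (j + 1)) (hi : i ≤ ν) (n0 : 0 < ν) (hq : 25 * ν ≤ 3 * q) :
    S ^ 2 * (i ^ (j + 1) + 2) ≤ (ν + 2) * q ^ j := by
  have t : i ^ (j + 1) + 2 ≤ ν ^ j * (ν + 2) := by
    have := Nat.pow_le_pow_left hi (j + 1)
    have := pow_pos n0 j
    rw [mul_add, ← pow_succ]; omega
  refine Nat.le_of_mul_le_mul_left (c := 3 ^ j) ?_ (by positivity)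
  calc _ = S ^ 2 * 3 ^ j * (i ^ (j + 1) + 2) := by ring
    _ ≤ 25 ^ j * (ν ^ j * (ν + 2)) := Nat.mul_le_mul (sq_S h) t
    _ = (25 * ν) ^ j * (ν + 2) := by ring
    _ ≤ (3 * q) ^ j * (ν + 2) := Nat.mul_le_mul_right _ (Nat.pow_le_pow_left hq j)
    _ = _ := by ring

theorem numJ {p r U S s c i w g k x : ℕ} (hp : p = 11 ∨ p = 13 ∨ 17 ≤ p) (r3 : 3 ≤ r) (U0 : 0 < U) (w0 : 0 < w)
    (hS : 24 * S ^ 3 ≤ 24 ^ U) (hs : s * U ≤ r)
    (h1 : 3 * g ≤ (c ^ U * S * (i ^ U * S) + 2 * (c ^ U * S) ^ 2) * k ∧ g ≤ c ^ U * S * (i ^ U * S) * k) (hw : w * U ≤ x)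
    (hb : Base p s c i w) (hr : p ^ r ≤ g * x + 1) (hl : k ≤ 5 → g ≤ 1806) : 49 * p ≤ 60 * (k + x) := by
  by_contra! hK
  have p11 : 11 ≤ p := by omega
  have y1 : 4 * (k * x) ≤ (k + x) ^ 2 := by nlinarith [sq_nonneg ((k : ℤ) - x)]
  have hy : 14400 * (k * x) ≤ 2401 * p ^ 2 := by nlinarith
  obtain ⟨s0, hb⟩ := hb
  have k6 : p ≤ 13 → 4 ≤ r → 6 ≤ k := fun h h' => by
    by_contra! n
    have := hl (by omega)
    have := (Nat.pow_le_pow_right (by omega) h').trans hr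
    have : g * x ≤ 1806 * x := Nat.mul_le_mul_right _ ‹_›
    rcases hp with rfl | rfl | h <;> omega
  rcases hb with hb | ⟨rfl, hb⟩
  · obtain ⟨j, rfl⟩ : ∃ j, r = j + 3 := ⟨r - 3, by omega⟩
    have m : c ^ U * S * (i ^ U * S) ≤ 70 * 9 ^ j := by
      refine (Nat.pow_le_pow_iff_left (n := 3) (by norm_num)).1 (Nat.le_of_mul_le_mul_left (c := 576) ?_ (by norm_num))
      obtain ⟨s, rfl⟩ : ∃ t, s = t + 1 := ⟨s - 1, by omega⟩
      calc _ = (24 * S ^ 3) ^ 2 * ((c * i) ^ 3) ^ U := by ring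
        _ ≤ (24 ^ U) ^ 2 * (576 ^ s) ^ U := Nat.mul_le_mul (Nat.pow_le_pow_left hS 2) (Nat.pow_le_pow_left hb U)
        _ = 576 ^ ((s + 1) * U) := by rw [← pow_mul, mul_comm U, pow_mul]; ring
        _ ≤ 576 ^ (j + 3) := Nat.pow_le_pow_right (by norm_num) hs
        _ = 576 ^ 3 * 576 ^ j := by ring
        _ ≤ (576 * 70 ^ 3) * (9 ^ 3) ^ j := Nat.mul_le_mul (by norm_num) (Nat.pow_le_pow_left (by norm_num) j)
        _ = _ := by rw [mul_pow, pow_right_comm 9, mul_assoc]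
    have t : p ^ (j + 3) ≤ 70 * p ^ j * (k * x) + 1 := hr.trans (Nat.succ_le_succ <|
      (Nat.mul_le_mul_right _ (h1.2.trans (Nat.mul_le_mul_right _ (m.trans (Nat.mul_le_mul_left _
        (Nat.pow_le_pow_left (by omega) j)))))).trans_eq (mul_assoc _ _ _))
    by_cases e : p = 11
    · subst e
      have : k * x ≤ 16 := by
        have : (k + x) ^ 2 ≤ 8 ^ 2 := Nat.pow_le_pow_left (by omega) 2
        omega
      have := Nat.mul_le_mul_left (70 * 11 ^ j) this
      have := pow_pos (show 0 < 11 by norm_num) j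
      rw [pow_add] at t; omega
    · exact fin2 (p := p) (r := j + 3) (T := 210 * p ^ j) (a := j) (s := 1) (D := 210) (by omega) (by rw [mul_assoc] at t; rw [mul_assoc 210]; omega) hy le_rfl le_rfl
        (by rw [pow_one]; omega)
  have hP : 3 * p ^ r ≤ S ^ 2 * (i ^ U + 2) * (k * x) + 3 := by
    have := Nat.mul_le_mul_right x h1.1
    rw [show (1 ^ U * S * (i ^ U * S) + 2 * (1 ^ U * S) ^ 2) * k * x = S ^ 2 * (i ^ U + 2) * (k * x) by ring, mul_assoc] at this
    omega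
  obtain ⟨j, rfl⟩ : ∃ j, U = j + 1 := ⟨U - 1, by omega⟩
  have S1 : j = 0 → S ≤ 1 := fun e => by
    by_contra! n
    have := Nat.pow_le_pow_left (show 2 ≤ S from n) 3
    rw [e] at hS; omega
  have S2 : j = 1 → S ≤ 2 := fun e => by
    by_contra! n
    have := Nat.pow_le_pow_left (show 3 ≤ S from n) 3
    rw [e] at hS; omega
  have sm : ∀ ν y S0 r0, i ≤ ν → k * x ≤ y → S ≤ S0 → r0 ≤ r → S0 ^ 2 * (ν ^ (j + 1) + 2) * y + 3 < 3 * p ^ r0 → False :=
    fun ν y S0 r0 a1 a2 a3 a4 a5 => by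
      have : S ^ 2 * (i ^ (j + 1) + 2) * (k * x) ≤ S0 ^ 2 * (ν ^ (j + 1) + 2) * y := by gcongr
      have := Nat.pow_le_pow_right (show 0 < p by omega) a4
      omega
  have xU : j + 1 ≤ x := le_trans (Nat.le_mul_of_pos_left _ w0) hw
  by_cases e : p = 11
  · subst e
    by_cases r4 : 4 ≤ r
    · have := k6 (by norm_num) r4
      have y : k * x ≤ 12 := by
        have : k ≤ 7 := by omega
        have : x ≤ 2 := by omega
        interval_cases x <;> omega
      have : j = 0 ∨ j = 1 := by omega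
      rcases this with rfl | rfl
      · exact sm 2832 12 1 4 (by omega) y (S1 rfl) r4 (by norm_num)
      · rcases hb with ⟨rfl, h, -⟩ | ⟨rfl, h⟩ | ⟨rfl, h⟩
        · exact sm 24 12 2 4 h y (S2 rfl) r4 (by norm_num)
        · exact sm 216 12 2 6 h y (S2 rfl) hs (by norm_num)
        · exact sm 2832 12 2 8 h y (S2 rfl) hs (by norm_num)
    · have y : k * x ≤ 16 := by
        have : (k + x) ^ 2 ≤ 8 ^ 2 := Nat.pow_le_pow_left (by omega) 2
        omega
      have : 2 * (j + 1) ≤ r := le_trans (Nat.mul_le_mul_right _ (by omega : 2 ≤ s)) hs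
      obtain rfl : j = 0 := by omega
      exact sm 216 16 1 3 (by omega) y (S1 rfl) r3 (by norm_num)
  have p13 : 13 ≤ p := by omega
  rcases hb with ⟨rfl, h, h'⟩ | ⟨rfl, h⟩ | ⟨rfl, h⟩
  · rcases Nat.eq_zero_or_pos j with rfl | j0
    · exact fin2 (a := 0) (s := 1) (D := 26) (by omega) hP hy r3 ((blk (q := 200) hS h (by norm_num) (by norm_num)).trans (by simp))
        (by rw [pow_one]; omega)
    by_cases e' : p = 13
    · subst e'
      have := k6 le_rfl (by omega)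
      have := (Nat.mul_le_mul_right _ (h' rfl)).trans hw
      obtain rfl : j = 1 := by omega
      refine sm 24 25 2 4 h ?_ (S2 rfl) hs (by norm_num)
      have : (k + x) ^ 2 ≤ 10 ^ 2 := Nat.pow_le_pow_left (by omega) 2
      omega
    obtain ⟨j, rfl⟩ : ∃ t, j = t + 1 := ⟨j - 1, by omega⟩
    have p17 : 17 ^ 2 ≤ p ^ 2 := Nat.pow_le_pow_left (by omega) 2
    refine fin2 (a := 2 * j) (s := 2) (D := 4817) (by omega) hP hy (by omega) ?_ (by omega)
    have t : i ^ (j + 1 + 1) + 2 ≤ 24 ^ j * 578 := by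
      have := Nat.pow_le_pow_left h (j + 1 + 1)
      have := pow_pos (show 0 < 24 by norm_num) j
      rw [pow_succ 24, pow_succ 24] at *; omega
    refine Nat.le_of_mul_le_mul_left (c := 3 ^ (j + 1)) ?_ (by positivity)
    calc _ = S ^ 2 * 3 ^ (j + 1) * (i ^ (j + 1 + 1) + 2) := by ring
      _ ≤ 25 ^ (j + 1) * (24 ^ j * 578) := Nat.mul_le_mul (sq_S hS) t
      _ = (25 * 24) ^ j * (25 * 578) := by rw [mul_pow]; ring
      _ ≤ (3 * p ^ 2) ^ j * (3 * 4817) := Nat.mul_le_mul (Nat.pow_le_pow_left (by omega) j) (by norm_num)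
      _ = _ := by ring
  · have p3 : 13 ^ 3 ≤ p ^ 3 := Nat.pow_le_pow_left p13 3
    exact fin2 (a := 3 * j) (s := 1) (D := 218) (by omega) hP hy (by omega)
      ((blk (q := p ^ 3) hS h (by norm_num) (by omega)).trans_eq (by rw [pow_mul])) (by rw [pow_one]; omega)
  · have p4 : 13 ^ 4 ≤ p ^ 4 := Nat.pow_le_pow_left p13 4
    have p2 : 13 ^ 2 ≤ p ^ 2 := Nat.pow_le_pow_left p13 2
    exact fin2 (a := 4 * j) (s := 2) (D := 2834) (by omega) hP hy (by omega)
      ((blk (q := p ^ 4) hS h (by norm_num) (by omega)).trans_eq (by rw [pow_mul])) (by omega)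

theorem num4 {p m g k x : ℕ} (p2 : 11 ≤ p) (hm : m ≤ 5) (h : g ≤ m * k) (hr : p ^ 2 ≤ g * x + 1) : 49 * p ≤ 60 * (k + x) := by
  by_contra! hK
  have y1 : 4 * (k * x) ≤ (k + x) ^ 2 := by nlinarith [sq_nonneg ((k : ℤ) - x)]
  have hy : 14400 * (k * x) ≤ 2401 * p ^ 2 := by nlinarith
  have : g * x ≤ 5 * (k * x) := by rw [← mul_assoc]; gcongr; exact h.trans (by gcongr)
  have := Nat.pow_le_pow_left p2 2
  omega

theorem num5 {p z k x : ℕ} (p2 : 11 ≤ p) (hp : p.Prime) (hz : z ∣ p - 1) (z2 : 2 ∣ z) (h : 4 * z ≤ k)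
    (hr : p ^ 2 ≤ 24 * z * x + 1) : 49 * p ≤ 60 * (k + x) := by
  obtain ⟨t, ht⟩ := hz
  obtain rfl : p = z * t + 1 := by omega
  have z0 : 0 < z := Nat.pos_of_ne_zero fun e => by simp [e] at p2
  have h1 : t * (z * t + 2) ≤ 24 * x := Nat.le_of_mul_le_mul_left (c := z) (by nlinarith) z0
  by_cases l : 10 ≤ t
  · obtain ⟨s, rfl⟩ : ∃ s, t = s + 10 := ⟨t - 10, by omega⟩
    nlinarith [Nat.zero_le (z * s), Nat.zero_le (z * s * s)]
  · have : t < 10 := by omega
    rcases (by omega : z = 2 ∨ 3 ≤ z) with rfl | _ <;> interval_cases t <;> omega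

universe u
variable {G V : Type u} [Group G] [Finite G] [AddCommGroup V] [Finite V] [DistribMulAction G V]

theorem cyc_comm [IsAddCyclic V] (a b : G) (v : V) : a • b • v = b • a • v := by
  obtain ⟨x, hx⟩ := IsAddCyclic.exists_zsmul_surjective (G := V)
  obtain ⟨n, rfl⟩ := hx v
  obtain ⟨r, hr⟩ := hx (a • x)
  obtain ⟨s, hs⟩ := hx (b • x)
  simp only [smul_comm a (_ : ℤ), smul_comm b (_ : ℤ), ← hr, ← hs] at hr hs ⊢
  rw [smul_comm r s]

theorem rk2 [Group.IsSolvable G] {p x : ℕ} (hp : p.Prime) (p2 : 11 ≤ p) (hr : Nat.card V = p ^ 2) (hi : Block.B2.Irr G V)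
    (hf : ∀ g : G, (∀ v : V, g • v = v) → g = 1) (hx : p ^ 2 ≤ Nat.card G * x + 1) : 49 * p ≤ 60 * ((𝐤 G) + x) := by
  haveI := Fact.mk hp
  haveI : Nontrivial V := Finite.one_lt_card_iff_nontrivial.1 (hr ▸ Nat.one_lt_pow two_ne_zero hp.one_lt)
  rcases exists_PS hi hf with ⟨H, e, h⟩ | ⟨K, _, _, _, Z, _, ι, E, _, A, _, _, _, π, β, P⟩
  · letI := subAct h.inv
    haveI := h.nontriv
    obtain ⟨t, -, hs⟩ := (Nat.dvd_prime_pow hp).1 (hr ▸ e.range.card_addSubgroup_dvd_card)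
    have l := h.pow_le
    rw [hs, hr, ← pow_mul, Nat.pow_le_pow_iff_right hp.one_lt] at l
    have t0 : t ≠ 0 := fun e => Finite.one_lt_card.ne' (by rw [hs, e, pow_zero])
    have u2 : 2 ≤ H.index := one_lt_index_of_ne_top h.co.1
    have t1 : t = 1 := by nlinarith [Nat.pos_of_ne_zero t0]
    have u1 : H.index = 2 := by rw [t1] at l; omega
    haveI : IsAddCyclic e.range := isAddCyclic_of_prime_card (by rw [hs, t1, pow_one])
    have d := dixon h.co
    have s2 : H.normalCore.index ≤ 2 := by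
      by_contra! n
      have := Nat.pow_le_pow_left (show 3 ≤ _ from n) 3
      rw [u1] at d; omega
    refine num4 p2 ?_ ((Ab.imp (i := 1) h hi ⟨⊤, fun a _ b _ => cyc_comm a b, index_top.le⟩).card_le hf) hx
    rw [one_pow, one_mul]; nlinarith
  obtain ⟨b, hb⟩ := P.alt.isSquare
  obtain ⟨b0, bn, hz, -⟩ := P.bb hb
  obtain ⟨t, t0, t1, t2⟩ := ps_dim hp P hr
  have f0 : 0 < (𝐂 Z).index := Nat.pos_of_ne_zero index_ne_zero_of_finite
  have t3 := ps_idx P
  have ab := Ab2.card_le (G := G) (V := V) ⟨Z, 𝐂 Z, P.comm, fun x hx y hy v => by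
    rw [← mul_smul, hy x hx, mul_smul], le_rfl, le_rfl⟩ hf
  have t4 : t * (𝐂 Z).index * b ≤ 2 := t2 ▸ Nat.mul_le_mul_left _ bn
  have t5 : 0 < t * (𝐂 Z).index := Nat.mul_pos t0 f0
  by_cases b1 : b = 1
  · subst b1
    haveI : Subsingleton A := (Nat.card_eq_one_iff_unique.1 hb).1
    haveI : Subsingleton (HH Z A) := ⟨fun x y => inv_mul_eq_one.1 (P.sy.faith _ fun a => Subsingleton.elim _ _)⟩
    rw [hb, Nat.card_unique (α := HH Z A)] at t3
    have : (𝐂 Z).index ≤ 2 := by nlinarith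
    exact num4 p2 (by rw [t3]; nlinarith) ab.2 hx
  obtain rfl : b = 2 := by nlinarith [show 2 ≤ b by omega]
  have t6 : t * (𝐂 Z).index = 1 := by omega
  have t7 := Nat.eq_one_of_mul_eq_one_left t6
  have d := ps_six P hb
  rw [hb, t7] at t3
  by_cases a6 : Nat.card (HH Z A) = 6
  · rw [a6] at t3
    refine num5 p2 hp ?_ (hz 2 Nat.prime_two dvd_rfl) (ps_s4 P hb (index_eq_one.1 t7) t3) (by rwa [← Z.index_mul_card, t3] at hx)
    simpa [t1, t6] using P.card_Z
  · have : Nat.card (HH Z A) ≤ 3 := by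
      have := Nat.le_of_dvd (by norm_num) d
      interval_cases Nat.card (HH Z A) <;> omega
    refine num4 p2 le_rfl (Nat.le_of_mul_le_mul_left (ab.1.trans ?_) three_pos) hx
    rw [t7, ← mul_assoc]
    exact Nat.mul_le_mul_right _ (by omega)

theorem lin2 [Group.IsSolvable G] {p r : ℕ} (hp : p.Prime) (r2 : 2 ≤ r) (hr : Nat.card V = p ^ r) (hi : Block.B2.Irr G V) :
    49 * p ≤ 60 * ((𝐤 (rp G V).range) + (nb G V - 1)) := by
  haveI : Nontrivial V := Finite.one_lt_card_iff_nontrivial.1 (hr ▸ Nat.one_lt_pow (by omega) hp.one_lt)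
  haveI := im_solv (G := G) (V := V)
  have t1 := orb_le' (G := G) (V := V)
  rw [← card_im, hr] at t1
  have t2 := land _ (rp G V).range (Nat.lt_succ_self _)
  have t3 : p ≤ 7 ∨ p = 11 ∨ p = 13 ∨ 17 ≤ p := by
    by_contra! t
    obtain ⟨a, b, c, d⟩ := t
    interval_cases p <;> revert hp <;> simp_all <;> decide
  rcases t3 with t3 | t3
  · by_contra! hK
    have := (Nat.pow_le_pow_right hp.pos r2).trans (t1.trans (Nat.succ_le_succ (Nat.mul_le_mul_right _ (t2 (by omega)))))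
    have := two_le_nb (G := G) (V := V)
    have : 0 < 𝐤 (rp G V).range := Nat.card_pos
    have := hp.two_le
    generalize (𝐤 (rp G V).range) = k at *
    obtain ⟨x, hx⟩ : ∃ x, nb G V = x + 1 := ⟨nb G V - 1, by omega⟩
    simp only [hx, Nat.add_sub_cancel] at *
    have : k ≤ 5 := by omega
    have : x ≤ 5 := by omega
    clear t1 t2 hr
    interval_cases p <;> interval_cases k <;> interval_cases x <;> simp_all [Ld]
  by_cases e : r = 2
  · subst e
    exact rk2 hp (by omega) hr (im_irr hi) im_faith t1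
  obtain ⟨U, S, s, c, i, w, h1, h2, h3, h4, h5, h6, h7⟩ := J4 hp _ _ V r (Nat.lt_succ_self _) hr (im_irr hi)
  refine numJ t3 (by omega) h1 h2 h3 h4 (h5.card_le im_faith) (by have := h6.of_im.le; omega) h7 t1 fun h => (t2 h).trans ?_
  generalize (𝐤 (rp G V).range) = k at *
  interval_cases k <;> simp [Ld]

theorem main2 {p : ℕ} (hp : p.Prime) (n : ℕ) : ∀ (G : Type u) [Group G] [Finite G] [Group.IsSolvable G], Nat.card G < n →
    p ^ 2 ∣ Nat.card G → 49 * p ≤ 60 * 𝐤 G := by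
  induction n with
  | zero => intro G _ _ _ h; omega
  | succ n ih =>
  intro G _ _ _ hn h
  haveI := Fact.mk hp
  by_cases q : ∃ N : Subgroup G, ∃ _ : N.Normal, N ≠ ⊥ ∧ p ^ 2 ∣ N.index
  · obtain ⟨N, _, N0, t⟩ := q
    exact (ih (G ⧸ N) (by have := card_quotient_lt N0; omega) t).trans
      (Nat.mul_le_mul_left _ (k_surj _ (QuotientGroup.mk'_surjective N)))
  simp only [not_exists, not_and] at q
  have O : pPrimeCore p G = ⊥ := by_contra fun t => q _ inferInstance t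
    (((Core.coprime_card_pPrimeCore p G).symm.pow_left 2).dvd_of_dvd_mul_right ((pPrimeCore p G).index_mul_card ▸ h))
  have hC := Core.centralizer_pCore_le_of_solvable hp O
  have kk : ∀ (M : Subgroup G) [M.Normal] (cm : ∀ a ∈ M, ∀ b ∈ M, a * b = b * a), M ≠ ⊥ →
      (𝐤 (rp G (AX M cm)).range) + (nb G (AX M cm) - 1) ≤ 𝐤 G := fun M _ cm M0 => by
    haveI : Nontrivial (AX M cm) := (nontrivial_iff_ne_bot M).2 M0
    have := k_add cm (rp G (AX M cm)).rangeRestrict (rp G (AX M cm)).rangeRestrict_surjective fun g hg =>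
      im_faith _ fun a => AX.ext (mul_inv_eq_iff_eq_mul.2 (cm g hg _ a.val_mem))
    have := two_le_nb (G := G) (V := AX M cm)
    omega
  have P0 : pCore p G ≠ ⊥ := fun e => by
    rw [e, Subgroup.coe_bot, centralizer_eq_top_iff_subset.2 (by simp), top_le_iff] at hC
    have := card_eq_one.2 hC.symm
    rw [card_top] at this
    exact hp.not_dvd_one (this ▸ (dvd_pow_self p two_ne_zero).trans h)
  obtain ⟨M, -, hM, M0, MP, hmin, hc0, -⟩ := exists_minNormal_elementary_le (pCore p G) P0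
  have cm : ∀ a ∈ M, ∀ b ∈ M, a * b = b * a := fun a ha b hb => congrArg Subtype.val (hc0.is_comm.comm (⟨a, ha⟩ : M) ⟨b, hb⟩)
  obtain ⟨k, hk⟩ := IsPGroup.iff_card.1 ((Core.isPGroup_pCore p G).to_le MP)
  by_cases k2 : 2 ≤ k
  · exact (lin2 (V := AX M cm) hp k2 hk (AX.irr hmin)).trans (Nat.mul_le_mul_left _ (kk M cm M0))
  have k0 : k ≠ 0 := fun e => M0 (card_eq_one.1 (by rw [hk, e, pow_zero]))
  rw [show k = 1 by omega, pow_one] at hk
  have n3 : ¬ p ^ 3 ∣ Nat.card G := fun t => q M hM M0 (by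
    rw [← M.index_mul_card, hk, pow_succ] at t; exact Nat.dvd_of_mul_dvd_mul_right hp.pos t)
  obtain ⟨T, hT⟩ := (Core.isPGroup_pCore p G).exists_le_sylow
  have cT : Nat.card T = p ^ 2 := by
    rw [T.card_eq_multiplicity]
    refine congrArg _ (le_antisymm (not_lt.1 fun l => n3 ((hp.pow_dvd_iff_le_factorization Nat.card_pos.ne').2 l))
      ((hp.pow_dvd_iff_le_factorization Nat.card_pos.ne').1 h))
  have cP : ∀ a ∈ (T : Subgroup G), ∀ b ∈ (T : Subgroup G), a * b = b * a := fun a ha b hb =>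
    congrArg Subtype.val ((IsPGroup.isMulCommutative_of_card_eq_prime_sq cT).is_comm.comm (⟨a, ha⟩ : T) ⟨b, hb⟩)
  have eT : (T : Subgroup G) = pCore p G := le_antisymm (fun a ha => hC fun b hb => cP b (hT hb) a ha) hT
  haveI : (T : Subgroup G).Normal := eT ▸ inferInstance
  have MT : M ≤ T := eT ▸ MP
  refine le_trans ?_ (Nat.mul_le_mul_left _ (kk T cP (eT ▸ P0)))
  let U : AddSubgroup (AX (T : Subgroup G) cP) :=
    { carrier := {a | a.val ∈ M}
      zero_mem' := M.one_mem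
      add_mem' := M.mul_mem
      neg_mem' := M.inv_mem }
  have hU : Inv G _ U := fun g a ha => hM.conj_mem _ ha g
  have cU : Nat.card U = p := Eq.trans (Nat.card_congr
    ⟨fun a => ⟨a.1.val, a.2⟩, fun a => ⟨AX.mk cP a.1 (MT a.2), a.2⟩, fun _ => rfl, fun _ => rfl⟩) hk
  have cQ : Nat.card (AX (T : Subgroup G) cP ⧸ U) = p := Nat.eq_of_mul_eq_mul_right hp.pos (by
    rw [← sq, ← cT, ← AX.card (hc := cP), U.card_eq_card_quotient_mul_card_addSubgroup, cU])
  have ab : ∀ (a b : G) (v : AX (T : Subgroup G) cP), a • b • v = b • a • v := fun a b v => by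
    letI := subAct hU
    letI := quoAct hU
    haveI : IsAddCyclic U := isAddCyclic_of_prime_card cU
    haveI : IsAddCyclic (AX (T : Subgroup G) cP ⧸ U) := isAddCyclic_of_prime_card cQ
    set t := (b * a)⁻¹ * (a * b) with ht
    have t1 : ∀ u ∈ U, t • u = u := fun u hu => by
      rw [ht, mul_smul, inv_smul_eq_iff, mul_smul, mul_smul]
      exact congrArg Subtype.val (cyc_comm a b (⟨u, hu⟩ : U))
    have t2 : ∀ w : AX (T : Subgroup G) cP, t • w - w ∈ U := fun w => by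
      have : t • (w : AX (T : Subgroup G) cP ⧸ U) = w := by
        rw [ht, mul_smul, inv_smul_eq_iff, mul_smul, mul_smul]; exact cyc_comm a b _
      exact QuotientAddGroup.eq_iff_sub_mem.1 this
    have t3 : ∀ (w : AX (T : Subgroup G) cP) (n : ℕ), t ^ n • w = w + n • (t • w - w) := fun w n => by
      induction n with
      | zero => simp
      | succ n ih => rw [pow_succ', mul_smul, ih, smul_add, t1 _ (U.nsmul_mem (t2 w) n), succ_nsmul]; abel
    have t4 : t ^ p ∈ kr G (AX (T : Subgroup G) cP) := fun w => by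
      have : p • (t • w - w) = 0 := congrArg Subtype.val (show p • (⟨_, t2 w⟩ : U) = 0 from
        (congrArg (· • _) cU).symm.trans card_nsmul_eq_zero')
      rw [t3, this, add_zero]
    have t5 : t ∈ kr G (AX (T : Subgroup G) cP) := by
      refine (QuotientGroup.eq_one_iff t).1 (orderOf_eq_one_iff.1 (Nat.eq_one_of_dvd_coprimes
        ((Nat.Prime.coprime_iff_not_dvd hp).2 T.not_dvd_index) (orderOf_dvd_of_pow_eq_one ((QuotientGroup.eq_one_iff _).2 t4))
        ((_root_.orderOf_dvd_natCard _).trans (index_dvd_of_le ?_))))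
      rw [AX.kr_eq]; exact fun a ha b hb => cP b hb a ha
    have := t5 v
    rwa [ht, mul_smul, inv_smul_eq_iff, mul_smul, mul_smul] at this
  have t1 := orb_le' (G := G) (V := AX (T : Subgroup G) cP)
  have t2 := Ab.card_le (G := (rp G (AX (T : Subgroup G) cP)).range) (V := AX (T : Subgroup G) cP) (i := 1) ⟨⊤, fun a _ b _ v => by
    obtain ⟨a, rfl⟩ := (rp G _).rangeRestrict_surjective a
    obtain ⟨b, rfl⟩ := (rp G _).rangeRestrict_surjective b
    exact ab a b v, index_top.le⟩ im_faith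
  rw [← card_im, AX.card, cT] at t1
  replace t1 := t1.trans (Nat.succ_le_succ (Nat.mul_le_mul_right _ t2))
  generalize (𝐤 (rp G (AX (T : Subgroup G) cP)).range) = k at *
  generalize nb G (AX (T : Subgroup G) cP) - 1 = x at *
  by_contra! hK
  have y1 : 4 * (k * x) ≤ (k + x) ^ 2 := by nlinarith [sq_nonneg ((k : ℤ) - x)]
  have hy : 14400 * (k * x) ≤ 2401 * p ^ 2 := by nlinarith
  have := Nat.pow_le_pow_left hp.two_le 2
  rw [one_pow, one_mul] at t1
  omega

end Cfsg.Lib.Hall.KL
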