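import Cfsg.Agent.Lib.Hall.MWa
import Cfsg.Agent.Lib.Coprime.ClassCount
import Cfsg.Agent.Lib.Block2.KThree

/-! # Class numbers of all subgroups: calculus, permutation groups, symplectic groups -/

set_option autoImplicit false
set_option linter.unusedSectionVars false
set_option linter.style.haveILetI false

namespace Cfsg.Lib.Hall.KR

open Cfsg Cfsg.Lib Subgroup Cfsg.Lib.Block.B2 Cfsg.Lib.Hall.B3 Cfsg.Lib.Hall.MW
open scoped commutatorElement

local notation "𝐤" X => Nat.card (ConjClasses X)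

/-- all subgroups of `Y` have at most `n` classes -/
def KB (Y : Type*) [Group Y] (n : ℕ) : Prop := ∀ X : Subgroup Y, (𝐤 X) ≤ n

section calculus
variable {G Y : Type*} [Group G] [Finite G] [Group Y] [Finite Y] {a b n : ℕ}

theorem k_surj (f : G →* Y) (hf : Function.Surjective f) : (𝐤 Y) ≤ 𝐤 G :=
  Nat.card_le_card_of_surjective (ConjClasses.map f) (ConjClasses.map_surjective hf)

theorem k_le (G : Type*) [Group G] [Finite G] : (𝐤 G) ≤ Nat.card G :=
  Nat.card_le_card_of_surjective _ ConjClasses.mk_surjective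

theorem k_mul (f : G →* Y) (hf : Function.Surjective f) : (𝐤 G) ≤ (𝐤 f.ker) * 𝐤 Y := by
  simpa only [Coprime.kpi_univ] using Coprime.kpi_le_mul_of_surjective Set.univ hf

theorem KB.mono (h : KB Y a) (e : a ≤ b) : KB Y b := fun X => (h X).trans e
theorem KB.top (h : KB Y a) : (𝐤 Y) ≤ a := (k_surj (⊤ : Subgroup Y).subtype fun y => ⟨⟨y, trivial⟩, rfl⟩).trans (h ⊤)
theorem KB.of_card (h : Nat.card Y ≤ a) : KB Y a := fun X => (k_le X).trans ((card_le_card_group X).trans h)

theorem KB.inj (h : KB Y a) (f : G →* Y) (hf : Function.Injective f) : KB G a := fun X =>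
  (k_surj (X.equivMapOfInjective f hf).symm.toMonoidHom (MulEquiv.surjective _)).trans (h _)

theorem KB.surj (h : KB G a) (f : G →* Y) (hf : Function.Surjective f) : KB Y a := fun X =>
  (k_surj ((f.subgroupComap X)) (f.subgroupComap_surjective_of_surjective X hf)).trans (h _)

theorem KB.ext (f : G →* Y) (h1 : KB f.ker a) (h2 : KB Y b) : KB G (a * b) := fun X => by
  refine (k_mul (f.subgroupMap X) (f.subgroupMap_surjective X)).trans (Nat.mul_le_mul (KB.top ?_) (h2 _))
  exact h1.inj ((X.subtype.comp (f.subgroupMap X).ker.subtype).codRestrict f.ker fun x => congrArg Subtype.val x.2)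
    fun x y e => Subtype.ext (Subtype.ext (congrArg (Subtype.val : f.ker → G) e))

theorem KB.of_hom (h : KB Y a) (f : G →* Y) (M : Subgroup G) [M.Normal] (hM : f.ker ≤ M) : KB (G ⧸ M) a :=
  (h.inj _ (QuotientGroup.kerLift_injective f)).surj (QuotientGroup.map f.ker M (MonoidHom.id G) hM) fun x => by
    obtain ⟨x, rfl⟩ := QuotientGroup.mk_surjective x; exact ⟨QuotientGroup.mk x, rfl⟩

theorem KB.of_le_ker {M : Subgroup G} [M.Normal] (h : KB (G ⧸ M) a) (f : G →* Y) (hf : Function.Surjective f)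
    (hM : M ≤ f.ker) : KB Y a :=
  h.surj (QuotientGroup.lift M f hM) fun y => by obtain ⟨x, rfl⟩ := hf y; exact ⟨QuotientGroup.mk x, rfl⟩

theorem KB.sub {M : Subgroup G} [M.Normal] (h : KB (G ⧸ M) a) (H : Subgroup G) : KB (H ⧸ M.subgroupOf H) a :=
  h.of_hom ((QuotientGroup.mk' M).comp H.subtype) _ fun x hx => (QuotientGroup.eq_one_iff x.1).1 hx

theorem KB.step {M N : Subgroup G} [M.Normal] [N.Normal] (hM : M ≤ N) (h1 : KB (N ⧸ M.subgroupOf N) a)
    (h2 : KB (G ⧸ N) b) : KB (G ⧸ M) (a * b) := by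
  refine KB.ext (QuotientGroup.map M N (MonoidHom.id G) hM) ?_ h2
  refine h1.of_le_ker (((QuotientGroup.mk' M).comp N.subtype).codRestrict _ fun x => (QuotientGroup.eq_one_iff x.1).2 x.2)
    (fun y => ?_) fun x hx => Subtype.ext ((QuotientGroup.eq_one_iff x.1).2 hx)
  obtain ⟨y, hy⟩ := y
  obtain ⟨x, rfl⟩ := QuotientGroup.mk_surjective y
  exact ⟨⟨x, (QuotientGroup.eq_one_iff x).1 hy⟩, rfl⟩

theorem KB.prod (h1 : KB G a) (h2 : KB Y b) : KB (G × Y) (a * b) :=
  KB.ext (MonoidHom.snd G Y) (h1.inj ((MonoidHom.fst G Y).comp (Subgroup.subtype _)) fun x y e =>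
    Subtype.ext (Prod.ext e (x.2.trans y.2.symm))) h2

theorem KB.inf {M N : Subgroup G} [M.Normal] [N.Normal] (h1 : KB (G ⧸ M) a) (h2 : KB (G ⧸ N) b) :
    KB (G ⧸ (M ⊓ N)) (a * b) :=
  (h1.prod h2).of_hom ((QuotientGroup.mk' M).prod (QuotientGroup.mk' N)) _ fun x hx =>
    ⟨(QuotientGroup.eq_one_iff x).1 (congrArg Prod.fst hx), (QuotientGroup.eq_one_iff x).1 (congrArg Prod.snd hx)⟩

theorem kperm {α : Type*} [Finite α] (h : Nat.card α ≤ 2 * n + 1) (h1 : n = 0 → Nat.card α ≤ 1) :
    KB (Equiv.Perm α) (3 ^ n) := by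
  classical
  haveI := Fintype.ofFinite α
  by_cases t : 3 ≤ Nat.card α
  · intro X
    rw [Nat.card_eq_fintype_card] at t h
    have := (Block2.KThree.card_conj_sq_le X t).trans (Nat.pow_le_pow_right (by norm_num) (by omega : _ ≤ n * 2))
    rwa [pow_mul, Nat.pow_le_pow_iff_left two_ne_zero] at this
  · refine KB.of_card ?_
    rw [Nat.card_perm]
    rcases Nat.eq_zero_or_pos n with rfl | n0
    · have := h1 rfl
      interval_cases Nat.card α <;> simp
    · refine le_trans ?_ (Nat.pow_le_pow_right (by norm_num) n0)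
      have : Nat.card α ≤ 2 := by omega
      interval_cases Nat.card α <;> simp

/-- a faithful invariant set of points -/
theorem kset {Ω : Type*} [MulAction Y Ω] (S : Set Ω) (hS : S.Finite) (h1 : ∀ g : Y, ∀ x ∈ S, g • x ∈ S)
    (h2 : ∀ g : Y, (∀ x ∈ S, g • x = x) → g = 1) (h3 : S.ncard ≤ 2 * n + 1) (n0 : n ≠ 0) : KB Y (3 ^ n) := by
  haveI : Finite S := hS
  letI : MulAction Y S :=
    { smul g x := ⟨g • x.1, h1 g _ x.2⟩
      one_smul x := Subtype.ext (one_smul Y x.1)
      mul_smul a b x := Subtype.ext (mul_smul a b x.1) }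
  refine (kperm (α := S) h3 fun e => absurd e n0).inj (MulAction.toPermHom Y S) ((injective_iff_map_eq_one _).2 fun g e =>
    h2 g fun x hx => congrArg (fun f : Equiv.Perm S => (f ⟨x, hx⟩).1) e)

theorem kcore (H : Subgroup G) : KB (G ⧸ H.normalCore) (3 ^ (H.index - 1)) := by
  have : 0 < H.index := Nat.pos_of_ne_zero index_ne_zero_of_finite
  exact (kperm (α := G ⧸ H) (n := H.index - 1) (by show H.index ≤ _; omega) fun e => by show H.index ≤ _; omega).of_hom
    (MulAction.toPermHom G (G ⧸ H)) _ (normalCore_eq_ker H).ge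

theorem k58 (h : ¬ IsMulCommutative G) : 8 * (𝐤 G) ≤ 5 * Nat.card G := by
  have := card_conjClasses_le_of_not_comm (p := 2) two_pos (fun r hr _ => hr.two_le) h
  omega

/-- reduce to the whole group -/
theorem KB.half (h1 : Nat.card Y ≤ 2 * a) (h2 : (𝐤 Y) ≤ a) : KB Y a := fun X => by
  by_cases t : X = ⊤
  · subst t; exact (k_surj topEquiv.symm.toMonoidHom (MulEquiv.surjective _)).trans h2
  · have := X.index_mul_card
    have i0 : X.index ≠ 0 := index_ne_zero_of_finite
    have i1 : X.index ≠ 1 := mt index_eq_one.1 t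
    have : 2 * Nat.card X ≤ X.index * Nat.card X := Nat.mul_le_mul_right _ (by omega)
    have := k_le X
    omega
end calculus

universe u
section mod
variable {G V : Type u} [Group G] [Finite G] [AddCommGroup V] [Finite V] [DistribMulAction G V]

theorem ab_le (hc : ∀ a b : G, a * b = b * a) (n : ℕ) : ∀ (V : Type u) [AddCommGroup V] [Finite V] [DistribMulAction G V],
    Nat.card V < n → CR G V → (kr G V).index ≤ Nat.card V := by
  induction n with
  | zero => intro V _ _ _ h; omega
  | succ n ih =>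
  intro V _ _ _ hn h
  by_cases hi : Block.B2.Irr G V
  · rcases subsingleton_or_nontrivial V with t | t
    · rw [show kr G V = ⊤ from eq_top_iff.2 fun g _ v => Subsingleton.elim _ _, index_top]; exact Nat.card_pos
    obtain ⟨v, hv⟩ := exists_ne (0 : V)
    refine le_trans (index_antitone (H := MulAction.stabilizer G v) fun g hg x => ?_) ?_
    · rcases hi (fx V g) (fun a w hw => by
        show g • a • w = _
        rw [← mul_smul, hc, mul_smul, show g • w = w from hw]) with e | e
      · exact absurd (AddSubgroup.mem_bot.1 (e ▸ hg)) hv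
      · exact (e ▸ trivial : x ∈ fx V g)
    · rw [MulAction.index_stabilizer]; exact Set.ncard_le_card _
  · obtain ⟨U, W, hU, hW, u1, w1, -, -, h2, h3⟩ := not_irr h hi
    letI := subAct hU
    letI := subAct hW
    have lt : ∀ U : AddSubgroup V, U ≠ ⊤ → Nat.card U < n := fun U e =>
      lt_of_lt_of_le (lt_of_le_of_ne (AddSubgroup.card_le_card_addGroup U) (mt (AddSubgroup.eq_top_of_card_eq U) e)) (by omega)
    exact (idx_sum hU hW h3).trans ((Nat.mul_le_mul (ih U (lt U u1) (h.sub hU)) (ih W (lt W w1) (h.sub hW))).trans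
      (card_mul_le' h2))

theorem kr_bot (hf : ∀ g : G, (∀ v : V, g • v = v) → g = 1) : (kr G V).index = Nat.card G := by
  rw [show kr G V = ⊥ from eq_bot_iff.2 hf, index_bot]

theorem ab_le' (hf : ∀ g : G, (∀ v : V, g • v = v) → g = 1) (h : CR G V) (hc : IsMulCommutative G) : Nat.card G ≤ Nat.card V :=
  kr_bot hf ▸ ab_le hc.is_comm.comm _ V (Nat.lt_succ_self _) h

theorem k_le_max (hf : ∀ g : G, (∀ v : V, g • v = v) → g = 1) (h : CR G V) {a : ℕ} (h1 : Nat.card V ≤ a)
    (h2 : 5 * Nat.card G ≤ 8 * a) : KB G a := by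
  refine KB.half (by omega) ?_
  by_cases hc : IsMulCommutative G
  · exact (k_le G).trans ((ab_le' hf h hc).trans h1)
  · have := k58 hc; omega

theorem k_two (hf : ∀ g : G, (∀ v : V, g • v = v) → g = 1) (h : CR G V) {a m : ℕ} (h0 : Nat.card V = 2 ^ m) (h1 : Nat.card V ≤ a)
    (h2 : Nat.card G ≤ 2 * a) : KB G a := by
  refine KB.half h2 ?_
  by_contra! l
  have c := card_commutator_le (G := G) (p := 2) (fun r hr _ => hr.two_le) (by omega)
  suffices _root_.commutator G = ⊥ by
    have := (k_le G).trans (ab_le' hf h ⟨⟨fun a b => commutatorElement_eq_one_iff_mul_comm.1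
      (mem_bot.1 (this ▸ commutator_mem_commutator (mem_top a) (mem_top b)))⟩⟩)
    omega
  refine eq_bot_iff.2 fun t ht => by_contra fun t1 => ?_
  replace t1 : t ≠ 1 := t1
  have k : ∀ x ∈ _root_.commutator G, x ≠ 1 → x = t := fun x hx x1 => by_contra fun xt => by
    have := (Set.two_lt_ncard (s := (_root_.commutator G : Set G))).2 ⟨1, one_mem _, x, hx, t, ht, x1.symm, t1.symm, xt⟩
    exact this.not_ge c
  have k1 : ∀ g : G, t * g = g * t := fun g => by
    rw [← mul_inv_eq_iff_eq_mul.1 (k _ (Normal.conj_mem inferInstance t ht g) (by simpa using t1))]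
  have k2 : t * t = 1 := by_contra fun e => t1 (mul_left_cancel (a := t) (by rw [k _ (mul_mem ht ht) e, mul_one]))
  obtain ⟨W, w1, w2, w3⟩ := h (fx V t) fun a w hw => by
    show t • a • w = _
    rw [← mul_smul, k1, mul_smul, show t • w = w from hw]
  have hW : W = ⊥ := by
    by_contra n
    haveI : Fact (Nat.Prime 2) := ⟨Nat.prime_two⟩
    have d : 2 ∣ Nat.card W := by
      obtain ⟨i, -, e⟩ := (Nat.dvd_prime_pow Nat.prime_two).1 (h0 ▸ W.card_addSubgroup_dvd_card)
      exact e ▸ dvd_pow_self 2 fun t => n (AddSubgroup.card_eq_one.1 (by rw [e, t, pow_zero]))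
    obtain ⟨w, hw⟩ := exists_prime_addOrderOf_dvd_card' (G := W) 2 d
    have e1 : w.1 + t • w.1 = 0 := AddSubgroup.mem_bot.1 (w2 ▸ ⟨by
      show t • _ = _
      rw [smul_add, ← mul_smul, k2, one_smul, add_comm], W.add_mem w.2 (w1 _ _ w.2)⟩)
    have e2 : w.1 + w.1 = 0 := by
      rw [← two_nsmul]; exact congrArg Subtype.val (hw ▸ addOrderOf_nsmul_eq_zero w : 2 • w = 0)
    have : w = 0 := Subtype.ext (AddSubgroup.mem_bot.1 (w2 ▸ ⟨add_left_cancel (e1.trans e2.symm), w.2⟩))
    simp [this] at hw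
  rw [hW, sup_bot_eq] at w3
  exact t1 (hf t fun v => (w3 ▸ trivial : v ∈ fx V t))

theorem pw_le [Group.IsSolvable G] (hf : ∀ g : G, (∀ v : V, g • v = v) → g = 1) (h : CR G V) {b : ℕ}
    (hb : Nat.card V = b * b) (b2 : 2 ≤ b) : 24 ^ 4 * Nat.card G ^ 12 ≤ b ^ 54 := by
  haveI : Nontrivial V := Finite.one_lt_card_iff_nontrivial.1 (by nlinarith)
  have := pw_all _ G V (Nat.lt_succ_self _) h
  rwa [hb, ← sq, ← pow_mul, kr_bot hf] at this

theorem k_nine (hf : ∀ g : G, (∀ v : V, g • v = v) → g = 1) (h9 : Nat.card V = 9) : (𝐤 G) ≤ 9 := by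
  classical
  haveI := Fintype.ofFinite G
  have t2 : ∀ c : V, c ≠ 0 → -c ≠ c := fun c c0 e => c0 (by
    have h1 : 9 • c = 0 := h9 ▸ card_nsmul_eq_zero'
    have h2 : 2 • c = 0 := by rw [two_nsmul]; nth_rewrite 1 [← e]; simp
    rw [show 9 • c = c + 4 • 2 • c by rw [← mul_smul]; abel, h2, smul_zero, add_zero] at h1
    exact h1)
  let S : Set G := {g | (∀ v : V, g • v = v) ∨ ∀ v : V, g • v = -v}
  have c8 : ∀ x ∉ S, Nat.card (centralizer ({x} : Set G)) ≤ 8 := fun x hx => by
    obtain ⟨c, c1, c2⟩ : ∃ c : V, x • c ≠ c ∧ x • c ≠ -c := by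
      by_contra! e
      simp only [S, Set.mem_ofPred_eq, not_or, not_forall] at hx
      obtain ⟨⟨a, ha⟩, b, hb⟩ := hx
      have hb' : x • b = b := by_contra fun t => hb (e b t)
      by_cases t : x • (a + b) = a + b
      · rw [smul_add, hb'] at t; exact ha (add_right_cancel t)
      · have := e _ t
        rw [smul_add, e a ha, neg_add] at this; exact hb (add_left_cancel this)
    have c0 : c ≠ 0 := fun e => c1 (by rw [e, smul_zero])
    refine le_trans (Nat.card_le_card_of_injective (fun g : centralizer ({x} : Set G) =>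
      (⟨g.1 • c, fun e => c0 ((smul_eq_zero_iff_eq _).1 e)⟩ : ({0}ᶜ : Set V))) fun g g' e => ?_) ?_
    · refine (Subtype.ext (inv_mul_eq_one.1 (hf _ fun v => ?_))).symm
      have e1 : c ∈ fx V (g'.1⁻¹ * g.1) := by
        show _ • _ = _
        rw [mul_smul, inv_smul_eq_iff]; exact congrArg Subtype.val e
      have e2 : x • c ∈ fx V (g'.1⁻¹ * g.1) := by
        show _ • _ = _
        rw [← mul_smul, show g'.1⁻¹ * g.1 * x = x * (g'.1⁻¹ * g.1) from ((g'⁻¹ * g).2 x rfl).symm, mul_smul]; exact congrArg _ e1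
      have l : 3 < Nat.card (fx V (g'.1⁻¹ * g.1)) :=
        (Set.three_lt_ncard (s := (fx V (g'.1⁻¹ * g.1) : Set V))).2 ⟨0, zero_mem _, c, e1, -c, neg_mem e1, x • c, e2,
          c0.symm, (neg_ne_zero.2 c0).symm, fun e => c0 ((smul_eq_zero_iff_eq _).1 e.symm), (t2 c c0).symm, c1.symm, c2.symm⟩
      have d := (fx V (g'.1⁻¹ * g.1)).card_addSubgroup_dvd_card
      have : Nat.card (fx V (g'.1⁻¹ * g.1)) = Nat.card V := by
        rw [h9] at d ⊢
        have := Nat.le_of_dvd (by norm_num) d
        interval_cases Nat.card (fx V (g'.1⁻¹ * g.1)) <;> simp_all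
      exact (AddSubgroup.eq_top_of_card_eq _ this ▸ trivial : v ∈ fx V (g'.1⁻¹ * g.1))
    · rw [Nat.card_coe_set_eq, Set.ncard_compl, h9]; simp
  have s2 : (Finset.univ.filter (· ∈ S)).card ≤ 2 := by
    by_contra! l
    obtain ⟨a, ha, b, hb, c, hc, ab, ac, bc⟩ := Finset.two_lt_card.1 l
    simp only [S, Set.mem_ofPred_eq, Finset.mem_filter, Finset.mem_univ, true_and] at ha hb hc
    have k : ∀ a b : G, (∀ v : V, a • v = b • v) → a = b := fun a b e =>
      (inv_mul_eq_one.1 (hf _ fun v => by rw [mul_smul, ← e, inv_smul_smul]))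
    rcases ha with ha | ha <;> rcases hb with hb | hb <;> rcases hc with hc | hc <;>
      first | exact ab (k _ _ fun v => (ha v).trans (hb v).symm) | exact ac (k _ _ fun v => (ha v).trans (hc v).symm) |
        exact bc (k _ _ fun v => (hb v).trans (hc v).symm)
  have s1 : 1 ≤ (Finset.univ.filter (· ∈ S)).card := Finset.card_pos.2 ⟨1, by simp [S]⟩
  have e := sum_card_cent (G := G) (S := Set.univ) fun _ _ _ => trivial
  rw [kOf_univ, ← Finset.sum_filter_add_sum_filter_not _ (· ∈ S)] at e
  simp only [Set.mem_univ, Finset.filter_true] at e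
  have l1 := Finset.sum_le_card_nsmul (Finset.univ.filter (· ∈ S)) (fun y => Nat.card (centralizer ({y} : Set G))) (Nat.card G)
    fun x _ => card_le_card_group _
  have l2 := Finset.sum_le_card_nsmul (Finset.univ.filter (· ∉ S)) (fun y => Nat.card (centralizer ({y} : Set G))) 8
    fun x hx => c8 x (by simpa using hx)
  have l3 := Finset.card_filter_add_card_filter_not (s := (Finset.univ : Finset G)) (· ∈ S)
  rw [Finset.card_univ, ← Nat.card_eq_fintype_card] at l3
  rw [smul_eq_mul] at l1 l2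
  by_contra! l
  nlinarith

variable {K : Type*} [Field K] {β : Fm K V}

theorem k16 [Group.IsSolvable G] (S : Sy G β) (cr : CR G V) (h : Nat.card V = 16) : KB G (3 ^ 3) := by
  haveI : Nontrivial V := Finite.one_lt_card_iff_nontrivial.1 (by omega)
  by_cases hi : Block.B2.Irr G V
  swap
  · obtain ⟨U, W, hU, hW, -, -, u0, w0, h2, h3⟩ := not_irr cr hi
    let mv : AddSubgroup V → Set V := fun U => {x | x ∈ U ∧ ∃ g : G, g • x ≠ x}
    have m1 : ∀ U, Inv G V U → ∀ g : G, ∀ x ∈ mv U, g • x ∈ mv U := fun U hU g x ⟨hx, a, ha⟩ =>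
      ⟨hU g x hx, g * a * g⁻¹, fun e => ha (by simpa [mul_smul] using e)⟩
    have m2 : ∀ U, Inv G V U → (mv U).ncard ≤ Nat.card U - 1 ∧ (Nat.card U ≤ 2 → (mv U).ncard = 0) := fun U hU => by
      constructor
      · rw [show Nat.card U = (U : Set V).ncard from rfl, ← Set.ncard_sdiff_singleton_of_mem U.zero_mem]
        exact Set.ncard_le_ncard fun x ⟨hx, a, ha⟩ => ⟨hx, fun e => ha (by rw [show x = 0 from e, smul_zero])⟩
      · intro l
        rw [Set.ncard_eq_zero, Set.eq_empty_iff_forall_notMem]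
        rintro x ⟨hx, a, ha⟩
        have x0 : x ≠ 0 := fun e => ha (by rw [e, smul_zero])
        exact l.not_gt ((Set.two_lt_ncard (s := (U : Set V))).2 ⟨0, U.zero_mem, x, hx, a • x, hU a x hx, x0.symm,
          fun e => x0 ((smul_eq_zero_iff_eq _).1 e.symm), ha.symm⟩)
    refine kset (mv U ∪ mv W) (Set.toFinite _) (fun g x hx => hx.imp (m1 U hU g x) (m1 W hW g x)) (fun g hg => S.faith g fun x => ?_)
      ((Set.ncard_union_le _ _).trans ?_) (by norm_num)
    · obtain ⟨a, ha, b, hb, rfl⟩ := AddSubgroup.mem_sup.1 (h3 ▸ trivial : x ∈ U ⊔ W)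
      rw [smul_add, (by_contra fun e => e (hg a (Or.inl ⟨ha, g, e⟩)) : g • a = a),
        (by_contra fun e => e (hg b (Or.inr ⟨hb, g, e⟩)) : g • b = b)]
    · have := card_mul_le' h2
      haveI := (AddSubgroup.nontrivial_iff_ne_bot U).2 u0
      haveI := (AddSubgroup.nontrivial_iff_ne_bot W).2 w0
      have u2 : 2 ≤ Nat.card U := Finite.one_lt_card
      have w2 : 2 ≤ Nat.card W := Finite.one_lt_card
      obtain ⟨a1, a2⟩ := m2 U hU
      obtain ⟨b1, b2⟩ := m2 W hW
      have : Nat.card U ≤ 8 := by nlinarith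
      have : Nat.card W ≤ 8 := by nlinarith
      rw [h] at *
      interval_cases Nat.card U <;> omega
  rcases exists_PS hi S.faith with ⟨H, e, I⟩ | ⟨K', _, _, _, Z, _, ι, E, _, A, _, _, _, π, β', P⟩
  · haveI := I.nontriv
    have t3 := I.pow_le
    have t4 : 2 ≤ Nat.card e.range := Finite.one_lt_card
    have t5 : 2 ≤ H.index := one_lt_index_of_ne_top I.co.1
    refine kset {x | ∃ a : G, ∃ v ∈ e.range, v ≠ 0 ∧ x = a • v} (Set.toFinite _) ?_ (fun g hg => S.faith g (I.triv hi fun c x hx => ?_))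
      (le_trans (b := H.index * (Nat.card e.range - 1)) ?_ ?_) (by norm_num)
    · rintro g _ ⟨a, v, h1, h2, rfl⟩; exact ⟨g * a, v, h1, h2, (mul_smul _ _ _).symm⟩
    · by_cases x0 : x = 0
      · simp [x0]
      · exact hg _ ⟨_, x, hx, x0, rfl⟩
    · rw [show Nat.card e.range = (e.range : Set V).ncard from rfl, ← Set.ncard_sdiff_singleton_of_mem e.range.zero_mem,
        ← Nat.card_coe_set_eq, ← Nat.card_coe_set_eq, index, ← Nat.card_prod]
      refine Nat.card_le_card_of_surjective (fun p => ⟨p.1.out • p.2.1, _, _, p.2.2.1, p.2.2.2, rfl⟩) ?_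
      rintro ⟨_, a, v, h1, h2, rfl⟩
      refine ⟨(QuotientGroup.mk a, ⟨_, I.inv ⟨_, H.inv_mem (Imp.hout H a)⟩ v h1,
        fun t => h2 ((smul_eq_zero_iff_eq _).1 t)⟩), Subtype.ext ?_⟩
      simp [Subgroup.smul_def, ← mul_smul]
    · rw [h] at t3
      have : H.index < 5 := by
        by_contra! l
        have := (Nat.pow_le_pow_right two_pos l).trans ((Nat.pow_le_pow_left t4 _).trans t3); omega
      have : Nat.card e.range < 5 := by
        by_contra! l
        have := (Nat.pow_le_pow_left l 2).trans ((Nat.pow_le_pow_right (by omega) t5).trans t3); omega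
      interval_cases H.index <;> interval_cases Nat.card e.range <;> omega
  obtain ⟨b, eb⟩ := P.alt.isSquare
  obtain ⟨b0, bn, hp, -⟩ := P.bb eb
  have t1 := qb P eb
  have t0 : Nat.card V = Nat.card K' ^ Module.finrank K' V := Module.natCard_eq_pow_finrank
  have q2 := P.q2
  have dK : Nat.card K' ∣ 16 := h ▸ t0 ▸ dvd_pow_self _ (by omega)
  have lK := Nat.le_of_dvd (by norm_num) dK
  have dZ := P.card_Z
  have b1 : b = 1 := by
    by_contra b1
    have q3 := q3 P eb b1
    have : b < 3 := by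
      by_contra! l
      have := (Nat.pow_le_pow_right (by norm_num) l).trans ((Nat.pow_le_pow_left q3 b).trans t1); omega
    obtain rfl : b = 2 := by omega
    have := (hp 2 Nat.prime_two dvd_rfl).trans dZ
    interval_cases Nat.card K' <;> omega
  have t2 := CZ P (by rw [eb, b1])
  obtain ⟨q0, q1, q2⟩ := P.fld
  have t3 : (centralizer (Z : Set G)).index < 5 := by
    by_contra! l
    have := (Nat.pow_le_pow_right two_pos l).trans (Nat.pow_le_pow_left q1 _); omega
  have t4 := Z.index_mul_card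
  have t5 : Z.index ≤ 4 := by rw [← le_antisymm t2 P.comm]; omega
  suffices Nat.card Z ≤ 6 from KB.of_card (by nlinarith)
  by_contra! l
  have l' := Nat.le_of_dvd (by omega) dZ
  have e16 : Nat.card K' = 16 := by
    have : Module.finrank K' V = 1 := by
      by_contra n
      have := (Nat.pow_le_pow_left (show 7 ≤ Nat.card K' by omega) 2).trans
        (Nat.pow_le_pow_right (by omega) (show 2 ≤ Module.finrank K' V by omega))
      omega
    rw [this, pow_one] at t0; omega
  have e15 : Nat.card Z = Nat.card K'ˣ := by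
    rw [Nat.card_units]; rw [e16] at dZ l' ⊢; interval_cases Nat.card Z <;> omega
  have sj := ((Nat.bijective_iff_injective_and_card ι.toHomUnits).2
    ⟨fun a b e => P.L.inj (congrArg Units.val e), e15⟩).2
  have key : ∀ k : K', k ≠ 0 → ∀ a b : V, β a (k • b) = β (k⁻¹ • a) b := fun k k0 a b => by
    obtain ⟨z, hz⟩ := sj (Units.mk0 k k0)
    have : ι z = k := congrArg Units.val hz
    rw [← S.inv z.1 (k⁻¹ • a), P.L.smul, P.L.smul, this, smul_inv_smul₀ k0]
  obtain ⟨a, ha⟩ := exists_ne (0 : V)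
  have root : ∀ k : K', k * (k + 1) * (k ^ 2 + k + 1) = 0 := fun k => by
    by_contra n
    have k0 : k ≠ 0 := fun e => n (by simp [e])
    have k1 : k + 1 ≠ 0 := fun e => n (by simp [e])
    have := S.nd (((k + 1)⁻¹ - k⁻¹ - 1) • a) fun b => by
      rw [sub_smul, sub_smul, one_smul, map_sub, map_sub, AddMonoidHom.sub_apply, AddMonoidHom.sub_apply, ← key _ k0, ← key _ k1,
        add_smul, one_smul, map_add]; abel
    have := (smul_eq_zero.1 this).resolve_right ha
    field_simp at this
    exact n (by rw [show k ^ 2 + k + 1 = 0 by linear_combination -this, mul_zero])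
  classical
  haveI := Fintype.ofFinite K'
  have := Polynomial.eq_zero_of_natDegree_lt_card_of_eval_eq_zero (Polynomial.X * (Polynomial.X + 1) * (Polynomial.X ^ 2 + Polynomial.X + 1))
    (f := id) Function.injective_id (fun k : K' => by simpa using root k) (by
      rw [← Nat.card_eq_fintype_card, e16]
      exact lt_of_le_of_lt (b := 4) (by compute_degree) (by norm_num))
  have := congrArg (Polynomial.coeff · 1) this
  simp [Polynomial.coeff_X_mul, Polynomial.coeff_one, Polynomial.coeff_X, mul_assoc] at this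

theorem symp [Group.IsSolvable G] (S : Sy G β) (cr : CR G V) {b : ℕ} (hb : Nat.card V = b * b) : KB G (3 ^ (b - 1)) := by
  have b0 : b ≠ 0 := fun e => by simpa [hb, e] using Nat.card_pos (α := V)
  by_cases b1 : b = 1
  · subst b1
    haveI := (Nat.card_eq_one_iff_unique.1 hb).1
    haveI : Subsingleton G := ⟨fun x y => by rw [S.faith x fun _ => Subsingleton.elim _ _, S.faith y fun _ => Subsingleton.elim _ _]⟩
    exact KB.of_card (Finite.card_le_one_iff_subsingleton.2 ‹_›)
  have pw := pw_le S.faith cr hb (by omega)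
  by_cases l : 10 ≤ b
  · refine KB.of_card ?_
    have := ind_pow 10 54 (3 ^ 12) (3 ^ 12) (24 ^ 4) (by norm_num) (by norm_num) (by norm_num) l
    obtain ⟨c, rfl⟩ : ∃ c, b = c + 1 := ⟨b - 1, by omega⟩
    rw [pow_succ (3 ^ 12), mul_comm _ (3 ^ 12), mul_assoc] at this
    have := pw.trans (Nat.le_of_mul_le_mul_left this (by norm_num))
    rw [mul_comm, ← pow_mul, mul_comm 12, pow_mul] at this
    exact (Nat.pow_le_pow_iff_left (by norm_num)).1 (Nat.le_of_mul_le_mul_right this (by norm_num))
  have t := tb_le (by omega) pw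
  have r := fun h => (S.rank2 (b := b) h hb).resolve_right b1
  have : 2 ≤ b := by omega
  have : b < 10 := by omega
  interval_cases b
  · refine kset ({0}ᶜ : Set V) (Set.toFinite _) (fun g x hx e => hx ((smul_eq_zero_iff_eq _).1 e)) (fun g hg => S.faith g fun x => ?_)
      (by rw [Set.ncard_compl, hb]; simp) (by norm_num)
    by_cases x0 : x = 0
    · simp [x0]
    · exact hg x x0
  · exact fun X => k_nine (G := X) (V := V) (fun g hg => Subtype.ext (S.faith _ hg)) hb
  · exact k16 S cr hb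
  · have := r (by decide +kernel)
    exact k_le_max S.faith cr (by omega) (by omega)
  · exact KB.of_card ((r (by decide +kernel)).trans (by norm_num))
  · exact KB.of_card ((r (by decide +kernel)).trans (by norm_num))
  · exact k_two (m := 6) S.faith cr hb (by omega) (t.trans (by decide))
  · have : tb 9 = 6823 := rfl
    exact k_le_max S.faith cr (by omega) (by omega)
end mod

end Cfsg.Lib.Hall.KR
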