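import Cfsg.Agent.Lib.Hall.KRa
import Cfsg.Agent.Lib.Clifford.Mono
import Cfsg.Agent.Lib.Clifford.Gallagher
import Cfsg.Agent.Lib.Char.Center

/-! # Class numbers modulo the Fitting subgroup of solvable complex linear groups -/

set_option autoImplicit false
set_option linter.unusedSectionVars false
set_option linter.style.haveILetI false

namespace Cfsg.Lib.Hall.KR

open Cfsg Cfsg.Lib Subgroup Cfsg.Lib.Block.B2 Cfsg.Lib.Hall.B3
open scoped commutatorElement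

local notation "𝐂" S => centralizer (SetLike.coe S)

universe u
section qs
variable {G : Type u} [Group G] [Finite G] {K : Type*} [Field K]

structure QS (Z : Subgroup G) (ι : Z →* K) (E : Subgroup G) {A : Type u} [AddCommGroup A]
    [DistribMulAction G A] (π : G → A) (β : Fm K A) : Prop where
  inj : Function.Injective ι
  le : Z ≤ E
  le' : E ≤ 𝐂 Z
  alt : Alt β
  mul : ∀ x ∈ E, ∀ y ∈ E, π (x * y) = π x + π y
  surj : ∀ a, ∃ x ∈ E, π x = a
  zero : ∀ x ∈ E, π x = 0 ↔ x ∈ Z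
  conj : ∀ g, ∀ x ∈ E, π (g * x * g⁻¹) = g • π x
  form : ∀ x ∈ E, ∀ y ∈ E, ∃ h : ⁅x, y⁆ ∈ Z, ι ⟨_, h⟩ = (β (π x) (π y)).toMul
  faith : ∀ g ∈ 𝐂 Z, (∀ a : A, g • a = a) → g ∈ E
  nd : ∀ U, Inv G A U → U ⊓ perp β U = ⊥

theorem exists_QS [Group.IsSolvable G] {Z : Subgroup G} [hZ : Z.Normal] {ι : Z →* K} (inj : Function.Injective ι) (hZ' : Z ≤ 𝐂 Z)
    (hmax : ∀ ⦃y : Subgroup G⦄, y.Normal ∧ y ≤ (𝐂 y) → Z ≤ y → y ≤ Z) : ∃ (E : Subgroup G) (_ : E.Normal) (A : Type u)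
      (_ : AddCommGroup A) (_ : Finite A) (_ : DistribMulAction G A) (π : G → A) (β : Fm K A), QS Z ι E π β := by
  classical
  have nondeg : ∀ U : Subgroup G, U.Normal → Z ≤ U → U ≤ (𝐂 Z) → U ⊓ (𝐂 U) ≤ Z := fun U hU h1 h2 =>
    le_inf h1 (le_centralizer_iff.1 h2) |> hmax ⟨inferInstance, inf_le_right.trans (centralizer_le inf_le_left)⟩
  obtain ⟨E, hEn, hE⟩ := exists_E inj hZ' nondeg
  haveI hX := Normal.map hEn _ (QuotientGroup.mk'_surjective Z)
  let A := AX (E.map (QuotientGroup.mk' Z)) hE.comm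
  letI : DistribMulAction G A := DistribMulAction.compHom A (QuotientGroup.mk' Z)
  let π : G → A := fun x => if h : x ∈ E then AX.mk hE.comm _ ⟨x, h, rfl⟩ else 0
  have vπ : ∀ x ∈ E, (π x).val = QuotientGroup.mk' Z x := fun x hx => by simp only [π, dif_pos hx]; rfl
  have mul : ∀ x ∈ E, ∀ y ∈ E, π (x * y) = π x + π y := fun x hx y hy => AX.ext (by
    rw [AX.val_add, vπ _ (mul_mem hx hy), vπ _ hx, vπ _ hy, map_mul])
  have surj : ∀ a, ∃ x ∈ E, π x = a := fun a => by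
    obtain ⟨x, hx, e⟩ := a.val_mem
    exact ⟨x, hx, AX.ext ((vπ x hx).trans e)⟩
  have zero : ∀ x ∈ E, π x = 0 ↔ x ∈ Z := fun x hx =>
    ⟨fun h => (QuotientGroup.eq_one_iff x).1 ((vπ x hx).symm.trans (congrArg AX.val h)),
      fun h => AX.ext ((vπ x hx).trans ((QuotientGroup.eq_one_iff x).2 h))⟩
  have conj : ∀ g, ∀ x ∈ E, π (g * x * g⁻¹) = g • π x := fun g x hx => AX.ext (by
    rw [vπ _ (hEn.conj_mem x hx g), map_mul, map_mul, map_inv, ← vπ x hx]; rfl)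
  choose σ σ1 σ2 using surj
  have cm : ∀ x ∈ E, ∀ y ∈ E, ⁅x, y⁆ ∈ Z := fun x hx y hy => mem_cz.1 (hE.ab hx) y hy
  have ind : ∀ x ∈ E, ∀ y ∈ E, ⁅σ (π x), y⁆ = ⁅x, y⁆ := fun x hx y hy => by
    have t : x⁻¹ * σ (π x) ∈ Z := QuotientGroup.eq.1 (((vπ x hx).symm.trans (congrArg AX.val (σ2 _)).symm).trans (vπ _ (σ1 _)))
    rw [show σ (π x) = x * (x⁻¹ * σ (π x)) by group, comm_mul_left (hE.le' hx) (cm _ (hE.le t) y hy),
      commutatorElement_eq_one_iff_mul_comm.2 (hE.le' hy _ t), one_mul]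
  have ind' : ∀ x ∈ E, ∀ y ∈ E, ⁅x, σ (π y)⁆ = ⁅x, y⁆ := fun x hx y hy => by
    rw [← commutatorElement_inv, ind y hy x hx, commutatorElement_inv]
  let β : Fm K A := AddMonoidHom.mk' (fun a => AddMonoidHom.mk'
    (fun b => Additive.ofMul (ι.toHomUnits ⟨⁅σ a, σ b⁆, cm _ (σ1 a) _ (σ1 b)⟩)) fun b c => by
      rw [← ofMul_mul, ← map_mul]; congr 2; refine Subtype.ext ?_
      show ⁅σ a, σ (b + c)⁆ = ⁅σ a, σ b⁆ * ⁅σ a, σ c⁆
      rw [← comm_mul_right (hE.le' (σ1 b)) (cm _ (σ1 a) _ (σ1 c)), ← ind' _ (σ1 a) _ (mul_mem (σ1 b) (σ1 c)),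
        mul _ (σ1 b) _ (σ1 c), σ2, σ2]) fun a b => AddMonoidHom.ext fun c => by
      show Additive.ofMul (ι.toHomUnits ⟨⁅σ (a + b), σ c⁆, cm _ (σ1 _) _ (σ1 c)⟩) =
        Additive.ofMul (ι.toHomUnits ⟨⁅σ a, σ c⁆, cm _ (σ1 _) _ (σ1 c)⟩) +
        Additive.ofMul (ι.toHomUnits ⟨⁅σ b, σ c⁆, cm _ (σ1 _) _ (σ1 c)⟩)
      rw [add_comm (Additive.ofMul _), ← ofMul_mul, ← map_mul]; congr 2; refine Subtype.ext ?_
      show ⁅σ (a + b), σ c⁆ = ⁅σ b, σ c⁆ * ⁅σ a, σ c⁆
      rw [← comm_mul_left (hE.le' (σ1 a)) (cm _ (σ1 b) _ (σ1 c)), ← ind _ (mul_mem (σ1 a) (σ1 b)) _ (σ1 c),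
        mul _ (σ1 a) _ (σ1 b), σ2, σ2]
  have bz : ∀ a b, β a b = 0 ↔ σ a * σ b = σ b * σ a := fun a b => by
    rw [← commutatorElement_eq_one_iff_mul_comm]
    exact ⟨fun h => congrArg Subtype.val ((injective_iff_map_eq_one ι).1 inj ⟨_, cm _ (σ1 a) _ (σ1 b)⟩
      (congrArg (fun t => (Additive.toMul t).val) h)), fun h => by
        show Additive.ofMul (ι.toHomUnits _) = 0
        rw [show (⟨⁅σ a, σ b⁆, cm _ (σ1 a) _ (σ1 b)⟩ : Z) = 1 from Subtype.ext h, map_one]; rfl⟩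
  have nd : ∀ U, Inv G A U → U ⊓ perp β U = ⊥ := fun U hU => eq_bot_iff.2 fun a ha => by
    let U' : Subgroup G :=
      { carrier := {x | x ∈ E ∧ π x ∈ U}
        one_mem' := ⟨E.one_mem, by rw [(zero _ E.one_mem).2 Z.one_mem]; exact U.zero_mem⟩
        mul_mem' := fun hx hy => ⟨mul_mem hx.1 hy.1, by rw [mul _ hx.1 _ hy.1]; exact U.add_mem hx.2 hy.2⟩
        inv_mem' := fun {x} hx => ⟨inv_mem hx.1, by
          have := mul _ (inv_mem hx.1) _ hx.1
          rw [inv_mul_cancel, (zero _ E.one_mem).2 Z.one_mem] at this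
          rw [eq_neg_of_add_eq_zero_left this.symm]; exact U.neg_mem hx.2⟩ }
    have := nondeg U' ⟨fun x hx g => ⟨hEn.conj_mem x hx.1 g, by rw [conj g x hx.1]; exact hU g _ hx.2⟩⟩
      (fun z hz => ⟨hE.le hz, by rw [(zero _ (hE.le hz)).2 hz]; exact U.zero_mem⟩) (fun x hx => hE.le' hx.1)
      (x := σ a) ⟨⟨σ1 a, by rw [σ2]; exact ha.1⟩, fun y hy => by
        have := commutatorElement_eq_one_iff_mul_comm.2 ((bz _ _).1 (ha.2 _ hy.2))
        rw [ind' _ (σ1 a) _ hy.1] at this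
        exact (commutatorElement_eq_one_iff_mul_comm.1 this).symm⟩
    rw [AddSubgroup.mem_bot, ← σ2 a]; exact (zero _ (σ1 a)).2 this
  refine ⟨E, hEn, A, inferInstance, inferInstance, inferInstance,
    π, β, inj, hE.le, hE.le', ⟨fun a => (bz a a).2 rfl, fun a ha => AddSubgroup.mem_bot.1
      (nd ⊤ (fun _ _ _ => trivial) ▸ ⟨trivial, fun u _ => ha u⟩)⟩, mul, fun a => ⟨σ a, σ1 a, σ2 a⟩, zero, conj,
    fun x hx y hy => ⟨cm x hx y hy, ?_⟩, fun g hg h => hE.self ⟨hg, mem_cz.2 fun x hx => comm_mem_iff.2 ?_⟩, nd⟩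
  · exact congrArg ι (Subtype.ext ((ind x hx y hy).symm.trans (ind' _ (σ1 _) y hy).symm))
  · have := congrArg AX.val (h (π x))
    rw [← vπ x hx]
    exact mul_inv_eq_iff_eq_mul.1 this

variable {Z : Subgroup G} [hZn : Z.Normal] {ι : Z →* K} {E : Subgroup G}
  [hEn : E.Normal] {A : Type u} [AddCommGroup A] [Finite A] [DistribMulAction G A] {π : G → A} {β : Fm K A}

namespace QS
theorem bz (P : QS Z ι E π β) {x y : G} (hx : x ∈ E) (hy : y ∈ E) : β (π x) (π y) = 0 ↔ x * y = y * x := by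
  obtain ⟨h, e⟩ := P.form x hx y hy
  rw [← commutatorElement_eq_one_iff_mul_comm]
  refine ⟨fun t => congrArg Subtype.val ((injective_iff_map_eq_one ι).1 P.inj ⟨_, h⟩ (by rw [e, t]; rfl)), fun t => ?_⟩
  rw [show (⟨_, h⟩ : Z) = 1 from Subtype.ext t, map_one] at e
  exact Additive.toMul.injective (Units.ext e.symm)

theorem card_A (P : QS Z ι E π β) : Nat.card A = Z.relIndex E := by
  let φ : E →* Multiplicative A := MonoidHom.mk' (fun x => Multiplicative.ofAdd (π x)) fun x y => P.mul _ x.2 _ y.2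
  have : φ.ker = Z.subgroupOf E := by ext x; exact P.zero x x.2
  rw [relIndex, ← this, index_ker, MonoidHom.range_eq_top.2 fun a => by
    obtain ⟨x, hx, e⟩ := P.surj a.toAdd; exact ⟨⟨x, hx⟩, e⟩, card_top]; rfl

theorem cr (P : QS Z ι E π β) : CR G A := fun U hU => by
  refine ⟨perp β U, fun g a ha u hu => ?_, P.nd U hU, AddSubgroup.eq_top_of_card_eq _ (le_antisymm
    (AddSubgroup.card_le_card_addGroup _) ?_)⟩
  · obtain ⟨x, hx, rfl⟩ := P.surj a
    obtain ⟨y, hy, e⟩ := P.surj (g⁻¹ • u)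
    have := (P.bz hx hy).1 (ha _ (e ▸ hU _ _ hu))
    rw [← smul_inv_smul g u, ← e, ← P.conj _ _ hx, ← P.conj _ _ hy, P.bz (hEn.conj_mem _ hx g) (hEn.conj_mem _ hy g)]
    simp [mul_assoc, ← mul_assoc x, this]
  · rw [← P.alt.card_perp U, ← Nat.card_prod]
    refine Nat.card_le_card_of_injective (fun p : U × perp β U => (⟨p.1.1 + p.2.1, AddSubgroup.add_mem_sup p.1.2 p.2.2⟩ :
      ↥(U ⊔ perp β U))) fun a b e => ?_
    have e1 : a.1.1 - b.1.1 = b.2.1 - a.2.1 := by rw [sub_eq_sub_iff_add_eq_add, Subtype.mk.inj e, add_comm]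
    have : a.1.1 - b.1.1 ∈ U ⊓ perp β U := ⟨U.sub_mem a.1.2 b.1.2, e1 ▸ (perp β U).sub_mem b.2.2 a.2.2⟩
    rw [P.nd U hU, AddSubgroup.mem_bot] at this
    exact Prod.ext (Subtype.ext (sub_eq_zero.1 this)) (Subtype.ext (sub_eq_zero.1 (e1 ▸ this)).symm)

theorem sy (P : QS Z ι E π β) (hc : ∀ g : G, g ∈ 𝐂 Z) : Sy (rp G A).range β :=
  ⟨P.alt, fun h a b => by
    obtain ⟨g, rfl⟩ := (rp G A).rangeRestrict_surjective h
    obtain ⟨x, hx, rfl⟩ := P.surj a
    obtain ⟨y, hy, rfl⟩ := P.surj b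
    rw [im_smul, im_smul, ← P.conj _ _ hx, ← P.conj _ _ hy]
    obtain ⟨h1, e1⟩ := P.form _ hx _ hy
    obtain ⟨h2, e2⟩ := P.form _ (hEn.conj_mem _ hx g) _ (hEn.conj_mem _ hy g)
    refine Additive.toMul.injective (Units.ext (e2.symm.trans (Eq.trans (congrArg ι (Subtype.ext ?_)) e1)))
    show ⁅g * x * g⁻¹, g * y * g⁻¹⁆ = ⁅x, y⁆
    rw [← conjugate_commutatorElement, ← hc g _ h1, mul_inv_cancel_right], im_faith⟩

theorem kb [Group.IsSolvable G] (P : QS Z ι E π β) (hc : ∀ g : G, g ∈ 𝐂 Z) {b : ℕ} (hb : Nat.card A = b * b) :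
    KB (G ⧸ E) (3 ^ (b - 1)) := by
  haveI := im_solv (G := G) (V := A)
  refine (symp (P.sy hc) (fun U hU => ?_) hb).of_hom (rp G A).rangeRestrict E fun g hg => P.faith g (hc g) fun a => by
    rw [← im_smul, MonoidHom.mem_ker.1 hg, one_smul]
  obtain ⟨W, h1, h2⟩ := P.cr U fun a => hU ((rp G A).rangeRestrict a)
  refine ⟨W, fun a => ?_, h2⟩
  obtain ⟨g, rfl⟩ := (rp G A).rangeRestrict_surjective a
  exact h1 g
end QS
end qs

section nb
variable {G Y : Type*} [Group G] [Finite G] [Group Y] [Finite Y] {a b n : ℕ}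

/-- modulo `K`, a nilpotent normal subgroup has a quotient with few classes -/
def NB (K : Subgroup G) (n : ℕ) : Prop :=
  ∃ (M : Subgroup G) (_ : M.Normal) (c : ℕ), M.lowerCentralSeries c ≤ K ∧ KB (G ⧸ M) n

theorem NB.mono {K L : Subgroup G} (h : NB K a) (e : K ≤ L) (e' : a ≤ b) : NB L b :=
  let ⟨M, hM, c, h1, h2⟩ := h; ⟨M, hM, c, h1.trans e, h2.mono e'⟩

theorem NB.top : NB (⊤ : Subgroup G) 1 :=
  ⟨⊤, inferInstance, 0, le_top, KB.of_card (index_top (G := G)).le⟩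

theorem NB.comap {K : Subgroup Y} (h : NB K a) (f : G →* Y) : NB (K.comap f) a := by
  obtain ⟨M, hM, c, h1, h2⟩ := h
  refine ⟨M.comap f, inferInstance, c, map_le_iff_le_comap.1 ?_, h2.of_hom ((QuotientGroup.mk' M).comp f) _ fun x hx =>
    (QuotientGroup.eq_one_iff (f x)).1 hx⟩
  rw [map_lowerCentralSeries]
  exact (lowerCentralSeries_mono c (map_comap_le f M)).trans h1

theorem NB.inf {K L : Subgroup G} (h : NB K a) (h' : NB L b) : NB (K ⊓ L) (a * b) := by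
  obtain ⟨M, hM, c, h1, h2⟩ := h
  obtain ⟨N, hN, d, h3, h4⟩ := h'
  exact ⟨M ⊓ N, inferInstance, max c d, le_inf
    (((lowerCentralSeries_mono _ inf_le_left).trans (M.lowerCentralSeries_antitone (le_max_left _ _))).trans h1)
    (((lowerCentralSeries_mono _ inf_le_right).trans (N.lowerCentralSeries_antitone (le_max_right _ _))).trans h3), h2.inf h4⟩

theorem NB.fam {ι : Type*} (s : Finset ι) (K : ι → Subgroup G) (e : ι → ℕ) (h : ∀ i ∈ s, NB (K i) (3 ^ e i)) :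
    NB (⨅ i ∈ s, K i) (3 ^ ∑ i ∈ s, e i) := by
  classical
  induction s using Finset.induction_on with
  | empty => simpa using NB.top
  | insert i s hi ih =>
    rw [Finset.iInf_insert, Finset.sum_insert hi, pow_add]
    exact (h i (Finset.mem_insert_self _ _)).inf (ih fun j hj => h j (Finset.mem_insert_of_mem hj))

theorem NB.fit (h : NB (⊥ : Subgroup G) a) [(fittingSubgroup G).Normal] : KB (G ⧸ fittingSubgroup G) a := by
  obtain ⟨M, hM, c, h1, h2⟩ := h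
  haveI : Group.IsNilpotent M := (M.isNilpotent_iff_lowerCentralSeries).2 ⟨c, le_bot_iff.1 h1⟩
  exact h2.of_hom (QuotientGroup.mk' M) _ (by rw [QuotientGroup.ker_mk']; exact Core.le_fitting ‹_›)

theorem NB.step {N : Subgroup G} [N.Normal] (h : NB (⊥ : Subgroup N) a) (h' : KB (G ⧸ N) b) : NB (⊥ : Subgroup G) (a * b) := by
  haveI := Core.fitting_normal N
  haveI := Core.fitting_characteristic N
  haveI := Core.isNilpotent_fitting N
  obtain ⟨c, hc⟩ := ((fittingSubgroup N).isNilpotent_iff_lowerCentralSeries).1 inferInstance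
  refine ⟨(fittingSubgroup N).map N.subtype, inferInstance, c, by rw [← map_lowerCentralSeries, hc, Subgroup.map_bot],
    KB.step (map_subtype_le _) (h.fit.of_hom (QuotientGroup.mk' _) _ ?_) h'⟩
  rw [QuotientGroup.ker_mk']
  exact le_comap_map _ _
end nb

section main
open Cfsg.Lib.Clifford Cfsg.Lib.Char

theorem prim {G : Type} [Group G] [Finite G] [Group.IsSolvable G] {χ : G → ℂ} (hχ : IrrOn ⊤ χ) (hf : kerOn ⊤ χ = ⊥)
    (hp : ¬ IndFrom ⊥ ⊤ χ) : NB (⊥ : Subgroup G) (3 ^ (charDegree χ - 1)) := by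
  have hom : ∀ N : Subgroup G, N.Normal → Homog N χ := fun N _ => by_contra fun n =>
    hp ((hχ.indFrom_of_not_homog le_top (nrm_of_normal _ _) n).mono bot_le)
  obtain ⟨Z, -, ⟨hZ, hZ'⟩, hmax⟩ := Finite.exists_le_maximal
    (p := fun Z : Subgroup G => Z.Normal ∧ Z ≤ 𝐂 Z) (a := ⊥) ⟨inferInstance, bot_le⟩
  have hc : ∀ g : G, g ∈ 𝐂 Z := fun g z hz => by
    have := (hom Z hZ).commutator_mem hχ le_top (nrm_of_normal _ _) (commutator_le.2 fun a ha b hb => by
      rw [commutatorElement_eq_one_iff_mul_comm.2 (hZ' hb a ha)]; exact one_mem _) (mem_top g) hz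
    rw [hf, mem_bot] at this
    exact (commutatorElement_eq_one_iff_mul_comm.1 this).symm
  obtain ⟨lam, hl⟩ := (irrOn_top.1 hχ).exists_linear_of_le_center (Z := Z) fun z hz => mem_center_iff.2 fun g => (hc g z hz).symm
  have inj : Function.Injective ((Units.coeHom ℂ).comp lam) := (injective_iff_map_eq_one _).2 fun z hz =>
    Subtype.ext (mem_bot.1 (hf ▸ ⟨trivial, fun y _ => by rw [hl, show (lam z : ℂ) = 1 from hz, one_mul]⟩))
  obtain ⟨E, _, A, _, _, _, π, β, P⟩ := exists_QS inj hZ' hmax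
  obtain ⟨b, hb⟩ := P.alt.isSquare
  refine ⟨E, inferInstance, 2, ?_, (P.kb hc hb).mono (Nat.pow_le_pow_right (by norm_num) (Nat.sub_le_sub_right ?_ 1))⟩
  · refine commutator_le.2 fun a ha g _ => commutatorElement_eq_one_iff_mul_comm.2 (hc g a ?_)
    exact (commutator_le.2 fun x hx y hy => (P.form x hx y hy).1 : ⁅E, E⁆ ≤ Z) ha
  obtain ⟨θ, hθ, hd⟩ := hχ.exists_under (H := E) le_top
  replace hθ := irrOn_of_mem hθ
  obtain ⟨e, he, he'⟩ := (hom E ‹_›).eq_of_dot hθ hd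
  obtain ⟨φ, hφ, hd'⟩ := hθ.exists_under P.le
  replace hφ := irrOn_of_mem hφ
  have inv : InvOn E Z φ := fun g _ z hz => by rw [← hc g z hz, mul_inv_cancel_right]
  have t1 := clifford_invOn_deg P.le (nrm_of_normal _ _) hθ hφ inv hd'
  have t2 := (mult_sq_eq_iff_vanish P.le (nrm_of_normal _ _) hθ hφ inv hd').2 fun x hx xz => by
    obtain ⟨y, hy, t⟩ : ∃ y ∈ E, y * x ≠ x * y := by
      by_contra! t
      refine xz ((P.zero x hx).1 (P.alt.nd _ fun a => ?_))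
      obtain ⟨y, hy, rfl⟩ := P.surj a
      exact (P.bz hx hy).2 (t y hy).symm
    have t3 := hl ⟨_, (P.form y hy x hx).1⟩ x
    rw [show (⁅y, x⁆ * x : G) = y * x * y⁻¹ by simp [commutatorElement_def], hχ.classOn y trivial x trivial] at t3
    have t4 : χ x = 0 := by_contra fun n => t (commutatorElement_eq_one_iff_mul_comm.1 (congrArg Subtype.val
      ((injective_iff_map_eq_one _).1 inj ⟨_, (P.form y hy x hx).1⟩ ((mul_eq_right₀ n).1 t3.symm))))
    rw [he' x hx] at t4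
    exact (mul_eq_zero.1 t4).resolve_left (he ▸ hd)
  rw [(hφ.linOn_of_comm fun a ha b hb => hc b a ha).deg, mul_one] at t1
  rw [← t1, ← P.card_A, hb, ← sq] at t2
  exact (Nat.pow_left_injective two_ne_zero t2).ge.trans ((hχ.charOn.mono le_top).deg_le_of_dot hθ hd)

theorem irr_all (n : ℕ) : ∀ (G : Type) [Group G] [Finite G] [Group.IsSolvable G], Nat.card G < n → ∀ χ : G → ℂ,
    IsIrrCharacter G χ → NB (charKer χ) (3 ^ (charDegree χ - 1)) := by
  induction n with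
  | zero => intro G _ _ _ h; omega
  | succ n ih =>
  intro G _ _ _ hn χ hχ
  by_cases hf : charKer χ = ⊥
  swap
  · haveI := hχ.isCharacter.isClassFunction.charKer_normal
    obtain ⟨ψ, h1, h2⟩ := hχ.exists_quotient _ le_rfl
    have := (charKer χ).index_mul_card
    have : 2 ≤ Nat.card (charKer χ) := (one_lt_card_iff_ne_bot _).2 hf
    have : 0 < (charKer χ).index := Nat.pos_of_ne_zero index_ne_zero_of_finite
    refine ((ih _ (show (charKer χ).index < n by nlinarith) ψ h1).comap (QuotientGroup.mk' _)).mono (fun x hx y => ?_)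
      (by rw [show charDegree χ = charDegree ψ by unfold charDegree; rw [congrFun h2]; rfl])
    rw [congrFun h2, congrFun h2]; exact hx y
  rw [hf]
  by_cases hp : IndFrom ⊥ ⊤ χ
  swap
  · exact prim (irrOn_top.2 hχ) (by rw [kerOn_top, hf]) hp
  obtain ⟨T, -, hT, ψ, hψ, e⟩ := hp
  have hψ' := irrOn_of_mem hψ
  have e' : ind T ⊤ ψ = χ := e.trans (funext fun x => cut_of_mem _ trivial)
  have d := hψ'.charOn.deg_ind (K := ⊤) le_top
  rw [e', relIndex_top_right] at d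
  have d0 := hψ'.deg_pos
  have i0 : 0 < T.index := Nat.pos_of_ne_zero index_ne_zero_of_finite
  have lt : Nat.card T < n := lt_of_lt_of_le (lt_of_le_of_ne (card_le_card_group T) (mt (eq_top_of_card_eq T) hT.ne)) (by omega)
  haveI := Fintype.ofFinite (G ⧸ T)
  let f : G ⧸ T → (T.normalCore →* T) := fun c => ((MulAut.conj c.out⁻¹).toMonoidHom.comp T.normalCore.subtype).codRestrict T
    fun x => x.2 c.out⁻¹
  have t := NB.fam Finset.univ (fun c => (charKer (res T ψ)).comap (f c)) (fun _ => charDegree ψ - 1)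
    fun c _ => (ih T lt _ hψ').comap (f c)
  refine ((t.mono (fun x hx => ?_) le_rfl).step (kcore T)).mono le_rfl ?_
  · refine mem_bot.2 (Subtype.ext (mem_bot.1 (hf ▸ hχ.mem_charKer.2 ?_)))
    rw [← e', ind_apply, ind_apply]
    refine congrArg _ (Finset.sum_congr rfl fun g _ => ?_)
    obtain ⟨h, hh⟩ := QuotientGroup.mk_out_eq_mul T g
    have h1 := apply_eq_of_mem_charKer (mem_iInf.1 (mem_iInf.1 hx (QuotientGroup.mk g)) (Finset.mem_univ _))
    have m : g⁻¹ * x.1 * g ∈ T := by simpa using x.2 g⁻¹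
    rw [cut_of_mem _ m, mul_one, inv_mul_cancel, cut_of_mem _ T.one_mem, ← hψ'.classOn _ (inv_mem h.2) _ m]
    refine Eq.trans (congrArg ψ ?_) h1
    show _ = (QuotientGroup.mk g : G ⧸ T).out⁻¹ * x.1 * (QuotientGroup.mk g : G ⧸ T).out⁻¹⁻¹
    rw [hh]; group
  · rw [← pow_add, Finset.sum_const, Finset.card_univ, ← Nat.card_eq_fintype_card, d, smul_eq_mul]
    refine Nat.pow_le_pow_right (by norm_num) ?_
    show T.index * _ + _ ≤ _
    obtain ⟨c, hc⟩ : ∃ c, charDegree ψ = c + 1 := ⟨charDegree ψ - 1, by omega⟩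
    rw [hc, Nat.add_sub_cancel, mul_add]; omega

theorem char_all {G : Type} [Group G] [Finite G] [Group.IsSolvable G] {χ : G → ℂ} (hχ : IsCharacter G χ) :
    NB (charKer χ) (3 ^ (charDegree χ - 1)) := by
  classical
  have h := charOn_top.2 hχ
  set s := (Clifford.Irr (⊤ : Subgroup G)).filter fun θ => dot ⊤ χ θ ≠ 0
  refine (NB.fam s charKer (fun θ => charDegree θ - 1) fun θ hθ =>
    irr_all _ G (Nat.lt_succ_self _) θ (mem_Irr_top.1 (Finset.mem_filter.1 hθ).1)).mono (fun x hx y => ?_)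
    (Nat.pow_le_pow_right (by norm_num) ?_)
  · rw [h.classOn.eq_sum (mem_top _), h.classOn.eq_sum (mem_top y)]
    refine Finset.sum_congr rfl fun θ hθ => ?_
    by_cases t : dot ⊤ χ θ = 0
    · simp [t]
    · rw [mem_iInf.1 (mem_iInf.1 hx θ) (Finset.mem_filter.2 ⟨hθ, t⟩) y]
  rcases s.eq_empty_or_nonempty with e | ⟨θ, hθ⟩
  · simp [e]
  have t1 : ∑ θ ∈ s, charDegree θ ≤ charDegree χ := by
    rw [h.deg_eq_sum]
    refine le_trans (Finset.sum_le_sum fun θ hθ => ?_) (Finset.sum_le_sum_of_subset (Finset.filter_subset _ _))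
    exact Nat.le_mul_of_pos_left _ (Nat.pos_of_ne_zero ((h.mult_ne_zero (irrOn_of_mem (Finset.mem_filter.1 hθ).1).charOn).2
      (Finset.mem_filter.1 hθ).2))
  have := Finset.sum_lt_sum (s := s) (f := fun θ => charDegree θ - 1) (g := charDegree) (fun _ _ => Nat.sub_le _ _)
    ⟨θ, hθ, Nat.sub_lt (irrOn_of_mem (Finset.mem_filter.1 hθ).1).deg_pos one_pos⟩
  omega
end main

end Cfsg.Lib.Hall.KR
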