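import Cfsg.Agent.Lib.Hall.KRc
import Cfsg.Agent.Lib.Hall.MinNormal
import Cfsg.Agent.Lib.Block2.Fong

/-! # The number of characters in a block of a solvable group -/

set_option autoImplicit false
set_option linter.unusedSectionVars false
set_option linter.style.haveILetI false

namespace Cfsg.Lib.Hall.KR

open Cfsg Cfsg.Lib Subgroup Cfsg.Lib.Block.B2 Cfsg.Lib.Hall.B3

local notation "𝐤" X => Nat.card (ConjClasses X)
local notation "𝐂" S => centralizer (SetLike.coe S)

universe u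
variable {p : ℕ} [hp : Fact p.Prime]

theorem kvl {L : Type u} [Group L] [Finite L] [Group.IsSolvable L] (V : Subgroup L) [V.Normal] (h0 : V ≠ ⊥)
    (hc : ∀ a ∈ V, ∀ b ∈ V, a * b = b * a) (he : ∀ a ∈ V, a ^ p = 1) {r : ℕ} (hr : Nat.card V = p ^ r) (hi : ¬ p ∣ V.index)
    (hs : (𝐂 V) ≤ V) : 3 * (𝐤 L) ≤ 3 ^ r * p ^ r := by
  obtain ⟨K, hK⟩ := exists_right_complement'_of_coprime (N := V)
    (hr ▸ ((Nat.Prime.coprime_iff_not_dvd hp.out).2 hi).pow_left r)
  haveI : Nontrivial (AX V hc) := (V.nontrivial_iff_ne_bot.2 h0 : Nontrivial V)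
  have t := vb_all (p := p) _ 0 K (AX V hc) r (Nat.lt_succ_self _) hr (fun v => AX.ext (he _ v.val_mem))
    (hK.symm.index_eq_card ▸ hi) (fun g hg => Subtype.ext (disjoint_def.1 hK.disjoint
      (hs (AX.kr_eq (hc := hc) ▸ hg)) g.2)) ⟨fun i => if i = 0 then ⊥ else ⊤, fun i g v hv => ?_, fun i hi => ?_⟩
  · refine le_trans (Nat.mul_le_mul_left _ (k_surj (SemidirectProduct.lift (φ := ac K (AX V hc))
      (MonoidHom.mk' (fun a => a.toAdd.val) fun _ _ => rfl) K.subtype fun g => rfl) fun x => ?_)) (hr ▸ t)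
    obtain ⟨⟨v, k⟩, e⟩ := hK.2 x
    exact ⟨⟨Multiplicative.ofAdd (AX.mk hc v v.2), k⟩, e⟩
  · dsimp only at hv ⊢
    split_ifs at hv ⊢
    · rw [AddSubgroup.mem_bot.1 hv, smul_zero]; exact zero_mem _
    · trivial
  · obtain rfl : i = 0 := by omega
    simp

theorem central_top {C : Type*} [Group C] [Finite C] (h : pPrimeCore p C = ⊥) (V : Subgroup C) (hV : V ≤ center C)
    (hp' : IsPGroup p V) (hi : ¬ p ∣ V.index) : V = ⊤ := by
  haveI : V.Normal := ⟨fun a ha g => by rwa [mem_center_iff.1 (hV ha) g, mul_inv_cancel_right]⟩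
  obtain ⟨r, hr⟩ := hp'.exists_card_eq
  obtain ⟨K, hK⟩ := exists_right_complement'_of_coprime (N := V)
    (hr ▸ ((Nat.Prime.coprime_iff_not_dvd hp.out).2 hi).pow_left r)
  haveI : K.Normal := ⟨fun a ha g => by
    obtain ⟨⟨v, k⟩, rfl⟩ := hK.2 g
    have := mem_center_iff.1 (hV v.2) (k * a * k.1⁻¹)
    rw [show v.1 * k.1 * a * (v.1 * k.1)⁻¹ = v.1 * (k * a * k.1⁻¹) * v.1⁻¹ by group, ← this, mul_inv_cancel_right]
    exact mul_mem (mul_mem k.2 ha) (inv_mem k.2)⟩
  have := Core.eq_bot_of_pPrimeCore_eq_bot h (N := K)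
    ((Nat.Prime.coprime_iff_not_dvd hp.out).2 (hK.symm.index_eq_card ▸ hi)).symm
  simpa [this] using hK.sup_eq_top

theorem k_core (n : ℕ) : ∀ (X : Type u) [Group X] [Finite X] [Group.IsSolvable X], Nat.card X < n → pPrimeCore p X = ⊥ →
    (𝐤 X) ≤ 3 ^ ((Nat.card X).factorization p - 1) * p ^ (Nat.card X).factorization p := by
  induction n with
  | zero => intro X _ _ _ h; omega
  | succ n ih =>
  intro X _ _ _ hn h
  rcases subsingleton_or_nontrivial X with _ | _
  · exact ((k_le X).trans (Finite.card_le_one_iff_subsingleton.2 ‹_›)).trans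
      (Nat.mul_pos (pow_pos (by norm_num) _) (pow_pos hp.out.pos _))
  obtain ⟨V, q, _, v0, -, vc, hq, ve, vp⟩ := exists_minNormal_elementary (G := X)
  haveI := Fact.mk hq
  obtain rfl : p = q := by
    by_contra n
    obtain ⟨r, hr⟩ := vp.exists_card_eq
    exact v0 (Core.eq_bot_of_pPrimeCore_eq_bot h (hr ▸ ((Nat.coprime_primes hq hp.out).2 (Ne.symm n)).pow_left r))
  obtain ⟨r, hr⟩ := vp.exists_card_eq
  haveI := Core.pPrimeCore_characteristic p (X ⧸ V)
  set L := (pPrimeCore p (X ⧸ V)).comap (QuotientGroup.mk' V)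
  have vl : V ≤ L := fun x hx => by
    rw [mem_comap, show QuotientGroup.mk' V x = 1 from (QuotientGroup.eq_one_iff x).2 hx]; exact one_mem _
  have i1 : ¬ p ∣ V.relIndex L := by
    have := relIndex_comap ⊥ (QuotientGroup.mk' V) L
    rw [MonoidHom.comap_bot, QuotientGroup.ker_mk', map_comap_eq_self_of_surjective (QuotientGroup.mk'_surjective V),
      relIndex_bot_left] at this
    rw [this]; exact Core.not_dvd_card_pPrimeCore hp.out
  have vc' : V ≤ 𝐂 V := fun a ha b hb => congrArg Subtype.val (vc.is_comm.comm (⟨b, hb⟩ : V) ⟨a, ha⟩)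
  have c1 : L ⊓ (𝐂 V) ≤ V := by
    rw [← subgroupOf_eq_top]
    refine central_top (Core.pPrimeCore_eq_bot_of_normal h _) _ (fun a ha => mem_center_iff.2 fun g => Subtype.ext (g.2.2 a ha).symm)
      (vp.comap_subtype) fun d => i1 (d.trans ?_)
    exact Dvd.intro _ (relIndex_mul_relIndex V _ L (le_inf vl vc') inf_le_left)
  have cv : Nat.card (V.subgroupOf L) = p ^ r := (Nat.card_congr (subgroupOfEquivOfLe vl).toEquiv).trans hr
  have t1 := kvl (V.subgroupOf L) (fun e => v0 (by rw [← map_subgroupOf_eq_of_le vl, e, Subgroup.map_bot]))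
    (fun a ha b hb => Subtype.ext (vc' hb a ha)) (fun a ha => Subtype.ext (ve a ha)) cv i1
    fun g hg => c1 ⟨g.2, fun x hx => congrArg Subtype.val (hg ⟨x, vl hx⟩ hx)⟩
  have l2 : 2 ≤ Nat.card L := (one_lt_card_iff_ne_bot _).2 fun e => v0 (le_bot_iff.1 (e ▸ vl))
  have e1 := L.index_mul_card
  have i0 : 0 < L.index := Nat.pos_of_ne_zero index_ne_zero_of_finite
  have t2 := ih (X ⧸ L) (show L.index < n by nlinarith) (by
    rw [← Core.pPrimeCore_eq_bot_iff_of_equiv (QuotientGroup.quotientQuotientEquivQuotient V L vl)]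
    exact Core.pPrimeCore_quotient_eq_bot_of_eq _ (map_comap_eq_self_of_surjective (QuotientGroup.mk'_surjective V) _))
  have t3 := k_mul (QuotientGroup.mk' L) (QuotientGroup.mk'_surjective L)
  rw [QuotientGroup.ker_mk'] at t3
  have f1 := Block2.factorization_card_add_index p L
  have f2 := Block2.factorization_card_add_index p (V.subgroupOf L)
  rw [cv, hp.out.factorization_pow, Finsupp.single_eq_same, Nat.factorization_eq_zero_of_not_dvd (n := (V.subgroupOf L).index) i1, add_zero] at f2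
  have r0 : r ≠ 0 := fun e => v0 (card_eq_one.1 (by rw [hr, e, pow_zero]))
  obtain ⟨s, rfl⟩ := Nat.exists_eq_succ_of_ne_zero r0
  change _ ≤ 3 ^ (L.index.factorization p - 1) * p ^ L.index.factorization p at t2
  rw [← f1, ← f2]
  set d := L.index.factorization p
  rw [pow_succ 3, mul_comm _ 3, mul_assoc] at t1
  calc _ ≤ (3 ^ s * p ^ (s + 1)) * (3 ^ (d - 1) * p ^ d) := t3.trans (Nat.mul_le_mul (Nat.le_of_mul_le_mul_left t1 (by norm_num)) t2)
    _ = 3 ^ (s + (d - 1)) * p ^ (s + 1 + d) := by ring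
    _ ≤ _ := Nat.mul_le_mul_right _ (Nat.pow_le_pow_right (by norm_num) (by omega))

section gal
open Cfsg.Lib.Clifford Cfsg.Lib.Char
variable {G : Type*} [Group G] [Finite G] {N : Subgroup G} [N.Normal] {θ : G → ℂ}

theorem coset (hθ : IrrOn N θ) (hi : InvOn ⊤ N θ) (g : G) : ∃ η : G → ℂ, ∀ χ, IrrOn ⊤ χ → dot N χ θ ≠ 0 →
    ∃ c, ∀ n ∈ N, χ (n * g) = c * η (n * g) := by
  have hN := nrm_of_normal (zpowers g ⊔ N) N
  obtain ⟨η, h1, h2⟩ := exists_ext_of_zpowers (g := g) rfl hN hθ (hi.mono le_top le_rfl)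
  refine ⟨η, fun χ hχ hd => ?_⟩
  have key : ∀ ψ, ∃ c, ψ ∈ Clifford.Irr (zpowers g ⊔ N) → dot (zpowers g ⊔ N) χ ψ ≠ 0 → ∀ n ∈ N, ψ (n * g) = c * η (n * g) := fun ψ => by
    by_cases t : ψ ∈ Clifford.Irr (zpowers g ⊔ N) ∧ dot (zpowers g ⊔ N) χ ψ ≠ 0
    swap
    · exact ⟨0, fun a b => absurd ⟨a, b⟩ t⟩
    have hψ := irrOn_of_mem t.1
    obtain ⟨φ, hφ, d⟩ := hψ.exists_under (le_sup_right : N ≤ _)
    have d1 := (hχ.charOn.mono le_top).dot_ne_zero_trans le_sup_right hψ (irrOn_of_mem hφ).charOn t.2 d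
    rw [dot_congr_left (φ' := (mult N χ θ : ℂ) • θ) fun n hn => clifford_invOn le_top (nrm_of_normal _ _) hχ hθ hi hd hn,
      dot_smul_left] at d1
    have e := hθ.eq_of_dot_ne_zero (irrOn_of_mem hφ) (right_ne_zero_of_mul d1)
    have e' : ∀ n ∈ N, φ n = (1 * η) n := fun n hn => by rw [one_mul, h2 n hn, e n hn]
    obtain ⟨β, b1, b2⟩ := gallagher_exists le_sup_right hN (irrOn_of_mem h1).charOn (linOn_one N).irrOn (fun _ _ _ _ => rfl)
      ((irrOn_of_mem hφ).congr e') hψ (by rwa [← dot_congr_right _ e'])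
    rw [IrrOver_one le_sup_right hN, mem_IrrKer] at b1
    have m : g ∈ zpowers g ⊔ N := mem_sup_left (mem_zpowers g)
    exact ⟨β g, fun _ _ n hn => by
      rw [b2 _ (mul_mem (mem_sup_right hn) m), (irrOn_of_mem b1.1).charOn.mul_of_eq (mem_sup_right hn) (b1.2 n hn) m]⟩
  choose c hc using key
  refine ⟨∑ ψ ∈ Clifford.Irr (zpowers g ⊔ N), dot (zpowers g ⊔ N) χ ψ * c ψ, fun n hn => ?_⟩
  rw [(hχ.charOn.mono le_top).classOn.eq_sum (mul_mem (mem_sup_right hn) (mem_sup_left (mem_zpowers g))), Finset.sum_mul]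
  refine Finset.sum_congr rfl fun ψ hψ => ?_
  by_cases t : dot (zpowers g ⊔ N) χ ψ = 0
  · simp [t]
  · rw [hc ψ hψ t n hn, mul_assoc]

/-- Gallagher: at most `k(G/N)` irreducible characters lie over an invariant one. -/
theorem gallagher_le (hθ : IrrOn N θ) (hi : InvOn ⊤ N θ) :
    {χ : IrrCharacter G | dot N χ.1 θ ≠ 0}.ncard ≤ 𝐤 (G ⧸ N) := by
  set s := {χ : IrrCharacter G | dot N χ.1 θ ≠ 0}
  let W := Submodule.span ℂ (Set.range fun χ : s => (χ.1.1 : G → ℂ))
  have key : ∀ g : G, ∃ x : G, (x : G ⧸ N) = g ∧ ∀ f ∈ W, f x = 0 → ∀ n ∈ N, f (n * g) = 0 := fun g => by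
    obtain ⟨η, h⟩ := coset hθ hi g
    have h' : ∀ f ∈ W, ∃ c, ∀ n ∈ N, f (n * g) = c * η (n * g) := fun f hf => by
      induction hf using Submodule.span_induction with
      | mem x hx => obtain ⟨χ, rfl⟩ := hx; exact h _ (irrOn_top.2 χ.1.2) χ.2
      | zero => exact ⟨0, by simp⟩
      | add x y _ _ a b =>
        obtain ⟨a, ha⟩ := a; obtain ⟨b, hb⟩ := b
        exact ⟨a + b, fun n hn => by rw [Pi.add_apply, ha n hn, hb n hn, add_mul]⟩
      | smul k x _ a =>
        obtain ⟨a, ha⟩ := a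
        exact ⟨k * a, fun n hn => by rw [Pi.smul_apply, ha n hn, smul_eq_mul, mul_assoc]⟩
    by_cases t : ∃ n ∈ N, η (n * g) ≠ 0
    · obtain ⟨m, hm, t⟩ := t
      refine ⟨m * g, by simp [(QuotientGroup.eq_one_iff m).2 hm], fun f hf e n hn => ?_⟩
      obtain ⟨c, hc⟩ := h' f hf
      rw [hc m hm] at e
      rw [hc n hn, (mul_eq_zero.1 e).resolve_right t, zero_mul]
    · push Not at t
      refine ⟨g, rfl, fun f hf _ n hn => ?_⟩
      obtain ⟨c, hc⟩ := h' f hf
      rw [hc n hn, t n hn, mul_zero]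
  choose x x1 x2 using key
  have rep : ∀ C : ConjClasses (G ⧸ N), ∃ g : G, ConjClasses.mk (g : G ⧸ N) = C := fun C => by
    obtain ⟨y, rfl⟩ := ConjClasses.mk_surjective C
    obtain ⟨g, rfl⟩ := QuotientGroup.mk_surjective y
    exact ⟨g, rfl⟩
  choose r hr using rep
  have cl : ∀ f ∈ W, ∀ a b : G, f (a * b * a⁻¹) = f b := fun f hf a b => by
    induction hf using Submodule.span_induction with
    | mem x hx => obtain ⟨χ, rfl⟩ := hx; exact (irrOn_top.2 χ.1.2).classOn a trivial b trivial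
    | zero => rfl
    | add x y _ _ a b => rw [Pi.add_apply, Pi.add_apply, a, b]
    | smul k x _ a => rw [Pi.smul_apply, Pi.smul_apply, a]
  have li := (((irr_linearIndependent G).comp _ (Subtype.val_injective (p := (· ∈ s)))).map
    (f := LinearMap.funLeft ℂ ℂ fun C => x (r C)) (Submodule.disjoint_def.2 fun f hf e => funext fun g => by
      obtain ⟨a, ha⟩ := isConj_iff.1 (ConjClasses.mk_eq_mk_iff_isConj.1 (hr (ConjClasses.mk (g : G ⧸ N))).symm)
      obtain ⟨a, rfl⟩ := QuotientGroup.mk_surjective a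
      have := x2 _ f hf (congrFun (LinearMap.mem_ker.1 e) (ConjClasses.mk (g : G ⧸ N))) (a * g * a⁻¹ * (r (ConjClasses.mk (g : G ⧸ N)))⁻¹)
        ((QuotientGroup.eq_one_iff _).1 (by simp [← ha]))
      rwa [inv_mul_cancel_right, cl f hf] at this))
  haveI := li.finite
  haveI := Fintype.ofFinite s
  haveI := Fintype.ofFinite (ConjClasses (G ⧸ N))
  have := li.fintype_card_le_finrank
  rwa [Module.finrank_fintype_fun_eq_card, ← Nat.card_eq_fintype_card, ← Nat.card_eq_fintype_card] at this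
end gal

open Cfsg.Lib.Block Cfsg.Lib.Block2 Cfsg.Lib.Char Cfsg.Lib.Amalg in
theorem block_le {M : Ideal AlgInt} [M.IsMaximal] (hM : IsPModular p M) (n : ℕ) :
    ∀ {G : Type u} [Group G] [Finite G] [Group.IsSolvable G] {B : Set (IrrCharacter G)}, Nat.card G = n → IsPBlock M B →
    B.ncard ≤ 3 ^ (blockDefect p B - 1) * p ^ blockDefect p B := by
  induction n using Nat.strong_induction_on with
  | _ n ih =>
  intro G _ _ _ B hn hB
  letI := Fintype.ofFinite G
  obtain ⟨χ, hχ⟩ := hB.nonempty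
  obtain ⟨θ, ho⟩ := exists_lying_under' (pPrimeCore p G).subtype χ
  have hb := isPBlock_singleton_of_not_dvd hM (Core.not_dvd_card_pPrimeCore Fact.out) θ
  have h0 := ho.eB_mul_EB hB.isBlockUnion hb.isBlockUnion hχ rfl
  obtain ⟨T, B', fr, h1, hi⟩ := exists_fr hB hb h0
  by_cases hT : T = ⊤
  · have hc := Core.isPConstrained_of_isPSolvable (Core.isPSolvable_of_isSolvable (G := G) hp.out)
    have hf : IsFixed ⊤ (EB M {θ}) := hT ▸ fr.fixed
    have e := (blk_top_eB hB).eq_of_mul_ne_zero ((blk_EB hb).top_of_constrained hM hc hf) h0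
    obtain ⟨S, hS⟩ := exists_syl p (⊤ : Subgroup G)
    have d := ((isDefectGroup_iff_defG_top hM hB).2 (e ▸ (blk_EB hb).defG_of_constrained hM hc hf hS)).factorization_card hM hB
    rw [hS.card_eq_pow, hp.out.factorization_pow, Finsupp.single_eq_same, card_top] at d
    have f := factorization_card_add_index p (pPrimeCore p G)
    rw [Nat.factorization_eq_zero_of_not_dvd (Core.not_dvd_card_pPrimeCore hp.out), zero_add] at f
    rw [← d, ← f]
    refine le_trans ?_ (k_core _ (G ⧸ pPrimeCore p G) (Nat.lt_succ_self _) Core.pPrimeCore_quotient_pPrimeCore)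
    refine le_trans (Set.ncard_le_ncard fun ψ hψ => ?_) (gallagher_le (Clifford.irrOn_extendByZero.2 θ.2) fun g _ x hx => ?_)
    · obtain ⟨_, rfl, t⟩ := (mem_iff_over_of_eq hB hb e ψ).1 hψ
      exact over_subtype_iff_dot.1 t
    · rw [Clifford.extendByZero_of_mem _ hx, Clifford.extendByZero_of_mem _ (Normal.conj_mem inferInstance x hx g)]
      exact irrPerm_eq_self_iff.1 (irrPerm_mem_of_cjA hb.isBlockUnion (hf.cjA_eq trivial) rfl) ⟨x, hx⟩
  rw [fr.blockDefect_eq hM h1 hi]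
  refine le_trans ?_ (ih _ (hn ▸ card_lt_of_ne_top hT) rfl hi.1)
  choose! f f1 f2 using fun χ => (fr.mem_iff_indFun hb h1 hi χ).1
  exact Set.ncard_le_ncard_of_injOn f f1 fun a ha b hb e => Subtype.ext (by rw [f2 a ha, f2 b hb, e])

end Cfsg.Lib.Hall.KR
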