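import Mathlib

/-! # Graded Leibniz rings: the theorems of Kreknin and Kostrikin -/

set_option autoImplicit false

namespace Cfsg.Lib.Hall.Lie

variable {M : Type*} [AddCommGroup M] {ι : Type*} [AddCommGroup ι]

/-- the (right) Leibniz identity -/
def Leib (B : M →+ M →+ M) : Prop := ∀ x y z, B x (B y z) = B (B x y) z - B (B x z) y

/-- bracket of graded families -/
def br (B : M →+ M →+ M) (T U : ι → AddSubgroup M) : ι → AddSubgroup M := fun i =>
  AddSubgroup.closure {z | ∃ j k, j + k = i ∧ ∃ x ∈ T j, ∃ y ∈ U k, z = B x y}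

variable {B : M →+ M →+ M} {S T U V W : ι → AddSubgroup M}

theorem mem_br {j k : ι} {x y : M} (hx : x ∈ T j) (hy : y ∈ U k) : B x y ∈ br B T U (j + k) :=
  AddSubgroup.subset_closure ⟨j, k, rfl, x, hx, y, hy, rfl⟩

theorem br_le : br B T U ≤ V ↔ ∀ j k, ∀ x ∈ T j, ∀ y ∈ U k, B x y ∈ V (j + k) :=
  ⟨fun h _ _ _ hx _ hy => h _ (mem_br hx hy), fun h i => (AddSubgroup.closure_le _).2 (by
    rintro _ ⟨j, k, rfl, x, hx, y, hy, rfl⟩; exact h j k x hx y hy)⟩

theorem br_mono (h1 : T ≤ V) (h2 : U ≤ W) : br B T U ≤ br B V W :=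
  br_le.2 fun j k _ hx _ hy => mem_br (h1 j hx) (h2 k hy)

theorem br_br_le : br B (br B T U) V ≤ W ↔
    ∀ i j k, ∀ x ∈ T i, ∀ y ∈ U j, ∀ z ∈ V k, B (B x y) z ∈ W (i + j + k) := by
  refine ⟨fun h i j k x hx y hy z hz => br_le.1 h _ _ _ (mem_br hx hy) z hz, fun h => br_le.2 ?_⟩
  intro m k u hu z hz
  have : br B T U ≤ fun m => (W (m + k)).comap (B.flip z) :=
    br_le.2 fun i j x hx y hy => h i j k x hx y hy z hz
  exact this m hu

/-- a bracket of invariant families is invariant -/
theorem br_inv (hB : Leib B) (h1 : br B T S ≤ T) (h2 : br B U S ≤ U) : br B (br B T U) S ≤ br B T U := by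
  refine br_br_le.2 fun i j k x hx y hy z hz => ?_
  rw [← sub_add_cancel (B (B x y) z) (B (B x z) y), ← hB]
  refine add_mem ?_ ?_
  · rw [add_assoc]; exact mem_br hx (br_le.1 h2 _ _ _ hy _ hz)
  · rw [add_right_comm]; exact mem_br (br_le.1 h1 _ _ _ hx _ hz) hy

/-- iterated bracket with `S` -/
def it (B : M →+ M →+ M) (S T : ι → AddSubgroup M) (k : ℕ) : ι → AddSubgroup M :=
  (fun X => br B X S)^[k] T

theorem it_succ (k : ℕ) : it B S T (k + 1) = br B (it B S T k) S := Function.iterate_succ_apply' _ _ _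

theorem it_succ' (k : ℕ) : it B S T (k + 1) = it B S (br B T S) k := rfl

theorem it_add (k l : ℕ) : it B S T (k + l) = it B S (it B S T l) k := Function.iterate_add_apply _ _ _ _

theorem it_mono (h : T ≤ U) (k : ℕ) : it B S T k ≤ it B S U k := by
  induction k with
  | zero => exact h
  | succ k ih => rw [it_succ, it_succ]; exact br_mono ih le_rfl

theorem it_le (h : br B T S ≤ T) (k : ℕ) : it B S T k ≤ T := by
  induction k with
  | zero => exact le_rfl
  | succ k ih => rw [it_succ]; exact (br_mono ih le_rfl).trans h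

theorem it_inv (hB : Leib B) (h1 : br B T S ≤ T) (h2 : br B U S ≤ U) (k : ℕ) :
    br B (it B U T k) S ≤ it B U T k := by
  induction k with
  | zero => exact h1
  | succ k ih => rw [it_succ]; exact br_inv hB ih h2

/-- left-normed bracket with a list of homogeneous elements -/
def lb (B : M →+ M →+ M) : List (ι × M) → M →+ M
  | [] => AddMonoidHom.id M
  | y :: l => (lb B l).comp (B.flip y.2)

/-- all entries are homogeneous -/
def Hom (S : ι → AddSubgroup M) (l : List (ι × M)) : Prop := ∀ y ∈ l, y.2 ∈ S y.1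

/-- total degree -/
def dg (l : List (ι × M)) : ι := (l.map Prod.fst).sum

theorem lb_cons (y : ι × M) (l : List (ι × M)) (x : M) : lb B (y :: l) x = lb B l (B x y.2) := rfl

theorem dg_cons (y : ι × M) (l : List (ι × M)) : dg (y :: l) = y.1 + dg l := by simp [dg]

theorem Hom.head {y : ι × M} {l : List (ι × M)} (h : Hom S (y :: l)) : y.2 ∈ S y.1 := h y (by simp)

theorem Hom.tail {y : ι × M} {l : List (ι × M)} (h : Hom S (y :: l)) : Hom S l :=
  fun z hz => h z (by simp [hz])

theorem lb_mem (h : br B T S ≤ T) {l : List (ι × M)} (hl : Hom S l) {a : ι} {x : M} (hx : x ∈ T a) :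
    lb B l x ∈ T (a + dg l) := by
  induction l generalizing a x with
  | nil => simpa [dg, lb] using hx
  | cons y l ih => rw [lb_cons, dg_cons, ← add_assoc]; exact ih hl.tail (br_le.1 h _ _ _ hx _ hl.head)

theorem it_le_of_lb (k : ℕ) (h : ∀ l : List (ι × M), l.length = k → Hom S l → ∀ a, ∀ x ∈ T a,
    lb B l x ∈ V (a + dg l)) : it B S T k ≤ V := by
  induction k generalizing T with
  | zero => exact fun a x hx => by simpa [dg, lb] using h [] rfl (fun _ => by simp) a x hx
  | succ k ih =>
    rw [it_succ']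
    refine ih fun l hl hS a x hx => ?_
    have : br B T S ≤ fun m => (V (m + dg l)).comap (lb B l) := br_le.2 fun i j x hx y hy => by
      have := h ((j, y) :: l) (by simp [hl]) (fun z hz => by
        rcases List.mem_cons.1 hz with rfl | hz
        exacts [hy, hS z hz]) i x hx
      rwa [dg_cons, ← add_assoc] at this
    exact this a hx

theorem lb_move (hB : Leib B) (hS : br B S S ≤ S) (h : br B T S ≤ T) {l : List (ι × M)} (hl : Hom S l)
    {y : ι × M} (hy : y.2 ∈ S y.1) {a : ι} {x : M} (hx : x ∈ T a) :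
    lb B (y :: l) x - B (lb B l x) y.2 ∈ br B T (br B S S) (a + dg (y :: l)) := by
  induction l generalizing a x with
  | nil => simp [lb]
  | cons z l ih =>
    have h1 := ih hl.tail (br_le.1 h _ _ _ hx _ hl.head)
    have h2 := lb_mem (br_inv hB h (br_mono hS le_rfl)) hl.tail (mem_br hx (mem_br hy hl.head))
    rw [hB, map_sub] at h2
    have h3 := add_mem h2 (show _ ∈ br B T (br B S S) (a + (y.1 + z.1) + dg l) by
      convert h1 using 2; simp only [dg_cons]; abel)
    simp only [lb_cons, dg_cons] at h3 ⊢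
    convert h3 using 2
    · abel
    · abel

/-- subset sums of the degrees -/
def sums [DecidableEq ι] : List (ι × M) → Finset ι
  | [] => {0}
  | y :: l => open Pointwise in {0, y.1} + sums l

theorem lb_mem_of_sums [DecidableEq ι] (hB : Leib B) (hS : br B S S ≤ S) (h : br B T S ≤ T) (h0 : T 0 = ⊥)
    {l : List (ι × M)} (hl : Hom S l) {a : ι} {x : M} (hx : x ∈ T a) (ha : -a ∈ sums l) :
    lb B l x ∈ br B T (br B S S) (a + dg l) := by
  induction l generalizing a x with
  | nil =>
    rw [sums, Finset.mem_singleton, neg_eq_zero] at ha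
    rw [ha, h0, AddSubgroup.mem_bot] at hx
    rw [hx, map_zero]; exact zero_mem _
  | cons y l ih =>
    obtain ⟨u, hu, v, hv, e⟩ := Finset.mem_add.1 ha
    rcases Finset.mem_insert.1 hu with rfl | hu
    · rw [← sub_add_cancel (lb B (y :: l) x) (B (lb B l x) y.2)]
      refine add_mem (lb_move hB hS h hl.tail hl.head hx) ?_
      rw [dg_cons, add_comm y.1, ← add_assoc]
      exact br_le.1 (br_inv hB h (br_mono hS le_rfl)) _ _ _ (ih hl.tail hx (by rwa [← e, zero_add])) _ hl.head
    · rw [lb_cons, dg_cons, ← add_assoc]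
      refine ih hl.tail (br_le.1 h _ _ _ hx _ hl.head) ?_
      rwa [neg_add, ← e, Finset.mem_singleton.1 hu, add_right_comm, add_neg_cancel, zero_add]

theorem lb_eq_zero {l : List (ι × M)} {y : ι × M} (hy : y ∈ l) (h : y.2 = 0) (x : M) : lb B l x = 0 := by
  induction l generalizing x with
  | nil => simp at hy
  | cons z l ih =>
    rcases List.mem_cons.1 hy with rfl | hy
    · rw [lb_cons, h, map_zero, map_zero]
    · exact ih hy _

section prime

variable {p : ℕ} [hp : Fact p.Prime] {S T : ZMod p → AddSubgroup M}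

theorem card_sums {l : List (ZMod p × M)} (h : ∀ y ∈ l, y.1 ≠ 0) : min p (l.length + 1) ≤ (sums l).card := by
  induction l with
  | nil => simp [sums]
  | cons y l ih =>
    have h1 := ih fun z hz => h z (by simp [hz])
    have h0 : 0 < min p (l.length + 1) := lt_min hp.out.pos (Nat.succ_pos _)
    have h2 := ZMod.cauchy_davenport hp.out (s := {0, y.1}) (t := sums l) (by simp)
      (Finset.card_pos.1 (h0.trans_le h1))
    rw [Finset.card_pair (h y (by simp)).symm] at h2
    refine le_trans ?_ h2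
    simp only [List.length_cons]
    omega

theorem it_le_br (hB : Leib B) (hS : br B S S ≤ S) (h0 : S 0 = ⊥) (h : br B T S ≤ T) (hT : T ≤ S) :
    it B S T (p - 1) ≤ br B T (br B S S) := by
  refine it_le_of_lb _ fun l hl hS' a x hx => ?_
  by_cases h1 : ∀ y ∈ l, y.1 ≠ 0
  · refine lb_mem_of_sums hB hS h (eq_bot_iff.2 (h0 ▸ hT 0)) hS' hx ?_
    have h2 := card_sums h1
    rw [hl, Nat.sub_add_cancel hp.out.pos, min_self] at h2
    rw [Finset.eq_univ_of_card (sums l) (le_antisymm (Finset.card_le_univ _) (by rwa [ZMod.card p]))]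
    exact Finset.mem_univ _
  · push Not at h1
    obtain ⟨y, hy, e⟩ := h1
    have := hS' y hy
    rw [e, h0, AddSubgroup.mem_bot] at this
    rw [lb_eq_zero hy this]; exact zero_mem _

/-- derived series of a family -/
def der (B : M →+ M →+ M) (S : ι → AddSubgroup M) (k : ℕ) : ι → AddSubgroup M :=
  (fun X => br B X X)^[k] S

theorem der_closed {S : ι → AddSubgroup M} (hS : br B S S ≤ S) (k : ℕ) :
    der B S k ≤ S ∧ br B (der B S k) (der B S k) ≤ der B S k := by
  induction k with
  | zero => exact ⟨le_rfl, hS⟩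
  | succ k ih =>
    rw [der, Function.iterate_succ_apply']
    exact ⟨ih.2.trans ih.1, br_mono ih.2 ih.2⟩

/-- **Kostrikin's bound** -/
theorem it_eq_bot_of_der (hB : Leib B) (s : ℕ) (hS : br B S S ≤ S) (h0 : S 0 = ⊥) (hd : der B S s = ⊥) :
    it B S S (∑ i ∈ Finset.range s, (p - 1) ^ i) = ⊥ := by
  induction s generalizing S with
  | zero => exact hd
  | succ s ih =>
    have h1 := ih (br_mono hS hS) (eq_bot_iff.2 (h0 ▸ hS 0)) hd
    have h2 : ∀ k, it B S S ((p - 1) * k + 1) ≤ it B (br B S S) (br B S S) k := by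
      intro k
      induction k with
      | zero => exact le_rfl
      | succ k ihk =>
        rw [mul_add, mul_one, add_comm _ (p - 1), add_assoc, it_add, it_succ (S := br B S S)]
        exact (it_mono ihk _).trans (it_le_br hB hS h0 (it_inv hB (br_mono hS le_rfl) (br_mono hS le_rfl) k)
          ((it_le (br_mono hS hS) k).trans hS))
    rw [Finset.sum_range_succ', pow_zero, eq_bot_iff, ← h1]
    simpa only [pow_succ', Finset.mul_sum] using h2 (∑ i ∈ Finset.range s, (p - 1) ^ i)

/-- the subring generated by the components of degree at least `s` -/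
inductive Gen (B : M →+ M →+ M) (S : ZMod p → AddSubgroup M) (s : ℕ) : ZMod p → M → Prop
  | base {i x} : s ≤ i.val → x ∈ S i → Gen B S s i x
  | br {i j x y} : Gen B S s i x → Gen B S s j y → Gen B S s (i + j) (B x y)
  | zero {i} : Gen B S s i 0
  | sub {i x y} : Gen B S s i x → Gen B S s i y → Gen B S s i (x - y)

/-- `Gen` as a family -/
def gen (B : M →+ M →+ M) (S : ZMod p → AddSubgroup M) (s : ℕ) (i : ZMod p) : AddSubgroup M :=
  AddSubgroup.ofSub {x | Gen B S s i x} ⟨0, .zero⟩ fun _ hx _ hy => sub_eq_add_neg (G := M) _ _ ▸ Gen.sub hx hy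

theorem gen_le {s : ℕ} {V : ZMod p → AddSubgroup M} (hV : br B V V ≤ V) (h : ∀ i, s ≤ i.val → S i ≤ V i) :
    gen B S s ≤ V := by
  intro i x (hx : Gen B S s i x)
  induction hx with
  | base h1 h2 => exact h _ h1 h2
  | br _ _ h1 h2 => exact br_le.1 hV _ _ _ h1 _ h2
  | zero => exact zero_mem _
  | sub _ _ h1 h2 => exact sub_mem h1 h2

theorem gen_closed (s : ℕ) : br B (gen B S s) (gen B S s) ≤ gen B S s :=
  br_le.2 fun _ _ _ hx _ hy => Gen.br hx hy

theorem gen_step (hB : Leib B) (hS : br B S S ≤ S) (h0 : S 0 = ⊥) {s : ℕ} {k : ZMod p} {v : M}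
    (hv : Gen B S s k v) {j : ZMod p} {u : M} (hu : u ∈ S j) (h : (j + k).val = s) :
    Gen B S (s + 1) (j + k) (B u v) := by
  have hle : ∀ {i x}, Gen B S s i x → x ∈ S i := fun h => gen_le hS (fun _ _ => le_rfl) _ h
  induction hv generalizing j u with
  | @base i x h1 h2 =>
    by_cases hj : j = 0
    · rw [hj, h0, AddSubgroup.mem_bot] at hu
      rw [hu, map_zero]; exact .zero
    have h3 := ZMod.val_add j i
    have h4 := ZMod.val_lt j
    have h5 := ZMod.val_lt i
    have h6 : 0 < j.val := ZMod.val_pos.2 hj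
    rcases Nat.lt_or_ge (j.val + i.val) p with h7 | h7
    · rw [Nat.mod_eq_of_lt h7] at h3; omega
    · rw [Nat.mod_eq_sub_mod h7, Nat.mod_eq_of_lt (by omega)] at h3
      rcases (show i.val = s ∨ s < i.val by omega) with h8 | h8
      · omega
      · exact .br (.base (by omega) hu) (.base h8 h2)
  | @br a b x y hx hy ih1 ih2 =>
    rw [hB]
    refine .sub ?_ ?_
    · rw [← add_assoc] at h ⊢; exact ih2 (br_le.1 hS _ _ _ hu _ (hle hx)) h
    · rw [add_comm a, ← add_assoc] at h ⊢; exact ih1 (br_le.1 hS _ _ _ hu _ (hle hy)) h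
  | zero => rw [map_zero]; exact .zero
  | sub _ _ ih1 ih2 => rw [map_sub]; exact .sub (ih1 hu h) (ih2 hu h)

/-- **Kreknin's theorem** -/
theorem der_le_gen (hB : Leib B) (s : ℕ) (hS : br B S S ≤ S) (h0 : S 0 = ⊥) :
    der B S (2 ^ s - 1) ≤ gen B S (s + 1) := by
  induction s generalizing S with
  | zero =>
    intro i x hx
    by_cases hi : i = 0
    · rw [hi, pow_zero, tsub_self, der, Function.iterate_zero, id, h0, AddSubgroup.mem_bot] at hx
      rw [hx]; exact zero_mem _
    · exact Gen.base (ZMod.val_pos.2 hi) hx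
  | succ s ih =>
    have h1 := der_closed hS (2 ^ s)
    have h2 := ih h1.2 (eq_bot_iff.2 (h0 ▸ h1.1 0))
    have h3 : 2 ^ (s + 1) - 1 = 2 ^ s - 1 + 2 ^ s := by have := Nat.two_pow_pos s; omega
    rw [h3, der, Function.iterate_add_apply]
    refine h2.trans (gen_le (gen_closed _) fun i hi => ?_)
    rcases hi.eq_or_lt with hi | hi
    · have h4 : der B S (2 ^ s) = br B (der B S (2 ^ s - 1)) (der B S (2 ^ s - 1)) := by
        conv_lhs => rw [← Nat.sub_add_cancel (Nat.two_pow_pos s), der, Function.iterate_succ_apply']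
        rfl
      rw [h4]
      refine (AddSubgroup.closure_le _).2 ?_
      rintro _ ⟨j, k, rfl, x, hx, y, hy, rfl⟩
      exact gen_step hB hS h0 (ih hS h0 k hy) ((der_closed hS _).1 j hx) hi.symm
    · exact fun x hx => Gen.base hi (h1.1 i hx)

/-- the Higman–Kreknin–Kostrikin bound -/
def hkk (p : ℕ) : ℕ := ∑ i ∈ Finset.range (2 ^ (p - 1) - 1), (p - 1) ^ i

theorem it_hkk (hB : Leib B) (hS : br B S S ≤ S) (h0 : S 0 = ⊥) : it B S S (hkk p) = ⊥ := by
  refine it_eq_bot_of_der hB _ hS h0 (eq_bot_iff.2 ((der_le_gen hB _ hS h0).trans (gen_le ?_ fun i hi => ?_)))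
  · exact br_le.2 fun _ _ x hx _ _ => by rw [AddSubgroup.mem_bot.1 hx, map_zero]; exact zero_mem _
  · have := ZMod.val_lt i
    omega

end prime

theorem it_three {S : ZMod 3 → AddSubgroup M} (hB : Leib B) (hS : br B S S ≤ S) (h0 : S 0 = ⊥) :
    it B S S 2 = ⊥ := by
  have h1 : ∀ i j, ∀ x ∈ S i, ∀ y ∈ S j, i + j = 0 → B x y = 0 := fun i j x hx y hy e => by
    have := br_le.1 hS i j x hx y hy
    rwa [e, h0, AddSubgroup.mem_bot] at this
  have h2 : ∀ x ∈ S 0, x = 0 := fun x hx => by rwa [h0, AddSubgroup.mem_bot] at hx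
  refine eq_bot_iff.2 (br_br_le.2 fun i j k x hx y hy z hz => AddSubgroup.mem_bot.2 ?_)
  have : ∀ i j k : ZMod 3, i = 0 ∨ j = 0 ∨ k = 0 ∨ i + j = 0 ∨ i + j + k = 0 ∨ (i + k = 0 ∧ j + k = 0) := by
    decide
  rcases this i j k with rfl | rfl | rfl | e | e | ⟨e, e'⟩
  · simp [h2 x hx]
  · simp [h2 y hy]
  · simp [h2 z hz]
  · simp [h1 i j x hx y hy e]
  · exact h1 _ _ _ (br_le.1 hS _ _ _ hx _ hy) _ hz e
  · have := hB x y z
    rw [h1 _ _ _ hy _ hz e', h1 _ _ _ hx _ hz e] at this
    simpa using this.symm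

/-! ### Extension of scalars -/

universe u

/-- `c` bounds the class of graded Leibniz rings with trivial zero component -/
def Bound (p c : ℕ) : Prop := ∀ (M : Type u) [AddCommGroup M] (B : M →+ M →+ M) (S : ZMod p → AddSubgroup M),
  Leib B → br B S S ≤ S → S 0 = ⊥ → it B S S c = ⊥

theorem bound_hkk {p : ℕ} [Fact p.Prime] : Bound p (hkk p) := fun _ _ _ _ => it_hkk

theorem bound_three : Bound 3 2 := fun _ _ _ _ => it_three

section ext

variable {L : Type u} [AddCommGroup L] {p : ℕ} [hp : Fact p.Prime]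

/-- convolution bracket -/
def cv (p : ℕ) [Fact p.Prime] (B : L →+ L →+ L) : (ZMod p → L) →+ (ZMod p → L) →+ (ZMod p → L) :=
  AddMonoidHom.mk' (fun f => AddMonoidHom.mk' (fun g k => ∑ j, B (f j) (g (k - j))) fun g h => by
    ext k; simp [Finset.sum_add_distrib]) fun f g => by ext h k; simp [Finset.sum_add_distrib]

variable {B : L →+ L →+ L}

theorem cv_apply (f g : ZMod p → L) (k : ZMod p) : cv p B f g k = ∑ j, B (f j) (g (k - j)) := rfl

theorem leib_cv (hB : Leib B) : Leib (cv p B) := by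
  intro f g h
  ext k
  simp only [cv_apply, Pi.sub_apply, map_sum, AddMonoidHom.finsetSum_apply, hB _ _ _, Finset.sum_sub_distrib]
  congr 1
  · rw [Finset.sum_comm (f := fun x c => B (B (f c) (g (x - c))) (h (k - x)))]
    refine Finset.sum_congr rfl fun i _ => Fintype.sum_equiv (Equiv.addRight i) _ _ fun j => ?_
    simp [sub_sub, add_comm]
  · rw [Finset.sum_comm (f := fun x c => B (B (f c) (h (x - c))) (g (k - x)))]
    refine Finset.sum_congr rfl fun i _ => Fintype.sum_equiv (Equiv.subLeft k) _ _ fun j => ?_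
    simp [sub_right_comm]

/-- lower central series -/
def lcs (B : L →+ L →+ L) : ℕ → AddSubgroup L
  | 0 => ⊤
  | k + 1 => AddSubgroup.closure {z | ∃ x ∈ lcs B k, ∃ y, z = B x y}

/-- the embedding of `L` -/
def emb (p : ℕ) [Fact p.Prime] : L →+ (ZMod p → L) :=
  AddMonoidHom.mk' (fun x k => (if k = 0 then p • x else 0) - x) fun x y => by
    ext k; by_cases h : k = 0 <;> simp [h]; all_goals abel

theorem emb_apply (x : L) (k : ZMod p) : emb p x k = (if k = 0 then p • x else 0) - x := rfl

theorem cv_emb (x y : L) : cv p B (emb p x) (emb p y) = p • emb p (B x y) := by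
  ext k
  simp only [cv_apply, emb_apply, map_sub, AddMonoidHom.sub_apply, Finset.sum_sub_distrib, Pi.smul_apply,
    apply_ite B, apply_ite (B _), map_zero, map_nsmul, ite_apply, AddMonoidHom.zero_apply, sub_eq_zero,
    AddMonoidHom.nsmul_apply, DFunLike.ite_apply]
  by_cases h : k = 0 <;> simp [h, smul_sub, ZMod.card]

theorem smul_eq_zero_of_lcs {c m : ℕ} (hc : Bound.{u} p c) (hB : Leib B) (a : AddMonoid.End L)
    (ha : a ^ p = 1) (haB : ∀ x y, a (B x y) = B (a x) (a y)) (hm : ∀ x, a x = x → m • x = 0)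
    {x : L} (hx : x ∈ lcs B c) : (m * p) ^ (c + 1) • x = 0 := by
  let S : ZMod p → AddSubgroup (ZMod p → L) := fun i =>
    { carrier := {f | ∀ k, a (f k) = f (k + i)}
      add_mem' := fun h1 h2 k => by simp [h1 k, h2 k]
      zero_mem' := fun k => by simp
      neg_mem' := fun h k => by simp [h k] }
  have hS : br (cv p B) S S ≤ S := br_le.2 fun i j f hf g hg k => by
    simp only [cv_apply, map_sum, haB, hf _, hg _]
    refine Fintype.sum_equiv (Equiv.addRight i) _ _ fun l => ?_
    congr 2; simp only [Equiv.coe_addRight]; abel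
  let T : ZMod p → AddSubgroup (ZMod p → L) := fun i => (S i).map (nsmulAddMonoidHom m)
  have hT := hc _ (cv p B) T (leib_cv hB) (br_le.2 (by
    rintro i j _ ⟨f, hf, rfl⟩ _ ⟨g, hg, rfl⟩
    exact ⟨m • cv p B f g, nsmul_mem (br_le.1 hS _ _ _ hf _ hg) m, by simp⟩)) (eq_bot_iff.2 (by
      rintro _ ⟨f, hf, rfl⟩
      exact funext fun k => hm _ (by simpa using hf k)))
  have h1 : ∀ j : ZMod p, a * a ^ j.val = a ^ (j + 1).val := fun j => by
    rw [← pow_succ', ZMod.val_add, ZMod.val_one, ← pow_eq_pow_mod _ ha]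
  have h0 : ∀ x : L, m • emb p x ∈ ⨆ i, T i := fun x => by
    let e : ZMod p → ZMod p → L := fun i k => ∑ j : ZMod p, if k = i * j then (a ^ j.val) x else 0
    have he : ∀ i, e i ∈ S i := fun i k => by
      simp only [e, map_sum, apply_ite a, map_zero]
      refine Fintype.sum_equiv (Equiv.addRight 1) _ _ fun j => ?_
      simp [mul_add, ← h1]
    have h2 : m • ∑ j : ZMod p, (a ^ j.val) x = 0 := hm _ (by
      rw [map_sum]
      exact Fintype.sum_equiv (Equiv.addRight 1) _ _ fun j => by simp [← h1])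
    have h3 : m • emb p x = ∑ i, m • e i := by
      ext k
      have h4 : ∑ i, e i k = emb p x k + ∑ j : ZMod p, (a ^ j.val) x := by
        have h5 : ∀ j : ZMod p, (∑ i : ZMod p, if k = i * j then (a ^ j.val) x else 0) =
            (if j = 0 then emb p x k else 0) + (a ^ j.val) x := fun j => by
          by_cases hj : j = 0
          · subst hj; by_cases hk : k = 0 <;> simp [emb_apply, hk, ZMod.card]
          · simp [← div_eq_iff hj, hj]
        simp only [e]
        rw [Finset.sum_comm]
        simp only [h5, Finset.sum_add_distrib, Finset.sum_ite_eq', Finset.mem_univ, if_true]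
      rw [← Finset.smul_sum, Pi.smul_apply, Pi.smul_apply, Finset.sum_apply, h4, smul_add, h2, add_zero]
    rw [h3]
    exact sum_mem fun i _ => AddSubgroup.mem_iSup_of_mem i ⟨e i, he i, rfl⟩
  have h4 : ∀ k, ∀ x ∈ lcs B k, (m * p) ^ k • m • emb p x ∈ ⨆ i, it (cv p B) T T k i := by
    intro k
    induction k with
    | zero => exact fun x _ => by rw [pow_zero, one_smul]; exact h0 x
    | succ k ih =>
      have h5 : ∀ f ∈ ⨆ i, it (cv p B) T T k i, ∀ g ∈ ⨆ i, T i,
          cv p B f g ∈ ⨆ i, it (cv p B) T T (k + 1) i := by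
        intro f hf g hg
        have : ⨆ i, it (cv p B) T T k i ≤ (⨆ i, it (cv p B) T T (k + 1) i).comap ((cv p B).flip g) :=
          iSup_le fun i f hf => (iSup_le fun j g hg => AddSubgroup.mem_iSup_of_mem (i + j)
            (by rw [it_succ]; exact mem_br hf hg) : ⨆ i, T i ≤ AddSubgroup.comap (cv p B f) _) hg
        exact this hf
      have : lcs B (k + 1) ≤ (⨆ i, it (cv p B) T T (k + 1) i).comap
          ((nsmulAddMonoidHom ((m * p) ^ (k + 1))).comp ((nsmulAddMonoidHom m).comp (emb p))) := by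
        refine (AddSubgroup.closure_le _).2 ?_
        rintro _ ⟨x, hx, y, rfl⟩
        have := h5 _ (ih x hx) _ (h0 y)
        simp only [map_nsmul, AddMonoidHom.nsmul_apply, cv_emb, smul_smul] at this
        simp only [AddSubgroup.coe_comap, Set.mem_preimage, AddMonoidHom.comp_apply, nsmulAddMonoidHom_apply,
          smul_smul, SetLike.mem_coe]
        convert this using 2; ring
      exact fun x hx => this hx
  have h5 := h4 c x hx
  rw [hT] at h5
  simp only [Pi.bot_apply, iSup_bot, AddSubgroup.mem_bot] at h5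
  have h6 := congrFun h5 0
  have h7 := congrFun h5 1
  simp only [Pi.smul_apply, emb_apply, if_true, one_ne_zero, if_false, zero_sub, smul_neg, Pi.zero_apply,
    neg_eq_zero, smul_sub] at h6 h7
  rw [h7, sub_zero, smul_smul, smul_smul] at h6
  rw [← h6]; congr 1; ring

end ext

end Cfsg.Lib.Hall.Lie
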