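import Cfsg.Agent.Lib.Hall.LieA
import Cfsg.Agent.Lib.PGrp.Comm

/-! # The graded Lie ring of the lower central series -/

set_option autoImplicit false

namespace Cfsg.Lib.Hall.Lie

open Subgroup
open scoped commutatorElement DirectSum

universe u

variable {G : Type u} [Group G]

/-- the lower central series (starting with `Γ G 0 = ⊤`) -/
abbrev Γ (G : Type u) [Group G] (n : ℕ) : Subgroup G := (⊤ : Subgroup G).lowerCentralSeries n

theorem comm_mem {i j : ℕ} {x y : G} (hx : x ∈ Γ G i) (hy : y ∈ Γ G j) : ⁅x, y⁆ ∈ Γ G (i + j + 1) :=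
  PGrp.commutator_lcs_lcs ⊤ i j (commutator_mem_commutator hx hy)

theorem comm_mem' {i : ℕ} {x : G} (hx : x ∈ Γ G i) (y : G) : ⁅x, y⁆ ∈ Γ G (i + 1) :=
  commutator_mem_commutator hx (mem_top y)

theorem mem_Γ_zero (y : G) : y ∈ Γ G 0 := mem_top y

theorem Γ_succ_le (n : ℕ) : Γ G (n + 1) ≤ Γ G n := Subgroup.lowerCentralSeries_antitone ⊤ n.le_succ

/-- the factors of the lower central series -/
def Fac (G : Type u) [Group G] (n : ℕ) : Type u := Γ G n ⧸ (Γ G (n + 1)).subgroupOf (Γ G n)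

instance (n : ℕ) : CommGroup (Fac G n) :=
  { QuotientGroup.Quotient.group _ with
    mul_comm := fun a b => by
      obtain ⟨a, rfl⟩ := QuotientGroup.mk_surjective a
      obtain ⟨b, rfl⟩ := QuotientGroup.mk_surjective b
      refine QuotientGroup.eq.2 (mem_subgroupOf.2 ?_)
      convert comm_mem' (inv_mem b.2) (a : G)⁻¹ using 1
      simp only [coe_mul, coe_inv, commutatorElement_def]; group }

/-- the associated graded ring -/
def Gr (G : Type u) [Group G] : Type u := ⨁ n, Additive (Fac G n)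

noncomputable instance : AddCommGroup (Gr G) := inferInstanceAs (AddCommGroup (⨁ n, Additive (Fac G n)))

/-- the inclusion of a homogeneous component -/
noncomputable def Gr.of (n : ℕ) : Additive (Fac G n) →+ Gr G := DirectSum.of (fun n => Additive (Fac G n)) n

/-- the quotient map -/
def Fac.mk (n : ℕ) : Γ G n →* Fac G n := QuotientGroup.mk' _

open Classical in
/-- the image of `g` in degree `n` -/
noncomputable def ι (n : ℕ) (g : G) : Gr G :=
  if h : g ∈ Γ G n then Gr.of n (Additive.ofMul (Fac.mk n ⟨g, h⟩)) else 0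

variable {n : ℕ} {g h : G}

theorem ι_mul (hg : g ∈ Γ G n) (hh : h ∈ Γ G n) : ι n (g * h) = ι n g + ι n h := by
  rw [ι, ι, ι, dif_pos hg, dif_pos hh, dif_pos (mul_mem hg hh), ← map_add]; rfl

theorem ι_eq_zero (hg : g ∈ Γ G n) : ι n g = 0 ↔ g ∈ Γ G (n + 1) := by
  have h1 : Function.Injective (Gr.of (G := G) n) :=
    DirectSum.of_injective (β := fun n => Additive (Fac G n)) n
  rw [ι, dif_pos hg, ← map_zero (Gr.of n), h1.eq_iff, ofMul_eq_zero]
  exact QuotientGroup.eq_one_iff _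

theorem ι_one : ι n (1 : G) = 0 := (ι_eq_zero (one_mem _)).2 (one_mem _)

theorem ι_inv (hg : g ∈ Γ G n) : ι n g⁻¹ = -ι n g := by
  rw [eq_neg_iff_add_eq_zero, ← ι_mul (inv_mem hg) hg, inv_mul_cancel, ι_one]

theorem ι_pow (hg : g ∈ Γ G n) (k : ℕ) : ι n (g ^ k) = k • ι n g := by
  induction k with
  | zero => simp [ι_one]
  | succ k ih => rw [pow_succ, ι_mul (pow_mem hg k) hg, ih, succ_nsmul]

theorem ι_conj (hg : g ∈ Γ G n) (h : G) : ι n (h * g * h⁻¹) = ι n g := by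
  have h1 := comm_mem' hg h
  rw [show h * g * h⁻¹ = ⁅g, h⁆⁻¹ * g by rw [commutatorElement_def]; group,
    ι_mul (Γ_succ_le n (inv_mem h1)) hg, (ι_eq_zero (Γ_succ_le n (inv_mem h1))).2 (inv_mem h1), zero_add]

theorem gr_ind {K : AddSubgroup (Gr G)} (h : ∀ n, ∀ g ∈ Γ G n, ι n g ∈ K) (x : Gr G) : x ∈ K := by
  refine DirectSum.induction_on (motive := fun x : ⨁ n, Additive (Fac G n) => (show Gr G from x) ∈ K) x
    (zero_mem K) (fun n x => ?_) fun x y hx hy => add_mem hx hy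
  obtain ⟨⟨g, hg⟩, rfl⟩ := QuotientGroup.mk_surjective (Additive.toMul x : Fac G n)
  have := h n g hg
  rwa [ι, dif_pos hg] at this

theorem gr_ext {A : Type*} [AddCommGroup A] {f f' : Gr G →+ A} (h : ∀ n, ∀ g ∈ Γ G n, f (ι n g) = f' (ι n g)) :
    f = f' := AddMonoidHom.ext fun x => gr_ind (K := f.eqLocus f') h x

theorem exists_lift {A : Type*} [AddCommGroup A] (f : ℕ → G → A)
    (h1 : ∀ n, ∀ g ∈ Γ G n, ∀ h ∈ Γ G n, f n (g * h) = f n g + f n h)
    (h2 : ∀ n, ∀ g ∈ Γ G (n + 1), f n g = 0) : ∃ F : Gr G →+ A, ∀ n, ∀ g ∈ Γ G n, F (ι n g) = f n g := by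
  let φ : ∀ n, Fac G n →* Multiplicative A := fun n => QuotientGroup.lift _
    (MonoidHom.mk' (fun g : Γ G n => Multiplicative.ofAdd (f n g)) fun a b => h1 n a a.2 b b.2)
    fun g hg => h2 n g hg
  refine ⟨DirectSum.toAddMonoid fun n => MonoidHom.toAdditiveLeft (φ n), fun n g hg => ?_⟩
  rw [ι, dif_pos hg]
  exact DirectSum.toAddMonoid_of _ _ _

theorem exists_bracket (G : Type u) [Group G] : ∃ B : Gr G →+ Gr G →+ Gr G,
    ∀ i j, ∀ g ∈ Γ G i, ∀ h ∈ Γ G j, B (ι i g) (ι j h) = ι (i + j + 1) ⁅g, h⁆ := by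
  have h1 : ∀ i (g : G), ∃ F : Gr G →+ Gr G, g ∈ Γ G i → ∀ j, ∀ h ∈ Γ G j,
      F (ι j h) = ι (i + j + 1) ⁅g, h⁆ := by
    intro i g
    by_cases hg : g ∈ Γ G i
    · refine (exists_lift (fun j h => ι (i + j + 1) ⁅g, h⁆) (fun j h hh k hk => ?_) fun j h hh => ?_).imp
        fun F hF _ => hF
      · rw [← ι_conj (comm_mem hg hk) h, ← ι_mul (comm_mem hg hh) (Normal.conj_mem inferInstance _
          (comm_mem hg hk) h)]
        congr 1; simp only [commutatorElement_def]; group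
      · exact (ι_eq_zero (comm_mem hg (Γ_succ_le j hh))).2 (comm_mem (j := j + 1) hg hh)
    · exact ⟨0, fun e => absurd e hg⟩
  choose F hF using h1
  obtain ⟨B, hB⟩ := exists_lift F (fun i g hg k hk => gr_ext fun j h hh => by
      rw [AddMonoidHom.add_apply, hF i _ (mul_mem hg hk) j h hh, hF i g hg j h hh, hF i k hk j h hh, add_comm (ι _ _),
        ← ι_conj (comm_mem hk hh) g, ← ι_mul (Normal.conj_mem inferInstance _ (comm_mem hk hh) g) (comm_mem hg hh)]
      congr 1; simp only [commutatorElement_def]; group)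
    fun i g hg => gr_ext fun j h hh => by
      rw [hF i g (Γ_succ_le i hg) j h hh, AddMonoidHom.zero_apply, ι_eq_zero (comm_mem (Γ_succ_le i hg) hh),
        show i + j + 1 + 1 = i + 1 + j + 1 by ring]
      exact comm_mem hg hh
  exact ⟨B, fun i j g hg h hh => by rw [hB i g hg, hF i g hg j h hh]⟩

/-- the bracket -/
noncomputable def bk (G : Type u) [Group G] : Gr G →+ Gr G →+ Gr G := (exists_bracket G).choose

theorem bk_ι {i j : ℕ} (hg : g ∈ Γ G i) (hh : h ∈ Γ G j) : bk G (ι i g) (ι j h) = ι (i + j + 1) ⁅g, h⁆ :=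
  (exists_bracket G).choose_spec i j g hg h hh

theorem bk_anti (x y : Gr G) : bk G x y = -bk G y x := by
  have : bk G = -(bk G).flip := gr_ext fun i g hg => gr_ext fun j h hh => by
    simp only [AddMonoidHom.neg_apply, AddMonoidHom.flip_apply]
    rw [bk_ι hg hh, bk_ι hh hg, ← ι_inv (comm_mem hh hg), commutatorElement_inv, add_comm j]
  exact DFunLike.congr_fun (DFunLike.congr_fun this x) y

theorem leib_bk : Leib (bk G) := by
  intro x y z
  refine gr_ind (K := AddMonoidHom.eqLocus ((bk G).flip (bk G y z))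
    (((bk G).flip z).comp ((bk G).flip y) - ((bk G).flip y).comp ((bk G).flip z))) (fun i a ha => ?_) x
  refine gr_ind (K := AddMonoidHom.eqLocus ((bk G (ι i a)).comp ((bk G).flip z))
    (((bk G).flip z).comp (bk G (ι i a)) - bk G (bk G (ι i a) z))) (fun j b hb => ?_) y
  refine gr_ind (K := AddMonoidHom.eqLocus ((bk G (ι i a)).comp (bk G (ι j b)))
    (bk G (bk G (ι i a) (ι j b)) - ((bk G).flip (ι j b)).comp (bk G (ι i a)))) (fun k c hc => ?_) z
  change bk G _ (bk G _ _) = bk G (bk G _ _) _ - bk G (bk G _ _) _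
  have c1 := Normal.conj_mem inferInstance _ hc b
  have c2 := Normal.conj_mem inferInstance _ ha c
  have c3 := Normal.conj_mem inferInstance _ hb a
  have e1 := bk_ι (comm_mem ha hb) c1
  have e2 := bk_ι (comm_mem hb hc) c2
  have e3 := bk_ι (comm_mem hc ha) c3
  have m1 := comm_mem (comm_mem ha hb) c1
  have m2 := comm_mem (comm_mem hb hc) c2
  have m3 := comm_mem (comm_mem hc ha) c3
  rw [show j + k + 1 + i + 1 = i + j + 1 + k + 1 by ring] at e2 m2
  rw [show k + i + 1 + j + 1 = i + j + 1 + k + 1 by ring] at e3 m3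
  rw [ι_conj hc, ← bk_ι ha hb] at e1
  rw [ι_conj ha, ← bk_ι hb hc] at e2
  rw [ι_conj hb, ← bk_ι hc ha] at e3
  have e : ⁅⁅a, b⁆, b * c * b⁻¹⁆ * ⁅⁅b, c⁆, c * a * c⁻¹⁆ * ⁅⁅c, a⁆, a * b * a⁻¹⁆ = 1 := by
    simp only [commutatorElement_def]; group
  have := congrArg (ι (i + j + 1 + k + 1)) e
  rw [ι_mul (mul_mem m1 m2) m3, ι_mul m1 m2, ι_one, ← e1, ← e2, ← e3, bk_anti (ι k c), map_neg,
    AddMonoidHom.neg_apply, bk_anti (bk G (ι j b) (ι k c))] at this
  rw [← sub_eq_zero, ← neg_eq_zero, ← this]; abel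

theorem map_mem_Γ {H : Type*} [Group H] (α : G →* H) (hg : g ∈ Γ G n) : α g ∈ Γ H n :=
  Subgroup.lowerCentralSeries_mono n le_top ((map_lowerCentralSeries ⊤ α n).le ⟨g, hg, rfl⟩)

theorem exists_map (α : G →* G) : ∃ a : Gr G →+ Gr G, ∀ n, ∀ g ∈ Γ G n, a (ι n g) = ι n (α g) :=
  exists_lift _ (fun n g hg h hh => by rw [map_mul, ι_mul (map_mem_Γ α hg) (map_mem_Γ α hh)])
    fun n g hg => (ι_eq_zero (map_mem_Γ α (Γ_succ_le n hg))).2 (map_mem_Γ α hg)

/-- the induced endomorphism -/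
noncomputable def ind (α : G →* G) : AddMonoid.End (Gr G) := (exists_map α).choose

theorem ind_ι (α : G →* G) (hg : g ∈ Γ G n) : ind α (ι n g) = ι n (α g) := (exists_map α).choose_spec n g hg

theorem ind_bk (α : G →* G) (x y : Gr G) : ind α (bk G x y) = bk G (ind α x) (ind α y) := by
  have : (bk G).compr₂ (ind α) = ((bk G).comp (ind α)).compl₂ (ind α) :=
    gr_ext fun i g hg => gr_ext fun j h hh => by
      change ind α (bk G _ _) = bk G (ind α _) (ind α _)
      rw [bk_ι hg hh, ind_ι α (comm_mem hg hh), ind_ι α hg, ind_ι α hh, bk_ι (map_mem_Γ α hg) (map_mem_Γ α hh),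
        map_commutatorElement]
  exact DFunLike.congr_fun (DFunLike.congr_fun this x) y

theorem exists_proj (n : ℕ) : ∃ π : Gr G →+ Gr G, ∀ k, ∀ g ∈ Γ G k, π (ι k g) = if k = n then ι k g else 0 :=
  exists_lift _ (fun k g hg h hh => by split_ifs <;> simp [ι_mul hg hh])
    fun k g hg => by simp [(ι_eq_zero (Γ_succ_le k hg)).2 hg]

/-- the projection onto degree `n` -/
noncomputable def proj (n : ℕ) : Gr G →+ Gr G := (exists_proj n).choose

theorem proj_ι {k : ℕ} (hg : g ∈ Γ G k) : proj n (ι k g) = if k = n then ι k g else 0 :=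
  (exists_proj n).choose_spec k g hg

theorem exists_component (x : Gr G) (n : ℕ) : ∃ g ∈ Γ G n, proj n x = ι n g := by
  let K : AddSubgroup (Gr G) :=
    { carrier := {x | ∃ g ∈ Γ G n, proj n x = ι n g}
      add_mem' := fun ⟨a, ha, e⟩ ⟨b, hb, e'⟩ => ⟨a * b, mul_mem ha hb, by rw [map_add, e, e', ι_mul ha hb]⟩
      zero_mem' := ⟨1, one_mem _, by rw [map_zero, ι_one]⟩
      neg_mem' := fun ⟨a, ha, e⟩ => ⟨a⁻¹, inv_mem ha, by rw [map_neg, e, ι_inv ha]⟩ }
  refine gr_ind (K := K) (fun k g hg => ?_) x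
  by_cases e : k = n
  · subst e; exact ⟨g, hg, by rw [proj_ι hg, if_pos rfl]⟩
  · exact ⟨1, one_mem _, by rw [proj_ι hg, if_neg e, ι_one]⟩

theorem exists_sum_proj (x : Gr G) : ∃ N, ∀ M, N ≤ M → ∑ n ∈ Finset.range M, proj n x = x := by
  let K : AddSubgroup (Gr G) :=
    { carrier := {x | ∃ N, ∀ M, N ≤ M → ∑ n ∈ Finset.range M, proj n x = x}
      add_mem' := fun ⟨a, ha⟩ ⟨b, hb⟩ => ⟨a + b, fun M hM => by
        simp only [map_add, Finset.sum_add_distrib]; rw [ha M (by omega), hb M (by omega)]⟩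
      zero_mem' := ⟨0, by simp⟩
      neg_mem' := fun ⟨a, ha⟩ => ⟨a, fun M hM => by simp [ha M hM]⟩ }
  exact gr_ind (K := K) (fun k g hg => ⟨k + 1, fun M hM => by simp [proj_ι hg, Nat.lt_of_succ_le hM]⟩) x

theorem proj_ind (α : G →* G) (x : Gr G) (n : ℕ) : proj n (ind α x) = ind α (proj n x) := by
  have : (proj n).comp (ind α) = AddMonoidHom.comp (ind α) (proj n) := gr_ext fun k g hg => by
    change proj n (ind α _) = ind α (proj n _)
    rw [ind_ι α hg, proj_ι hg, proj_ι (map_mem_Γ α hg)]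
    split_ifs
    · rw [ind_ι α hg]
    · rw [map_zero]
  exact DFunLike.congr_fun this x

theorem smul_eq_zero_of_fixed (α : G →* G) {m : ℕ}
    (hm : ∀ n, ∀ g ∈ Γ G n, g⁻¹ * α g ∈ Γ G (n + 1) → g ^ m ∈ Γ G (n + 1)) {x : Gr G} (hx : ind α x = x) :
    m • x = 0 := by
  obtain ⟨N, hN⟩ := exists_sum_proj x
  rw [← hN N le_rfl, Finset.smul_sum]
  refine Finset.sum_eq_zero fun n _ => ?_
  obtain ⟨g, hg, e⟩ := exists_component x n
  have h1 := proj_ind α x n
  rw [hx, e, ind_ι α hg] at h1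
  rw [e, ← ι_pow hg, ι_eq_zero (pow_mem hg m)]
  exact hm n g hg ((ι_eq_zero (mul_mem (inv_mem hg) (map_mem_Γ α hg))).1 (by
    rw [ι_mul (inv_mem hg) (map_mem_Γ α hg), ← h1, ι_inv hg, neg_add_cancel]))

theorem ι_mem_lcs (hg : g ∈ Γ G n) : ι n g ∈ lcs (bk G) n := by
  induction n generalizing g with
  | zero => trivial
  | succ n ih =>
    let K : Subgroup G :=
      { carrier := {g | g ∈ Γ G (n + 1) ∧ ι (n + 1) g ∈ lcs (bk G) (n + 1)}
        mul_mem' := fun ha hb => ⟨mul_mem ha.1 hb.1, ι_mul ha.1 hb.1 ▸ add_mem ha.2 hb.2⟩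
        one_mem' := ⟨one_mem _, ι_one (G := G) ▸ zero_mem _⟩
        inv_mem' := fun ha => ⟨inv_mem ha.1, ι_inv ha.1 ▸ neg_mem ha.2⟩ }
    have : Γ G (n + 1) ≤ K := commutator_le.2 fun a ha b _ => ⟨comm_mem' ha b,
      AddSubgroup.subset_closure ⟨_, ih ha, ι 0 b, (bk_ι ha (mem_Γ_zero b)).symm⟩⟩
    exact (this hg).2

/-- **Higman–Kreknin–Kostrikin**, with fixed points. -/
theorem pow_mem_of_bound {p c m : ℕ} [Fact p.Prime] (hc : Bound.{u} p c) (α : MulAut G) (hα : α ^ p = 1)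
    (hm : ∀ n, ∀ g ∈ Γ G n, g⁻¹ * α g ∈ Γ G (n + 1) → g ^ m ∈ Γ G (n + 1)) (hg : g ∈ Γ G c) :
    g ^ (m * p) ^ (c + 1) ∈ Γ G (c + 1) := by
  rw [← ι_eq_zero (pow_mem hg _), ι_pow hg]
  refine smul_eq_zero_of_lcs hc leib_bk (ind α.toMonoidHom) ?_ (ind_bk _)
    (fun x => smul_eq_zero_of_fixed α.toMonoidHom hm) (ι_mem_lcs hg)
  have : ∀ k n, ∀ g ∈ Γ G n, (ind α.toMonoidHom ^ k) (ι n g) = ι n ((α ^ k) g) := by
    intro k n g hg
    induction k with
    | zero => rfl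
    | succ k ih =>
      rw [pow_succ', pow_succ']
      exact (congrArg (ind α.toMonoidHom) ih).trans (ind_ι _ (map_mem_Γ (α ^ k).toMonoidHom hg))
  exact gr_ext fun n g hg => (this p n g hg).trans (by rw [hα]; rfl)

end Cfsg.Lib.Hall.Lie
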