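import Cfsg.Agent.Lib.Hall.LieB
import Cfsg.Agent.Lib.Hall.ClassSize
import Cfsg.Agent.Lib.HH.Std
import Cfsg.Agent.Lib.PGrp.MaxClass
import Cfsg.Agent.S0033

/-! # Automorphisms of prime order with few fixed points -/

set_option autoImplicit false

namespace Cfsg.Lib.Hall.Lie

open Subgroup _root_.Cfsg.Lib.Core
open scoped commutatorElement

universe u

variable {G : Type u} [Group G]

/-- the number of fixed points -/
noncomputable def fx (α : MulAut G) : ℕ := Nat.card {g // α g = g}

/-- restriction to a characteristic subgroup -/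
def sa (N : Subgroup G) [h : N.Characteristic] : MulAut G →* MulAut N :=
  Coprime.subAut (MonoidHom.id _) N fun a _ hx => characteristic_iff_le_comap.1 h a hx

/-- action on the quotient by a characteristic subgroup -/
def qa (N : Subgroup G) [h : N.Characteristic] : MulAut G →* MulAut (G ⧸ N) :=
  Coprime.quotAut (MonoidHom.id _) N fun a _ hx => characteristic_iff_le_comap.1 h a hx

theorem card_le_mul_fx [Finite G] (α : MulAut G) (N : Subgroup G) :
    Nat.card {g // g⁻¹ * α g ∈ N} ≤ Nat.card N * fx α := by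
  let δ : G → G := fun g => g⁻¹ * α g
  have h : ∀ g, δ (Function.invFun δ (δ g)) = δ g := fun g => Function.invFun_eq ⟨g, rfl⟩
  rw [fx, ← Nat.card_prod]
  refine Nat.card_le_card_of_injective (fun g => (⟨δ g, g.2⟩, ⟨g * (Function.invFun δ (δ g))⁻¹, ?_⟩))
    fun g g' e => ?_
  · have := h g
    generalize Function.invFun δ (δ g) = r at this
    rw [map_mul, map_inv, mul_inv_eq_iff_eq_mul, mul_assoc, show r⁻¹ * α r = (g : G)⁻¹ * α g from this,
      mul_inv_cancel_left]
  · obtain ⟨e1, e2⟩ := Prod.mk.inj e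
    have e1 : δ g = δ g' := congrArg Subtype.val e1
    have e2 := congrArg Subtype.val e2
    simp only [e1, mul_left_inj] at e2
    exact Subtype.ext e2

theorem fx_sa [Finite G] (α : MulAut G) (N : Subgroup G) [N.Characteristic] : fx (sa N α) ≤ fx α :=
  Nat.card_le_card_of_injective (fun g : {g // sa N α g = g} =>
    (⟨g.1, congrArg Subtype.val g.2⟩ : {g // α g = g})) fun _ _ e =>
      Subtype.ext (Subtype.ext (Subtype.mk.inj e))

theorem mem_comap_fix (α : MulAut G) (N : Subgroup G) [N.Characteristic] {g : G} :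
    g ∈ ((qa N α).toMonoidHom.eqLocus (MonoidHom.id _)).comap (QuotientGroup.mk' N) ↔ g⁻¹ * α g ∈ N :=
  eq_comm.trans QuotientGroup.eq

theorem fx_qa [Finite G] (α : MulAut G) (N : Subgroup G) [N.Characteristic] : fx (qa N α) ≤ fx α := by
  have h1 := card_comap_mk' N ((qa N α).toMonoidHom.eqLocus (MonoidHom.id _))
  have h2 := card_le_mul_fx α N
  rw [← Nat.card_congr (Equiv.subtypeEquivRight fun g => mem_comap_fix α N), h1] at h2
  exact Nat.le_of_mul_le_mul_left h2 Nat.card_pos

theorem pow_mem_of_fx [Finite G] {p n : ℕ} [hp : Fact p.Prime] (hG : IsPGroup p G) {α : MulAut G}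
    (h : fx α ≤ p ^ n) (N : Subgroup G) [N.Characteristic] {g : G} (hg : g⁻¹ * α g ∈ N) : g ^ p ^ n ∈ N := by
  obtain ⟨k, hk⟩ := ((hG.to_quotient N).to_subgroup
    ((qa N α).toMonoidHom.eqLocus (MonoidHom.id _))).exists_card_eq
  have h1 : k ≤ n := (Nat.pow_le_pow_iff_right hp.out.one_lt).1 (hk ▸ (fx_qa α N).trans h)
  rw [← QuotientGroup.eq_one_iff, QuotientGroup.mk_pow, ← orderOf_dvd_iff_pow_eq_one]
  exact (Subgroup.orderOf_dvd_natCard _ (mem_comap.1 ((mem_comap_fix α N).2 hg))).trans (hk ▸ pow_dvd_pow p h1)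

theorem card_le_fx_pow [Finite G] {p e : ℕ} (hp : p.Prime) (hc : ∀ a b : G, a * b = b * a)
    (he : ∀ g : G, g ^ p ^ e = 1) {α : MulAut G} (hα : α ^ p = 1) : Nat.card G ≤ fx α ^ (p * e) := by
  letI : CommGroup G := { ‹Group G› with mul_comm := hc }
  let a : AddMonoid.End (Additive G) := MonoidHom.toAdditive α.toMonoidHom
  have ha : ∀ k (v : Additive G), (a ^ k) v = Additive.ofMul ((α ^ k) v.toMul) := fun k => by
    induction k with
    | zero => intro v; rfl
    | succ k ih => intro v; rw [pow_succ, pow_succ]; exact ih _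
  have h1 : a ^ p = 1 := AddMonoidHom.ext fun v => (ha p v).trans (by rw [hα]; rfl)
  obtain ⟨s, hs⟩ : ∃ s, (a + -1) ^ p = p * s := by
    obtain ⟨r, hr⟩ := (Commute.neg_one_right a).exists_add_pow_prime_eq hp
    rw [hr, h1]
    rcases hp.eq_two_or_odd' with rfl | h
    · exact ⟨1 + a * -1 * r, by rw [neg_one_sq, mul_add, mul_one, Nat.cast_two, one_add_one_eq_two,
        mul_assoc, mul_assoc, mul_assoc]⟩
    · exact ⟨a * -1 * r, by rw [h.neg_one_pow, add_neg_cancel, zero_add, mul_assoc, mul_assoc, mul_assoc]⟩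
  have h2 := PGrp.card_le_card_ker_pow (a + -1) (p * e) ⊤ fun b _ => by
    rw [pow_mul, hs, (Nat.cast_commute p s).mul_pow, ← Nat.cast_pow, ← nsmul_eq_mul]
    exact he _
  rwa [AddSubgroup.card_top, show Nat.card (AddMonoidHom.ker (a + -1 : AddMonoid.End (Additive G))) = fx α from
    Nat.card_congr (Additive.toMul.subtypeEquiv fun v => add_neg_eq_zero)] at h2

theorem fpf_eq_bot [Finite G] {p c : ℕ} [hp : Fact p.Prime] (hc : Bound.{u} p c) {α : MulAut G} (hα : α ^ p = 1)
    (h : ∀ g, α g = g → g = 1) : Γ G c = ⊥ := by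
  rcases (Nat.dvd_prime hp.out).1 (orderOf_dvd_of_pow_eq_one hα) with e | e
  · exact eq_bot_iff.2 fun g _ => h g (by rw [orderOf_eq_one_iff.1 e]; rfl)
  haveI := Cfsg.Agent.S0033.result α h p hp.out e
  have h1 : fx α = 1 := Nat.card_eq_one_iff_unique.2 ⟨⟨fun a b => Subtype.ext ((h _ a.2).trans (h _ b.2).symm)⟩,
    ⟨⟨1, map_one α⟩⟩⟩
  have h2 : p.Coprime (Nat.card G) := by
    have := (IsPGroup.of_card (G := zpowers α) (n := 1) (by rw [Nat.card_zpowers, e, pow_one])).card_modEq_card_fixedPoints G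
    rw [show Nat.card (MulAction.fixedPoints (zpowers α) G) = 1 from Nat.card_eq_one_iff_unique.2
      ⟨⟨fun a b => Subtype.ext ((h _ (a.2 ⟨α, mem_zpowers α⟩)).trans (h _ (b.2 ⟨α, mem_zpowers α⟩)).symm)⟩,
        ⟨⟨1, fun a => map_one (a : MulAut G)⟩⟩⟩] at this
    exact (Nat.coprime_of_mul_modEq_one 1 (by rwa [mul_one])).symm
  by_contra hne
  refine (commutator_lt_of_nilpotent (L := ⊤) le_top le_rfl le_normalizer_of_normal hne).not_ge fun g hg => ?_
  refine mem_of_pow_mem_of_coprime (n := (1 * p) ^ (c + 1)) ?_ (pow_mem_of_bound hc α hα (fun n g _ hg => ?_) hg)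
  · rw [one_mul]; exact (h2.coprime_dvd_right (orderOf_dvd_natCard g)).pow_left _
  · have h3 := card_comap_mk' (Γ G (n + 1)) ((qa (Γ G (n + 1)) α).toMonoidHom.eqLocus (MonoidHom.id _))
    have h4 : (qa (Γ G (n + 1)) α).toMonoidHom.eqLocus (MonoidHom.id _) = ⊥ :=
      (eq_bot_iff_card _).2 (le_antisymm (h1 ▸ fx_qa α _) Nat.card_pos)
    have h5 := (mem_comap_fix α _).2 hg
    rwa [h4, MonoidHom.comap_bot, QuotientGroup.ker_mk', ← pow_one g] at h5

/-! ### Derived length -/

/-- iterated derived subgroup -/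
def D (k : ℕ) (H : Subgroup G) : Subgroup G := (fun X : Subgroup G => ⁅X, X⁆)^[k] H

theorem D_succ (k : ℕ) (H : Subgroup G) : D (k + 1) H = ⁅D k H, D k H⁆ := Function.iterate_succ_apply' _ _ _

theorem D_add (k l : ℕ) (H : Subgroup G) : D (k + l) H = D k (D l H) := Function.iterate_add_apply _ _ _ _

theorem D_top (k : ℕ) : D k (⊤ : Subgroup G) = derivedSeries G k := by
  induction k with
  | zero => rfl
  | succ k ih => rw [D_succ, ih, derivedSeries_succ]

theorem D_mono (k : ℕ) {H K : Subgroup G} (h : H ≤ K) : D k H ≤ D k K := by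
  induction k with
  | zero => exact h
  | succ k ih => rw [D_succ, D_succ]; exact commutator_mono ih ih

theorem map_D {G' : Type*} [Group G'] (f : G →* G') (k : ℕ) (H : Subgroup G) :
    (D k H).map f = D k (H.map f) := by
  induction k with
  | zero => rfl
  | succ k ih => rw [D_succ, D_succ, map_commutator, ih]

theorem der_add {a b : ℕ} (N : Subgroup G) [N.Normal] (h1 : derivedSeries N a = ⊥)
    (h2 : derivedSeries (G ⧸ N) b = ⊥) : derivedSeries G (a + b) = ⊥ := by
  rw [← map_derivedSeries_eq (QuotientGroup.mk'_surjective N), map_mk'_eq_bot_iff, ← D_top] at h2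
  have h3 := map_D N.subtype a ⊤
  rw [D_top, h1, Subgroup.map_bot, ← MonoidHom.range_eq_map, range_subtype] at h3
  rw [← D_top, D_add, eq_bot_iff, h3]
  exact D_mono a h2

theorem chain_card [Finite G] (H : ℕ → Subgroup G) (k : ℕ) (h : ∀ i < k, H (i + 1) < H i) :
    (k + 1) * Nat.card (H k) ≤ Nat.card (H 0) := by
  induction k with
  | zero => simp
  | succ k ih =>
    have h1 := ih fun i hi => h i (by omega)
    have h2 := h k k.lt_succ_self
    obtain ⟨c, hc⟩ := card_dvd_of_le h2.le
    have h3 := Transfer.card_lt_of_lt h2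
    have h4 : 0 < Nat.card (H (k + 1)) := Nat.card_pos
    have h5 : 2 ≤ c := by
      by_contra h5
      interval_cases c <;> omega
    nlinarith

theorem der_of_card [Finite G] [Group.IsSolvable G] {b : ℕ} (h : Nat.card G ≤ b) : derivedSeries G b = ⊥ := by
  by_contra hne
  have := chain_card (derivedSeries G) b fun i hi => Group.IsSolvable.commutator_lt_of_ne_bot fun e =>
    hne (eq_bot_iff.2 (e ▸ derivedSeries_antitone G hi.le))
  rw [derivedSeries_zero, card_top] at this
  have h4 : 0 < Nat.card (derivedSeries G b) := Nat.card_pos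
  nlinarith

/-- **Alperin's theorem** for `p`-groups -/
theorem alperin_p {p : ℕ} [hp : Fact p.Prime] (n : ℕ) : ∃ l, ∀ (G : Type u) [Group G] [Finite G], IsPGroup p G →
    ∀ α : MulAut G, α ^ p = 1 → fx α ≤ p ^ n → derivedSeries G l = ⊥ := by
  set c := hkk p
  set b := (p ^ n) ^ (p * ((n + 1) * (c + 1)))
  have h1 : ∀ (G : Type u) [Group G] [Finite G], IsPGroup p G → ∀ α : MulAut G, α ^ p = 1 → fx α ≤ p ^ n →
      Nat.card (Γ G c) ≤ b * Nat.card (Γ G (c + 1)) := by
    intro G _ _ hG α hα h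
    set f := QuotientGroup.mk' (Γ G (c + 1))
    have e : (Γ G c).map f = Γ (G ⧸ Γ G (c + 1)) c := by
      rw [map_lowerCentralSeries, map_top_of_surjective f (QuotientGroup.mk'_surjective _)]
    have h2 := card_le_fx_pow (G := Γ (G ⧸ Γ G (c + 1)) c) (e := (n + 1) * (c + 1)) hp.out (fun x y => by
        obtain ⟨x, hx⟩ := x
        obtain ⟨y, hy⟩ := y
        obtain ⟨x, hx', rfl⟩ := e.ge hx
        obtain ⟨y, -, rfl⟩ := e.ge hy
        exact Subtype.ext (commutatorElement_eq_one_iff_mul_comm.1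
          ((QuotientGroup.eq_one_iff _).2 (comm_mem' hx' y))))
      (fun x => by
        obtain ⟨x, hx⟩ := x
        obtain ⟨x, hx', rfl⟩ := e.ge hx
        refine Subtype.ext ((QuotientGroup.eq_one_iff _).2 ?_)
        rw [pow_mul, pow_succ p n]
        exact pow_mem_of_bound bound_hkk α hα (fun k g _ hg => pow_mem_of_fx hG h _ hg) hx')
      (α := sa _ (qa _ α)) (by rw [← map_pow, ← map_pow, hα, map_one, map_one])
    rw [← card_map_mk'_mul (Γ G (c + 1)) (Γ G c), inf_of_le_left (Γ_succ_le c), e]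
    exact Nat.mul_le_mul_right _ (h2.trans (Nat.pow_le_pow_left ((fx_sa _ _).trans ((fx_qa _ _).trans h)) _))
  refine ⟨c + 1 + b, fun G _ _ hG α hα h => ?_⟩
  haveI := hG.isNilpotent
  set K := derivedSeries G b
  have h2 := h1 K (hG.to_subgroup _) (sa K α) (by rw [← map_pow, hα, map_one]) ((fx_sa _ _).trans h)
  rw [← card_map_of_injective K.subtype_injective, ← card_map_of_injective K.subtype_injective,
    top_subtype_lowerCentralSeries, top_subtype_lowerCentralSeries] at h2
  let H : ℕ → Subgroup G := fun i => (fun X => ⁅X, ⊤⁆)^[i] (K.lowerCentralSeries c)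
  have hH : ∀ i, H (i + 1) = ⁅H i, ⊤⁆ := fun i => Function.iterate_succ_apply' _ _ _
  have hn : ∀ i, (H i).Normal := fun i => by
    induction i with
    | zero => exact (inferInstance : (K.lowerCentralSeries c).Normal)
    | succ i ih => rw [hH]; infer_instance
  have h3 : K.lowerCentralSeries (c + 1) ≤ H (0 + b + 1) :=
    (commutator_mono le_rfl (Subgroup.derived_le_lower_central b)).trans (PGrp.commutator_lowerCentralSeries_le H ⊤
      (fun i j => le_normalizer_of_normal) (fun i => le_normalizer_of_normal) (fun i => (hH i).ge) 0 b)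
  have h4 : K.lowerCentralSeries (c + 1) = ⊥ := by
    by_contra hne
    have h5 : Antitone H := antitone_nat_of_succ_le fun i => hH i ▸ commutator_le_left _ _
    have h6 := chain_card H (0 + b + 1) fun i hi => hH i ▸ commutator_lt_of_nilpotent (L := ⊤) le_top le_rfl
      le_normalizer_of_normal fun e => hne (eq_bot_iff.2 (e ▸ h3.trans (h5 hi.le)))
    have h7 := card_le_of_le h3
    have h8 : 0 < Nat.card (K.lowerCentralSeries (c + 1)) := Nat.card_pos
    change _ ≤ Nat.card (K.lowerCentralSeries c) at h6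
    nlinarith
  rw [← D_top, D_add, D_top, eq_bot_iff, ← h4, ← top_subtype_lowerCentralSeries]
  conv_lhs => rw [← range_subtype (derivedSeries G b), MonoidHom.range_eq_map, ← map_D, D_top]
  exact map_mono (Subgroup.derived_le_lower_central _)

/-- **Alperin's theorem** -/
theorem alperin {p : ℕ} [hp : Fact p.Prime] (n : ℕ) : ∃ l, ∀ (G : Type u) [Group G] [Finite G],
    Group.IsSolvable G → ∀ α : MulAut G, α ^ p = 1 → fx α = p ^ n → derivedSeries G l = ⊥ := by
  obtain ⟨l, hl⟩ := alperin_p.{u} (p := p) n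
  set b := (p ^ n) ^ (p * 1)
  refine ⟨hkk p + (l + b * b.factorial), fun G _ _ hG α hα h => ?_⟩
  haveI := pPrimeCore_characteristic p G
  refine der_add (pPrimeCore p G) (eq_bot_iff.2 ((Subgroup.derived_le_lower_central _).trans (fpf_eq_bot bound_hkk
    (α := sa (pPrimeCore p G) α) (by rw [← map_pow, hα, map_one]) fun g hg => ?_).le)) ?_
  · have h1 : orderOf (g : G) ∣ p ^ n := h ▸ Subgroup.orderOf_dvd_natCard
      (α.toMonoidHom.eqLocus (MonoidHom.id G)) (congrArg Subtype.val hg)
    rw [← orderOf_eq_one_iff, ← Subgroup.orderOf_coe]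
    exact Nat.eq_one_of_dvd_coprimes ((coprime_card_pPrimeCore p G).pow_right n)
      (Subgroup.orderOf_dvd_natCard _ g.2) h1
  set G₁ := G ⧸ pPrimeCore p G
  have hc : centralizer (pCore p G₁ : Set G₁) ≤ pCore p G₁ :=
    centralizer_pCore_le_of_solvable hp.out pPrimeCore_quotient_pPrimeCore
  have h0 := HH.pPrimeCore_quotient_frattiniOf hc
  haveI := pCore_characteristic p G₁
  haveI := characteristic_map_subtype (frattini (pCore p G₁))
  set Φ := (frattini (pCore p G₁)).map (pCore p G₁).subtype with hΦ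
  have hΦp : IsPGroup p Φ := (isPGroup_pCore p G₁).to_le (map_subtype_le _)
  refine der_add Φ (hl Φ hΦp (sa _ (qa _ α)) (by rw [← map_pow, ← map_pow, hα, map_one, map_one])
    ((fx_sa _ _).trans ((fx_qa _ _).trans h.le))) (der_of_card ?_)
  obtain ⟨h3, h4⟩ := (frattiniOf_le_iff (isPGroup_pCore p G₁) (N := Φ)).1 le_rfl
  set H := G₁ ⧸ Φ
  haveI := pCore_characteristic p H
  have e := map_pCore_quotient Φ hΦp
  have h5 : Nat.card (pCore p H) ≤ b := by
    refine (card_le_fx_pow (G := pCore p H) (e := 1) hp.out (fun x y => ?_) (fun x => ?_)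
      (α := sa _ (qa _ (qa _ α))) (by rw [← map_pow, ← map_pow, ← map_pow, hα, map_one, map_one, map_one])).trans
      (Nat.pow_le_pow_left ((fx_sa _ _).trans ((fx_qa _ _).trans ((fx_qa _ _).trans h.le))) _)
    · obtain ⟨x, hx⟩ := x
      obtain ⟨y, hy⟩ := y
      obtain ⟨x, hx', rfl⟩ := e.ge hx
      obtain ⟨y, hy', rfl⟩ := e.ge hy
      exact Subtype.ext (commutatorElement_eq_one_iff_mul_comm.1
        ((QuotientGroup.eq_one_iff _).2 (h3 (commutator_mem_commutator hx' hy'))))
    · obtain ⟨x, hx⟩ := x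
      obtain ⟨x, hx', rfl⟩ := e.ge hx
      exact Subtype.ext ((QuotientGroup.eq_one_iff _).2 (by rw [pow_one]; exact h4 x hx'))
  rw [← (pCore p H).card_mul_index]
  refine Nat.mul_le_mul h5 (le_trans ?_ (Nat.factorial_le h5))
  let φ := (MulAut.toPerm (pCore p H)).comp (MulAut.conjNormal (H := pCore p H))
  have h6 : φ.ker ≤ pCore p H := fun g hg => centralizer_pCore_le_of_solvable hp.out h0 fun x hx => by
    have := congrArg Subtype.val (DFunLike.congr_fun (MonoidHom.mem_ker.1 hg) ⟨x, hx⟩)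
    exact (mul_inv_eq_iff_eq_mul.1 this).symm
  refine (Nat.le_of_dvd (Nat.pos_of_ne_zero index_ne_zero_of_finite) (index_dvd_of_le h6)).trans ?_
  rw [index_ker, ← Nat.card_perm]
  exact card_le_card_group _

end Cfsg.Lib.Hall.Lie
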