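import Cfsg.Agent.Lib.Hall.LieA

/-! # Nilpotent action of solvable sets, Kreknin's theorem with nilpotently acting zero component -/

set_option autoImplicit false

namespace Cfsg.Lib.Hall.Lie

variable {M : Type*} [AddCommGroup M] {B : M →+ M →+ M} {S S' X Y : Set M} {U W W' : AddSubgroup M}

/-- the upper series of the right action of `S`, above `W` -/
def ann (B : M →+ M →+ M) (S : Set M) (W : AddSubgroup M) : ℕ → AddSubgroup M
  | 0 => W
  | n + 1 => ⨅ y ∈ S, (ann B S W n).comap (B.flip y)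

theorem mem_ann {n : ℕ} {u : M} : u ∈ ann B S W (n + 1) ↔ ∀ y ∈ S, B u y ∈ ann B S W n := by
  simp [ann, AddSubgroup.mem_iInf]

theorem ann_mono (hS : S ⊆ S') (hW : W ≤ W') (n : ℕ) : ann B S' W n ≤ ann B S W' n := by
  induction n with
  | zero => exact hW
  | succ n ih => exact fun u hu => mem_ann.2 fun y hy => ih (mem_ann.1 hu y (hS hy))

theorem ann_closure (n : ℕ) : ann B S W n ≤ ann B (AddSubgroup.closure S) W n := by
  induction n with
  | zero => exact le_rfl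
  | succ n ih =>
    exact fun u hu => mem_ann.2 fun y hy => (AddSubgroup.closure_le (AddSubgroup.comap (B u) _)).2
      (fun y hy => ih (mem_ann.1 hu y hy)) hy

theorem ann_add (a b : ℕ) : ann B S (ann B S W a) b = ann B S W (a + b) := by
  induction b with
  | zero => rfl
  | succ b ih => rw [ann, ih]; rfl

/-- invariance under the right action of `S` -/
def Inv (B : M →+ M →+ M) (S : Set M) (U : AddSubgroup M) : Prop := ∀ u ∈ U, ∀ y ∈ S, B u y ∈ U

theorem Inv.mono (h : Inv B S U) (hX : X ⊆ S) : Inv B X U := fun u hu y hy => h u hu y (hX hy)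

theorem Inv.le_ann (h : Inv B S W) (n : ℕ) : W ≤ ann B S W n := by
  induction n with
  | zero => exact le_rfl
  | succ n ih => exact fun u hu => mem_ann.2 fun y hy => ih (h u hu y hy)

theorem Inv.ann_le (h : Inv B S W) {a b : ℕ} (hab : a ≤ b) : ann B S W a ≤ ann B S W b := by
  rw [← Nat.sub_add_cancel hab, ← ann_add]
  exact ann_mono le_rfl (h.le_ann _) a

theorem Leib.swap (hB : Leib B) (u x y : M) : B (B u x) y = B (B u y) x + B u (B x y) := by rw [hB]; abel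

theorem ann_inv (hB : Leib B) (hU : Inv B S U) (hW : Inv B S W) (hc : ∀ u ∈ U, ∀ x ∈ S, ∀ y ∈ S, B u (B x y) ∈ W)
    (hY : Y ⊆ S) {x : M} (hx : x ∈ S) (b : ℕ) : ∀ u ∈ U, u ∈ ann B Y W b → B u x ∈ ann B Y W b := by
  induction b with
  | zero => exact fun u _ hu => hW u hu x hx
  | succ b ih =>
    refine fun u hu h => mem_ann.2 fun y hy => ?_
    rw [hB.swap]
    exact add_mem (ih _ (hU u hu y (hY hy)) (mem_ann.1 h y hy)) ((hW.mono hY).le_ann b (hc u hu x hx y (hY hy)))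

theorem ann_union (hB : Leib B) (hU : Inv B S U) (hW : Inv B S W)
    (hc : ∀ u ∈ U, ∀ x ∈ S, ∀ y ∈ S, B u (B x y) ∈ W) (hX : X ⊆ S) (hY : Y ⊆ S) (n : ℕ) :
    ∀ a b, a + b = n → ∀ u ∈ U, u ∈ ann B X W a → u ∈ ann B Y W b → u ∈ ann B (X ∪ Y) W n := by
  have h := (hW.mono (Set.union_subset hX hY)).le_ann
  induction n with
  | zero => intro a b e u _ ha _; obtain rfl : a = 0 := by omega
            exact ha
  | succ n ih =>
    rintro (_ | a) b e u hu ha hb
    · exact h _ ha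
    rcases b with _ | b
    · exact h _ hb
    refine mem_ann.2 fun z hz => hz.elim (fun hz => ?_) fun hz => ?_
    · exact ih a (b + 1) (by omega) _ (hU u hu z (hX hz)) (mem_ann.1 ha z hz) (ann_inv hB hU hW hc hY (hX hz) _ u hu hb)
    · exact ih (a + 1) b (by omega) _ (hU u hu z (hY hz)) (ann_inv hB hU hW hc hX (hY hz) _ u hu ha) (mem_ann.1 hb z hz)

theorem ann_biUnion {I : Type*} (hB : Leib B) (hU : Inv B S U) (hW : Inv B S W)
    (hc : ∀ u ∈ U, ∀ x ∈ S, ∀ y ∈ S, B u (B x y) ∈ W) (H : I → Set M) {n : ℕ} (hH : ∀ i, ann B (H i) ⊥ n = ⊤)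
    (F : Finset I) : U ≤ ann B (⋃ i ∈ F, S ∩ H i) W (F.card * n + 1) := by
  classical
  induction F using Finset.induction_on with
  | empty => exact fun u _ => mem_ann.2 (by simp)
  | insert i F hi ih =>
    intro u hu
    rw [Finset.set_biUnion_insert]
    refine ann_union hB hU hW hc Set.inter_subset_left (by simp) _ n _ ?_ u hu
      (ann_mono Set.inter_subset_right bot_le n (hH i ▸ AddSubgroup.mem_top u)) (ih hu)
    rw [Finset.card_insert_of_notMem hi]; ring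

/-- A solvable closed set covered by nilpotently acting sets acts nilpotently. -/
theorem ann_eq_top {I : Type*} [Finite I] {t : ℕ} (ht : Nat.card I ≤ t) (hB : Leib B) (H : I → Set M) {n : ℕ}
    (hH : ∀ i, ann B (H i) ⊥ n = ⊤) (s : ℕ) (hS : ∀ x ∈ S, ∀ y ∈ S, B x y ∈ S) (hI : ∀ x ∈ S, ∃ i, x ∈ H i) (C : ℕ → Set M) (h0 : S ⊆ C 0)
    (hC : ∀ j, ∀ x ∈ C j, ∀ y ∈ C j, B x y ∈ C (j + 1)) (hs : ∀ x ∈ C s, x = 0) :
    ann B S ⊥ ((t * n + 1) ^ s) = ⊤ := by
  haveI := Fintype.ofFinite I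
  induction s generalizing S C with
  | zero => exact top_unique fun u _ => mem_ann.2 fun y hy => by rw [hs y (h0 hy), map_zero]; exact zero_mem _
  | succ s ih =>
    let S' : Set M := {z | ∃ x ∈ S, ∃ y ∈ S, z = B x y}
    have h1 : S' ⊆ S := by rintro _ ⟨x, hx, y, hy, rfl⟩; exact hS x hx y hy
    have h2 := ih (S := S') (fun x hx y hy => ⟨x, h1 hx, y, h1 hy, rfl⟩) (fun x hx => hI x (h1 hx))
      (fun j => C (j + 1)) (by rintro _ ⟨x, hx, y, hy, rfl⟩; exact hC 0 x (h0 hx) y (h0 hy)) (fun j => hC _) hs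
    have h3 : ∀ j, Inv B S (ann B S' ⊥ j) := fun j => by
      induction j with
      | zero => intro u hu y _; rw [AddSubgroup.mem_bot.1 hu, map_zero]; exact zero_mem _
      | succ j ih =>
        refine fun u hu z hz => mem_ann.2 fun y hy => ?_
        rw [hB.swap]
        exact add_mem (ih _ (mem_ann.1 hu y hy) z hz) (mem_ann.1 hu _ ⟨z, hz, y, h1 hy, rfl⟩)
    have h4 : ∀ j, ann B S' ⊥ j ≤ ann B S ⊥ (j * (t * n + 1)) := fun j => by
      induction j with
      | zero => rw [zero_mul]; exact le_rfl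
      | succ j ih =>
        rw [add_mul, one_mul, ← ann_add (S := S)]
        have h5 := ann_biUnion hB (h3 (j + 1)) (h3 j)
          (fun u hu x hx y hy => mem_ann.1 hu _ ⟨x, hx, y, hy, rfl⟩) H hH Finset.univ
        rw [Finset.card_univ, ← Nat.card_eq_fintype_card] at h5
        refine (h5.trans (((h3 j).mono (by simp)).ann_le (Nat.succ_le_succ (Nat.mul_le_mul_right n ht)))).trans
          (ann_mono (fun x hx => ?_) ih _)
        obtain ⟨i, hi⟩ := hI x hx
        simp only [Set.mem_iUnion]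
        exact ⟨i, Finset.mem_univ i, hx, hi⟩
    rw [pow_succ, eq_top_iff, ← h2]
    exact h4 _

section prime

variable {p : ℕ} [hp : Fact p.Prime] {T : ZMod p → AddSubgroup M}

theorem gen_inv (hB : Leib B) (hT : br B T T ≤ T) {s : ℕ} {i : ZMod p} {g y : M} (hg : Gen B T s i g)
    (hy : y ∈ T 0) : Gen B T s i (B g y) := by
  induction hg with
  | base h1 h2 => exact .base h1 (by simpa using br_le.1 hT _ _ _ h2 _ hy)
  | @br a b x z hx hz ih1 ih2 =>
    rw [hB.swap]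
    exact add_mem (S := AddSubgroup M) (s := gen B T s _) (Gen.br ih1 hz) (Gen.br hx ih2)
  | zero => rw [map_zero]; exact .zero
  | sub _ _ ih1 ih2 => rw [map_sub]; exact .sub ih1 ih2

theorem gen_step' (hB : Leib B) (hA : ∀ x y, B x y = -B y x) (hT : br B T T ≤ T) {i : ZMod p} {K : AddSubgroup M}
    (h1 : gen B T (i.val + 1) i ≤ K) (h2 : ∀ x ∈ T i, ∀ y ∈ T 0, B x y ∈ K) {k : ZMod p} {v : M}
    (hv : Gen B T i.val k v) {j : ZMod p} {u : M} (hu : u ∈ T j) (h : j + k = i) : B u v ∈ K := by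
  have hle : ∀ {k x}, Gen B T i.val k x → x ∈ T k := fun h => gen_le hT (fun _ _ => le_rfl) _ h
  induction hv generalizing j u with
  | @base k x h4 h5 =>
    by_cases hj : j = 0
    · subst hj
      rw [zero_add] at h
      rw [hA]; exact neg_mem (h2 x (h ▸ h5) u hu)
    have h3 := ZMod.val_add j k
    have h6 := ZMod.val_lt j
    have h7 := ZMod.val_lt k
    have h8 : 0 < j.val := ZMod.val_pos.2 hj
    rw [h] at h3
    rcases Nat.lt_or_ge (j.val + k.val) p with h9 | h9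
    · rw [Nat.mod_eq_of_lt h9] at h3; omega
    · rw [Nat.mod_eq_sub_mod h9, Nat.mod_eq_of_lt (by omega)] at h3
      have h10 : Gen B T (i.val + 1) (j + k) (B u x) := .br (.base (by omega) hu) (.base (by omega) h5)
      rw [h] at h10
      exact h1 h10
  | @br a b x y hx hy ih1 ih2 =>
    rw [hB]
    exact sub_mem (ih2 (br_le.1 hT _ _ _ hu _ (hle hx)) (by rw [← h, add_assoc]))
      (ih1 (br_le.1 hT _ _ _ hu _ (hle hy)) (by rw [← h]; abel))
  | zero => rw [map_zero]; exact zero_mem _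
  | sub _ _ ih1 ih2 => rw [map_sub]; exact sub_mem (ih1 hu h) (ih2 hu h)

theorem der_add' {ι : Type*} [AddCommGroup ι] (T : ι → AddSubgroup M) (a b : ℕ) :
    der B T (a + b) = der B (der B T b) a := Function.iterate_add_apply _ _ _ _

universe u

/-- **Kreknin's theorem** when the zero component acts nilpotently -/
theorem exists_der_le_gen (p : ℕ) [Fact p.Prime] (m s : ℕ) : ∃ N, ∀ (M : Type u) [AddCommGroup M]
    (B : M →+ M →+ M) (T : ZMod p → AddSubgroup M), Leib B → (∀ x y, B x y = -B y x) → br B T T ≤ T →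
      ann B (T 0) ⊥ m = ⊤ → der B T N ≤ gen B T s := by
  induction s with
  | zero => exact ⟨0, fun M _ B T _ _ _ _ i x hx => Gen.base (Nat.zero_le _) hx⟩
  | succ s ih =>
    obtain ⟨N, hN⟩ := ih
    refine ⟨N + m * (N + 1), fun M _ B T hB hA hT h0 => ?_⟩
    have h1 : ∀ r, der B (der B T r) N ≤ gen B (der B T r) s := fun r => hN M B _ hB hA (der_closed hT r).2
      (top_unique (h0 ▸ ann_mono ((der_closed hT r).1 0) le_rfl m))
    have h2 : ∀ i : ZMod p, i.val = s → ∀ r q, r + q = m →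
        der B T (r * (N + 1)) i ≤ gen B T (s + 1) i ⊔ ann B (T 0) ⊥ q := by
      rintro i rfl r
      induction r with
      | zero => intro q e; rw [← zero_add q, e, h0]; exact le_top.trans le_sup_right
      | succ r ih =>
        intro q e
        have h3 := der_closed hT (r * (N + 1))
        rw [add_mul, one_mul, add_comm, der_add', der, Function.iterate_succ_apply']
        refine (AddSubgroup.closure_le _).2 ?_
        rintro _ ⟨j, k, e', x, hx, y, hy, rfl⟩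
        refine gen_step' hB hA h3.2 ((gen_le (gen_closed _) (fun i hi x hx => Gen.base hi (h3.1 i hx)) i).trans
          le_sup_left) (fun x hx y hy => ?_) (h1 _ k hy) ((der_closed h3.2 N).1 j hx) e'
        obtain ⟨g, hg, w, hw, rfl⟩ := AddSubgroup.mem_sup.1 (ih (q + 1) (by omega) hx)
        rw [map_add]
        exact AddSubgroup.add_mem_sup (gen_inv hB hT hg (h3.1 0 hy)) (mem_ann.1 hw y (h3.1 0 hy))
    rw [der_add']
    refine (h1 _).trans (gen_le (gen_closed _) fun i hi => ?_)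
    rcases hi.eq_or_lt with hi | hi
    · exact (h2 i hi.symm m 0 rfl).trans (sup_le le_rfl bot_le)
    · exact fun x hx => Gen.base hi ((der_closed hT _).1 i hx)

theorem exists_ann_graded (p : ℕ) [hp : Fact p.Prime] (t n s : ℕ) : ∃ m, ∀ (M : Type u) [AddCommGroup M]
    (B : M →+ M →+ M) (I : Type u) [Finite I] (H : I → Set M) (E : ZMod p → Set M) (C : ℕ → Set M),
    Nat.card I ≤ t → Leib B → (∀ x y, B x y = -B y x) → (∀ i, ann B (H i) ⊥ n = ⊤) →
    (∀ i j, ∀ x ∈ E i, ∀ y ∈ E j, B x y ∈ E (i + j)) → (∀ i, ∀ x ∈ E i, ∃ i, x ∈ H i) → E 0 ⊆ C 0 →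
    (∀ j, ∀ x ∈ C j, ∀ y ∈ C j, B x y ∈ C (j + 1)) → (∀ x ∈ C s, x = 0) → ann B (⋃ i, E i) ⊥ m = ⊤ := by
  obtain ⟨N, hN⟩ := exists_der_le_gen.{u} p ((t * n + 1) ^ s) p
  refine ⟨(t * n + 1) ^ N, fun M _ B I _ H E C ht hB hA hH hE hI h0 hC hs => ?_⟩
  let T : ZMod p → AddSubgroup M := fun i => AddSubgroup.closure (E i)
  have hT : br B T T ≤ T := br_le.2 fun i j x hx y hy =>
    (AddSubgroup.closure_le (AddSubgroup.comap (B.flip y) (T (i + j)))).2 (fun x hx =>
      (AddSubgroup.closure_le (AddSubgroup.comap (B x) (T (i + j)))).2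
        (fun y hy => AddSubgroup.subset_closure (hE i j x hx y hy)) hy) hx
  have h1 := (hN M B T hB hA hT (top_unique ((ann_eq_top ht hB H hH s
    (fun x hx y hy => by simpa using hE 0 0 x hx y hy) (hI 0) C h0 hC hs).ge.trans (ann_closure _)))).trans
    (gen_le (V := ⊥) (br_le.2 fun _ _ x hx _ _ => by rw [AddSubgroup.mem_bot.1 hx, map_zero]; exact zero_mem _)
      fun i hi => absurd hi (ZMod.val_lt i).not_ge)
  refine ann_eq_top ht hB H hH N ?_ ?_ (fun j => ⋃ i, der B T j i)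
    (Set.iUnion_mono fun i => AddSubgroup.subset_closure) ?_ ?_ <;> simp only [Set.mem_iUnion]
  · exact fun x ⟨i, hx⟩ y ⟨j, hy⟩ => ⟨_, hE i j x hx y hy⟩
  · exact fun x ⟨i, hx⟩ => hI i x hx
  · exact fun j x ⟨i, hx⟩ y ⟨k, hy⟩ => ⟨i + k, by rw [der, Function.iterate_succ_apply']; exact mem_br hx hy⟩
  · exact fun x ⟨i, hx⟩ => h1 i hx

end prime

/-- `A / D` is cyclic -/
def Coc {A : Type*} [Group A] (D : Subgroup A) : Prop := ∃ b, Subgroup.zpowers b ⊔ D = ⊤

section ext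

universe u

variable {L : Type u} [AddCommGroup L] {p : ℕ} [hp : Fact p.Prime] {B : L →+ L →+ L}

theorem mem_ann_cv {H : Set L} {r : ℕ} {f : ZMod p → L} (hf : ∀ k, f k ∈ ann B H ⊥ r) :
    f ∈ ann (cv p B) {g | ∀ k, g k ∈ H} ⊥ r := by
  induction r generalizing f with
  | zero => exact funext hf
  | succ r ih => exact mem_ann.2 fun g hg => ih fun k => sum_mem fun j _ => mem_ann.1 (hf j) _ (hg _)

theorem mem_ann_of_emb {e : ℕ} (he : ∀ x : L, e • x = 0) (hpe : p.Coprime e) {S : AddSubgroup (ZMod p → L)}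
    {r : ℕ} {x : L} (hx : emb p x ∈ ann (cv p B) S ⊥ r) : x ∈ ann B (S.comap (emb p)) ⊥ r := by
  induction r generalizing x with
  | zero => exact AddSubgroup.mem_bot.2 (by simpa [emb_apply] using congrFun (AddSubgroup.mem_bot.1 hx) 1)
  | succ r ih =>
    refine mem_ann.2 fun y hy => ih ?_
    have h1 := mem_ann.1 hx _ hy
    rw [cv_emb] at h1
    obtain ⟨a, b, h⟩ := Nat.isCoprime_iff_coprime.2 hpe
    have h2 := zsmul_mem h1 a
    rwa [← natCast_zsmul, smul_smul, eq_sub_of_add_eq h, sub_smul, one_smul, ← smul_smul, natCast_zsmul,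
      ← map_nsmul, he, map_zero, smul_zero, sub_zero] at h2

theorem pow_val_succ {R : Type*} [Monoid R] {a : R} (ha : a ^ p = 1) (j : ZMod p) :
    a * a ^ j.val = a ^ (j + 1).val := by
  rw [← pow_succ', ZMod.val_add, ZMod.val_one, ← pow_eq_pow_mod _ ha]

theorem emb_eq (a : AddMonoid.End L) (x : L) : emb p x = ∑ i : ZMod p, (fun k => ∑ j : ZMod p,
    if k = i * j then (a ^ j.val) x else 0) - fun _ => ∑ j : ZMod p, (a ^ j.val) x := by
  ext k
  have h5 : ∀ j : ZMod p, (∑ i : ZMod p, if k = i * j then (a ^ j.val) x else 0) =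
      (if j = 0 then emb p x k else 0) + (a ^ j.val) x := fun j => by
    by_cases hj : j = 0
    · subst hj; by_cases hk : k = 0 <;> simp [emb_apply, hk, ZMod.card]
    · simp [← div_eq_iff hj, hj]
  rw [Pi.sub_apply, Finset.sum_apply, Finset.sum_comm]
  simp only [h5, Finset.sum_add_distrib, Finset.sum_ite_eq', Finset.mem_univ, if_true, add_sub_cancel_right]

variable {A : Type u} [Group A] {ρ : A →* AddMonoid.End L}

theorem rho_mul (a b : A) (x : L) : ρ (a * b) x = ρ a (ρ b x) := by rw [map_mul]; rfl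

theorem rho_one (x : L) : ρ 1 x = x := by rw [map_one]; rfl

/-- `a` acts on `f` as the shift by `i` -/
def Sh (ρ : A →* AddMonoid.End L) (f : ZMod p → L) (a : A) (i : ZMod p) : Prop := ∀ k, ρ a (f k) = f (k + i)

variable {f g : ZMod p → L} {a b : A} {i j : ZMod p}

theorem Sh.mul (h1 : Sh ρ f a i) (h2 : Sh ρ f b j) : Sh ρ f (a * b) (j + i) := fun k => by
  rw [rho_mul, h2, h1, add_assoc]

theorem Sh.one : Sh ρ f 1 0 := fun k => by rw [rho_one, add_zero]

theorem Sh.pow (h : Sh ρ f a i) (n : ℕ) : Sh ρ f (a ^ n) (n * i) := by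
  induction n with
  | zero => simpa using Sh.one
  | succ n ih => rw [pow_succ', Nat.cast_succ, add_mul, one_mul]; exact h.mul ih

theorem Sh.inv (h : Sh ρ f a i) : Sh ρ f a⁻¹ (-i) := fun k => by
  conv_lhs => rw [← neg_add_cancel_right k i, ← h, ← rho_mul, inv_mul_cancel, rho_one]

theorem Sh.cv (hρ : ∀ a x y, ρ a (B x y) = B (ρ a x) (ρ a y)) (h1 : Sh ρ f a i) (h2 : Sh ρ g a j) :
    Sh ρ (cv p B f g) a (i + j) := fun k => by
  simp only [cv_apply, map_sum, hρ, h1 _, h2 _]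
  refine Fintype.sum_equiv (Equiv.addRight i) _ _ fun l => ?_
  congr 2; simp only [Equiv.coe_addRight]; abel

theorem exists_coc (h : ∀ a, ∃ i, Sh ρ f a i) : ∃ D : Subgroup A, Coc D ∧ ∀ d ∈ D, ∀ k, ρ d (f k) = f k := by
  let D : Subgroup A :=
    { carrier := {a | Sh ρ f a 0}
      mul_mem' := fun h1 h2 => by simpa using h1.mul h2
      one_mem' := Sh.one
      inv_mem' := fun h => by simpa using h.inv }
  refine ⟨D, ?_, fun d hd k => by simpa using hd k⟩
  by_cases e : D = ⊤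
  · exact ⟨1, by simp [e]⟩
  obtain ⟨b, hb⟩ : ∃ b, b ∉ D := by simpa [Subgroup.eq_top_iff'] using e
  obtain ⟨i, hi⟩ := h b
  have h0 : i ≠ 0 := fun e => hb (by rw [e] at hi; exact hi)
  refine ⟨b, top_unique fun a _ => ?_⟩
  obtain ⟨j, hj⟩ := h a
  rw [← mul_inv_cancel_left (b ^ (j / i).val) a]
  refine Subgroup.mul_mem_sup (Subgroup.npow_mem_zpowers _ _) ?_
  have := (hi.pow (j / i).val).inv.mul hj
  rwa [ZMod.natCast_zmod_val, div_mul_cancel₀ _ h0, add_neg_cancel] at this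

theorem forall_sh {D : Subgroup A} (hD : Subgroup.zpowers b ⊔ D = ⊤) (h1 : Sh ρ f b i)
    (h2 : ∀ d ∈ D, ∀ k, ρ d (f k) = f k) (a : A) : ∃ i, Sh ρ f a i := by
  let K : Subgroup A :=
    { carrier := {a | ∃ i, Sh ρ f a i}
      mul_mem' := fun ⟨_, h1⟩ ⟨_, h2⟩ => ⟨_, h1.mul h2⟩
      one_mem' := ⟨_, Sh.one⟩
      inv_mem' := fun ⟨_, h⟩ => ⟨_, h.inv⟩ }
  have : Subgroup.zpowers b ⊔ D ≤ K :=
    sup_le (Subgroup.zpowers_le.2 ⟨i, h1⟩) fun d hd => ⟨0, fun k => by rw [h2 d hd, add_zero]⟩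
  exact this (hD ▸ Subgroup.mem_top a)

theorem exists_ann_act (p : ℕ) [hp : Fact p.Prime] (t n s : ℕ) : ∃ m, ∀ (L : Type u) [AddCommGroup L]
    (B : L →+ L →+ L) (A : Type u) [Group A] (ρ : A →* AddMonoid.End L) (I : Type u) [Finite I]
    (H : I → Set L) (F : Set (AddSubgroup L)) (a₀ : A) (C : ℕ → AddSubgroup L) (e : ℕ),
    Nat.card I ≤ t → Leib B → (∀ x y, B x y = -B y x) → (∀ a : A, a ^ p = 1) → (∀ a b : A, a * b = b * a) →
    (∀ a x y, ρ a (B x y) = B (ρ a x) (ρ a y)) → (∀ i, ann B (H i) ⊥ n = ⊤) →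
    (∀ J ∈ F, ∀ a, ∀ x ∈ J, ρ a x ∈ J) → (∀ J ∈ F, ∃ i, (J : Set L) ⊆ H i) →
    (∀ J ∈ F, ∀ J' ∈ F, ∃ K : AddSubgroup L, (∀ x ∈ J, ∀ y ∈ J', B x y ∈ K) ∧
      ∀ D, Coc D → ∃ J'' ∈ F, ∀ z ∈ K, (∀ d ∈ D, ρ d z = z) → z ∈ J'') →
    (∀ x, ρ a₀ x = x → x ∈ C 0) → (∀ j, ∀ x ∈ C j, ∀ y ∈ C j, B x y ∈ C (j + 1)) → C s = ⊥ →
    (∀ x : L, e • x = 0) → p.Coprime e →
    ∃ X : AddSubgroup L, ann B X ⊥ m = ⊤ ∧ ∀ J ∈ F, ∀ x ∈ J, ∀ D, Coc D → (∀ d ∈ D, ρ d x = x) → x ∈ X := by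
  obtain ⟨m, hm⟩ := exists_ann_graded.{u} p t n s
  refine ⟨m, fun L _ B A _ ρ I _ H F a₀ C e ht hB hA hAp hAc hρ hH hF hI hs h0 hC hCs he hpe => ?_⟩
  let E : ZMod p → Set (ZMod p → L) := fun i =>
    {f | Sh ρ f a₀ i ∧ (∀ a, ∃ i, Sh ρ f a i) ∧ ∃ J ∈ F, ∀ k, f k ∈ J}
  have h1 := hm _ (cv p B) I (fun i => {g | ∀ k, g k ∈ H i}) E (fun j => {g | ∀ k, g k ∈ C j}) ht (leib_cv hB)
    (fun f g => funext fun k => by
      simp only [cv_apply, Pi.neg_apply, ← Finset.sum_neg_distrib]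
      exact Fintype.sum_equiv (Equiv.subLeft k) _ _ fun j => by simpa using hA _ _)
    (fun i => top_unique fun f _ => mem_ann_cv fun k => hH i ▸ AddSubgroup.mem_top _)
    (fun i j f ⟨f1, f2, J, hJ, f3⟩ g ⟨g1, g2, J', hJ', g3⟩ => by
      have h2 : ∀ a, ∃ i, Sh ρ (cv p B f g) a i := fun a => (f2 a).elim fun _ h => (g2 a).elim fun _ h' =>
        ⟨_, h.cv hρ h'⟩
      obtain ⟨D, hD, h3⟩ := exists_coc h2
      obtain ⟨K, hK, h4⟩ := hs J hJ J' hJ'
      obtain ⟨J'', h5, h6⟩ := h4 D hD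
      exact ⟨f1.cv hρ g1, h2, J'', h5, fun k => h6 _ (sum_mem fun j _ => hK _ (f3 _) _ (g3 _))
        fun d hd => h3 d hd k⟩)
    (fun i f ⟨_, _, J, hJ, h⟩ => (hI J hJ).imp fun i hi k => hi (h k))
    (fun f hf k => h0 _ (by simpa using hf.1 k))
    (fun j f hf g hg k => sum_mem fun i _ => hC j _ (hf _) _ (hg _))
    (fun f hf => funext fun k => AddSubgroup.mem_bot.1 (hCs ▸ hf k))
  refine ⟨(AddSubgroup.closure (⋃ i, E i)).comap (emb p), top_unique fun x _ =>
    mem_ann_of_emb he hpe (ann_closure m (h1 ▸ AddSubgroup.mem_top _)), fun J hJ x hx D ⟨b, hb⟩ hD => ?_⟩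
  have h2 : ∀ j : ZMod p, ρ b ((ρ b ^ j.val) x) = (ρ b ^ (j + 1).val) x := fun j => by
    rw [← pow_val_succ (by rw [← map_pow, hAp, map_one])]; rfl
  have h3 : ∀ d ∈ D, ∀ j : ℕ, ρ d ((ρ b ^ j) x) = (ρ b ^ j) x := fun d hd j => by
    rw [← map_pow, ← rho_mul, hAc, rho_mul, hD d hd]
  have h4 : ∀ j : ℕ, (ρ b ^ j) x ∈ J := fun j => map_pow ρ b j ▸ hF J hJ _ x hx
  have h5 : ∀ (f : ZMod p → L) i, Sh ρ f b i → (∀ d ∈ D, ∀ k, ρ d (f k) = f k) → (∀ k, f k ∈ J) →
      f ∈ AddSubgroup.closure (⋃ i, E i) := fun f i f1 f2 f3 => (forall_sh hb f1 f2 a₀).elim fun j hj =>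
    AddSubgroup.subset_closure (Set.mem_iUnion.2 ⟨j, hj, forall_sh hb f1 f2, J, hJ, f3⟩)
  rw [AddSubgroup.mem_comap, emb_eq (ρ b)]
  refine sub_mem (sum_mem fun i _ => h5 _ i (fun k => ?_) (fun d hd k => ?_) fun k => sum_mem fun j _ => ?_)
    (h5 _ 0 (fun k => ?_) (fun d hd k => ?_) fun k => sum_mem fun j _ => h4 _)
  · simp only [map_sum, apply_ite (ρ b), map_zero, h2]
    exact Fintype.sum_equiv (Equiv.addRight 1) _ _ fun j => by simp [mul_add]
  · simp only [map_sum, apply_ite (ρ d), map_zero, h3 d hd]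
  · split_ifs
    exacts [h4 _, zero_mem _]
  · simp only [map_sum, h2]
    exact Fintype.sum_equiv (Equiv.addRight 1) _ _ fun j => rfl
  · simp only [map_sum, h3 d hd]

end ext

end Cfsg.Lib.Hall.Lie
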