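import Cfsg.Agent.Lib.Hall.LieC
import Cfsg.Agent.Lib.Hall.LieD
import Cfsg.Agent.Lib.Coprime.ActionForm
import Cfsg.Agent.Lib.Core.Subnormal
import Cfsg.Agent.Lib.Sig.Main

/-! # Coprime action of an elementary abelian group: bounded nilpotency class (Acciarri–Shumyatsky) -/

set_option autoImplicit false

namespace Cfsg.Lib.Hall.Lie

open Subgroup _root_.Cfsg.Lib.Core _root_.Cfsg.Lib.Coprime
open scoped commutatorElement

universe u

variable {G : Type u} [Group G]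

/-- the Lie subring attached to a subgroup -/
noncomputable def LJ (J : Subgroup G) : AddSubgroup (Gr G) := AddSubgroup.closure {x | ∃ n, ∃ g ∈ Γ G n, g ∈ J ∧ x = ι n g}

variable {J K : Subgroup G}

theorem ι_mem_LJ {n : ℕ} {g : G} (hg : g ∈ Γ G n) (h : g ∈ J) : ι n g ∈ LJ J :=
  AddSubgroup.subset_closure ⟨n, g, hg, h, rfl⟩

theorem LJ_le {X : AddSubgroup (Gr G)} (h : ∀ n, ∀ g ∈ Γ G n, g ∈ J → ι n g ∈ X) : LJ J ≤ X :=
  (AddSubgroup.closure_le _).2 (by rintro _ ⟨n, g, hg, h', rfl⟩; exact h n g hg h')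

theorem LJ_mono (h : J ≤ K) : LJ J ≤ LJ K := LJ_le fun _ _ hg h' => ι_mem_LJ hg (h h')

theorem bk_mem_LJ {x y : Gr G} (hx : x ∈ LJ J) (hy : y ∈ LJ K) : bk G x y ∈ LJ ⁅J, K⁆ :=
  LJ_le (X := (LJ ⁅J, K⁆).comap ((bk G).flip y)) (fun _ _ hg hJ =>
    LJ_le (X := (LJ ⁅J, K⁆).comap (bk G (ι _ _))) (fun _ _ hh hK => by
      rw [AddSubgroup.mem_comap, bk_ι hg hh]
      exact ι_mem_LJ (comm_mem hg hh) (commutator_mem_commutator hJ hK)) hy) hx

theorem exists_component' {x : Gr G} (hx : x ∈ LJ J) (n : ℕ) : ∃ g ∈ Γ G n, g ∈ J ∧ proj n x = ι n g := by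
  let X : AddSubgroup (Gr G) :=
    { carrier := {x | ∃ g ∈ Γ G n, g ∈ J ∧ proj n x = ι n g}
      add_mem' := fun ⟨a, ha, ha', e⟩ ⟨b, hb, hb', e'⟩ =>
        ⟨a * b, mul_mem ha hb, mul_mem ha' hb', by rw [map_add, e, e', ι_mul ha hb]⟩
      zero_mem' := ⟨1, one_mem _, one_mem _, by rw [map_zero, ι_one]⟩
      neg_mem' := fun ⟨a, ha, ha', e⟩ => ⟨a⁻¹, inv_mem ha, inv_mem ha', by rw [map_neg, e, ι_inv ha]⟩ }
  refine LJ_le (X := X) (fun k g hg hJ => ?_) hx
  by_cases e : k = n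
  · subst e; exact ⟨g, hg, hJ, by rw [proj_ι hg, if_pos rfl]⟩
  · exact ⟨1, one_mem _, one_mem _, by rw [proj_ι hg, if_neg e, ι_one]⟩

/-- the elements of `X` of degree `n` whose image lies in `Y` -/
def pre (n : ℕ) (Y : AddSubgroup (Gr G)) : Subgroup G where
  carrier := {g | g ∈ Γ G n ∧ ι n g ∈ Y}
  mul_mem' := fun ha hb => ⟨mul_mem ha.1 hb.1, ι_mul ha.1 hb.1 ▸ add_mem ha.2 hb.2⟩
  one_mem' := ⟨one_mem _, ι_one (G := G) ▸ zero_mem _⟩
  inv_mem' := fun ha => ⟨inv_mem ha.1, ι_inv ha.1 ▸ neg_mem ha.2⟩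

/-- elements killed by `r` commutations with `H` -/
def gan (H : Subgroup G) : ℕ → Set G
  | 0 => {1}
  | r + 1 => {g | ∀ h ∈ H, ⁅g, h⁆ ∈ gan H r}

theorem ι_mem_ann {r n : ℕ} {g : G} (hg : g ∈ Γ G n) (h : g ∈ gan J r) : ι n g ∈ ann (bk G) (LJ J) ⊥ r := by
  refine ann_closure r ?_
  induction r generalizing n g with
  | zero => rw [show g = 1 from h, ι_one]; exact zero_mem _
  | succ r ih =>
    refine mem_ann.2 ?_
    rintro _ ⟨k, x, hx, hJ, rfl⟩
    rw [bk_ι hg hx]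
    exact ih (comm_mem hg hx) (h x hJ)

theorem gan_mono (h : J ≤ K) (r : ℕ) : gan K r ⊆ gan J r := by
  induction r with
  | zero => exact le_rfl
  | succ r ih => exact fun g hg x hx => ih (hg x (h hx))

theorem gan_map {G' : Type u} [Group G'] (f : G →* G') {r : ℕ} {g : G} (h : g ∈ gan J r) :
    f g ∈ gan (J.map f) r := by
  induction r generalizing g with
  | zero => rw [show g = 1 from h]; exact map_one f
  | succ r ih => rintro _ ⟨x, hx, rfl⟩; rw [← map_commutatorElement]; exact ih (h x hx)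

theorem gan_subgroupOf {N : Subgroup G} {r : ℕ} {g : N} (h : (g : G) ∈ gan J r) : g ∈ gan (J.subgroupOf N) r := by
  induction r generalizing g with
  | zero => exact Subtype.ext h
  | succ r ih => exact fun x hx => ih (h x hx)

theorem mem_gan_of_lcs {c : ℕ} (h : J.lowerCentralSeries c = ⊥) (r : ℕ) :
    ∀ i, i + r = c → ∀ g ∈ J.lowerCentralSeries i, g ∈ gan J r := by
  induction r with
  | zero => rintro i rfl g hg; exact mem_bot.1 (h ▸ hg)
  | succ r ih => exact fun i e g hg x hx => ih (i + 1) (by omega) _ (commutator_mem_commutator hg hx)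

theorem nilpotent_of_gan [Finite G] {m n : ℕ} (hc : ⁅Γ G m, Γ G m⁆ = ⊥) (F : Set (Subgroup G)) (hF : sSup F = ⊤)
    (h : ∀ J ∈ F, ∀ W : Subgroup G, (∀ g ∈ Γ G m, g ∈ gan J n → g ∈ W) → Γ G m ≤ W) : Group.IsNilpotent G := by
  set R := Γ G m
  have h1 : ∀ x ∈ R, ∀ y ∈ R, x * y = y * x := fun x hx y hy =>
    commutatorElement_eq_one_iff_mul_comm.1 (mem_bot.1 (hc ▸ commutator_mem_commutator hx hy))
  have h0 : ∀ x ∈ R, ∀ y, ⁅x, y⁆ ∈ R := fun x hx y => Γ_succ_le m (comm_mem' hx y)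
  haveI : Group.IsNilpotent (G ⧸ R) := Subgroup.nilpotent_iff_lowerCentralSeries.2 ⟨m, by
    rw [← map_top_of_surjective _ (QuotientGroup.mk'_surjective R), ← map_lowerCentralSeries, map_mk'_eq_bot_iff]⟩
  have h2 : fittingSubgroup G = ⊤ := top_unique (hF ▸ sSup_le fun J hJ => le_sup_left.trans
    (le_fitting_of_isSubnormal (H := J ⊔ R) ?_ ?_))
  · haveI := isNilpotent_fitting G
    exact Group.nilpotent_of_surjective (fittingSubgroup G).subtype fun g => ⟨⟨g, h2 ▸ mem_top g⟩, rfl⟩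
  · have := (subnormalIn_top_iff.2 (isSubnormal_of_nilpotent ((J ⊔ R).map (QuotientGroup.mk' R)))).comap
      (QuotientGroup.mk' R)
    rwa [comap_top, comap_map_eq_self (by rw [QuotientGroup.ker_mk']; exact le_sup_right), subnormalIn_top_iff] at this
  have h3 : ∀ r, ∃ W : Subgroup G, ∀ x, x ∈ W ↔ x ∈ R ∧ x ∈ gan J r := fun r => by
    induction r with
    | zero => exact ⟨⊥, fun x => ⟨fun e => by rw [mem_bot.1 e]; exact ⟨one_mem _, rfl⟩, fun e => e.2⟩⟩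
    | succ r ih =>
      obtain ⟨W, hW⟩ := ih
      refine ⟨{ carrier := {x | x ∈ R ∧ x ∈ gan J (r + 1)}
                mul_mem' := fun {x y} hx hy => ⟨mul_mem hx.1 hy.1, fun j hj => ?_⟩
                one_mem' := ⟨one_mem _, fun j _ => by simpa using ((hW 1).1 (one_mem _)).2⟩
                inv_mem' := fun {x} hx => ⟨inv_mem hx.1, fun j hj => ?_⟩ }, fun x => Iff.rfl⟩
      · rw [show ⁅x * y, j⁆ = x * ⁅y, j⁆ * x⁻¹ * ⁅x, j⁆ by simp only [commutatorElement_def]; group,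
          h1 x hx.1 _ (h0 y hy.1 j), mul_inv_cancel_right]
        exact ((hW _).1 (mul_mem ((hW _).2 ⟨h0 y hy.1 j, hy.2 j hj⟩) ((hW _).2 ⟨h0 x hx.1 j, hx.2 j hj⟩))).2
      · rw [show ⁅x⁻¹, j⁆ = (x⁻¹ * ⁅x, j⁆ * x)⁻¹ by simp only [commutatorElement_def]; group, mul_assoc,
          ← h1 x hx.1 _ (h0 x hx.1 j), inv_mul_cancel_left]
        exact ((hW _).1 (inv_mem ((hW _).2 ⟨h0 x hx.1 j, hx.2 j hj⟩))).2
  choose W hW using h3
  have h4 : ∀ i r, i + r = n → (J ⊔ R).lowerCentralSeries (m + i) ≤ W r := fun i => by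
    induction i with
    | zero =>
      rintro r rfl
      rw [zero_add] at h
      exact (Subgroup.lowerCentralSeries_mono m le_top).trans (h J hJ _ fun g h1 h2 => (hW _ _).2 ⟨h1, h2⟩)
    | succ i ih =>
      refine fun r e => commutator_le.2 fun x hx k hk => ?_
      obtain ⟨hx1, hx2⟩ := (hW _ _).1 (ih (r + 1) (by omega) hx)
      obtain ⟨j, hj, y, hy, rfl⟩ := mem_sup_of_normal_right.1 hk
      rw [show ⁅x, j * y⁆ = ⁅x, j⁆ * j * (x * y) * x⁻¹ * y⁻¹ * j⁻¹ by simp only [commutatorElement_def]; group,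
        h1 x hx1 y hy, show ⁅x, j⁆ * j * (y * x) * x⁻¹ * y⁻¹ * j⁻¹ = ⁅x, j⁆ by group]
      exact (hW _ _).2 ⟨h0 x hx1 j, hx2 j hj⟩
  exact isNilpotent_of_lowerCentralSeries_eq_bot (eq_bot_iff.2 fun x hx => ((hW _ _).1 (h4 n 0 rfl hx)).2)

section act

variable {A : Type u} [Group A] {φ : A →* MulAut G}

/-- the induced action on the Lie ring -/
noncomputable def rho (φ : A →* MulAut G) : A →* AddMonoid.End (Gr G) where
  toFun a := ind (φ a).toMonoidHom
  map_one' := gr_ext fun n g hg => (ind_ι _ hg).trans (by rw [map_one]; rfl)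
  map_mul' a b := gr_ext fun n g hg => (ind_ι _ hg).trans (by
    rw [map_mul]
    exact ((congrArg (ind (φ a).toMonoidHom) (ind_ι (φ b).toMonoidHom hg)).trans
      (ind_ι _ (map_mem_Γ (φ b).toMonoidHom hg))).symm)

theorem rho_ι (a : A) {n : ℕ} {g : G} (hg : g ∈ Γ G n) : rho φ a (ι n g) = ι n (φ a g) := ind_ι _ hg

/-- invariant subgroups -/
def GInv (φ : A →* MulAut G) (J : Subgroup G) : Prop := ∀ a, ∀ x ∈ J, φ a x ∈ J

theorem GInv.comm (h1 : GInv φ J) (h2 : GInv φ K) : GInv φ ⁅J, K⁆ := fun a =>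
  (commutator_le.2 fun x hx y hy => by
    rw [mem_comap, map_commutatorElement]
    exact commutator_mem_commutator (h1 a x hx) (h2 a y hy) : ⁅J, K⁆ ≤ ⁅J, K⁆.comap (φ a).toMonoidHom)

theorem GInv.inf (h1 : GInv φ J) (h2 : GInv φ K) : GInv φ (J ⊓ K) := fun a x hx => ⟨h1 a x hx.1, h2 a x hx.2⟩

theorem ginv_char (J : Subgroup G) [h : J.Characteristic] : GInv φ J :=
  fun a _ hx => characteristic_iff_le_comap.1 h (φ a) hx

theorem ginv_fix (hc : ∀ a b : A, a * b = b * a) (D : Subgroup A) : GInv φ (actFix φ D) := fun a x hx d hd => by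
  rw [← MulAut.mul_apply, ← map_mul, hc, map_mul, MulAut.mul_apply, hx d hd]

/-- the standing hypotheses -/
structure EA (p : ℕ) (A G : Type u) [Group A] [Group G] : Prop where
  pow : ∀ a : A, a ^ p = 1
  comm : ∀ a b : A, a * b = b * a
  cop : p.Coprime (Nat.card G)

variable [Finite G] [Finite A] {p : ℕ} [hp : Fact p.Prime]

theorem EA.coprime (h : EA p A G) (D : Subgroup A) (J : Subgroup G) : (Nat.card D).Coprime (Nat.card J) := by
  obtain ⟨k, hk⟩ := (IsPGroup.to_subgroup (fun a => ⟨1, by rw [pow_one, h.pow]⟩ : IsPGroup p A) D).exists_card_eq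
  exact hk ▸ (h.cop.coprime_dvd_right (card_subgroup_dvd_card J)).pow_left k

omit [Finite G] [Finite A] hp in
theorem EA.solv (h : EA p A G) (D : Subgroup A) : Group.IsSolvable D :=
  Group.isSolvable_of_comm fun a b => Subtype.ext (h.comm _ _)

theorem EA.gen (h : EA p A G) (hJ : GInv φ J) (hK : ∀ D, Coc D → J ⊓ actFix φ D ≤ K) : J ≤ K :=
  haveI : IsMulCommutative (⊤ : Subgroup A) := ⟨⟨fun a b => Subtype.ext (h.comm _ _)⟩⟩
  act_le_of_forall_cocyclic (B := ⊤) (fun a _ => hJ a) (h.coprime _ _) fun D ⟨b, _, e⟩ => hK D ⟨b, e⟩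

theorem EA.mem_LJ (h : EA p A G) (hJ : GInv φ J) {D : Subgroup A} {x : Gr G} (hx : x ∈ LJ J)
    (hD : ∀ d ∈ D, rho φ d x = x) : x ∈ LJ (J ⊓ actFix φ D) := by
  obtain ⟨N, hN⟩ := exists_sum_proj x
  rw [← hN N le_rfl]
  refine sum_mem fun n _ => ?_
  obtain ⟨g, hg, hg', e⟩ := exists_component' hx n
  obtain ⟨s, hs, h1⟩ := act_exists_mul_fixed (φ := φ) (B := D) (S := J ⊓ Γ G (n + 1))
    (fun d _ => hJ.inf (ginv_char _) d) (h.coprime _ _) (.inl (h.solv D)) (k := g) fun d hd => by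
      have h1 := proj_ind (φ d).toMonoidHom x n
      have h2 := map_mem_Γ (φ d).toMonoidHom hg
      rw [show ind (φ d).toMonoidHom x = x from hD d hd, e, ind_ι _ hg] at h1
      exact ⟨J.mul_mem (J.inv_mem hg') (hJ d g hg'), (ι_eq_zero (mul_mem (inv_mem hg) h2)).1 (by
        rw [ι_mul (inv_mem hg) h2, ← h1, ι_inv hg, neg_add_cancel])⟩
  have h2 := Γ_succ_le n hs.2
  rw [e, ← add_zero (ι n g), ← (ι_eq_zero h2).2 hs.2, ← ι_mul hg h2]
  exact ι_mem_LJ (mul_mem hg h2) ⟨mul_mem hg' hs.1, h1⟩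

end act

theorem exists_lcs_eq_bot (p : ℕ) [hp : Fact p.Prime] (t n s : ℕ) : ∃ m, ∀ (G : Type u) [Group G] [Finite G]
    (A : Type u) [Group A] [Finite A] (φ : A →* MulAut G) (I : Type u) [Finite I] (H : I → Subgroup G)
    (F : Set (Subgroup G)) (a₀ : A), Nat.card I ≤ t → EA p A G → Group.IsSolvable G →
    (∀ i D, Coc D → ∀ g ∈ actFix φ D, g ∈ gan (H i) n) → (∀ J ∈ F, GInv φ J) → (∀ J ∈ F, ∃ i, J ≤ H i) →
    (∀ J ∈ F, ∃ D, Coc D ∧ J ≤ actFix φ D) →
    (∀ J ∈ F, ∀ J' ∈ F, ∀ D, Coc D → ∃ J'' ∈ F, ⁅J, J'⁆ ⊓ actFix φ D ≤ J'') → sSup F = ⊤ →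
    D s (actFix φ (zpowers a₀)) = ⊥ → Γ G m = ⊥ := by
  obtain ⟨m, hm⟩ := exists_ann_act.{u} p t n s
  refine ⟨m, fun G _ _ A _ _ φ I _ H F a₀ ht h hG hH hF hI hD hs hT h0 => ?_⟩
  obtain ⟨X, hX, h1⟩ := hm (Gr G) (bk G) A (rho φ) I (fun i => LJ (H i)) (LJ '' F) a₀
    (fun j => LJ (D j (actFix φ (zpowers a₀)))) (Nat.card G) ht leib_bk bk_anti h.pow h.comm (fun a => ind_bk _)
    (fun i => top_unique fun x _ => gr_ind (fun k g hg => (h.gen (K := pre k _) (ginv_char _)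
      (fun D hD g hg => ⟨hg.1, ι_mem_ann hg.1 (hH i D hD g hg.2)⟩) hg).2) x)
    (by rintro _ ⟨J, hJ, rfl⟩ a
        exact LJ_le (X := (LJ J).comap (rho φ a)) fun k g hg hg' => by
          show rho φ a _ ∈ LJ J
          rw [rho_ι a hg]
          exact ι_mem_LJ (map_mem_Γ (φ a).toMonoidHom hg) (hF J hJ a g hg'))
    (by rintro _ ⟨J, hJ, rfl⟩; exact (hI J hJ).imp fun i hi => LJ_mono hi)
    (by rintro _ ⟨J, hJ, rfl⟩ _ ⟨J', hJ', rfl⟩
        exact ⟨_, fun x hx y hy => bk_mem_LJ hx hy, fun D hD => (hs J hJ J' hJ' D hD).elim fun J'' h2 =>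
          ⟨_, ⟨J'', h2.1, rfl⟩, fun z hz h3 => LJ_mono h2.2 (h.mem_LJ ((hF J hJ).comm (hF J' hJ')) hz h3)⟩⟩)
    (fun x hx => LJ_mono inf_le_right (h.mem_LJ (ginv_char ⊤) (gr_ind (fun k g hg => ι_mem_LJ hg (mem_top g)) x)
      fun d hd => by
        obtain ⟨k, rfl⟩ := (mem_powers_iff_mem_zpowers.2 hd :)
        induction k with
        | zero => exact (congrArg (rho φ · x) (pow_zero a₀)).trans (rho_one x)
        | succ k ih => simp only [pow_succ, rho_mul, hx]; exact ih (npow_mem_zpowers _ _)))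
    (fun j x hx y hy => D_succ (G := G) j _ ▸ bk_mem_LJ hx hy)
    (eq_bot_iff.2 (LJ_le fun k g _ hg => by rw [show g = 1 from mem_bot.1 (h0 ▸ hg), ι_one]; exact zero_mem _))
    (fun x => gr_ind (K := (nsmulAddMonoidHom (α := Gr G) (Nat.card G)).ker) (fun k g hg => by
      rw [AddMonoidHom.mem_ker, nsmulAddMonoidHom_apply, ← ι_pow hg, pow_card_eq_one', ι_one]) x) h.cop
  have h2 : ⊤ ≤ pre 0 X := hT ▸ sSup_le fun J hJ g hg => (hD J hJ).elim fun D h2 => ⟨mem_top g,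
    h1 _ ⟨J, hJ, rfl⟩ _ (ι_mem_LJ (mem_top g) hg) D h2.1 fun d hd => by rw [rho_ι d (mem_top g), h2.2 hg d hd]⟩
  have h3 : ∀ j r, j + r = m → Γ G j ≤ pre j (ann (bk G) X ⊥ r) := fun j => by
    induction j with
    | zero => rintro r rfl g hg; exact ⟨hg, by rw [← zero_add r, hX]; trivial⟩
    | succ j ih =>
      refine fun r e => commutator_le.2 fun a ha b _ => ⟨comm_mem' ha b, ?_⟩
      rw [← bk_ι ha (mem_Γ_zero b)]
      exact mem_ann.1 (ih (r + 1) (by omega) ha).2 _ (h2 (mem_top b)).2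
  have h4 : Γ G m ≤ ⁅Γ G m, ⊤⁆ := fun g hg => (ι_eq_zero hg).1 (h3 m 0 rfl hg).2
  let π := QuotientGroup.mk' ⁅Γ G m, Γ G m⁆
  have hπ : Function.Surjective π := QuotientGroup.mk'_surjective _
  have h5 : ∀ j, Γ _ j = (Γ G j).map π := fun j => by rw [map_lowerCentralSeries, map_top_of_surjective _ hπ]
  haveI := nilpotent_of_gan (m := m) (n := n) (by rw [h5, ← map_commutator, map_mk'_eq_bot_iff])
    (map π '' F) (by rw [sSup_image, ← (gc_map_comap π).l_sSup, hT, map_top_of_surjective _ hπ]) (by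
      rintro _ ⟨J, hJ, rfl⟩ W hW
      obtain ⟨i, hi⟩ := hI J hJ
      rw [h5] at hW ⊢
      exact map_le_iff_le_comap.2 (h.gen (ginv_char _) fun D hD g hg =>
        hW _ (mem_map_of_mem π hg.1) (gan_map π (gan_mono hi n (hH i D hD g hg.2)))))
  have h6 : (Γ G m).map π = ⊥ := eq_bot_of_le_commutator (L := ⊤) (H := ⊤) le_top le_rfl
    ((map_mono h4).trans (by rw [map_commutator]; exact commutator_mono le_rfl le_top))
  by_contra hne
  exact (Group.IsSolvable.commutator_lt_of_ne_bot hne).not_ge ((map_mk'_eq_bot_iff _ _).1 h6)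

/-! ### Special subgroups -/

section special

variable {A : Type u} [Group A] {φ : A →* MulAut G} {F F' E E' : Set (Subgroup G)}

/-- centralizers of cocyclic subgroups -/
def base (φ : A →* MulAut G) : Set (Subgroup G) := {Z | ∃ D, Coc D ∧ Z = actFix φ D}

/-- the next generation of special subgroups -/
def step (φ : A →* MulAut G) (F F' : Set (Subgroup G)) : Set (Subgroup G) :=
  {Z | ∃ J ∈ F, ∃ K ∈ F', ∃ D, Coc D ∧ Z = ⁅J, K⁆ ⊓ actFix φ D}

/-- domination of families -/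
def Dom (F F' : Set (Subgroup G)) : Prop := ∀ J ∈ F, ∃ K ∈ F', J ≤ K

theorem Dom.refl (F : Set (Subgroup G)) : Dom F F := fun J hJ => ⟨J, hJ, le_rfl⟩

theorem Dom.trans (h : Dom F F') (h' : Dom F' E) : Dom F E := fun J hJ =>
  (h J hJ).elim fun K hK => (h' K hK.1).imp fun _ h => ⟨h.1, hK.2.trans h.2⟩

theorem Dom.step (h : Dom F E) (h' : Dom F' E') : Dom (step φ F F') (step φ E E') := by
  rintro _ ⟨J, hJ, K, hK, D, hD, rfl⟩
  obtain ⟨J', h1, h2⟩ := h J hJ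
  obtain ⟨K', h3, h4⟩ := h' K hK
  exact ⟨_, ⟨J', h1, K', h3, D, hD, rfl⟩, inf_le_inf_right _ (commutator_mono h2 h4)⟩

theorem dom_base : Dom (step φ F F') (base φ) := by
  rintro _ ⟨J, -, K, -, D, hD, rfl⟩; exact ⟨_, ⟨D, hD, rfl⟩, inf_le_right⟩

theorem sSup_comm_le {Z : Subgroup G} (h1 : ∀ J ∈ F, J ≤ normalizer (Z : Set G)) (h2 : ∀ J ∈ F, ⁅J, K⁆ ≤ Z) :
    ⁅sSup F, K⁆ ≤ Z := by
  refine commutator_le.2 fun x hx k hk => ?_
  let C : Subgroup G :=
    { carrier := {x | x ∈ normalizer (Z : Set G) ∧ ⁅x, k⁆ ∈ Z}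
      mul_mem' := fun {x y} hx hy => ⟨mul_mem hx.1 hy.1, by
        rw [show ⁅x * y, k⁆ = x * ⁅y, k⁆ * x⁻¹ * ⁅x, k⁆ by simp only [commutatorElement_def]; group]
        exact mul_mem ((mem_normalizer_iff.1 hx.1 _).1 hy.2) hx.2⟩
      one_mem' := ⟨one_mem _, by simp⟩
      inv_mem' := fun {x} hx => ⟨inv_mem hx.1, by
        rw [show ⁅x⁻¹, k⁆ = (x⁻¹ * ⁅x, k⁆ * x⁻¹⁻¹)⁻¹ by simp only [commutatorElement_def]; group]
        exact inv_mem ((mem_normalizer_iff.1 (inv_mem hx.1) _).1 hx.2)⟩ }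
  exact ((sSup_le fun J hJ x hx => ⟨h1 J hJ hx, h2 J hJ (commutator_mem_commutator hx hk)⟩ : sSup F ≤ C) hx).2

variable [Finite G] [Finite A] {p : ℕ} [hp : Fact p.Prime]

theorem EA.sSup_base (h : EA p A G) : sSup (base φ) = ⊤ :=
  top_unique (h.gen (ginv_char ⊤) fun D hD => inf_le_right.trans (le_sSup ⟨D, hD, rfl⟩))

omit [Finite G] [Finite A] hp in
theorem EA.inv_base (h : EA p A G) : ∀ J ∈ base φ, GInv φ J := by
  rintro _ ⟨D, -, rfl⟩; exact ginv_fix h.comm D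

omit [Finite G] [Finite A] hp in
theorem EA.inv_step (h : EA p A G) (h1 : ∀ J ∈ F, GInv φ J) (h2 : ∀ J ∈ F', GInv φ J) :
    ∀ J ∈ step φ F F', GInv φ J := by
  rintro _ ⟨J, hJ, K, hK, D, -, rfl⟩; exact ((h1 J hJ).comm (h2 K hK)).inf (ginv_fix h.comm D)

theorem EA.sSup_step (h : EA p A G) (h1 : ∀ J ∈ F, GInv φ J) (h2 : ∀ J ∈ F', GInv φ J)
    (h3 : Dom (step φ F F') F) (h4 : Dom (step φ F F') F') : sSup (step φ F F') = ⁅sSup F, sSup F'⁆ := by
  refine le_antisymm (sSup_le ?_) ?_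
  · rintro _ ⟨J, hJ, K, hK, D, -, rfl⟩
    exact inf_le_left.trans (commutator_mono (le_sSup hJ) (le_sSup hK))
  have h5 : ∀ J ∈ F, ∀ K ∈ F', ⁅J, K⁆ ≤ sSup (step φ F F') := fun J hJ K hK =>
    h.gen ((h1 J hJ).comm (h2 K hK)) fun D hD => le_sSup ⟨J, hJ, K, hK, D, hD, rfl⟩
  have h6 : ∀ J ∈ step φ F F', J ≤ normalizer (sSup (step φ F F') : Subgroup G) := fun J hJ =>
    (le_sSup hJ).trans le_normalizer
  refine sSup_comm_le (fun J hJ => le_normalizer_iff_commutator_le_left.2 (sSup_comm_le h6 fun Y hY => ?_))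
    fun J hJ => commutator_comm_le _ _ |>.trans (sSup_comm_le (fun K hK =>
      le_normalizer_iff_commutator_le_left.2 (sSup_comm_le h6 fun Y hY => ?_))
        fun K hK => (commutator_comm_le _ _).trans (h5 J hJ K hK))
  · obtain ⟨K, hK, e⟩ := h4 Y hY
    exact (commutator_comm_le _ _).trans ((commutator_mono le_rfl e).trans (h5 J hJ K hK))
  · obtain ⟨J, hJ, e⟩ := h3 Y hY
    exact (commutator_mono e le_rfl).trans (h5 J hJ K hK)

omit [Finite G] in
theorem EA.index_le (h : EA p A G) {D : Subgroup A} (hD : Coc D) : D.index ≤ p := by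
  obtain ⟨b, hb⟩ := hD
  haveI : D.Normal := ⟨fun n hn g => by rwa [h.comm g, mul_inv_cancel_right]⟩
  have h1 : zpowers (b : A ⧸ D) = ⊤ := by
    have := congrArg (map (QuotientGroup.mk' D)) hb
    rwa [Subgroup.map_sup, MonoidHom.map_zpowers, (map_mk'_eq_bot_iff _ _).2 le_rfl, sup_bot_eq,
      map_top_of_surjective _ (QuotientGroup.mk'_surjective D)] at this
  rw [index, ← card_top, ← h1, Nat.card_zpowers]
  exact orderOf_le_of_pow_eq_one hp.out.pos (by rw [← QuotientGroup.mk_pow, h.pow]; rfl)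

theorem EA.solvable (h : EA p A G) (h3 : p ^ 3 ≤ Nat.card A)
    (hs : ∀ a : A, a ≠ 1 → Group.IsSolvable (actFix φ (zpowers a))) : Group.IsSolvable G := by
  obtain ⟨Γ, _, _, i, j, hΓ, -⟩ := exists_ambient φ
  have h1 : ∀ a, (actFix φ (zpowers a)).map i = (⊤ : Subgroup G).map i ⊓ centralizer {j a} := fun a => by
    rw [hΓ.map_actFix, MonoidHom.map_zpowers, zpowers_eq_closure, centralizer_closure]
  have hA : IsElementaryAbelian p ((⊤ : Subgroup A).map j) := ⟨⟨⟨by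
    rintro ⟨_, a, -, rfl⟩ ⟨_, b, -, rfl⟩
    exact Subtype.ext (by simp only [coe_mul, ← map_mul, h.comm a])⟩⟩, by
      rintro _ ⟨a, -, rfl⟩; rw [← map_pow, h.pow, map_one]⟩
  obtain ⟨X, hX, -, h2⟩ := Sig.sft (θ := fun x => (⊤ : Subgroup G).map i ⊓ centralizer {x})
    ⟨fun _ _ _ => inf_le_right, by
      rintro _ ⟨a, -, rfl⟩ -
      simp only [← h1, hΓ.card_map_i]
      exact hp.out.coprime_iff_not_dvd.1 (h.cop.coprime_dvd_right (card_subgroup_dvd_card _)), by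
      rintro _ ⟨a, -, rfl⟩ - _ ⟨b, -, rfl⟩ x hx
      simp only [← h1] at hx ⊢
      obtain ⟨x, hx, rfl⟩ := hx
      rw [hΓ.conj]
      exact mem_map_of_mem i (ginv_fix h.comm _ b x hx), fun _ _ _ _ _ _ => inf_le_inf_right _ inf_le_left⟩
    (by rintro _ ⟨a, -, rfl⟩ ha
        haveI := hs a fun e => ha (by rw [e, map_one])
        exact (congrArg (fun X : Subgroup Γ => Group.IsSolvable X) (h1 a)).mp (Core.isSolvable_map _ i)) hA (by rwa [hΓ.card_map_j, card_top])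
  haveI : IsMulCommutative (⊤ : Subgroup A) := ⟨⟨fun a b => Subtype.ext (h.comm _ _)⟩⟩
  have h4 : ⊤ ≤ X.comap i := act_le_of_forall_fixed_le (φ := φ) (B := ⊤) (fun hc => by
      have h4 := Monoid.exponent_dvd_of_forall_pow_eq_one fun a : (⊤ : Subgroup A) => Subtype.ext (h.pow a)
      rw [IsCyclic.exponent_eq_card, card_top] at h4
      have := Nat.pow_lt_pow_right hp.out.one_lt (show 1 < 3 by norm_num)
      have := Nat.le_of_dvd hp.out.pos h4
      rw [pow_one] at *; omega) (fun _ _ _ _ => mem_top _) (h.coprime _ _) fun b _ hb x _ hx =>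
    h2 (j b) ⟨b, mem_top b, rfl⟩ (fun e => hb (hΓ.inj_j (by rw [e, map_one])))
      (h1 b ▸ mem_map_of_mem i (mem_actFix_zpowers.2 hx))
  exact Group.isSolvable_of_isSolvable_injective (f := i.codRestrict X fun x => h4 (mem_top x))
    fun x y e => hΓ.inj_i (congrArg Subtype.val e)

end special

theorem D_le_lcs (X : Subgroup G) (c : ℕ) : D c X ≤ X.lowerCentralSeries c := by
  induction c with
  | zero => exact le_rfl
  | succ c ih => rw [D_succ]; exact commutator_mono ih (ih.trans (X.lowerCentralSeries_le_self c))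

theorem exists_special (p : ℕ) [hp : Fact p.Prime] (k c r : ℕ) (hk : 3 ≤ k) : ∃ m, ∀ (G : Type u) [Group G]
    [Finite G] (A : Type u) [Group A] [Finite A] (φ : A →* MulAut G) (w : Subgroup G → Subgroup G)
    (F : Set (Subgroup G)), EA p A G → Nat.card A = p ^ k → Monotone w → (∀ X, ⁅X, w X⁆ ≤ w X) →
    (∀ X, D r X ≤ w X) → (∀ a, a ≠ 1 → (w (actFix φ (zpowers a))).lowerCentralSeries c = ⊥) →
    (∀ J ∈ F, GInv φ J) → Dom (step φ F F) F → Dom F (base φ) →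
    (∀ J ∈ F, ∃ B : Subgroup A, B.index ≤ p ^ (k - 2) ∧ J ≤ w (actFix φ B)) →
    (sSup F).lowerCentralSeries m = ⊥ := by
  obtain ⟨m, hm⟩ := exists_lcs_eq_bot.{u} p (2 ^ p ^ k) (c + 1) (c + r)
  refine ⟨m, fun G _ _ A _ _ φ w F h hA hw h1 h2 h3 hF h4 h5 h6 => ?_⟩
  have h7 : ∀ a, a ≠ 1 → D (c + r) (actFix φ (zpowers a)) = ⊥ := fun a ha => by
    rw [D_add, eq_bot_iff, ← h3 a ha]
    exact (D_mono c (h2 _)).trans (D_le_lcs _ c)
  haveI := h.solvable (φ := φ) (hA ▸ Nat.pow_le_pow_right hp.out.pos hk) fun a ha => ⟨c + r, by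
    rw [← map_subtype_inj, ← D_top, map_D, ← MonoidHom.range_eq_map, range_subtype, h7 a ha, Subgroup.map_bot]⟩
  have h8 : ∀ B D : Subgroup A, B.index ≤ p ^ (k - 2) → Coc D → ∃ a ∈ B ⊓ D, a ≠ 1 := fun B D hB hD => by
    by_contra! h9
    have h10 := index_inf_le.trans (Nat.mul_le_mul hB (h.index_le hD))
    rw [(eq_bot_iff_forall _).2 h9, index_bot, hA, ← pow_succ, Nat.pow_le_pow_iff_right hp.out.one_lt] at h10
    omega
  haveI : Nontrivial A := Finite.one_lt_card_iff_nontrivial.1 (hA ▸ Nat.one_lt_pow (by omega) hp.out.one_lt)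
  obtain ⟨a₀, h0⟩ := exists_ne (1 : A)
  set N := sSup F
  have hN : GInv φ N := fun a => (sSup_le fun J hJ x hx => le_sSup hJ (hF J hJ a x hx) :
    N ≤ N.comap (φ a).toMonoidHom)
  have h9 : ∀ D, actFix (subAut φ N hN) D = (actFix φ D).subgroupOf N := fun D => Subgroup.ext fun x =>
    forall₂_congr fun d _ => Subtype.ext_iff
  rw [← top_subtype_lowerCentralSeries, map_eq_bot_iff_of_injective _ N.subtype_injective]
  refine hm N A (subAut φ N hN) {B : Subgroup A // B.index ≤ p ^ (k - 2)}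
    (fun B => (w (actFix φ B)).subgroupOf N) ((·.subgroupOf N) '' F) a₀ ?_
    ⟨h.pow, h.comm, h.cop.coprime_dvd_right (card_subgroup_dvd_card N)⟩ inferInstance (fun B D hD g hg => ?_)
    ?_ ?_ ?_ ?_ ?_ ?_
  · haveI := Fintype.ofFinite A
    rw [← hA, Nat.card_eq_fintype_card (α := A), ← Fintype.card_set, ← Nat.card_eq_fintype_card]
    exact Nat.card_le_card_of_injective (fun B => (B.1 : Set A)) fun _ _ e => Subtype.ext (SetLike.coe_injective e)
  · obtain ⟨a, ha, ha'⟩ := h8 B.1 D B.2 hD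
    have h10 : ∀ X : Subgroup A, a ∈ X → actFix φ X ≤ actFix φ (zpowers a) := fun X hX x hx =>
      mem_actFix_zpowers.2 (hx a hX)
    rw [h9] at hg
    exact gan_subgroupOf (gan_mono (hw (h10 _ ha.1)) _ fun x hx =>
      mem_gan_of_lcs (h3 a ha') c 0 (zero_add c) _ (h1 _ (commutator_mem_commutator (h10 _ ha.2 hg) hx)))
  · rintro _ ⟨J, hJ, rfl⟩ a x hx; exact hF J hJ a x hx
  · rintro _ ⟨J, hJ, rfl⟩
    obtain ⟨B, hB, e⟩ := h6 J hJ
    exact ⟨⟨B, hB⟩, comap_mono e⟩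
  · rintro _ ⟨J, hJ, rfl⟩
    obtain ⟨_, ⟨D, hD, rfl⟩, e⟩ := h5 J hJ
    exact ⟨D, hD, h9 D ▸ comap_mono e⟩
  · rintro _ ⟨J, hJ, rfl⟩ _ ⟨J', hJ', rfl⟩ D hD
    obtain ⟨J'', h10, e⟩ := h4 _ ⟨J, hJ, J', hJ', D, hD, rfl⟩
    refine ⟨_, ⟨J'', h10, rfl⟩, le_trans ?_ (comap_mono e)⟩
    rw [h9, comap_inf]
    exact inf_le_inf_right _ (commutator_le.2 fun x hx y hy => commutator_mem_commutator (G := G) hx hy)
  · rw [eq_top_iff, ← map_subtype_le_map_subtype, ← MonoidHom.range_eq_map, range_subtype]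
    exact sSup_le fun J hJ x hx => mem_map_of_mem N.subtype (x := ⟨x, le_sSup hJ hx⟩)
      ((le_sSup (Set.mem_image_of_mem _ hJ) : J.subgroupOf N ≤ _) hx)
  · rw [← map_subtype_inj, map_D, Subgroup.map_bot, eq_bot_iff, ← h7 a₀ h0, h9]
    exact D_mono _ (map_comap_le _ _)

section families

variable {A : Type u} [Group A] (φ : A →* MulAut G)

/-- special subgroups for the derived series -/
def Fd : ℕ → Set (Subgroup G)
  | 0 => base φ
  | d + 1 => step φ (Fd d) (Fd d)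

/-- special subgroups for the lower central series -/
def Fg : ℕ → Set (Subgroup G)
  | 0 => base φ
  | d + 1 => step φ (Fg d) (base φ)

theorem Fd_dom (d : ℕ) : Dom (Fd φ (d + 1)) (Fd φ d) := by
  induction d with
  | zero => exact dom_base
  | succ d ih => exact ih.step ih

theorem Fg_dom (d : ℕ) : Dom (Fg φ (d + 1)) (Fg φ d) := by
  induction d with
  | zero => exact dom_base
  | succ d ih => exact ih.step (.refl _)

theorem Fd_base (d : ℕ) : Dom (Fd φ d) (base φ) := by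
  cases d
  exacts [.refl _, dom_base]

theorem Fg_base (d : ℕ) : Dom (Fg φ d) (base φ) := by
  cases d
  exacts [.refl _, dom_base]

variable {φ} [Finite G] [Finite A] {p : ℕ} [hp : Fact p.Prime]

omit [Finite G] [Finite A] in
theorem actFix_anti {B C : Subgroup A} (h : B ≤ C) : actFix φ C ≤ actFix φ B := fun _ hx b hb => hx b (h hb)

theorem EA.Fd_spec (h : EA p A G) (d : ℕ) : (∀ J ∈ Fd φ d, GInv φ J) ∧ sSup (Fd φ d) = D d ⊤ ∧
    ∀ J ∈ Fd φ d, ∃ B : Subgroup A, B.index ≤ p ^ 2 ^ d ∧ J ≤ D d (actFix φ B) := by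
  induction d with
  | zero => exact ⟨h.inv_base, h.sSup_base, by rintro _ ⟨D, hD, rfl⟩; exact ⟨D, by simpa using h.index_le hD, le_rfl⟩⟩
  | succ d ih =>
    refine ⟨h.inv_step ih.1 ih.1, by rw [Fd, h.sSup_step ih.1 ih.1 (Fd_dom φ d) (Fd_dom φ d), ih.2.1, D_succ], ?_⟩
    rintro _ ⟨J, hJ, K, hK, E, -, rfl⟩
    obtain ⟨B, h1, h2⟩ := ih.2.2 J hJ
    obtain ⟨C, h3, h4⟩ := ih.2.2 K hK
    refine ⟨B ⊓ C, index_inf_le.trans ((Nat.mul_le_mul h1 h3).trans_eq (by ring)), inf_le_left.trans ?_⟩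
    rw [D_succ]
    exact commutator_mono (h2.trans (D_mono d (actFix_anti inf_le_left)))
      (h4.trans (D_mono d (actFix_anti inf_le_right)))

theorem EA.Fg_spec (h : EA p A G) (d : ℕ) : (∀ J ∈ Fg φ d, GInv φ J) ∧ sSup (Fg φ d) = Γ G d ∧
    ∀ J ∈ Fg φ d, ∃ B : Subgroup A, B.index ≤ p ^ (d + 1) ∧ J ≤ (actFix φ B).lowerCentralSeries d := by
  induction d with
  | zero => exact ⟨h.inv_base, h.sSup_base, by rintro _ ⟨D, hD, rfl⟩; exact ⟨D, by simpa using h.index_le hD, le_rfl⟩⟩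
  | succ d ih =>
    refine ⟨h.inv_step ih.1 h.inv_base, by
      rw [Fg, h.sSup_step ih.1 h.inv_base (Fg_dom φ d) dom_base, ih.2.1, h.sSup_base]; rfl, ?_⟩
    rintro _ ⟨J, hJ, _, ⟨C, hC, rfl⟩, E, -, rfl⟩
    obtain ⟨B, h1, h2⟩ := ih.2.2 J hJ
    exact ⟨B ⊓ C, index_inf_le.trans ((Nat.mul_le_mul h1 (h.index_le hC)).trans_eq (by ring)), inf_le_left.trans
      (commutator_mono (h2.trans (Subgroup.lowerCentralSeries_mono d (actFix_anti inf_le_left)))
        (actFix_anti inf_le_right))⟩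

end families

theorem ea_of {p : ℕ} (hc : (Nat.card G).Coprime p) {A : Subgroup (MulAut G)} (hA : IsElementaryAbelian p A) :
    EA p A G := ⟨fun a => Subtype.ext (hA.2 a a.2), hA.1.is_comm.comm, hc.symm⟩

theorem actFix_eq {A : Subgroup (MulAut G)} (a : A) :
    actFix A.subtype (zpowers a) = (a : MulAut G).toMonoidHom.eqLocus (MonoidHom.id G) :=
  Subgroup.ext fun _ => mem_actFix_zpowers

end Cfsg.Lib.Hall.Lie
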