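import Cfsg.Agent.Lib.Hall.Half
import Cfsg.Agent.S0696

/-! Normal subgroups of multiply transitive groups. -/

namespace Cfsg.Lib.Hall

open Subgroup MulAction SubMulAction _root_.Cfsg.Lib.Core
open scoped Pointwise commutatorElement

universe u v

section

variable {G Ω : Type*} [Group G] [MulAction G Ω]

instance faithful_ofStabilizer [FaithfulSMul G Ω] (a : Ω) : FaithfulSMul (stabilizer G a) (ofStabilizer G a) :=
  ⟨fun {g h} H => Subtype.ext (eq_of_smul_eq_smul (α := Ω) fun b => by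
    by_cases e : b = a
    · rw [e]; exact g.2.trans h.2.symm
    · exact congrArg Subtype.val (H ⟨b, e⟩))⟩

theorem mt_succ_of_subgroupOf (N : Subgroup G) [IsPretransitive N Ω] (a : Ω) {j : ℕ}
    (h : IsMultiplyPretransitive (N.subgroupOf (stabilizer G a)) (ofStabilizer G a) j) : IsMultiplyPretransitive N Ω (j + 1) := by
  refine (ofStabilizer.isMultiplyPretransitive (a := a)).mpr (Perm.mt_iff.mpr fun x y hx hy => ?_)
  obtain ⟨g, hg⟩ := Perm.mt_iff.mp h (fun i => ⟨x i, (x i).2⟩) (fun i => ⟨y i, (y i).2⟩)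
    (fun i j e => hx (Subtype.ext (congrArg Subtype.val e))) fun i j e => hy (Subtype.ext (congrArg Subtype.val e))
  exact ⟨⟨⟨g.1.1, g.2⟩, g.1.2⟩, fun i => Subtype.ext (congrArg Subtype.val (hg i))⟩

theorem subgroupOf_ne_bot {N : Subgroup G} {a : Ω} (h : stabilizer N a ≠ ⊥) : N.subgroupOf (stabilizer G a) ≠ ⊥ := fun e =>
  h (Perm.stabilizer_subgroup_eq_bot_iff.mpr fun g h1 h2 =>
    congrArg Subtype.val (show (⟨g, h2⟩ : stabilizer G a) = 1 from mem_bot.mp (e ▸ h1)))

theorem stabilizer_subgroupOf_eq_bot_iff {N : Subgroup G} {a b : Ω} (hb : b ≠ a) :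
    stabilizer (N.subgroupOf (stabilizer G a)) (⟨b, hb⟩ : ofStabilizer G a) = ⊥ ↔ stabilizer N a ⊓ stabilizer N b = ⊥ := by
  rw [Perm.stabilizer_subgroup_eq_bot_iff, eq_bot_iff]
  exact ⟨fun H g hg => Subtype.ext (Subtype.ext_iff.mp (H ⟨g, hg.1⟩ g.2 (Subtype.ext hg.2)) :),
    fun H g h1 h2 => Subtype.ext (Subtype.ext_iff.mp (mem_bot.mp (@H ⟨g, h1⟩ ⟨g.2, congrArg Subtype.val h2⟩)) :)⟩

theorem card_of_frob [Finite G] [Finite Ω] (h3 : IsMultiplyPreprimitive G Ω 3) (hn : 3 ≤ Nat.card Ω) (N : Subgroup G) [N.Normal]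
    [IsPretransitive N Ω] (h : ∀ a b : Ω, a ≠ b → stabilizer N a ⊓ stabilizer N b = ⊥) : Nat.card Ω ≤ 4 := by
  haveI := Fintype.ofFinite Ω
  haveI : Nontrivial Ω := Finite.one_lt_card_iff_nontrivial.mp (by omega)
  obtain ⟨K, _, -, k1, k2⟩ := exists_kernel_of_frob N h
  rw [Nat.card_eq_fintype_card] at hn ⊢
  rcases Cfsg.Agent.S0696.result hn h3 K k1 k2 with e | e <;> omega

theorem mp_of_mt [Finite Ω] {j k : ℕ} (h : IsMultiplyPretransitive G Ω k) (hj : j < k) (hk : k ≤ Nat.card Ω) :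
    IsMultiplyPreprimitive G Ω j :=
  haveI : IsMultiplyPretransitive G Ω j.succ := isMultiplyPretransitive_of_le hj hk
  isMultiplyPreprimitive_of_isMultiplyPretransitive_succ G Ω (by rw [ENat.card_eq_coe_natCard]; exact_mod_cast hj.trans_le hk)

end

theorem jordan_normal (k : ℕ) : ∀ {G : Type u} {Ω : Type v} [Group G] [MulAction G Ω] [Finite G] [Finite Ω] [FaithfulSMul G Ω],
    k + 2 < Nat.card Ω → IsMultiplyPretransitive G Ω (k + 2) → ∀ (N : Subgroup G) [N.Normal], N ≠ ⊥ →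
      IsMultiplyPretransitive N Ω (k + 1) ∨ (k = 1 ∧ ∀ a : Ω, stabilizer N a = ⊥) := by
  induction k with
  | zero =>
    intro G Ω _ _ _ _ _ _ h N _ hN
    haveI := isPreprimitive_of_is_two_pretransitive h
    exact Or.inl (is_one_pretransitive_iff.mpr (Perm.isPretransitive_of_normal N hN))
  | succ k ih =>
    intro G Ω _ _ _ _ _ hn h N _ hN
    haveI := (is_one_preprimitive_iff G Ω).mp (mp_of_mt h (by omega) hn.le)
    haveI := Perm.isPretransitive_of_normal (α := Ω) N hN
    have h1 : ∀ a : Ω, stabilizer N a ≠ ⊥ → IsMultiplyPretransitive N Ω (k + 2) ∨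
        (k = 1 ∧ ∀ b ≠ a, stabilizer N a ⊓ stabilizer N b = ⊥) := fun a ha =>
      (ih (by have := nat_card_ofStabilizer_add_one_eq G a; omega) ((ofStabilizer.isMultiplyPretransitive (a := a)).mp h) _
        (subgroupOf_ne_bot ha)).imp (mt_succ_of_subgroupOf N a) fun H => ⟨H.1, fun b hb => (stabilizer_subgroupOf_eq_bot_iff hb).mp (H.2 _)⟩
    by_cases hF : ∃ a b : Ω, a ≠ b ∧ stabilizer N a ⊓ stabilizer N b ≠ ⊥
    · obtain ⟨a, b, h2, h3⟩ := hF
      exact (h1 a fun e => h3 (by rw [e, bot_inf_eq])).imp id fun H => absurd (H.2 b h2.symm) h3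
    · push Not at hF
      obtain rfl : k = 0 := by_contra fun hk => by
        have := card_of_frob (mp_of_mt h (by omega) hn.le) (by omega) N hF
        omega
      exact or_iff_not_imp_right.mpr fun H => by
        obtain ⟨a, ha⟩ := not_forall.mp (not_and.mp H rfl)
        exact (h1 a ha).resolve_right fun H => by omega

theorem primitive_normal (k : ℕ) : ∀ {G : Type u} {Ω : Type v} [Group G] [MulAction G Ω] [Finite G] [Finite Ω] [FaithfulSMul G Ω],
    k + 1 ≤ Nat.card Ω → IsMultiplyPreprimitive G Ω (k + 1) → ¬ IsMultiplyPretransitive G Ω (Nat.card Ω - 1) →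
      ∀ (N : Subgroup G) [N.Normal], N ≠ ⊥ → (∃ a : Ω, stabilizer N a ≠ ⊥) → IsMultiplyPretransitive N Ω (k + 1) := by
  induction k with
  | zero =>
    intro G Ω _ _ _ _ _ _ h _ N _ hN _
    haveI := (is_one_preprimitive_iff G Ω).mp h
    exact is_one_pretransitive_iff.mpr (Perm.isPretransitive_of_normal N hN)
  | succ k ih =>
    rintro G Ω _ _ _ _ _ hn h ht N _ hN ⟨a, ha⟩
    have h0 : ∀ j ≤ k + 2, IsMultiplyPreprimitive G Ω j := fun j hj =>
      isMultiplyPreprimitive_of_le G Ω h hj (by rw [ENat.card_eq_coe_natCard]; exact_mod_cast hn)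
    haveI := (is_one_preprimitive_iff G Ω).mp (h0 1 (by omega))
    haveI := Perm.isPretransitive_of_normal (α := Ω) N hN
    by_cases hF : ∃ a b : Ω, a ≠ b ∧ stabilizer N a ⊓ stabilizer N b ≠ ⊥
    · obtain ⟨a, b, h2, h3⟩ := hF
      have e := nat_card_ofStabilizer_add_one_eq G a
      refine mt_succ_of_subgroupOf N a (ih (by omega) (isMultiplyPreprimitive_ofStabilizer G Ω) (fun H => ht ?_) _
        (subgroupOf_ne_bot fun e => h3 (by rw [e, bot_inf_eq])) ⟨_, fun e => h3 ((stabilizer_subgroupOf_eq_bot_iff h2.symm).mp e)⟩)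
      rw [show Nat.card Ω - 1 = Nat.card (ofStabilizer G a) - 1 + 1 by omega]
      exact (ofStabilizer.isMultiplyPretransitive (a := a)).mpr H
    · push Not at hF
      obtain rfl : k = 0 := by_contra fun hk => by
        have := card_of_frob (h0 3 (by omega)) (by omega) N hF
        exact ht (h0 _ (by omega)).isMultiplyPretransitive
      haveI := (is_one_preprimitive_iff _ _).mp (isMultiplyPreprimitive_ofStabilizer G Ω (n := 1) (a := a))
      exact mt_succ_of_subgroupOf N a (is_one_pretransitive_iff.mpr (Perm.isPretransitive_of_normal _ (subgroupOf_ne_bot ha)))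

end Cfsg.Lib.Hall
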