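import Cfsg.Agent.Lib.Hall.B3j

/-! # Vector stabilizers of bounded derived length: derived series bounds -/

set_option autoImplicit false
set_option linter.unusedSectionVars false
set_option linter.style.haveILetI false

namespace Cfsg.Lib.Hall.MW

open Cfsg Cfsg.Lib Subgroup Cfsg.Lib.Block.B2 Cfsg.Lib.Hall.B3 MulAction
open scoped commutatorElement

section
variable {G G' : Type*} [Group G] [Group G']

/-- derived series of a subgroup -/
def ds (L : Subgroup G) : ℕ → Subgroup G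
  | 0 => L
  | k + 1 => ⁅ds L k, ds L k⁆

theorem ds_mono {L L' : Subgroup G} (h : L ≤ L') : ∀ k, ds L k ≤ ds L' k
  | 0 => h
  | k + 1 => commutator_mono (ds_mono h k) (ds_mono h k)

theorem ds_add (L : Subgroup G) (a : ℕ) : ∀ b, ds L (a + b) = ds (ds L a) b
  | 0 => rfl
  | b + 1 => by rw [← add_assoc, ds, ds, ds_add L a b]

theorem ds_le (L : Subgroup G) : ∀ k, ds L k ≤ L
  | 0 => le_rfl
  | k + 1 => (commutator_le.2 fun _ ha _ hb => mul_mem (mul_mem (mul_mem ha hb) (inv_mem ha)) (inv_mem hb)).trans (ds_le L k)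

theorem ds_anti (L : Subgroup G) {a b : ℕ} (h : a ≤ b) : ds L b ≤ ds L a := by
  obtain ⟨c, rfl⟩ := Nat.exists_eq_add_of_le h
  rw [ds_add]; exact ds_le _ _

theorem ds_map (φ : G →* G') (L : Subgroup G) : ∀ k, (ds L k).map φ = ds (L.map φ) k
  | 0 => rfl
  | k + 1 => by rw [ds, ds, map_commutator, ds_map φ L k]

theorem ds_top : ∀ k, ds (⊤ : Subgroup G) k = derivedSeries G k
  | 0 => rfl
  | k + 1 => by rw [ds, ds_top k, derivedSeries_succ]

theorem ds_hom (φ : G →* G') {L : Subgroup G} {L' N : Subgroup G'} {k : ℕ} (h : ∀ g ∈ L, φ g ∈ L') (h' : ds L' k ≤ N) :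
    ∀ g ∈ ds L k, φ g ∈ N := fun g hg =>
  h' (ds_mono (map_le_iff_le_comap.2 h) k (ds_map φ L k ▸ mem_map_of_mem φ hg))

theorem ds_sub (φ : G →* G') {L : Subgroup G} {L' : Subgroup G'} {k : ℕ} (h : ∀ g ∈ L', ∃ x ∈ L, φ x = g) :
    ∀ g ∈ ds L' k, ∃ x ∈ ds L k, φ x = g := fun _ hg =>
  mem_map.1 ((ds_map φ L k).symm ▸ ds_mono (L' := L.map φ) h k hg)

theorem ds_trans {L L' N : Subgroup G} {a b n : ℕ} (h : ds L a ≤ L') (h' : ds L' b ≤ N) (e : a + b ≤ n) : ds L n ≤ N :=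
  (ds_anti L e).trans (by rw [ds_add]; exact (ds_mono h b).trans h')

theorem ds_one {L N : Subgroup G} (h : ∀ a ∈ L, ∀ b ∈ L, ⁅a, b⁆ ∈ N) : ds L 1 ≤ N := commutator_le.2 h

theorem ds_comm {L N : Subgroup G} (h : ∀ a ∈ L, ∀ b ∈ L, a * b = b * a) : ds L 1 ≤ N :=
  ds_one fun a ha b hb => by rw [commutatorElement_eq_one_iff_mul_comm.2 (h a ha b hb)]; exact N.one_mem
end

universe u
variable {G V : Type u} [Group G] [Finite G] [AddCommGroup V] [Finite V] [DistribMulAction G V]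

local notation "𝐂" S => centralizer (SetLike.coe S)

theorem ds_im {L : Subgroup G} {L' : Subgroup (rp G V).range} {k : ℕ} (h : ∀ g ∈ L, (rp G V).rangeRestrict g ∈ L')
    (h' : ds L' k ≤ kr _ V) : ds L k ≤ kr G V := fun g hg => ds_hom _ h h' g hg

theorem ds_prim [Group.IsSolvable G] {H : Subgroup G} (hH : IsCoatom H) {k : ℕ}
    (h : ∀ (M : Subgroup (G ⧸ H.normalCore)) (_ : M.Normal) (hc : ∀ a ∈ M, ∀ b ∈ M, a * b = b * a), M ≠ ⊥ →
      Nat.card (AX M hc) = H.index → Irr (G ⧸ H.normalCore) (AX M hc) → ds ⊤ k ≤ kr (G ⧸ H.normalCore) (AX M hc)) :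
    ds ⊤ (k + 1) ≤ H.normalCore := by
  obtain ⟨M, _, hc, M0, i, c1, c2, -⟩ := prim_quot hH
  have := h M _ hc M0 c1 i
  rw [AX.kr_eq, c2] at this
  exact fun g hg => (QuotientGroup.eq_one_iff g).1 (mem_bot.1 (ds_hom (QuotientGroup.mk' _) (fun _ _ => mem_top _)
    (ds_trans this (ds_comm hc) le_rfl) g hg))

theorem imp_dsk {H : Subgroup G} {e : V →+ V} (h : Imp V H e) (hi : Irr G V) {S : Subgroup G} {n : ℕ}
    (h1 : letI := subAct h.inv; ∀ c : G ⧸ H, ∃ (T : Subgroup H) (j d : ℕ), (∀ g ∈ ds S j, ∃ t ∈ T, c.out * t.1 * c.out⁻¹ = g) ∧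
      ds T d ≤ kr H e.range ∧ j + d ≤ n) : ds S n ≤ kr G V := by
  letI := subAct h.inv
  refine fun g hg => h.triv hi fun c x hx => ?_
  obtain ⟨T, j, d, t1, t2, t3⟩ := h1 c
  obtain ⟨t, ht, rfl⟩ := ds_sub ((MulAut.conj c.out).toMonoidHom.comp H.subtype) t1 g (ds_add S j d ▸ ds_anti S t3 hg)
  have : t.1 • x = x := congrArg Subtype.val (t2 ht ⟨x, hx⟩)
  show (c.out * t.1 * c.out⁻¹) • _ = _
  rw [mul_smul, inv_smul_smul, mul_smul, this]

theorem imp_top {H : Subgroup G} {e : V →+ V} (h : Imp V H e) (hi : Irr G V) {j d n : ℕ} (h1 : ds ⊤ j ≤ H.normalCore)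
    (h2 : letI := subAct h.inv; ds ⊤ d ≤ kr H e.range) (h3 : j + d ≤ n) : ds ⊤ n ≤ kr G V :=
  imp_dsk h hi fun c => ⟨⊤, j, d, fun g hg => ⟨⟨c.out⁻¹ * g * c.out⁻¹⁻¹, h1 hg _⟩, trivial, by group⟩, h2, h3⟩

theorem kr_sum {U W : AddSubgroup V} (hU : Inv G V U) (hW : Inv G V W) (h3 : U ⊔ W = ⊤) :
    letI := subAct hU; letI := subAct hW; kr G U ⊓ kr G W ≤ kr G V := by
  letI := subAct hU
  letI := subAct hW
  intro g hg x
  obtain ⟨a, ha, b, hb, rfl⟩ := AddSubgroup.mem_sup.1 (h3 ▸ trivial : x ∈ U ⊔ W)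
  rw [smul_add]; exact congrArg₂ (· + ·) (congrArg Subtype.val (hg.1 ⟨a, ha⟩)) (congrArg Subtype.val (hg.2 ⟨b, hb⟩))

section ps
variable {K : Type u} [Field K] [Finite K] [Module K V] {Z : Subgroup G} [hZn : Z.Normal] {ι : Z →* K} {E : Subgroup G}
  [hEn : E.Normal] {A : Type u} [AddCommGroup A] [Finite A] [DistribMulAction G A] {π : G → A} {β : Fm K A}

theorem dsC (P : PS V Z ι E π β) : ds ⊤ 1 ≤ 𝐂 Z := by
  haveI := isCyclic_of_injective_ringHom ι P.L.inj
  refine ds_one fun a _ b _ z hz => ?_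
  have : MulAut.conjNormal (H := Z) ⁅a, b⁆ = 1 := by
    rw [map_commutatorElement, commutatorElement_eq_one_iff_mul_comm]
    exact (IsCyclic.mulAutMulEquiv Z).injective (by rw [map_mul, map_mul, mul_comm])
  exact (mul_inv_eq_iff_eq_mul.1 (congrArg Subtype.val (DFunLike.congr_fun this ⟨z, hz⟩))).symm

theorem dsE (P : PS V Z ι E π β) {k : ℕ} (h : ds ⊤ k ≤ kr G A) (h1 : 1 ≤ k) : ds ⊤ k ≤ E :=
  fun g hg => P.faith g (dsC P (ds_anti _ h1 hg)) (h hg)

theorem dsZ (P : PS V Z ι E π β) : ds E 1 ≤ Z := ds_one fun a ha b hb => (P.form a ha b hb).1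
theorem dsZ' (P : PS V Z ι E π β) {N : Subgroup G} : ds Z 1 ≤ N := ds_comm fun a ha _ hb => P.comm hb a ha

theorem ds2 (P : PS V Z ι E π β) {k : ℕ} (h : ds ⊤ k ≤ E) : ds ⊤ (k + 2) ≤ kr G V :=
  ds_trans h (ds_trans (dsZ P) (dsZ' P) le_rfl) le_rfl

theorem ds1 (P : PS V Z ι E π β) {k : ℕ} (h : ds ⊤ k ≤ Z) {v : V} (hv : v ≠ 0) : ds (stabilizer G v) k ≤ kr G V := fun g hg => by
  rw [(by_contra fun n => hv (P.L.fpf (h (ds_mono le_top k hg)) n (ds_le _ k hg)) : g = 1)]; exact one_mem _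

theorem CZ (P : PS V Z ι E π β) (h : Nat.card A = 1) : (𝐂 Z) ≤ Z := fun g hg => by
  haveI := (Nat.card_eq_one_iff_unique.1 h).1
  exact (P.zero g (P.faith g hg fun _ => Subsingleton.elim _ _)).1 (Subsingleton.elim _ _)

theorem q3 [Nontrivial V] (P : PS V Z ι E π β) {b : ℕ} (hb : Nat.card A = b * b) (b1 : b ≠ 1) : 3 ≤ Nat.card K := by
  obtain ⟨r, hr, d⟩ := Nat.exists_prime_and_dvd b1
  have := Nat.le_of_dvd (by have := P.q2; omega) (((P.bb hb).2.2.1 r hr d).trans P.card_Z)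
  have := hr.two_le
  omega

theorem qb [Nontrivial V] (P : PS V Z ι E π β) {b : ℕ} (hb : Nat.card A = b * b) : Nat.card K ^ b ≤ Nat.card V := by
  rw [Module.natCard_eq_pow_finrank (K := K) (V := V)]
  exact Nat.pow_le_pow_right Nat.card_pos (P.bb hb).2.1
end ps

def fD (n : ℕ) : ℕ := if n ≤ 2 then 0 else if n ≤ 3 then 1 else if n ≤ 8 then 2 else if n ≤ 26 then 4 else if n ≤ 728 then 6 else 8

theorem fD_mono {a b : ℕ} (h : a ≤ b) : fD a ≤ fD b := by unfold fD; split_ifs <;> omega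

theorem dl_all (n : ℕ) : ∀ (G V : Type u) [Group G] [Finite G] [AddCommGroup V] [Finite V] [DistribMulAction G V]
    [Group.IsSolvable G], Nat.card V < n → Nat.card V ≤ 19682 → CR G V → ds ⊤ (fD (Nat.card V)) ≤ kr G V := by
  induction n with
  | zero => intro G V _ _ _ _ _ _ h; omega
  | succ n ih =>
  intro G V _ _ _ _ _ _ hn hb hcr
  by_cases hi : Irr G V
  swap
  · obtain ⟨U, W, hU, hW, u1, w1, -, -, -, h3⟩ := not_irr hcr hi
    letI := subAct hU
    letI := subAct hW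
    have u2 := card_lt u1
    have w2 := card_lt w1
    exact (le_inf ((ds_anti _ (fD_mono u2.le)).trans (ih G U (by omega) (by omega) (hcr.sub hU)))
      ((ds_anti _ (fD_mono w2.le)).trans (ih G W (by omega) (by omega) (hcr.sub hW)))).trans (kr_sum hU hW h3)
  rcases subsingleton_or_nontrivial V with _ | _
  · exact fun _ _ _ => Subsingleton.elim _ _
  refine ds_im (L' := ⊤) (fun _ _ => trivial) ?_
  haveI := im_solv (G := G) (V := V)
  rcases exists_PS (im_irr hi) im_faith with ⟨H, e, h⟩ | ⟨K, _, _, _, Z, _, ι, E, _, A, _, _, _, π, β, P⟩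
  · letI := subAct h.inv
    haveI := h.nontriv
    have t1 := card_lt h.ne_top
    have t2 := h.idx_lt
    have t3 := h.pow_le
    have t4 : 2 ≤ Nat.card e.range := Finite.one_lt_card
    have t5 : 2 ≤ H.index := one_lt_index_of_ne_top h.co.1
    refine imp_top h (im_irr hi) (ds_prim h.co (k := fD H.index) fun M _ hc _ c i => c ▸ ih _ _ (by omega) (by omega) i.cr)
      (ih H e.range (by omega) (by omega) (h.irr (im_irr hi)).cr) (le_trans ?_ (fD_mono t3))
    have : ∀ b < 141, ∀ m < 15, 2 ≤ b → 2 ≤ m → b ^ m ≤ 19682 → fD m + 1 + fD b ≤ fD (b ^ m) := by decide +kernel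
    refine this _ ?_ _ ?_ t4 t5 (t3.trans hb)
    · by_contra! l
      have := (Nat.pow_le_pow_left l 2).trans ((Nat.pow_le_pow_right (by omega) t5).trans t3); omega
    · by_contra! l
      have := (Nat.pow_le_pow_right two_pos l).trans ((Nat.pow_le_pow_left t4 _).trans t3); omega
  obtain ⟨b, eb⟩ := P.alt.isSquare
  obtain ⟨b0, -, -, lt⟩ := P.bb eb
  have t1 := qb P eb
  by_cases b1 : b = 1
  · have t2 := CZ P (by rw [eb, b1])
    by_cases l : 4 ≤ Nat.card V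
    · exact ds_trans ((dsC P).trans t2) (dsZ' P) (fD_mono l)
    obtain ⟨q0, q1, q2⟩ := P.fld
    rw [b1, pow_one] at t1
    have t3 : (⊤ : Subgroup _) ≤ Z := le_trans (index_eq_one.1 (by_contra fun n => by
      have : (𝐂 Z).index ≠ 0 := index_ne_zero_of_finite
      have := (Nat.pow_le_pow_left q1 2).trans (Nat.pow_le_pow_right (by omega) (show 2 ≤ (𝐂 Z).index by omega))
      omega)).ge t2
    by_cases l' : 3 ≤ Nat.card V
    · exact ds_trans (a := 0) t3 (dsZ' P) (fD_mono l')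
    have t4 := P.card_Z
    have := P.q2
    rw [show Nat.card K = 2 by omega, Nat.dvd_one, card_eq_one] at t4
    exact (ds_le _ _).trans (t3.trans (t4.le.trans bot_le))
  have t2 := (Nat.pow_le_pow_left (q3 P eb b1) b).trans t1
  have t3 : b < 9 := by by_contra! l; have := Nat.pow_le_pow_right (show 0 < 3 by norm_num) l; omega
  have t4 : ∀ b < 9, 0 < b → b ≠ 1 → 1 ≤ fD (b * b) ∧ fD (b * b) + 2 ≤ fD (3 ^ b) := by decide +kernel
  obtain ⟨t5, t6⟩ := t4 b t3 b0 b1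
  exact (ds_anti _ (t6.trans (fD_mono t2))).trans (ds2 P (dsE P (eb ▸ ih _ A (by omega) (by omega) P.cr) t5))

theorem dl [Group.IsSolvable G] (h : CR G V) {n : ℕ} (h1 : Nat.card V ≤ n) (h2 : n ≤ 19682) : ds ⊤ (fD n) ≤ kr G V :=
  (ds_anti _ (fD_mono h1)).trans (dl_all _ G V (Nat.lt_succ_self _) (h1.trans h2) h)

def pp (t : ℕ) : ℕ := if t ≤ 1 then 0 else if t ≤ 2 then 1 else if t ≤ 3 then 2 else 3
theorem pp_mono {a b : ℕ} (h : a ≤ b) : pp a ≤ pp b := by unfold pp; split_ifs <;> omega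

theorem perm_bd (t : ℕ) : ∀ (G : Type u) [Group G] [Finite G] [Group.IsSolvable G] (H : Subgroup G), H.index < t → H.index ≤ 7 →
    ds ⊤ (pp H.index) ≤ H := by
  induction t with
  | zero => intro G _ _ _ H h; omega
  | succ t ih =>
  intro G _ _ _ H h1 h2
  rcases eq_top_or_exists_le_coatom H with rfl | ⟨L, hL, h⟩
  · exact le_top
  have t1 := relIndex_mul_index h
  have t2 : 2 ≤ L.index := one_lt_index_of_ne_top hL.1
  have t3 : H.relIndex L ≠ 0 := index_ne_zero_of_finite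
  have t4 : H.relIndex L < H.index := by rw [← t1]; exact lt_mul_of_one_lt_right (by omega) t2
  have t5 : L.index ≤ H.index := index_antitone h
  refine ds_trans ((ds_prim hL (k := fD L.index) fun M _ hc _ c i => dl i.cr c.le (by omega)).trans L.normalCore_le)
    (b := pp (H.relIndex L)) (fun g hg => ?_) ?_
  · obtain ⟨x, hx, rfl⟩ := ds_sub L.subtype (L := ⊤) (fun g hg => ⟨⟨g, hg⟩, trivial, rfl⟩) g hg
    exact ih L (H.subgroupOf L) (show H.relIndex L < t by omega) (show H.relIndex L ≤ 7 by omega) hx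
  · have : ∀ a < 8, ∀ b < 8, 2 ≤ a → b ≠ 0 → b * a ≤ 7 → fD a + 1 + pp b ≤ pp (b * a) := by decide +kernel
    rw [← t1]; exact this _ (by omega) _ (by omega) t2 t3 (by omega)

theorem perm_fix [Group.IsSolvable G] {Ω : Type*} [Finite Ω] [MulAction G Ω] (L : Subgroup G) (T : Set Ω)
    (h : ∀ g ∈ L, ∀ c ∈ T, g • c ∈ T) (h7 : T.ncard ≤ 7) {c : Ω} (hc : c ∈ T) : ∀ g ∈ ds L (pp T.ncard), g • c = c := fun g hg => by
  have : (stabilizer L c).index ≤ T.ncard := by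
    rw [index_stabilizer]; exact Set.ncard_le_ncard (by rintro _ ⟨g, rfl⟩; exact h g g.2 c hc)
  obtain ⟨x, hx, rfl⟩ := ds_sub L.subtype (L := ⊤) (fun g hg => ⟨⟨g, hg⟩, trivial, rfl⟩) g hg
  exact perm_bd _ L (stabilizer L c) (Nat.lt_succ_self _) (by omega) (ds_anti _ (pp_mono this) hx)

end Cfsg.Lib.Hall.MW
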