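import Cfsg.Agent.Lib.Hall.MWa

/-! # Vector stabilizers of bounded derived length: colourings of imprimitive modules -/

set_option autoImplicit false
set_option linter.unusedSectionVars false
set_option linter.style.haveILetI false

namespace Cfsg.Lib.Hall.MW

open Cfsg Cfsg.Lib Subgroup Cfsg.Lib.Block.B2 Cfsg.Lib.Hall.B3 MulAction
open scoped commutatorElement

universe u
variable {G V : Type u} [Group G] [Finite G] [AddCommGroup V] [Finite V] [DistribMulAction G V]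

theorem exists_base [Group.IsSolvable G] {H : Subgroup G} (hH : IsCoatom H) {r : ℕ} (hr : r = 4 ∨ (r = 2 ∧ H.index.Prime)) :
    ∃ B : Finset (G ⧸ H), B.card ≤ r ∧ ∀ g : G, (∀ c ∈ B, g • c = c) → ∀ c : G ⧸ H, g • c = c := by
  classical
  obtain ⟨M, _, hc, M0, i, c1, -, -⟩ := prim_quot hH
  choose s hs using QuotientGroup.mk'_surjective H.normalCore
  let τ : AX M hc → G ⧸ H := fun t => QuotientGroup.mk (s t.val)
  have k : ∀ (t : AX M hc) (x h : G), h ∈ H → QuotientGroup.mk' _ x = t.val → QuotientGroup.mk (x * h) = τ t := fun t x h hh e =>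
    QuotientGroup.eq.2 (by
      rw [mul_inv_rev, mul_assoc]
      exact H.mul_mem (H.inv_mem hh) (H.normalCore_le (QuotientGroup.eq.1 (e.trans (hs _).symm))))
  have sj : Function.Surjective τ := fun c => by
    have : M.comap (QuotientGroup.mk' _) ⊔ H = ⊤ := hH.2 _ (right_lt_sup.2 fun e => M0 (eq_bot_iff.2 fun x hx => by
      rw [← hs x] at hx ⊢
      exact (QuotientGroup.eq_one_iff _).2 (normal_le_normalCore.2 e hx)))
    obtain ⟨m, hm, h, hh, e⟩ := mem_sup_of_normal_left.1 (this ▸ trivial : c.out ∈ M.comap (QuotientGroup.mk' _) ⊔ H)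
    exact ⟨AX.mk hc _ hm, (k (AX.mk hc _ hm) m h hh rfl).symm.trans (by rw [e, QuotientGroup.out_eq'])⟩
  have ij : Function.Injective τ := ((Nat.bijective_iff_surjective_and_card τ).2 ⟨sj, c1⟩).1
  have eqv : ∀ g ∈ H, ∀ t, g • τ t = τ (QuotientGroup.mk' H.normalCore g • t) := fun g hg t =>
    Eq.trans (by rw [inv_mul_cancel_right]; rfl) (k _ (g * s t.val * g⁻¹) g hg (by rw [map_mul, map_mul, map_inv, hs]; rfl))
  have z : τ 0 = QuotientGroup.mk 1 := (k 0 1 1 H.one_mem (map_one _)).symm.trans (by rw [mul_one])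
  suffices ∀ j, Bs (G ⧸ H.normalCore) (AX M hc) (Fin j) → ∃ B : Finset (G ⧸ H), B.card ≤ j + 1 ∧
      ∀ g : G, (∀ c ∈ B, g • c = c) → ∀ c : G ⧸ H, g • c = c by
    rcases hr with rfl | ⟨rfl, hp⟩
    · exact this 3 (base3 _ _ _ (Nat.lt_succ_self _) i.cr)
    haveI _a : Nontrivial (AX M hc) := (nontrivial_iff_ne_bot M).2 M0
    haveI _b := Fact.mk hp
    obtain ⟨v, hv⟩ := exists_ne (0 : AX M hc)
    refine this 1 ⟨fun _ => v, fun g e x => ?_⟩
    obtain ⟨n, rfl⟩ : x ∈ AddSubgroup.zmultiples v := (zmultiples_eq_top_of_prime_card (AX.card.trans c1) hv) ▸ trivial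
    show g • n • v = n • v
    rw [smul_comm, e 0]
  rintro j ⟨v, hv⟩
  refine ⟨insert (τ 0) (Finset.univ.image fun i => τ (v i)), (Finset.card_insert_le _ _).trans
    (Nat.succ_le_succ (Finset.card_image_le.trans (by simp))), fun g hg c => ?_⟩
  have m : g ∈ H := by
    have := hg _ (Finset.mem_insert_self _ _)
    rw [z] at this
    simpa using H.inv_mem (QuotientGroup.eq.1 this)
  obtain ⟨t, rfl⟩ := sj c
  rw [eqv g m, hv _ fun i => ij ((eqv g m _).symm.trans (hg _ (by simp)))]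

theorem exists_enum {Ω : Type*} [Finite Ω] (B : Finset Ω) : ∃ σ : Ω ≃ Fin (Nat.card Ω), ∀ c ∈ B, (σ c).1 < B.card := by
  classical
  haveI := Fintype.ofFinite Ω
  have nd : (B.toList ++ Bᶜ.toList).Nodup := List.nodup_append.2 ⟨B.nodup_toList, Finset.nodup_toList _, fun a ha b hb e => by
    simp_all⟩
  have al : ∀ x, x ∈ B.toList ++ Bᶜ.toList := fun x => by simp [em]
  refine ⟨(nd.getEquivOfForallMemList _ al).symm.trans (finCongr (by simp)), fun c hc => ?_⟩
  show List.idxOf c _ < _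
  rw [List.idxOf_append_of_mem (by simpa using hc), ← B.length_toList]
  exact List.idxOf_lt_length_of_mem (by simpa using hc)

variable (G V) in
/-- pairwise non-conjugate vectors with stabilizers of bounded derived length -/
def Col (κ : Type) (d : κ → ℕ) : Prop :=
  ∃ w : κ → V, (∀ c, ds (stabilizer G (w c)) (d c) ≤ kr G V) ∧ ∀ c c' (g : G), g • w c = w c' → c = c'

theorem Col.of_im {κ : Type} {d : κ → ℕ} (h : Col (rp G V).range V κ d) : Col G V κ d := by
  obtain ⟨w, h1, h2⟩ := h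
  exact ⟨w, fun c => ds_im (fun g hg => hg) (h1 c), fun c c' g => h2 c c' ((rp G V).rangeRestrict g)⟩

variable {H : Subgroup G} {e : V →+ V}

theorem imp_key [Fintype (G ⧸ H)] (h : Imp V H e) {p q : G ⧸ H → V} (hp : ∀ c, p c ∈ e.range) (hq : ∀ c, q c ∈ e.range) {g : G}
    (t : g • ∑ c : G ⧸ H, c.out • p c = ∑ c : G ⧸ H, c.out • q c) (c : G ⧸ H) :
    (g • c).out⁻¹ * g * c.out ∈ H ∧ ((g • c).out⁻¹ * g * c.out) • p c = q (g • c) := by
  have t1 := h.comp q hq (g • c).out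
  have t2 := h.comp p hp (g⁻¹ * (g • c).out)
  have t3 := Imp.hout H (g⁻¹ * (g • c).out)
  have m : (QuotientGroup.mk (g⁻¹ * (g • c).out) : G ⧸ H) = c := by
    rw [← smul_eq_mul, ← MulAction.Quotient.smul_mk, QuotientGroup.out_eq', inv_smul_smul]
  rw [m, mul_inv_rev, inv_inv] at t2 t3
  rw [QuotientGroup.out_eq', inv_mul_cancel, one_smul, ← t, ← mul_smul] at t1
  exact ⟨t3, t2.symm.trans t1⟩

theorem imp_col (h : Imp V H e) (hi : Irr G V) {κ μ : Type} {d : κ → ℕ} {n : μ → ℕ}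
    (hw : letI := subAct h.inv; Col H e.range κ d) (col : μ → G ⧸ H → κ)
    (h1 : ∀ l l' (g : G), (∀ c, col l' (g • c) = col l c) → l = l')
    (h2 : ∀ l (L : Subgroup G), (∀ g ∈ L, ∀ c, col l (g • c) = col l c) → ∀ c, ∃ j, (∀ g ∈ ds L j, g • c = c) ∧
      j + d (col l c) ≤ n l) : Col G V μ n := by
  letI := subAct h.inv
  haveI := Fintype.ofFinite (G ⧸ H)
  obtain ⟨w, w1, w2⟩ := hw
  have k : ∀ l l' (g : G), g • ∑ c : G ⧸ H, c.out • (w (col l c)).1 = ∑ c : G ⧸ H, c.out • (w (col l' c)).1 → ∀ c,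
      col l' (g • c) = col l c := fun l l' g t c => by
    obtain ⟨m, t⟩ := imp_key h (fun c => (w (col l c)).2) (fun c => (w (col l' c)).2) t c
    exact (w2 _ _ ⟨_, m⟩ (Subtype.ext t)).symm
  refine ⟨fun l => ∑ c : G ⧸ H, c.out • (w (col l c)).1, fun l => imp_dsk h hi fun c => ?_, fun l l' g t => h1 l l' g (k l l' g t)⟩
  obtain ⟨j, j1, j2⟩ := h2 l (stabilizer G _) (k l l) c
  refine ⟨_, j, _, fun g hg => ?_, w1 _, j2⟩
  obtain ⟨m, t⟩ := imp_key h (fun c => (w (col l c)).2) (fun c => (w (col l c)).2) (ds_le _ _ hg) c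
  rw [j1 g hg] at m t
  exact ⟨⟨_, m⟩, Subtype.ext t, by group⟩

def cnt {κ : Type} [DecidableEq κ] (m : ℕ) (cl : ℕ → κ) (k : κ) : ℕ := ((Finset.range m).filter fun i => cl i = k).card

def ok (t d n : ℕ) : Prop := t ≤ 7 ∧ pp t + d ≤ n
instance (t d n : ℕ) : Decidable (ok t d n) := by unfold ok; infer_instance

theorem imp_tr [Group.IsSolvable G] (h : Imp V H e) (hi : Irr G V) {κ μ : Type} [DecidableEq κ] {d : κ → ℕ} {n : μ → ℕ}
    (hw : letI := subAct h.inv; Col H e.range κ d) {m : ℕ} (hm : H.index = m) (r : ℕ) (hr : r = 4 ∨ (r = 2 ∧ m.Prime))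
    (cl : μ → ℕ → κ) (h1 : ∀ l l', (∀ k, cnt m (cl l) k = cnt m (cl l') k) → l = l')
    (h2 : ∀ l, ∀ i < m, ok (cnt m (cl l) (cl l i)) (d (cl l i)) (n l) ∨
      (d (cl l i) ≤ n l ∧ ∀ i' < r, ok (cnt m (cl l) (cl l i')) (d (cl l i)) (n l))) : Col G V μ n := by
  subst hm
  obtain ⟨B, b1, b2⟩ := exists_base h.co hr
  obtain ⟨σ, hσ⟩ := exists_enum B
  have k : ∀ l k, {c | cl l (σ c) = k}.ncard = cnt H.index (cl l) k := fun l k => by
    rw [cnt, ← Set.ncard_coe_finset]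
    refine Set.ncard_congr (fun c _ => (σ c).1) (fun c hc => ?_) (fun a b _ _ t => σ.injective (Fin.ext t)) fun i hi => ?_
    · simpa using ⟨(σ c).2, hc⟩
    · simp only [Finset.coe_filter, Finset.mem_range, Set.mem_ofPred_eq] at hi
      exact ⟨σ.symm ⟨i, hi.1⟩, by simpa using hi.2, by simp⟩
  refine imp_col h hi hw (fun l c => cl l (σ c)) (fun l l' g t => h1 l l' fun a => ?_) fun l L t c => ?_
  · rw [← k, ← k]
    exact Set.ncard_congr (fun c _ => g • c) (fun c hc => (t c).trans hc) (fun a b _ _ t => smul_left_cancel g t)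
      fun c hc => ⟨g⁻¹ • c, by rw [Set.mem_ofPred_eq, ← t, smul_inv_smul]; exact hc, smul_inv_smul _ _⟩
  have f : ∀ c' d' n', ok (cnt H.index (cl l) (cl l (σ c'))) d' n' → ∀ g ∈ ds L (n' - d'), g • c' = c' := fun c' d' n' o g hg =>
    perm_fix L {c | cl l (σ c) = cl l (σ c')} (fun g hg c hc => (t g hg c).trans hc) (by rw [k]; exact o.1) rfl g
      (ds_anti _ (by rw [k]; have := o.2; omega) hg)
  rcases h2 l (σ c) (σ c).2 with o | ⟨o, o'⟩
  · exact ⟨_, f c _ _ o, by have := o.2; omega⟩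
  · exact ⟨_, fun g hg => b2 g (fun c' hc => f c' _ _ (o' _ ((hσ c' hc).trans_le b1)) g hg) c, by omega⟩

theorem imp_tr' [Group.IsSolvable G] (h : Imp V H e) (hi : Irr G V) {κ μ : Type} [DecidableEq κ] {d : κ → ℕ} {n : μ → ℕ}
    (hw : letI := subAct h.inv; Col H e.range κ d) (m : ℕ) (hm : m ≤ H.index) (T : μ → List κ) (k0 : μ → κ)
    (h0 : ∀ l, (T l).length ≤ m ∧ k0 l ∉ T l ∧ 4 ≤ (T l).length ∧ d (k0 l) ≤ n l ∧ ∀ i < (T l).length,
      ok (cnt m ((T l).getD · (k0 l)) ((T l).getD i (k0 l))) (max (d (k0 l)) (d ((T l).getD i (k0 l)))) (n l))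
    (h1 : ∀ l l', l ≠ l' → ∃ k, (k ≠ k0 l' ∧ cnt m ((T l').getD · (k0 l')) k < cnt m ((T l).getD · (k0 l)) k) ∨
      (k ≠ k0 l ∧ cnt m ((T l).getD · (k0 l)) k < cnt m ((T l').getD · (k0 l')) k)) : Col G V μ n := by
  have a1 : ∀ l k, cnt m ((T l).getD · (k0 l)) k ≤ cnt H.index ((T l).getD · (k0 l)) k := fun l k =>
    Finset.card_le_card (Finset.filter_subset_filter _ (Finset.range_mono hm))
  have a2 : ∀ l k, k ≠ k0 l → cnt H.index ((T l).getD · (k0 l)) k = cnt m ((T l).getD · (k0 l)) k := fun l k t =>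
    le_antisymm (Finset.card_le_card fun i hi => by
      simp only [Finset.mem_filter, Finset.mem_range] at hi ⊢
      refine ⟨by_contra fun n => t (hi.2.symm.trans (List.getD_eq_default _ _ ?_)), hi.2⟩
      have := (h0 l).1; omega) (a1 l k)
  have a3 : ∀ l, ∀ i < (T l).length, ok (cnt H.index ((T l).getD · (k0 l)) ((T l).getD i (k0 l)))
      (max (d (k0 l)) (d ((T l).getD i (k0 l)))) (n l) := fun l i t => by
    rw [a2 l _ fun e => (h0 l).2.1 (by rw [← e, List.getD_eq_getElem _ _ t]; exact List.getElem_mem t)]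
    exact (h0 l).2.2.2.2 i t
  refine imp_tr h hi hw rfl 4 (Or.inl rfl) (fun l => ((T l).getD · (k0 l))) (fun l l' t => by_contra fun n => ?_) fun l i _ => ?_
  · obtain ⟨k, ⟨t1, t2⟩ | ⟨t1, t2⟩⟩ := h1 l l' n
    · have := t k; have := a1 l k; have := a2 l' k t1; omega
    · have := t k; have := a1 l' k; have := a2 l k t1; omega
  by_cases t : i < (T l).length
  · exact Or.inl ⟨(a3 l i t).1, le_trans (Nat.add_le_add_left (le_max_right _ _) _) (a3 l i t).2⟩
  rw [List.getD_eq_default _ _ (not_lt.1 t)]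
  exact Or.inr ⟨(h0 l).2.2.2.1, fun i' t' => ⟨(a3 l i' (t'.trans_le (h0 l).2.2.1)).1,
    le_trans (Nat.add_le_add_left (le_max_left _ _) _) (a3 l i' (t'.trans_le (h0 l).2.2.1)).2⟩⟩

variable (G V) in
def St : Prop := Col G V (Fin 2) ![6, 6] ∨ Col G V (Fin 3) ![8, 7, 7] ∨ Col G V (Fin 5) fun _ => 9

theorem imp_st [Group.IsSolvable G] (h : Imp V H e) (hi : Irr G V) (hw : letI := subAct h.inv; St H e.range) : St G V := by
  have m2 : 2 ≤ H.index := one_lt_index_of_ne_top h.co.1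
  obtain ⟨m, hm⟩ : ∃ m, H.index = m := ⟨_, rfl⟩
  rcases hw with hw | hw | hw
  · by_cases l : 12 ≤ H.index
    · exact Or.inr (Or.inr (imp_tr' h hi hw 12 l (fun l => List.replicate (![4, 5, 6, 7, 4] l) (![0, 0, 0, 0, 1] l))
        ![1, 1, 1, 1, 0] (by decide +kernel) (by decide +kernel)))
    by_cases l' : m ≤ 3
    · refine Or.inr (Or.inl (imp_tr h hi hw hm 4 (Or.inl rfl) (fun l i => if i < ![0, 1, 2] l then 0 else 1) ?_ ?_)) <;>
      rw [hm] at m2 <;> interval_cases m <;> decide +kernel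
    by_cases l'' : m = 11
    · refine Or.inr (Or.inr (imp_tr h hi hw hm 2 (Or.inr ⟨rfl, by rw [l'']; norm_num⟩) (fun l i => if i < l + 2 then 0 else 1) ?_ ?_)) <;>
      rw [l''] <;> decide +kernel
    refine Or.inr (Or.inr (imp_tr h hi hw hm 4 (Or.inl rfl) (fun l i => if i < l + (m - 7) then 0 else 1) ?_ ?_)) <;>
    rw [hm] at l <;> push Not at l l' <;> interval_cases m <;> first | contradiction | decide +kernel
  · refine Or.inr (Or.inr ?_)
    by_cases l : 8 ≤ H.index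
    · exact imp_tr' h hi hw 8 l ![[0, 2, 2, 2], [0, 0, 2, 2], [0, 1, 1, 1], [0, 0, 1, 1], [1, 1, 2, 2]] ![1, 1, 2, 2, 0]
        (by decide +kernel) (by decide +kernel)
    by_cases l'' : m = 7
    · refine imp_tr h hi hw hm 2 (Or.inr ⟨rfl, by rw [l'']; norm_num⟩)
        (fun l i => (![[0, 1], [1, 1], [1, 1, 1], [0, 0], [0, 0, 1]] l).getD i 2) ?_ ?_ <;> rw [l''] <;> decide +kernel
    refine imp_tr h hi hw hm 4 (Or.inl rfl) (fun l i => (![[1, 1, 1, 2, 2, 2], [1, 2, 2, 2, 1, 0], [2, 2, 2, 0, 0, 1],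
      [0, 1, 1, 1, 2, 2], [0, 2, 1, 0, 1, 2]] l).getD i 0) ?_ ?_ <;>
    rw [hm] at l m2 <;> push Not at l <;> interval_cases m <;> first | contradiction | decide +kernel
  refine Or.inr (Or.inr ?_)
  by_cases l : 6 ≤ H.index
  · exact imp_tr' h hi hw 6 l (fun l => [l + 1, l + 2, l + 3, l + 4]) id (by decide +kernel) (by decide +kernel)
  by_cases l'' : m = 5
  · refine imp_tr h hi hw hm 2 (Or.inr ⟨rfl, by rw [l'']; norm_num⟩) (fun l i => [l + 1, l + 2].getD i l) ?_ ?_ <;>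
    rw [l''] <;> decide +kernel
  refine imp_tr h hi hw hm 4 (Or.inl rfl) (fun l i => [l + 1, l + 2, l + 3, l + 4].getD i l) ?_ ?_ <;>
  rw [hm] at l m2 <;> push Not at l <;> interval_cases m <;> first | contradiction | decide +kernel

end Cfsg.Lib.Hall.MW
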