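import Cfsg.Agent.Lib.Hall.MWb
import Cfsg.Agent.S3360

/-! # Vector stabilizers of bounded derived length: the primitive case and the main induction -/

set_option autoImplicit false
set_option linter.unusedSectionVars false
set_option linter.style.haveILetI false

namespace Cfsg.Lib.Hall.MW

open Cfsg Cfsg.Lib Subgroup Cfsg.Lib.Block.B2 Cfsg.Lib.Hall.B3 MulAction
open scoped commutatorElement

universe u
variable {G V : Type u} [Group G] [Finite G] [AddCommGroup V] [Finite V] [DistribMulAction G V]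

local notation "𝐂" S => centralizer (SetLike.coe S)

theorem hup [Group.IsSolvable G] [Nontrivial V] (hi : Irr G V) (hf : ∀ g : G, (∀ v : V, g • v = v) → g = 1)
    (ht : ∀ v w : V, v ≠ 0 → w ≠ 0 → ∃ g : G, g • v = w) : ds ⊤ 6 ≤ kr G V := by
  obtain ⟨p, hp, d⟩ := Nat.exists_prime_and_dvd (n := Nat.card V) Finite.one_lt_card.ne'
  have hV : ∀ v : V, p • v = 0 := fun v => by
    obtain ⟨a, ha⟩ := exists_prime_addOrderOf_dvd_card' (hp := ⟨hp⟩) p d
    exact ((hi (tor V p) fun g a ha => by show _ = _; rw [smul_comm, show p • a = 0 from ha, smul_zero]).resolve_left fun e => by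
      have : a ∈ tor V p := ha ▸ addOrderOf_nsmul_eq_zero a
      rw [e, AddSubgroup.mem_bot] at this
      exact hp.ne_one (by rw [← ha, this, addOrderOf_zero])).ge (AddSubgroup.mem_top v)
  haveI := Fact.mk hp
  letI := AddCommGroup.zmodModule hV
  haveI : SMulCommClass G (ZMod p) V := ⟨fun g c v => ZMod.map_smul (DistribSMul.toAddMonoidHom V g) c v⟩
  rcases Cfsg.Agent.S3360.result p ‹_› (DistribMulAction.toModuleAut (ZMod p) V (S := G))
    (fun g k e => inv_mul_eq_one.1 (hf _ fun v => by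
      rw [mul_smul, inv_smul_eq_iff]; exact (LinearEquiv.congr_fun e v).symm)) ht with ⟨F, _, _, e, h⟩ | h
  swap
  · refine dl hi.cr (n := 529) ?_ (by norm_num)
    simp only [Set.mem_insert_iff, Set.mem_singleton_iff] at h; omega
  choose a σ h using h
  replace h : ∀ (g : G) (v : V), e (g • v) = a g * σ g (e v) := h
  have h' : ∀ (g : G) (x : F), e (g • e.symm x) = a g * σ g x := fun g x => by rw [h, e.apply_symm_apply]
  have a0 : ∀ g, a g ≠ 0 := fun g t => by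
    have := h' g 1
    rw [t, zero_mul, map_eq_zero_iff _ e.injective, smul_eq_zero_iff_eq, map_eq_zero_iff _ e.symm.injective] at this
    exact one_ne_zero this
  have m : ∀ g k x, a (g * k) * σ (g * k) x = a g * σ g (a k) * σ g (σ k x) := fun g k x => by
    rw [← h', mul_smul, h, h', map_mul, mul_assoc]
  let φ : G →* RingAut F := MonoidHom.mk' σ fun g k => RingEquiv.ext fun x => mul_left_cancel₀ (a0 (g * k)) (by
    have := m g k 1
    rw [map_one, map_one, map_one, mul_one, mul_one] at this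
    rw [m, this]; rfl)
  have pw : ∀ s : F ≃+* F, ∃ i : ℕ, ∀ x, x ≠ 0 → s x = x ^ i := fun s => by
    obtain ⟨z, hz⟩ := IsCyclic.exists_monoid_generator (α := Fˣ)
    obtain ⟨i, hi⟩ := hz (Units.mk0 (s z) ((map_ne_zero s).2 z.ne_zero))
    refine ⟨i, fun x hx => ?_⟩
    obtain ⟨n, hn⟩ := hz (Units.mk0 x hx)
    rw [← show (z : F) ^ n = x from congrArg Units.val hn, map_pow, ← show (z : F) ^ i = s z from congrArg Units.val hi,
      ← pow_mul, ← pow_mul, mul_comm]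
  refine ds_trans (a := 1) (b := 1) (L' := φ.ker) (ds_one fun g _ k _ => ?_) (ds_comm fun g hg k hk => ?_) (by norm_num)
  · rw [MonoidHom.mem_ker, map_commutatorElement, commutatorElement_eq_one_iff_mul_comm]
    refine RingEquiv.ext fun x => ?_
    obtain ⟨i, hi⟩ := pw (σ g)
    obtain ⟨j, hj⟩ := pw (σ k)
    show σ g (σ k x) = σ k (σ g x)
    by_cases t : x = 0
    · simp [t]
    rw [hi x t, hj x t, map_pow, map_pow, hi x t, hj x t, ← pow_mul, ← pow_mul, mul_comm]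
  refine inv_mul_eq_one.1 (hf _ fun v => ?_)
  rw [mul_smul, inv_smul_eq_iff]
  refine e.injective ?_
  rw [mul_smul, mul_smul, h, h, h, h, show σ g = 1 from hg, show σ k = 1 from hk]
  exact mul_left_comm _ _ _

theorem orb (S : Set V) (k : ℕ) (h : k * Nat.card G < S.ncard) :
    ∃ w : Fin (k + 1) → V, (∀ i, w i ∈ S) ∧ ∀ i j (g : G), g • w i = w j → i = j := by
  induction k with
  | zero =>
    obtain ⟨x, hx⟩ := Set.nonempty_of_ncard_ne_zero (s := S) (by omega)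
    exact ⟨fun _ => x, fun _ => hx, fun _ _ _ _ => Subsingleton.elim (α := Fin 1) _ _⟩
  | succ k ih =>
  obtain ⟨w, h1, h2⟩ := ih (lt_of_le_of_lt (Nat.mul_le_mul_right _ k.le_succ) h)
  obtain ⟨x, hx, n⟩ := Set.exists_mem_notMem_of_ncard_lt_ncard (s := Set.range fun p : Fin (k + 1) × G => p.2 • w p.1)
    (lt_of_le_of_lt (by rw [← Set.image_univ]; exact (Set.ncard_image_le).trans (by simp)) h)
  refine ⟨Fin.cons x w, Fin.forall_fin_succ.2 ⟨hx, h1⟩, Fin.forall_fin_succ.2 ⟨Fin.forall_fin_succ.2 ⟨fun _ _ => rfl, fun j g t =>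
    (n ⟨(j, g⁻¹), inv_smul_eq_iff.2 t.symm⟩).elim⟩, fun i => Fin.forall_fin_succ.2 ⟨fun g t => (n ⟨(i, g), t⟩).elim,
      fun j g t => congrArg _ (h2 i j g t)⟩⟩⟩

theorem cover (S : Set V) (P : G → Prop) {i N : ℕ} (i0 : i ≠ 0) (N0 : 0 < N) (h1 : ∀ v ∉ S, ∃ g, P g ∧ g • v = v)
    (h2 : ∀ g, P g → Nat.card (fx V g) ^ i ≤ N) : ∃ m, 0 < m ∧ m ^ i ≤ N ∧ Nat.card V ≤ S.ncard + {g | P g}.ncard * m := by
  refine ⟨Nat.nthRoot i N, (Nat.le_nthRoot_iff i0).2 ((one_pow i).trans_le N0), Nat.pow_nthRoot_le (Or.inl i0), ?_⟩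
  choose! φ φ1 φ2 using h1
  rw [← Set.ncard_add_ncard_compl S, ← sm_const, ← mul_one Sᶜ.ncard]
  refine Nat.add_le_add_left ((sm_const (· ∉ S) 1).ge.trans (sm_fiber φ φ1 fun g hg => ?_)) _
  rw [sm_const, mul_one]
  exact (Set.ncard_le_ncard (t := (fx V g : Set V)) fun v hv => by rw [← hv.2]; exact φ2 v hv.1).trans ((Nat.le_nthRoot_iff i0).2 (h2 g hg))

theorem st6 [Nontrivial V] (h : ds ⊤ 6 ≤ kr G V) : St G V := by
  obtain ⟨v, hv⟩ := exists_ne (0 : V)
  refine Or.inl ⟨![0, v], fun c => ?_, fun c c' g => ?_⟩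
  · fin_cases c <;> exact (ds_mono le_top _).trans h
  · fin_cases c <;> fin_cases c' <;> simp [hv, hv.symm, smul_eq_zero_iff_eq]

theorem num {q B b g : ℕ} (q3 : 3 ≤ q) (B8 : 8 ≤ B) (b0 : 0 < b) (h1 : (q ^ B) ^ 3 ≤ 5 ^ 12 * g ^ 12)
    (h2 : 24 ^ 4 * 8 ^ 12 * g ^ 12 ≤ 3 ^ 12 * q ^ 24 * b ^ 78) (h3 : 2 * 5 ^ 12 * 3 ^ 36 * b ^ 78 ≤ 27 ^ B * (24 ^ 4 * 8 ^ 12)) : False := by
  obtain ⟨c, rfl⟩ := Nat.exists_eq_add_of_le B8
  have t1 : q ^ 24 * 27 ^ c ≤ (q ^ (8 + c)) ^ 3 := by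
    rw [pow_add, mul_pow, ← pow_mul, ← pow_mul, mul_comm c, pow_mul q 3]
    exact Nat.mul_le_mul_left _ (Nat.pow_le_pow_left (Nat.pow_le_pow_left q3 3) _)
  have t2 : q ^ 24 * (24 ^ 4 * 8 ^ 12 * 27 ^ c) ≤ q ^ 24 * (5 ^ 12 * 3 ^ 12 * b ^ 78) := by nlinarith
  have t3 := Nat.le_of_mul_le_mul_left t2 (by positivity)
  have : 0 < b ^ 78 := by positivity
  rw [pow_add] at h3
  omega

section ps
variable {K : Type u} [Field K] [Finite K] [Module K V] {Z : Subgroup G} [hZn : Z.Normal] {ι : Z →* K} {E : Subgroup G}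
  [hEn : E.Normal] {A : Type u} [AddCommGroup A] [Finite A] [DistribMulAction G A] {π : G → A} {β : Fm K A}

theorem gb (P : PS V Z ι E π β) {b : ℕ} (hb : Nat.card A = b * b) (b2 : 2 ≤ b) :
    24 ^ 4 * 8 ^ 12 * Nat.card G ^ 12 ≤ 3 ^ 12 * Nat.card K ^ 24 * b ^ 78 := by
  obtain ⟨q0, q1, q2⟩ := P.fld
  have k := fz q1 q2 (Nat.le_of_dvd (by have := P.q2; omega) P.card_Z) index_ne_zero_of_finite
  rw [← (𝐂 Z).index_mul_card, P.card_C, hb]
  calc _ = (8 * ((𝐂 Z).index * Nat.card Z)) ^ 12 * b ^ 24 * (24 ^ 4 * Nat.card (HH Z A) ^ 12) := by ring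
    _ ≤ (3 * Nat.card K ^ 2) ^ 12 * b ^ 24 * b ^ 54 := Nat.mul_le_mul (Nat.mul_le_mul_right _ (Nat.pow_le_pow_left k _)) (P.pw hb b2)
    _ = _ := by ring

theorem exists_E (P : PS V Z ι E π β) (h : Nat.card A ≠ 1) : ∃ g ∈ E, g ∉ Z := by
  haveI : Nontrivial A := Finite.one_lt_card_iff_nontrivial.1 (by have : 0 < Nat.card A := Nat.card_pos; omega)
  obtain ⟨a, ha⟩ := exists_ne (0 : A)
  obtain ⟨x, hx, rfl⟩ := P.surj a
  exact ⟨x, hx, fun t => ha ((P.zero x hx).2 t)⟩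

theorem prim_st [Nontrivial V] (hi : Irr G V) (P : PS V Z ι E π β) : St G V := by
  haveI := P.solv
  obtain ⟨b, eb⟩ := P.alt.isSquare
  have k : ∀ c, b ≤ c → c * c ≤ 19682 → 1 ≤ fD (c * c) → ds ⊤ (fD (c * c)) ≤ E := fun c l t t' =>
    dsE P (dl P.cr (eb ▸ Nat.mul_le_mul l l) t) t'
  by_cases l1 : b ≤ 5
  · exact st6 (ds2 P (k 5 l1 (by norm_num) (by decide)))
  by_cases l2 : b ≤ 26
  · by_cases t : ∀ v w : V, v ≠ 0 → w ≠ 0 → ∃ g : G, g • v = w
    · exact st6 (hup hi P.L.faith t)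
    push Not at t
    obtain ⟨v, w, hv, hw, t⟩ := t
    have t' : ∀ g : G, g • w ≠ v := fun g e => t g⁻¹ (inv_smul_eq_iff.2 e.symm)
    have t1 := k 26 l2 (by norm_num) (by decide)
    have t2 := ds_trans t1 (dsZ P) le_rfl
    refine Or.inr (Or.inl ⟨![0, v, w], fun c => ?_, fun c c' g => ?_⟩)
    · fin_cases c
      exacts [(ds_mono le_top _).trans (ds2 P t1), ds1 P t2 hv, ds1 P t2 hw]
    · fin_cases c <;> fin_cases c' <;> simp [hv, hv.symm, hw, hw.symm, t, t', smul_eq_zero_iff_eq]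
  have q := q3 P eb (by omega)
  have t1 := qb P eb
  have t2 := gb P eb (by omega)
  have g0 : 0 < Nat.card G := Nat.card_pos
  refine Or.inr (Or.inr ?_)
  by_cases l3 : b ≤ 127
  · obtain ⟨w, h1, h2⟩ := orb (G := G) ({0}ᶜ : Set V) 4 (by_contra fun n => by
      rw [Set.ncard_compl, Set.ncard_singleton] at n
      refine num q (B := b * 4) (by omega) (by omega) ?_ t2 ?_
      · rw [pow_mul, ← pow_mul _ 4, ← mul_pow]; exact Nat.pow_le_pow_left (by omega) _
      · rw [mul_comm b, pow_mul]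
        exact ind_pow 27 78 _ _ _ (by decide +kernel) (by decide +kernel) (by norm_num) (by omega))
    exact ⟨w, fun c => ds1 P (ds_trans (k 127 l3 (by norm_num) (by decide)) (dsZ P) le_rfl) (h1 c), h2⟩
  obtain ⟨g1, -, hg⟩ := exists_E P (by rw [eb]; nlinarith)
  obtain ⟨m, m0, m1, m2⟩ := cover {v : V | ∀ g : G, g • v = v → g = 1} (· ∉ Z) four_ne_zero (N := Nat.card V ^ 3)
    (pow_pos Nat.card_pos _) (fun v hv => by
      simp only [Set.mem_ofPred_eq, not_forall] at hv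
      obtain ⟨g, h1, h2⟩ := hv
      by_cases t : g ∈ Z
      · exact ⟨g1, hg, by simp [P.L.fpf t h2 h1]⟩
      · exact ⟨g, t, h1⟩) fun g hg => by
    by_cases t : g ∈ 𝐂 Z
    · exact P.b4 t hg
    · rw [show 4 = 2 * 2 from rfl, pow_mul]
      exact (Nat.pow_le_pow_left (semi P.L t) 2).trans (Nat.pow_le_pow_right Nat.card_pos (by norm_num))
  obtain ⟨w, h1, h2⟩ := orb (G := G) {v : V | ∀ g : G, g • v = v → g = 1} 4 (by_contra fun n => by
    have t3 : Nat.card V ≤ 5 * Nat.card G * m := by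
      have := Nat.mul_le_mul_right m (Set.ncard_le_card {g : G | g ∉ Z})
      nlinarith
    have t4 : Nat.card V * Nat.card V ^ 3 ≤ (5 * Nat.card G) ^ 4 * Nat.card V ^ 3 := by
      rw [← pow_succ']
      exact (Nat.pow_le_pow_left t3 4).trans (by rw [mul_pow]; exact Nat.mul_le_mul_left _ m1)
    refine num q (B := b) (by omega) (by omega) ?_ t2
      (ind_pow 128 78 _ _ _ (by decide +kernel) (by decide +kernel) (by norm_num) (by omega))
    rw [← mul_pow, show 12 = 4 * 3 from rfl, pow_mul]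
    exact Nat.pow_le_pow_left (t1.trans (Nat.le_of_mul_le_mul_right t4 (pow_pos Nat.card_pos _))) _)
  exact ⟨w, fun c g hg => by rw [h1 c g (ds_le _ _ hg)]; exact one_mem _, h2⟩
end ps

theorem st_all (n : ℕ) : ∀ (G V : Type u) [Group G] [Finite G] [AddCommGroup V] [Finite V] [DistribMulAction G V]
    [Group.IsSolvable G] [Nontrivial V], Nat.card V < n → Irr G V → St G V := by
  induction n with
  | zero => intro G V _ _ _ _ _ _ _ h; omega
  | succ n ih =>
  intro G V _ _ _ _ _ _ _ hn hi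
  haveI := im_solv (G := G) (V := V)
  refine Or.imp Col.of_im (Or.imp Col.of_im Col.of_im) ?_
  rcases exists_PS (im_irr hi) im_faith with ⟨H, e, h⟩ | ⟨K, _, _, _, Z, _, ι, E, _, A, _, _, _, π, β, P⟩
  · letI := subAct h.inv
    haveI := h.nontriv
    exact imp_st h (im_irr hi) (ih H e.range (by have := card_lt h.ne_top; omega) (h.irr (im_irr hi)))
  · exact prim_st (im_irr hi) P

theorem red (d : ℕ) (Q : ℕ → Prop) (hQ : ∀ a b, a ∣ b → Q b → Q a)
    (h : ∀ (V : Type u) [AddCommGroup V] [Finite V] [DistribMulAction G V] [Nontrivial V], Q (Nat.card V) → Irr G V →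
      ∃ v : V, ds (stabilizer G v) d ≤ kr G V) (n : ℕ) : ∀ (V : Type u) [AddCommGroup V] [Finite V] [DistribMulAction G V],
      Nat.card V < n → Q (Nat.card V) → CR G V → ∃ v : V, ds (stabilizer G v) d ≤ kr G V := by
  induction n with
  | zero => intro V _ _ _ h; omega
  | succ n ih =>
  intro V _ _ _ hn q hcr
  by_cases hi : Irr G V
  · rcases subsingleton_or_nontrivial V with _ | _
    · exact ⟨0, fun _ _ _ => Subsingleton.elim _ _⟩
    · exact h V q hi
  obtain ⟨U, W, hU, hW, u1, w1, -, -, h2, h3⟩ := not_irr hcr hi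
  letI := subAct hU
  letI := subAct hW
  obtain ⟨a, ha⟩ := ih U (by have := card_lt u1; omega) (hQ _ _ U.card_addSubgroup_dvd_card q) (hcr.sub hU)
  obtain ⟨b, hb⟩ := ih W (by have := card_lt w1; omega) (hQ _ _ W.card_addSubgroup_dvd_card q) (hcr.sub hW)
  have key : ∀ g : G, g • (a.1 + b.1) = a.1 + b.1 → g • a = a ∧ g • b = b := fun g e => by
    have e1 : g • a.1 - a = b - g • b.1 := by rw [smul_add] at e; rw [sub_eq_sub_iff_add_eq_add, e, add_comm]
    have : g • a.1 - a ∈ U ⊓ W := ⟨U.sub_mem (hU g a a.2) a.2, e1 ▸ W.sub_mem b.2 (hW g b b.2)⟩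
    rw [h2, AddSubgroup.mem_bot] at this
    exact ⟨Subtype.ext (sub_eq_zero.1 this), Subtype.ext (sub_eq_zero.1 (e1 ▸ this)).symm⟩
  exact ⟨a.1 + b.1, (le_inf ((ds_mono (fun g hg => (key g hg).1) d).trans ha) ((ds_mono (fun g hg => (key g hg).2) d).trans hb)).trans
    (kr_sum hU hW h3)⟩

theorem nine [Group.IsSolvable G] (h : CR G V) : ∃ v : V, ds (stabilizer G v) 9 ≤ kr G V := by
  refine red 9 (fun _ => True) (fun _ _ _ _ => trivial) (fun V _ _ _ _ _ hi => ?_) _ V (Nat.lt_succ_self _) trivial h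
  rcases st_all _ G V (Nat.lt_succ_self _) hi with ⟨w, h, -⟩ | ⟨w, h, -⟩ | ⟨w, h, -⟩ <;>
  exact ⟨w 0, (ds_anti _ (by decide)).trans (h 0)⟩

end Cfsg.Lib.Hall.MW
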