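import Cfsg.Agent.Lib.Hall.MWc

/-! # Vector stabilizers of bounded derived length: the odd order case -/

set_option autoImplicit false
set_option linter.unusedSectionVars false
set_option linter.style.haveILetI false

namespace Cfsg.Lib.Hall.MW

open Cfsg Cfsg.Lib Subgroup Cfsg.Lib.Block.B2 Cfsg.Lib.Hall.B3 MulAction
open scoped commutatorElement

universe u
variable {G V : Type u} [Group G] [Finite G] [AddCommGroup V] [Finite V] [DistribMulAction G V]

local notation "𝐂" S => centralizer (SetLike.coe S)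

theorem odd_im (h : Odd (Nat.card G)) : Odd (Nat.card (rp G V).range) :=
  h.of_dvd_nat (card_dvd_of_surjective _ (rp G V).rangeRestrict_surjective)

section ps
variable {K : Type u} [Field K] [Finite K] [Module K V] {Z : Subgroup G} [hZn : Z.Normal] {ι : Z →* K} {E : Subgroup G}
  [hEn : E.Normal] {A : Type u} [AddCommGroup A] [Finite A] [DistribMulAction G A] {π : G → A} {β : Fm K A}

theorem oddK [Nontrivial V] (K : Type u) [Field K] [Finite K] [Module K V] (h : Odd (Nat.card V)) : Odd (Nat.card K) :=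
  h.of_dvd_nat (by rw [Module.natCard_eq_pow_finrank (K := K) (V := V)]; exact dvd_pow_self _ Module.finrank_pos.ne')

theorem z2 [Nontrivial V] (P : PS V Z ι E π β) (h : Odd (Nat.card G)) (h' : Odd (Nat.card V)) : 2 * Nat.card Z < Nat.card K := by
  have := Nat.le_of_dvd (by have := P.q2; omega) ((Nat.coprime_two_left.2 (h.of_dvd_nat Z.card_subgroup_dvd_card)).mul_dvd_of_dvd_of_dvd
    (by obtain ⟨k, e⟩ := oddK K h'; omega) P.card_Z)
  have := P.q2
  omega

theorem oddA (P : PS V Z ι E π β) (h : Odd (Nat.card G)) : Odd (Nat.card A) :=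
  h.of_dvd_nat ((P.card_C ▸ (dvd_mul_left _ _).mul_right _).trans (𝐂 Z).card_subgroup_dvd_card)

theorem zr [Nontrivial V] (P : PS V Z ι E π β) {b r : ℕ} (hb : Nat.card A = b * b) (hr : r.Prime) (d : r ∣ b) : r ∣ Nat.card Z :=
  (P.bb hb).2.2.1 r hr d

theorem q7 [Nontrivial V] (P : PS V Z ι E π β) (h : Odd (Nat.card G)) (h' : Odd (Nat.card V)) {b : ℕ} (hb : Nat.card A = b * b)
    (b1 : b ≠ 1) : 3 ≤ b ∧ 7 ≤ Nat.card K := by
  obtain ⟨r, hr, d⟩ := Nat.exists_prime_and_dvd b1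
  have := Nat.le_of_dvd Nat.card_pos (zr P hb hr d)
  have := Nat.le_of_dvd (P.bb hb).1 d
  have := z2 P h h'
  have := hr.two_le
  obtain ⟨k, e⟩ := (oddA P h).of_dvd_nat (hb ▸ d.mul_left _)
  omega
end ps

theorem opw (n : ℕ) : ∀ (G V : Type u) [Group G] [Finite G] [AddCommGroup V] [Finite V] [DistribMulAction G V] [Nontrivial V],
    Odd (Nat.card G) → Odd (Nat.card V) → Nat.card V < n → CR G V → 9 * (kr G V).index ^ 2 ≤ Nat.card V ^ 3 := by
  induction n with
  | zero => intro G V _ _ _ _ _ _ _ _ h; omega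
  | succ n ih =>
  intro G V _ _ _ _ _ _ oG oV hn hcr
  by_cases hi : Irr G V
  swap
  · obtain ⟨U, W, hU, hW, u1, w1, u0, w0, h2, h3⟩ := not_irr hcr hi
    letI := subAct hU
    letI := subAct hW
    haveI := (AddSubgroup.nontrivial_iff_ne_bot U).2 u0
    haveI := (AddSubgroup.nontrivial_iff_ne_bot W).2 w0
    calc _ ≤ 81 * ((kr G U).index * (kr G W).index) ^ 2 := Nat.mul_le_mul (by norm_num) (Nat.pow_le_pow_left (idx_sum hU hW h3) _)
      _ = (9 * (kr G U).index ^ 2) * (9 * (kr G W).index ^ 2) := by ring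
      _ ≤ _ := Nat.mul_le_mul (ih G U oG (oV.of_dvd_nat U.card_addSubgroup_dvd_card) (by have := card_lt u1; omega) (hcr.sub hU))
        (ih G W oG (oV.of_dvd_nat W.card_addSubgroup_dvd_card) (by have := card_lt w1; omega) (hcr.sub hW))
      _ ≤ _ := by rw [← mul_pow]; exact Nat.pow_le_pow_left (card_mul_le' h2) _
  rw [← card_im]
  replace oG := odd_im (V := V) oG
  haveI := FT.odd_order_solvable _ oG
  replace hi := im_irr hi
  have hf := im_faith (G := G) (V := V)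
  generalize_proofs at *
  set G' := (rp G V).range
  rcases exists_PS hi hf with ⟨H, e, h⟩ | ⟨K, _, _, _, Z, _, ι, E, _, A, _, _, _, π, β, P⟩
  · letI := subAct h.inv
    haveI := h.nontriv
    have h1 := ih H e.range (oG.of_dvd_nat H.card_subgroup_dvd_card) (oV.of_dvd_nat e.range.card_addSubgroup_dvd_card)
      (by have := card_lt h.ne_top; omega) (h.irr hi).cr
    have h2 : 9 * H.normalCore.index ^ 2 ≤ 9 ^ H.index := by
      obtain ⟨M, _, hc, M0, i, c1, c2, -⟩ := prim_quot h.co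
      haveI : Nontrivial (AX M hc) := (nontrivial_iff_ne_bot M).2 M0
      have := ih _ (AX M hc) (oG.of_dvd_nat (card_quotient_dvd_card _)) (oG.of_dvd_nat (by rw [AX.card, c1]; exact H.index_dvd_card))
        (by rw [AX.card, c1]; have := h.idx_lt; omega) i.cr
      rw [AX.kr_eq, c2, AX.card, c1] at this
      have t := ind_pow 2 5 1 9 1 (by norm_num) (by norm_num) (by norm_num) (one_lt_index_of_ne_top h.co.1)
      rw [index, ← M.index_mul_card, c1, mul_pow, ← mul_assoc]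
      refine (Nat.mul_le_mul_right _ this).trans ?_
      rw [← pow_add]; simpa using t
    calc _ = 9 * H.normalCore.index ^ 2 * Nat.card H.normalCore ^ 2 := by rw [← H.normalCore.index_mul_card]; ring
      _ ≤ 9 ^ H.index * ((kr H e.range).index ^ H.index) ^ 2 := Nat.mul_le_mul h2 (Nat.pow_le_pow_left (h.card_core hi hf) _)
      _ = (9 * (kr H e.range).index ^ 2) ^ H.index := by ring
      _ ≤ (Nat.card e.range ^ 3) ^ H.index := Nat.pow_le_pow_left h1 _
      _ ≤ _ := by rw [← pow_mul, mul_comm, pow_mul]; exact Nat.pow_le_pow_left h.pow_le _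
  obtain ⟨b, hb⟩ := P.alt.isSquare
  obtain ⟨b0, -, -, lt⟩ := P.bb hb
  obtain ⟨q0, q1, q2⟩ := P.fld
  have f0 : (𝐂 Z).index ≠ 0 := index_ne_zero_of_finite
  have k : 9 * ((𝐂 Z).index * Nat.card Z) ^ 2 ≤ Nat.card K ^ 3 := by
    obtain ⟨j, hj⟩ := (oddK K oV).of_dvd_nat (q2 ▸ dvd_pow_self q0 f0)
    have t1 : 3 ^ (𝐂 Z).index ≤ Nat.card K := q2 ▸ Nat.pow_le_pow_left (by omega) _
    have t2 : 9 * (𝐂 Z).index ^ 2 ≤ 3 ^ (𝐂 Z).index * 4 := by
      by_cases l : (𝐂 Z).index = 1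
      · rw [l]; norm_num
      · exact ind_pow 2 2 9 3 4 (by norm_num) (by norm_num) (by norm_num) (by omega)
    have t3 := Nat.pow_le_pow_left (z2 P oG oV).le 2
    refine Nat.le_of_mul_le_mul_left (c := 4) ?_ (by norm_num)
    calc _ = 9 * (𝐂 Z).index ^ 2 * (2 * Nat.card Z) ^ 2 := by ring
      _ ≤ Nat.card K * 4 * Nat.card K ^ 2 := Nat.mul_le_mul (by omega) t3
      _ = _ := by ring
  refine le_trans ?_ (Nat.pow_le_pow_left (qb P hb) 3)
  rw [← (𝐂 Z).index_mul_card, P.card_C, hb]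
  by_cases b1 : b = 1
  · subst b1
    haveI : Subsingleton A := (Nat.card_eq_one_iff_unique.1 hb).1
    haveI : Subsingleton (HH Z A) := ⟨fun x y => inv_mul_eq_one.1 (P.sy.faith _ fun a => Subsingleton.elim _ _)⟩
    rwa [Nat.card_unique (α := HH Z A), mul_one, mul_one, mul_one, pow_one]
  obtain ⟨b3, q⟩ := q7 P oG oV hb b1
  haveI : Nontrivial A := Finite.one_lt_card_iff_nontrivial.1 (by nlinarith)
  have t1 := le_trans (Nat.mul_le_mul_left _ (Nat.pow_le_pow_left P.card_H _)) (ih G' A oG (oddA P oG) (by omega) P.cr)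
  obtain ⟨c, rfl⟩ : ∃ c, b = c + 1 := ⟨b - 1, by omega⟩
  have t2 := ind_pow 3 10 343 343 1 (by norm_num) (by norm_num) (by norm_num) b3
  have t3 : 343 ^ c ≤ (Nat.card K ^ c) ^ 3 := by
    rw [← pow_mul, mul_comm, pow_mul]; exact Nat.pow_le_pow_left (Nat.pow_le_pow_left q 3) _
  rw [pow_succ 343] at t2
  refine Nat.le_of_mul_le_mul_left (c := 9) ?_ (by norm_num)
  calc _ = 9 * ((𝐂 Z).index * Nat.card Z) ^ 2 * ((c + 1) ^ 4 * (9 * Nat.card (HH Z A) ^ 2)) := by ring
    _ ≤ Nat.card K ^ 3 * ((c + 1) ^ 4 * ((c + 1) * (c + 1)) ^ 3) := Nat.mul_le_mul k (Nat.mul_le_mul_left _ (hb ▸ t1))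
    _ = Nat.card K ^ 3 * (c + 1) ^ 10 := by ring
    _ ≤ Nat.card K ^ 3 * (9 * (Nat.card K ^ c) ^ 3) := Nat.mul_le_mul_left _ (by omega)
    _ = _ := by ring

theorem triv3 (oG : Odd (Nat.card G)) (h : Nat.card V = 3) (hi : Irr G V) : ds ⊤ 0 ≤ kr G V := by
  haveI : Nontrivial V := Finite.one_lt_card_iff_nontrivial.1 (by omega)
  have := opw _ G V oG (by rw [h]; decide) (Nat.lt_succ_self _) hi.cr
  have t : (kr G V).index ≠ 0 := index_ne_zero_of_finite
  rw [h] at this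
  exact (index_eq_one.1 (by_contra fun n => by have := Nat.pow_le_pow_left (show 2 ≤ (kr G V).index by omega) 2; omega)).ge

theorem oddab (oG : Odd (Nat.card G)) (hi : Irr G V) {r k : ℕ} (hr : r.Prime) (h : Nat.card V = r ^ k) (hk : k = 2 ∨ (k = 4 ∧ r = 3)) :
    ds ⊤ 1 ≤ kr G V := by
  haveI : Nontrivial V := Finite.one_lt_card_iff_nontrivial.1 (h ▸ Nat.one_lt_pow (by omega) hr.one_lt)
  refine ds_im (L' := ⊤) (fun _ _ => trivial) ?_
  replace oG := odd_im (V := V) oG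
  haveI := FT.odd_order_solvable _ oG
  rcases exists_PS (im_irr hi) im_faith with ⟨H, e, t⟩ | ⟨K, _, _, _, Z, _, ι, E, _, A, _, _, _, π, β, P⟩
  · letI := subAct t.inv
    haveI := t.nontriv
    obtain ⟨j, -, ej⟩ := (Nat.dvd_prime_pow hr).1 (h ▸ e.range.card_addSubgroup_dvd_card)
    have t1 := t.pow_le
    have t2 : j ≠ 0 := by rintro rfl; exact Finite.one_lt_card.ne' ej
    have t3 : 1 < H.index := one_lt_index_of_ne_top t.co.1
    obtain ⟨c, hc⟩ := oG.of_dvd_nat H.index_dvd_card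
    rw [ej, h, ← pow_mul, Nat.pow_le_pow_iff_right hr.one_lt] at t1
    have t4 := Nat.mul_le_mul_left j (show 3 ≤ H.index by omega)
    obtain rfl : j = 1 := by omega
    obtain rfl : r = 3 := by omega
    exact imp_top t (im_irr hi) (ds_prim t.co fun M _ hc _ c i => triv3 (oG.of_dvd_nat (card_quotient_dvd_card _)) (by omega) i)
      (triv3 (oG.of_dvd_nat H.card_subgroup_dvd_card) ej (t.irr (im_irr hi))) le_rfl
  obtain ⟨b, eb⟩ := P.alt.isSquare
  obtain ⟨q0, q1, q2⟩ := P.fld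
  rw [Module.natCard_eq_pow_finrank (K := K) (V := V), ← q2, ← pow_mul] at h
  obtain ⟨j, -, rfl⟩ := (Nat.dvd_prime_pow hr).1 (h ▸ dvd_pow_self q0 (mul_ne_zero index_ne_zero_of_finite Module.finrank_pos.ne'))
  rw [← pow_mul, Nat.pow_right_inj hr.one_lt] at h
  have d : (𝐂 Z).index * Module.finrank K V ∣ 2 ^ 2 := (Dvd.intro_left _ h).trans (by rcases hk with rfl | ⟨rfl, -⟩ <;> norm_num)
  have o : ∀ x, Odd x → x ∣ 2 ^ 2 → x = 1 := fun x h d => ((Nat.coprime_two_right.2 h).pow_right 2).eq_one_of_dvd d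
  have b1 := o b ((oddA P oG).of_dvd_nat (Dvd.intro _ eb.symm)) ((P.dvd_dim eb).trans ((dvd_mul_left _ _).trans d))
  exact ds_trans (a := 0) ((index_eq_one.1 (o _ (oG.of_dvd_nat (𝐂 Z).index_dvd_card) ((dvd_mul_right _ _).trans d))).ge.trans
    (CZ P (by rw [eb, b1]))) (dsZ' P) le_rfl

theorem sq_irr (hs : ∀ U, Inv G V U → IsSquare (Nat.card U)) {r : ℕ} (hr : r.Prime) (h : Nat.card V = r ^ 2) : Irr G V := fun U hU => by
  obtain ⟨j, l, e⟩ := (Nat.dvd_prime_pow hr).1 (h ▸ U.card_addSubgroup_dvd_card)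
  have := hs U hU
  interval_cases j
  · exact Or.inl (AddSubgroup.card_eq_one.1 e)
  · exact (hr.not_isSquare (by rwa [e, pow_one] at this)).elim
  · exact Or.inr (AddSubgroup.eq_top_of_card_eq _ (e.trans h.symm))

theorem sqab (oG : Odd (Nat.card G)) (hcr : CR G V) (hs : ∀ U, Inv G V U → IsSquare (Nat.card U)) {b : ℕ} (h : Nat.card V = b * b)
    (hb : b.Prime ∨ b = 9) : ds ⊤ 1 ≤ kr G V := by
  rcases hb with hb | rfl
  · exact oddab oG (sq_irr hs hb (by rw [h, sq])) hb (by rw [h, sq]) (Or.inl rfl)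
  by_cases hi : Irr G V
  · exact oddab oG hi Nat.prime_three h (Or.inr ⟨rfl, rfl⟩)
  obtain ⟨U, W, hU, hW, u1, w1, u0, w0, -, h3⟩ := not_irr hcr hi
  have k : ∀ (U : AddSubgroup V) (hU : Inv G V U), U ≠ ⊤ → U ≠ ⊥ → letI := subAct hU; ds ⊤ 1 ≤ kr G U := fun U hU u1 u0 => by
    letI := subAct hU
    obtain ⟨j, l, e⟩ := (Nat.dvd_prime_pow Nat.prime_three (m := 4)).1 (U.card_addSubgroup_dvd_card.trans h.dvd)
    have t := hs U hU
    have t1 := card_lt u1
    have t2 := mt AddSubgroup.card_eq_one.1 u0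
    obtain rfl : j = 2 := by
      rw [e] at t t1 t2; rw [h] at t1
      interval_cases j <;> first | rfl | (revert t t1 t2; decide +kernel)
    refine oddab oG (sq_irr (fun X hX => ?_) Nat.prime_three e) Nat.prime_three e (Or.inl rfl)
    rw [← AddSubgroup.card_map_of_injective U.subtype_injective]
    exact hs _ (by rintro a _ ⟨v, hv, rfl⟩; exact ⟨a • v, hX a v hv, rfl⟩)
  exact (le_inf (k U hU u1 u0) (k W hW w1 w0)).trans (kr_sum hU hW h3)

section ps
variable {K : Type u} [Field K] [Finite K] [Module K V] {Z : Subgroup G} [hZn : Z.Normal] {ι : Z →* K} {E : Subgroup G}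
  [hEn : E.Normal] {A : Type u} [AddCommGroup A] [Finite A] [DistribMulAction G A] {π : G → A} {β : Fm K A}

theorem reg (P : PS V Z ι E π β) {N : Subgroup G} (h1 : ds ⊤ 1 ≤ N) (h2 : ∃ g ∈ N, g ∉ Z) {M : ℕ} (M0 : 0 < M)
    (h3 : ∀ g ∈ N, g ∉ Z → Nat.card (fx V g) ^ 3 ≤ M) (h4 : Nat.card N ^ 3 * M < Nat.card V ^ 3) :
    ∃ v : V, v ≠ 0 ∧ ds (stabilizer G v) 1 ≤ kr G V := by
  obtain ⟨m, -, m1, m2⟩ := cover {v : V | ∀ g ∈ N, g ∉ Z → g • v ≠ v} (fun g => g ∈ N ∧ g ∉ Z) three_ne_zero M0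
    (fun v hv => by simpa [and_assoc] using hv) fun g hg => h3 g hg.1 hg.2
  rcases Set.eq_empty_or_nonempty {v : V | ∀ g ∈ N, g ∉ Z → g • v ≠ v} with e | ⟨v, hv⟩
  · rw [e, Set.ncard_empty, zero_add] at m2
    have := Nat.pow_le_pow_left (m2.trans (Nat.mul_le_mul_right m (Set.ncard_le_ncard (t := (N : Set G)) fun g hg => hg.1))) 3
    rw [mul_pow] at this
    exact (h4.not_ge (this.trans (Nat.mul_le_mul_left _ m1))).elim
  obtain ⟨g1, a, b⟩ := h2
  have v0 : v ≠ 0 := fun e => hv g1 a b (by simp [e])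
  refine ⟨v, v0, fun g hg => ?_⟩
  rw [(by_contra fun n => v0 (P.L.fpf (by_contra fun t => hv g (h1 (ds_mono le_top 1 hg)) t (ds_le _ 1 hg)) n (ds_le _ 1 hg)) : g = 1)]
  exact one_mem _

theorem prim_odd [Nontrivial V] (P : PS V Z ι E π β) (oG : Odd (Nat.card G)) (oV : Odd (Nat.card V)) :
    ∃ v : V, v ≠ 0 ∧ ds (stabilizer G v) 1 ≤ kr G V := by
  obtain ⟨b, eb⟩ := P.alt.isSquare
  by_cases b1 : b = 1
  · obtain ⟨v, hv⟩ := exists_ne (0 : V)
    exact ⟨v, hv, ds1 P ((dsC P).trans (CZ P (by rw [eb, b1]))) hv⟩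
  obtain ⟨b3, q⟩ := q7 P oG oV eb b1
  obtain ⟨g1, g2, g3⟩ := exists_E P (by rw [eb]; nlinarith)
  have z := z2 P oG oV
  have v0 : 0 < Nat.card V := Nat.card_pos
  obtain ⟨c, rfl⟩ := Nat.exists_eq_add_of_le' b3
  have t1 := qb P eb
  by_cases hb : (c + 3).Prime ∨ c + 3 = 9
  · refine reg P (dsE P (sqab oG P.cr (fun U hU => P.alt.isSquare_sub (P.nd U hU)) eb hb) le_rfl) ⟨g1, g2, g3⟩ v0
      (fun g hg n => ?_) ?_
    · obtain ⟨a, ha⟩ : ∃ a, β (π g) a ≠ 0 := by by_contra! t; exact n ((P.zero g hg).1 (P.alt.nd _ t))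
      obtain ⟨x, hx, rfl⟩ := P.surj a
      exact P.L.fx_cube oG (P.le' hx) (P.le' hg) (P.form g hg x hx).1 fun t => ha ((P.bz hg hx).2 t)
    have t2 : Nat.card E = Nat.card Z * ((c + 3) * (c + 3)) := by
      rw [← eb, P.card_A, ← relIndex_bot_left, ← relIndex_bot_left, relIndex_mul_relIndex _ _ _ bot_le P.le]
    have t3 := ind_pow 3 6 686 49 8 (by norm_num) (by norm_num) (by norm_num) b3
    have t4 : 49 ^ (c + 3) * Nat.card K ^ 3 ≤ 343 * (Nat.card K ^ (c + 3)) ^ 2 :=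
      calc _ = 343 * (7 ^ (2 * c + 3) * Nat.card K ^ 3) := by rw [show 49 = 7 ^ 2 from rfl, ← pow_mul]; ring
        _ ≤ 343 * (Nat.card K ^ (2 * c + 3) * Nat.card K ^ 3) := by gcongr
        _ = _ := by ring
    rw [pow_succ (Nat.card V), t2]
    refine Nat.mul_lt_mul_of_pos_right (lt_of_lt_of_le ?_ (Nat.pow_le_pow_left t1 2)) v0
    have t5 : 0 < (c + 3) ^ 6 * Nat.card K ^ 3 := by positivity
    have t6 : (2 * Nat.card Z) ^ 3 * (c + 3) ^ 6 ≤ Nat.card K ^ 3 * (c + 3) ^ 6 := by gcongr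
    have t7 := Nat.mul_le_mul_right (Nat.card K ^ 3) t3
    nlinarith
  haveI : Nontrivial A := Finite.one_lt_card_iff_nontrivial.1 (by nlinarith)
  refine reg P (dsC P) ⟨g1, P.le' g2, g3⟩ (pow_pos v0 2) (fun g hg n => ?_) ?_
  · refine (Nat.pow_le_pow_iff_left two_ne_zero).1 ?_
    rw [← pow_mul, ← pow_mul]
    by_cases t : g ∈ E
    · exact (pow_mul _ 2 3).trans_le ((Nat.pow_le_pow_left (not_lt.1 (P.b1 t n)) 3).trans (Nat.pow_le_pow_right v0 (by norm_num)))
    obtain ⟨a, ha⟩ : ∃ a : A, g • a ≠ a := by by_contra! e; exact t (P.faith g hg e)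
    exact P.b5 fun e => ha (sub_eq_zero.1 (eq_zero_of_coprime e card_nsmul_eq_zero' (Nat.coprime_two_left.2 (oddA P oG))))
  have t2 : 3 * Nat.card (HH Z A) ≤ (c + 3) ^ 3 := (Nat.pow_le_pow_iff_left two_ne_zero).1 (by
    have := le_trans (Nat.mul_le_mul_left _ (Nat.pow_le_pow_left P.card_H _)) (opw _ G A oG (oddA P oG) (Nat.lt_succ_self _) P.cr)
    rw [eb] at this
    linarith)
  have t3 : (c + 3) ^ 15 < 216 * Nat.card K ^ c := by
    have k : ∀ q1, q1 ≤ Nat.card K → (c + 3) ^ 15 < 216 * q1 ^ c → (c + 3) ^ 15 < 216 * Nat.card K ^ c := fun q1 l t =>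
      t.trans_le (by gcongr)
    by_cases l : 27 ≤ c + 3
    · have := ind_pow 27 15 686 7 216 (by norm_num) (by norm_num) (by norm_num) l
      have : 0 < (c + 3) ^ 15 := by positivity
      refine k 7 q ?_
      rw [pow_add 7] at *; omega
    have z0 : 0 < Nat.card Z := Nat.card_pos
    have r3 := zr P eb Nat.prime_three
    have r5 := zr P eb Nat.prime_five
    have r7 := zr P eb Nat.prime_seven
    have o := (oddA P oG).of_dvd_nat (Dvd.intro _ eb.symm)
    have : ∀ c < 24, ¬ ((c + 3).Prime ∨ c + 3 = 9) → Odd (c + 3) → c = 12 ∨ c = 18 ∨ c = 22 := by decide +kernel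
    rcases this c (by omega) hb o with rfl | rfl | rfl
    · exact k 31 (by omega) (by norm_num)
    · exact k 15 (by omega) (by norm_num)
    · exact k 11 (by omega) (by norm_num)
  rw [pow_succ' (Nat.card V) 2, P.card_C, eb]
  refine Nat.mul_lt_mul_of_pos_right (lt_of_lt_of_le (Nat.lt_of_mul_lt_mul_left (a := 216) ?_) t1) (pow_pos v0 2)
  calc _ = (2 * Nat.card Z * ((c + 3) * (c + 3)) * (3 * Nat.card (HH Z A))) ^ 3 := by ring
    _ ≤ (Nat.card K * ((c + 3) * (c + 3)) * (c + 3) ^ 3) ^ 3 := by gcongr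
    _ = Nat.card K ^ 3 * (c + 3) ^ 15 := by ring
    _ < Nat.card K ^ 3 * (216 * Nat.card K ^ c) := Nat.mul_lt_mul_of_pos_left t3 (by positivity)
    _ = _ := by ring
end ps

theorem odd_all (n : ℕ) : ∀ (G V : Type u) [Group G] [Finite G] [AddCommGroup V] [Finite V] [DistribMulAction G V]
    [Nontrivial V], Odd (Nat.card G) → Odd (Nat.card V) → Nat.card V < n → Irr G V →
    ∃ v : V, v ≠ 0 ∧ ds (stabilizer G v) 1 ≤ kr G V := by
  classical
  induction n with
  | zero => intro G V _ _ _ _ _ _ _ _ h; omega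
  | succ n ih =>
  intro G V _ _ _ _ _ _ oG oV hn hi
  replace oG := odd_im (V := V) oG
  haveI := FT.odd_order_solvable _ oG
  suffices ∃ v : V, v ≠ 0 ∧ ds (stabilizer (rp G V).range v) 1 ≤ kr _ V from this.imp fun v h => ⟨h.1, ds_im (fun g hg => hg) h.2⟩
  rcases exists_PS (im_irr hi) im_faith with ⟨H, e, h⟩ | ⟨K, _, _, _, Z, _, ι, E, _, A, _, _, _, π, β, P⟩
  swap
  · exact prim_odd P oG oV
  letI := subAct h.inv
  haveI := h.nontriv
  have oH := oG.of_dvd_nat H.card_subgroup_dvd_card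
  have oW := oV.of_dvd_nat e.range.card_addSubgroup_dvd_card
  obtain ⟨v, v0, hv⟩ := ih H e.range oH oW (by have := card_lt h.ne_top; omega) (h.irr (im_irr hi))
  have nc : ∀ g : H, g • v ≠ -v := fun g t => v0 (eq_zero_of_coprime (s := 2) (by
    have : g ∈ stabilizer H v := mem_of_pow_mem oH (k := 1) (by
      rw [mem_stabilizer_iff, pow_one, sq, mul_smul, t, smul_neg, t, neg_neg])
    rw [two_nsmul, add_eq_zero_iff_eq_neg, ← t]; exact this.symm) card_nsmul_eq_zero' (Nat.coprime_two_left.2 oW))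
  obtain ⟨D, d1, d2⟩ := gluck (ih_all _) oG h.co (Nat.lt_succ_self _)
  have hD : ∀ a, (QuotientGroup.mk a : _ ⧸ H).out ∈ D ↔ a ∈ D := fun a => by
    obtain ⟨h, t⟩ := QuotientGroup.mk_out_eq_mul H a
    rw [t]; exact ⟨fun x => by simpa using d1 _ x _ (H.inv_mem h.2), fun x => d1 _ x _ h.2⟩
  have k1 : ∀ g ∈ H.normalCore, ∀ c : _ ⧸ H, g • c = c := fun g hg c => by
    rw [normalCore_eq_ker] at hg; exact DFunLike.congr_fun hg c
  have k2 : ∀ g, (∀ c : _ ⧸ H, (g • c).out ∈ D ↔ c.out ∈ D) → g ∈ H.normalCore := fun g t =>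
    d2 g fun d hd => (hD _).1 ((t (QuotientGroup.mk d)).2 ((hD d).2 hd))
  obtain ⟨w, w1, w2⟩ := imp_col h (im_irr hi) (κ := Bool) (μ := Bool) (d := fun _ => 1) (n := fun _ => 1)
    ⟨fun c => if c then v else -v, fun c => by
      cases c
      exacts [(ds_mono (fun g hg => neg_injective ((smul_neg g v).symm.trans hg)) 1).trans hv, hv], fun c c' g t => by
      cases c <;> cases c'
      exacts [rfl, (nc g⁻¹ (inv_smul_eq_iff.2 (Eq.symm t))).elim, (nc g t).elim, rfl]⟩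
    (fun l c => if c.out ∈ D then l else !l) (fun l l' g t => by_contra fun n => by
      have t' : ∀ c : _ ⧸ H, (g • c).out ∈ D ↔ c.out ∉ D := fun c => by
        have := t c
        revert this n
        by_cases a : (g • c).out ∈ D <;> by_cases b : c.out ∈ D <;> cases l <;> cases l' <;> simp [a, b]
      have := t' (QuotientGroup.mk 1)
      rw [k1 g (mem_of_pow_mem oG (k := 1) (k2 _ fun c => by rw [pow_one, sq, mul_smul, t', t', not_not]))] at this
      exact iff_not_self this) fun l L t c => ⟨0, fun g hg => k1 g (k2 g fun c => by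
        have := t g hg c
        revert this
        by_cases a : (g • c).out ∈ D <;> by_cases b : c.out ∈ D <;> cases l <;> simp [a, b]) c, le_rfl⟩
  by_cases t : w true = 0
  · exact ⟨w false, fun t' => absurd (w2 true false 1 (by rw [t, t', smul_zero])) (by decide), w1 _⟩
  · exact ⟨w true, t, w1 _⟩

theorem one (oG : Odd (Nat.card G)) (oV : Odd (Nat.card V)) (h : CR G V) : ∃ v : V, ds (stabilizer G v) 1 ≤ kr G V :=
  red 1 Odd (fun _ _ d h => h.of_dvd_nat d) (fun V _ _ _ _ o hi => (odd_all _ G V oG o (Nat.lt_succ_self _) hi).imp fun _ h => h.2)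
    _ V (Nat.lt_succ_self _) oV h

end Cfsg.Lib.Hall.MW
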