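import Cfsg.Agent.Lib.Hall.FpfF
import Cfsg.Agent.Lib.Coprime.Wielandt
import Cfsg.Agent.Lib.Transfer.ThompsonNPC
import Cfsg.Agent.Lib.Core.Subnormal
import Cfsg.Agent.S0021

/-! Coprime action of a noncyclic group of order `q ^ 2` with abelian fixed point subgroups (after Martineau). -/

set_option autoImplicit false
set_option linter.unusedSectionVars false

namespace Cfsg.Lib.Hall
open Subgroup Cfsg.Lib.Core Cfsg.Lib.Amalg Cfsg.Lib.BG1
open scoped commutatorElement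

universe u

variable {G : Type u} [Group G] [Finite G] {A H K L M P R T V W X Y Z : Subgroup G} {p q r : ℕ} {a b : G}
  {π : Set ℕ}

theorem ma_subnormal (k : ℕ) (h1 : H.lowerCentralSeries k ≤ M) (h2 : M ≤ H) : SubnormalIn H M := by
  induction k generalizing M with
  | zero => exact .of_le_normalizer h2 (h1.trans le_normalizer)
  | succ k ih =>
    refine (SubnormalIn.of_le_normalizer le_sup_left (sup_le le_normalizer (le_normalizer_of_comm_le ?_))).trans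
      (ih le_sup_right (sup_le h2 (H.lowerCentralSeries_le_self k)))
    exact (commutator_comm_le _ _).trans ((commutator_mono le_rfl h2).trans h1)

theorem ma_le_core (hp : p.Prime) (h : SigC.nresN 2 H = ⊥) (hT : T ≤ H) (hc : ¬ p ∣ Nat.card T)
    (h1 : T ≤ 𝐂(𝐎[p](H))) : T ≤ 𝐎'[p](H) := by
  obtain ⟨k, hk⟩ := SigC.exists_nres_eq H
  have h2 : T ⊔ 𝐎'[p](H) ≤ H := sup_le hT (piCoreOf_le' _ _)
  have h3 : SubnormalIn H ((T ⊔ 𝐎'[p](H)) ⊔ 𝐎[p](H)) := by
    refine ma_subnormal k ((hk k le_rfl).trans_le ((le_fittingOf (SigC.nres_le H) (SigC.le_norm_nresN 1 le_normalizer)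
      (SigC.nres_eq_bot_iff.1 h)).trans (fittingOf_le_of_pCoreOf_le fun t ht => ?_))) (sup_le h2 (piCoreOf_le' _ _))
    by_cases e : t = p
    · exact e ▸ le_sup_right
    · exact (piCoreOf_mono_set (by simpa using Ne.symm e) H).trans (le_sup_right.trans le_sup_left)
  have h4 := ((SubnormalIn.of_le_normalizer le_sup_left (sup_le le_normalizer (le_norm_of_le_cent (BG1.le_cent_symm
    (sup_le h1 (BG1.le_cent_symm (piCoreOf_le_cent_compl _ H))))))).trans h3).le_pPrimeCoreOf (p := p)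
    ((coprime_iff_not_dvd hp).2 (by
      rw [sup_comm]
      exact not_dvd_card_sup hp (not_dvd_card_pPrimeCoreOf hp H) hc (hT.trans (le_norm_piCoreOf_self _ H))))
  exact le_sup_left.trans (h4.trans_eq (map_pPrimeCore_subtype hp H))

/-- the hypotheses -/
structure MC (q : ℕ) (A K : Subgroup G) : Prop where
  pq : q.Prime
  card : Nat.card A = q * q
  pow : ∀ a ∈ A, a ^ q = 1
  n : A ≤ 𝐍(K)
  cop : ¬ q ∣ Nat.card K
  ab : ∀ a ∈ A, a ≠ 1 → K ⊓ 𝐂[a] ≤ 𝐂(K ⊓ 𝐂[a])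

/-- invariant subgroups -/
structure IV (A K W : Subgroup G) : Prop where
  le : W ≤ K
  n : A ≤ 𝐍(W)

/-- independent elements -/
structure Ind (A : Subgroup G) (a b : G) : Prop where
  ma : a ∈ A
  mb : b ∈ A
  ne : a ≠ 1
  nm : b ∉ zpowers a

theorem IV.inf (h : IV A K X) (h' : A ≤ 𝐍(Y)) : IV A K (X ⊓ Y) := ⟨inf_le_left.trans h.le, le_normalizer_inf h.n h'⟩
theorem IV.sup (h : IV A K X) (h' : IV A K Y) : IV A K (X ⊔ Y) := ⟨sup_le h.le h'.le, le_normalizer_sup h.n h'.n⟩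
theorem IV.cent (h : IV A K X) (h' : IV A K Y) : IV A K (X ⊓ 𝐂(Y)) := h.inf (le_normalizer_centralizer h'.n)
theorem IV.norm (h : IV A K X) (h' : IV A K Y) : IV A K (X ⊓ 𝐍(Y)) := h.inf (le_normalizer_normalizer h'.n)
theorem IV.core (h : IV A K X) (π : Set ℕ) : IV A K (piCoreOf π X) :=
  ⟨(piCoreOf_le' _ _).trans h.le, le_norm_piCoreOf π h.n⟩

namespace MC

theorem pQ (h : MC q A K) : PQ A := ⟨q, q, h.pq, h.pq, h.card, .inl ⟨rfl, h.pow⟩⟩

theorem top (h : MC q A K) : IV A K K := ⟨le_rfl, h.n⟩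

theorem mono (h : MC q A K) (hL : IV A K L) : MC q A L :=
  ⟨h.pq, h.card, h.pow, hL.n, not_dvd_card_of_le hL.le h.cop, fun a ha h1 => (inf_le_inf_right _ hL.le).trans
    ((h.ab a ha h1).trans (centralizer_anti (inf_le_inf_right _ hL.le)))⟩

theorem pg (h : MC q A K) : IsPGroup q A := isPGroup_of_pow_eq_one h.pow

theorem comm (h : MC q A K) : IsMulCommutative A :=
  haveI := Fact.mk h.pq
  IsPGroup.isMulCommutative_of_card_eq_prime_sq (h.card.trans (sq q).symm)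

theorem ord (h : MC q A K) (ha : a ∈ A) (h1 : a ≠ 1) : orderOf a = q :=
  haveI := Fact.mk h.pq
  orderOf_eq_prime (h.pow a ha) h1

theorem coprime (h : MC q A K) (hX : X ≤ A) (hW : W ≤ K) : (Nat.card X).Coprime (Nat.card W) :=
  coprime_of_isPGroup_of_not_dvd h.pq (h.pg.to_le hX) (not_dvd_card_of_le hW h.cop)

theorem solv (h : MC q A K) : Group.IsSolvable A := solvable_of_pgroup h.pq h.pg

theorem le_c (h : MC q A K) (ha : a ∈ A) : A ≤ 𝐂[a] := fun b hb =>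
  mem_centralizer_singleton_iff.2 (comm_of_mem_of_isMulCommutative h.comm hb ha)

theorem ivc (h : MC q A K) (hX : IV A K X) (ha : a ∈ A) : IV A K (X ⊓ 𝐂[a]) := hX.inf ((h.le_c ha).trans le_normalizer)

theorem gen (h : MC q A K) (hW : IV A K W) (hX : ∀ a ∈ A, a ≠ 1 → W ⊓ 𝐂[a] ≤ X) : W ≤ X :=
  coprime_abelian_gen_cent1 hW.n (h.coprime le_rfl hW.le) h.comm (fun hc => by
    obtain ⟨g, hg⟩ := hc.exists_generator
    exact h.pQ.zpowers_ne g (le_antisymm (zpowers_le.2 g.2) fun x hx =>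
      (hg ⟨x, hx⟩).imp fun k e => congrArg Subtype.val e)) hX

theorem zp_eq (h : MC q A K) (ha : a ∈ A) (h1 : a ≠ 1) (hb : b ∈ zpowers a) (h2 : b ≠ 1) : zpowers b = zpowers a :=
  Coprime.zpowers_eq_of_card_prime (by rw [Nat.card_zpowers, h.ord ha h1]; exact h.pq) hb h2

theorem symm (h : MC q A K) (i : Ind A a b) : Ind A b a :=
  ⟨i.mb, i.ma, fun e => i.nm (e ▸ one_mem _), fun e => i.nm
    (h.zp_eq i.mb (fun e => i.nm (e ▸ one_mem _)) e i.ne ▸ mem_zpowers b)⟩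

theorem gen2 (h : MC q A K) (hW : IV A K W) (ha : a ∈ A) (h1 : a ≠ 1) (h2 : W ⊓ 𝐂[a] ≤ X)
    (h3 : ∀ b, Ind A a b → W ⊓ 𝐂[b] ≤ X) : W ≤ X := h.gen hW fun b hb h4 => by
  by_cases e : b ∈ zpowers a
  · rwa [← Core.centralizer_zpowers, h.zp_eq ha h1 e h4, Core.centralizer_zpowers]
  · exact h3 b ⟨ha, hb, h1, e⟩

theorem cc (h : MC q A K) (ha : a ∈ A) (h1 : a ≠ 1) (hX : X ≤ K) (hY : Y ≤ K) : X ⊓ 𝐂[a] ≤ 𝐂(Y ⊓ 𝐂[a]) :=
  (inf_le_inf_right _ hX).trans ((h.ab a ha h1).trans (centralizer_anti (inf_le_inf_right _ hY)))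

end MC

/-- a minimal counterexample -/
structure MM (q : ℕ) (A K : Subgroup G) : Prop extends MC q A K where
  ns : ¬ Group.IsSolvable K
  sol : ∀ H, IV A K H → H ≠ K → Group.IsSolvable H
  simp : ∀ W, IV A K W → K ≤ 𝐍(W) → W = ⊥ ∨ W = K

namespace MM

theorem fix (h : MM q A K) : K ⊓ 𝐂(A) = ⊥ := by
  have h1 : K ≤ 𝐂(K ⊓ 𝐂(A)) := h.gen h.top fun a ha h1 => (h.ab a ha h1).trans (centralizer_anti
    (inf_le_inf_left _ (centralizer_le (Set.singleton_subset_iff.2 ha))))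
  refine (h.simp _ (h.top.inf (le_normalizer_centralizer le_normalizer)) (le_norm_of_le_cent h1)).resolve_right
    fun e => h.ns ?_
  rw [e] at h1
  haveI := isMulCommutative_iff_le_cent.2 h1
  exact Group.isSolvable_of_comm fun x y => Subtype.ext (comm_of_mem_of_isMulCommutative this x.2 y.2)

theorem ind_bot (h : MM q A K) (i : Ind A a b) (hX : X ≤ K) (h1 : X ≤ 𝐂[a]) : X ⊓ 𝐂[b] = ⊥ := by
  rw [eq_bot_iff, ← h.fix, ← h.pQ.sup_eq (zpowers_le.2 i.ma) (by simpa using i.ne) (zpowers_le.2 i.mb)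
    (by simpa using i.nm), centralizer_sup, Core.centralizer_zpowers, Core.centralizer_zpowers]
  exact le_inf (inf_le_left.trans hX) (inf_le_inf_right _ h1)

theorem frob (h : MM q A K) (i : Ind A a b) (hT : IV A K T) (h1 : T ≤ 𝐂[a]) (hV : IV A K V)
    (hs : Group.IsSolvable V) (hn : T ≤ 𝐍(V)) (hc : (Nat.card T).Coprime (Nat.card V)) (h2 : V ⊓ 𝐂[b] ≤ 𝐂(T)) :
    T ≤ 𝐂(V) := by
  have hb := zpowers_le.2 i.mb
  have h3 := (Coprime.fpf_zpowers_of_prime (h.ord i.mb (h.symm i).ne ▸ h.pq) (h.ind_bot i hT.le h1)).wielandt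
    (hb.trans hT.n) (sup_le hn (hb.trans hV.n)) ((hc.mul_left (h.coprime hb hV.le)).coprime_dvd_left
      (card_sup_dvd' (hb.trans hT.n))) hs
  rw [centralizer_sup, Core.centralizer_zpowers, show V ⊓ (𝐂(T) ⊓ 𝐂[b]) = V ⊓ 𝐂[b] from
    le_antisymm (inf_le_inf_left _ inf_le_right) (le_inf inf_le_left (le_inf h2 inf_le_right))] at h3
  exact BG1.le_cent_symm (inf_eq_left.1 (eq_of_le_of_card_le' inf_le_left
    (Nat.eq_of_mul_eq_mul_left (pow_pos Nat.card_pos _) h3).le))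

theorem sol_norm (h : MM q A K) (hW : IV A K W) (h0 : W ≠ ⊥) (hs : Group.IsSolvable W) :
    Group.IsSolvable ↥(K ⊓ 𝐍(W)) := h.sol _ (h.top.norm hW) fun e =>
  (h.simp W hW (inf_eq_left.1 e)).elim h0 fun e => h.ns (e ▸ hs)

theorem pi_sup (h : MM q A K) (hW : IV A K W) (h0 : W ≠ ⊥) (hs : Group.IsSolvable W) (hX : IV A K X)
    (hY : IV A K Y) (h1 : X ≤ 𝐍(W)) (h2 : Y ≤ 𝐍(W)) (h3 : IsPiNumber π (Nat.card X))
    (h4 : IsPiNumber π (Nat.card Y)) : IsPiNumber π (Nat.card ↥(X ⊔ Y)) := by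
  have hL := h.top.norm hW
  have hc := h.coprime le_rfl hL.le
  have hs' := h.sol_norm hW h0 hs
  obtain ⟨U, h5, hU, h6⟩ := coprime_hall_exists_ge π hL.n hc hs' (le_inf hX.le h1) hX.n h3
  obtain ⟨U', h7, hU', h8⟩ := coprime_hall_exists_ge π hL.n hc hs' (le_inf hY.le h2) hY.n h4
  obtain ⟨c, hc, e⟩ := coprime_hall_trans hL.n hc hs' hU hU' h6 h8
  rw [show c = 1 from mem_bot.1 (h.fix ▸ mem_inf.2 ⟨hc.1.1, hc.2⟩), cj_one] at e
  exact isPi_of_le (isPi_of_hall hU) (sup_le h5 (e ▸ h7))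

theorem syl_le [Fact p.Prime] (h : MM q A K) (hP : Syl p P K) (hn : A ≤ 𝐍(P)) (hX : IV A K X)
    (hp : IsPGroup p X) : X ≤ P := by
  obtain ⟨U, h1, hU, h2⟩ := coprime_sylow_exists_ge h.n (h.coprime le_rfl le_rfl) (.inl h.solv) hX.le hX.n hp
  obtain ⟨c, hc, e⟩ := coprime_sylow_trans h.n (h.coprime le_rfl le_rfl) (.inl h.solv) hU hP h2 hn
  rw [show c = 1 from mem_bot.1 (h.fix ▸ hc), cj_one] at e
  exact e ▸ h1

theorem metanil (h : MM q A K) (hH : IV A K H) (hs : Group.IsSolvable H) : SigC.nresN 2 H = ⊥ :=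
  ff_two h.pQ hs hH.n (h.coprime le_rfl hH.le) (eq_bot_iff.2 (h.fix ▸ inf_le_inf_right _ hH.le))

theorem not_pnil [hp : Fact p.Prime] (h : MM q A K) (hP : Syl p P K) (h0 : P ≠ ⊥) :
    ¬ IsPiHallOf {p}ᶜ 𝐎'[p](K) K := fun e => by
  rcases h.simp _ (h.top.core _) (le_norm_piCoreOf_self {p}ᶜ K) with h1 | h1
  · have := sup_syl_of_hall hP e
    rw [h1, bot_sup_eq] at this
    exact h.ns (this ▸ solvable_of_pgroup hp.out hP.isPGroup)
  · exact not_dvd_card_pPrimeCoreOf hp.out K (h1.symm ▸ dvd_card_of_isPGroup_le hP.isPGroup h0 hP.le)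

theorem g1 [hr : Fact r.Prime] (h : MM q A K) (hR : Syl r R K) (hn : A ≤ 𝐍(R)) (h0 : R ≠ ⊥) (ha : a ∈ A)
    (h1 : a ≠ 1) : ¬ R ≤ 𝐂[a] := fun h2 => by
  have iR : IV A K R := ⟨hR.le, hn⟩
  have hN := h.top.norm iR
  refine h.not_pnil hR h0 (burnside_normal_complement hR (h.gen2 hN ha h1 ?_ fun b i => ?_))
  · exact (h.cc ha h1 hN.le hR.le).trans (centralizer_anti (le_inf le_rfl h2))
  have hT := h.ivc hN i.mb
  have i1 : Ind A a (a * b) := ⟨ha, mul_mem ha i.mb, h1, fun e => i.nm ((mul_mem_cancel_left (mem_zpowers a)).1 e)⟩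
  have i2 : Ind A b (a * b) := ⟨i.mb, i1.mb, (h.symm i).ne, fun e =>
    (h.symm i).nm ((mul_mem_cancel_right (mem_zpowers b)).1 e)⟩
  refine h.frob i2 hT inf_le_right iR (solvable_of_pgroup hr.out hR.isPGroup) (inf_le_left.trans inf_le_right)
    (coprime_of_isPGroup_of_not_dvd hr.out hR.isPGroup ?_).symm ((h.ind_bot i1 hR.le h2).le.trans bot_le)
  obtain ⟨Y, hY, h3⟩ := coprime_sylow_exists r hT.n (h.coprime le_rfl hT.le) (.inl h.solv)
  exact hY.eq_bot_iff.1 (eq_bot_iff.2 (h.ind_bot i hR.le h2 ▸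
    le_inf (h.syl_le hR hn ⟨hY.le.trans hT.le, h3⟩ hY.isPGroup) (hY.le.trans inf_le_right)))

theorem g2 [hp : Fact p.Prime] (h : MM q A K) (hp2 : p ≠ 2) (hP : Syl p P K) (hn : A ≤ 𝐍(P)) (h0 : P ≠ ⊥) :
    ∃ a ∈ A, a ≠ 1 ∧ ∀ b, Ind A a b → P ⊓ 𝐂[b] ≠ ⊥ := by
  by_contra! hc
  have iP : IV A K P := ⟨hP.le, hn⟩
  have h1 : ∀ L, IV A K L → Group.IsSolvable L → P ≤ L → Transfer.PNil p L := fun L hL hs hPL => by
    have h2 : L ≤ 𝐎'[p](L) ⊔ P := h.gen hL fun a ha h1 => by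
      have hC := h.ivc hL ha
      obtain ⟨b, i, hb⟩ := hc a ha h1
      haveI := isMulCommutative_iff_le_cent.2 (h.cc ha h1 hL.le hL.le)
      rw [← piCoreOf_sup_compl_of_nilpotent {p} (H := L ⊓ 𝐂[a]) (isNilpotent_of_isMulCommutative _), sup_comm]
      refine sup_le_sup (ma_le_core hp.out (h.metanil hL hs) ((piCoreOf_le' _ _).trans inf_le_left)
        (not_dvd_card_pPrimeCoreOf hp.out _) (h.frob i (hC.core _) ((piCoreOf_le' _ _).trans inf_le_right)
          (hL.core _) (solvable_of_le (piCoreOf_le' _ _) hs) (((piCoreOf_le' _ _).trans inf_le_left).trans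
            (le_norm_piCoreOf_self _ _)) (coprime_of_isPGroup_of_not_dvd hp.out (pgroup_pCoreOf hp.out _)
              (not_dvd_card_pPrimeCoreOf hp.out _)).symm ((inf_le_inf_right _ ?_).trans (hb.le.trans bot_le))))
        (h.syl_le hP hn (hC.core _) (pgroup_pCoreOf hp.out _))
      exact h.syl_le hP hn (hL.core _) (pgroup_pCoreOf hp.out _)
    refine pnil_iff_hall.2 (isPiHallOf_mk (piCoreOf_le' _ _) (isPi_piCoreOf' _ _) ?_)
    rw [compl_compl]
    refine ((isPGroup_iff_isPiNumber hp.out).1 hP.isPGroup).of_dvd ?_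
    have := BG1.relIndex_dvd_card_of_sup (hPL.trans (le_norm_piCoreOf_self {p}ᶜ L))
    rwa [← le_antisymm h2 (sup_le (piCoreOf_le' _ _) hPL)] at this
  have hJ : IV A K (thompsonSubgroupOf p P) :=
    ⟨(Transfer.thompsonOf_le P).trans hP.le, hn.trans (Transfer.normalizer_le_normalizer_thompsonOf P)⟩
  have hs := solvable_of_pgroup hp.out hP.isPGroup
  refine h.not_pnil hP h0 (pnil_iff_hall.1 ((syl_iff_sylowIn.1 hP).thompson_pnil hp2
    (h1 _ (h.top.norm hJ) (h.sol_norm hJ (Transfer.thompsonOf_ne_bot_of_isPGroup hP.isPGroup h0)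
      (solvable_of_le (Transfer.thompsonOf_le P) hs)) (le_inf hP.le (Transfer.le_normalizer_thompsonOf P)))
    (h1 _ (h.top.cent (iP.cent iP)) (solvable_of_le (inf_le_inf_left _ (cent_le_norm _)) (h.sol_norm (iP.cent iP)
      (inf_center_ne_bot hP.isPGroup le_rfl le_normalizer h0) (solvable_of_le inf_le_left hs)))
      (le_inf hP.le (BG1.le_cent_symm inf_le_right)))))

end MM

end Cfsg.Lib.Hall
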