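import Cfsg.Agent.Lib.Hall.MarA

/-! Coprime action of a noncyclic group of order `q ^ 2` with abelian fixed point subgroups: invariant
`{p, r}`-subgroups of a minimal counterexample. -/

set_option autoImplicit false
set_option linter.unusedSectionVars false

namespace Cfsg.Lib.Hall
open Subgroup Cfsg.Lib.Core Cfsg.Lib.Amalg Cfsg.Lib.BG1
open scoped commutatorElement

universe u

variable {G : Type u} [Group G] [Finite G] {A H K L M P R T V W X Y Z : Subgroup G} {p q r : ℕ} {a b : G}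
  {π : Set ℕ}

/-- two primes and the invariant Sylow subgroups -/
structure MS (q : ℕ) (π : Set ℕ) (p r : ℕ) (A K P R : Subgroup G) : Prop extends MM q A K where
  pp : p.Prime
  rp : r.Prime
  pr : p ≠ r
  mem : ∀ t, t ∈ π ↔ t = p ∨ t = r
  sP : Syl p P K
  sR : Syl r R K
  nP : A ≤ 𝐍(P)
  nR : A ≤ 𝐍(R)

/-- invariant `π`-subgroups -/
structure PI (π : Set ℕ) (A K X : Subgroup G) : Prop extends IV A K X where
  pi : IsPiNumber π (Nat.card X)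

/-- maximal invariant `π`-subgroups -/
structure Mx (π : Set ℕ) (A K H : Subgroup G) : Prop extends PI π A K H where
  mx : ∀ L, PI π A K L → H ≤ L → L = H

theorem PI.ex (h : PI π A K X) : ∃ H, X ≤ H ∧ Mx π A K H :=
  (exists_maximal_ge (PI π A K) h).imp fun _ e => ⟨e.1, e.2.1, e.2.2⟩

theorem PI.of_le (h : PI π A K X) (hY : Y ≤ X) (hn : A ≤ 𝐍(Y)) : PI π A K Y :=
  ⟨⟨hY.trans h.le, hn⟩, isPi_of_le h.pi hY⟩

theorem PI.inf (h : PI π A K X) (hn : A ≤ 𝐍(Y)) : PI π A K (X ⊓ Y) := h.of_le inf_le_left (h.toIV.inf hn).n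

theorem PI.core (h : PI π A K X) (σ : Set ℕ) : PI π A K (piCoreOf σ X) := h.of_le (piCoreOf_le' _ _) (h.toIV.core σ).n

namespace MS

theorem swap (h : MS q π p r A K P R) : MS q π r p A K R P :=
  ⟨h.toMM, h.rp, h.pp, h.pr.symm, fun t => (h.mem t).trans or_comm, h.sR, h.sP, h.nR, h.nP⟩

theorem piP (h : MS q π p r A K P R) : PI π A K P :=
  ⟨⟨h.sP.le, h.nP⟩, ((isPGroup_iff_isPiNumber h.pp).1 h.sP.isPGroup).mono
    (Set.singleton_subset_iff.2 ((h.mem p).2 (.inl rfl)))⟩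

theorem psol (h : MS q π p r A K P R) (hX : PI π A K X) : Group.IsSolvable X :=
  isSolvable_of_isPiNumber_pair h.pp h.rp (hX.pi.mono fun t ht => (h.mem t).1 ht)

theorem core_eq (h : MS q π p r A K P R) (hX : PI π A K X) : 𝐎'[p](X) = 𝐎[r](X) :=
  piCoreOf_congr fun t ht hd => by
    rcases (h.mem t).1 (hX.pi t ht hd) with rfl | rfl
    · simpa using h.pr
    · simpa using h.pr.symm

theorem cop2 (h : MS q π p r A K P R) (hX : IsPGroup p X) (hY : IsPGroup r Y) : (Nat.card X).Coprime (Nat.card Y) :=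
  IsPiNumber.coprime_of_disjoint ((isPGroup_iff_isPiNumber h.pp).1 hX) ((isPGroup_iff_isPiNumber h.rp).1 hY)
    fun _ _ e e' => h.pr (e.symm.trans e')

theorem le_core (h : MS q π p r A K P R) (hH : PI π A K H) (hT : T ≤ H) (hr : IsPGroup r T)
    (h1 : T ≤ 𝐂(𝐎[p](H))) : T ≤ 𝐎[r](H) :=
  h.core_eq hH ▸ ma_le_core h.pp (h.metanil hH.toIV (h.psol hH)) hT (fun e => h.pr
    (((isPGroup_iff_isPiNumber h.rp).1 hr) p h.pp e)) h1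

theorem core_le (h : MS q π p r A K P R) (hH : IV A K H) : 𝐎[p](H) ≤ P :=
  haveI := Fact.mk h.pp
  h.syl_le h.sP h.nP (hH.core _) (pgroup_pCoreOf h.pp _)

theorem cent2 (h : MS q π p r A K P R) (hH : PI π A K H) : 𝐎[p](H) ≤ 𝐂(𝐎[r](H)) :=
  h.core_eq hH ▸ piCoreOf_le_cent_compl _ _

theorem psup (h : MS q π p r A K P R) (hW : PI π A K W) (h0 : W ≠ ⊥) (hX : PI π A K X) (hY : PI π A K Y)
    (h1 : X ≤ 𝐍(W)) (h2 : Y ≤ 𝐍(W)) : PI π A K (X ⊔ Y) :=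
  ⟨hX.toIV.sup hY.toIV, h.pi_sup hW.toIV h0 (h.psol hW) hX.toIV hY.toIV h1 h2 hX.pi hY.pi⟩

theorem le_mx (h : MS q π p r A K P R) (hH : Mx π A K H) (hW : PI π A K W) (h0 : W ≠ ⊥) (h1 : H ≤ 𝐍(W))
    (hX : PI π A K X) (h2 : X ≤ 𝐍(W)) : X ≤ H :=
  le_sup_right.trans_eq (hH.mx _ (h.psup hW h0 hH.toPI hX h1 h2) le_sup_left)

theorem zpi (hH : PI π A K H) (p : ℕ) : PI π A K (𝐎[p](H) ⊓ 𝐂(𝐎[p](H))) :=
  (hH.core _).inf (le_normalizer_centralizer (hH.core _).n)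

theorem zne (h : MS q π p r A K P R) (h0 : 𝐎[p](H) ≠ ⊥) : 𝐎[p](H) ⊓ 𝐂(𝐎[p](H)) ≠ ⊥ :=
  haveI := Fact.mk h.pp
  inf_center_ne_bot (pgroup_pCoreOf h.pp _) le_rfl le_normalizer h0

theorem zn (p : ℕ) (H : Subgroup G) : H ≤ 𝐍(𝐎[p](H) ⊓ 𝐂(𝐎[p](H))) :=
  le_normalizer_inf (le_norm_piCoreOf_self _ _) (le_normalizer_centralizer (le_norm_piCoreOf_self _ _))

theorem b1 (h : MS q π p r A K P R) (hH : Mx π A K H) (hL : PI π A K L) (h0 : 𝐎[p](H) ≠ ⊥)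
    (h1 : 𝐎[p](H) ⊓ 𝐂(𝐎[p](H)) ≤ L) : 𝐎[r](H) ⊓ L ≤ 𝐎[r](L) := by
  have hZ := zpi hH.toPI p
  have hN := hL.inf (le_normalizer_normalizer hZ.n)
  have h2 := piCoreOf_inf_le' (π := {r}) (h.le_mx hH hZ (h.zne h0) (zn p H) hN inf_le_right)
  rw [← h.core_eq hN] at h2
  rw [← h.core_eq hL]
  exact (le_inf inf_le_left (le_inf inf_le_right (inf_le_left.trans ((piCoreOf_le' _ _).trans (zn p H))))).trans
    (h2.trans (pPrimeCoreOf_norm_pgroup h.pp (h.psol hL) h1 ((pgroup_pCoreOf h.pp _).to_le inf_le_left)))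

theorem b2 (h : MS q π p r A K P R) (hH : Mx π A K H) (hL : PI π A K L) (h0 : 𝐎[p](H) ≠ ⊥) (h0' : 𝐎[r](H) ≠ ⊥)
    (h1 : 𝐎[p](H) ⊓ 𝐂(𝐎[p](H)) ≤ L) (h2 : 𝐎[r](H) ⊓ 𝐂(𝐎[r](H)) ≤ L) : 𝐎[r](L) ≠ ⊥ ∧ 𝐎[p](L) ≤ H := by
  have h3 := (le_inf inf_le_left h2).trans (h.b1 hH hL h0 h1)
  exact ⟨ne_bot_of_le_ne_bot (h.swap.zne h0') h3, h.le_mx hH (zpi hH.toPI r) (h.swap.zne h0') (zn r H) (hL.core _)
    (le_norm_of_le_cent ((h.cent2 hL).trans (centralizer_anti h3)))⟩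

theorem b3 (h : MS q π p r A K P R) (hH : Mx π A K H) (hL : Mx π A K L) (h0 : 𝐎[p](H) ≠ ⊥) (h0' : 𝐎[r](H) ≠ ⊥)
    (h1 : 𝐎[p](H) ⊓ 𝐂(𝐎[p](H)) ≤ L) (h2 : 𝐎[r](H) ⊓ 𝐂(𝐎[r](H)) ≤ L) : L = H := by
  obtain ⟨h3, h4⟩ := h.b2 hH hL.toPI h0 h0' h1 h2
  obtain ⟨h5, h6⟩ := h.swap.b2 hH hL.toPI h0' h0 h2 h1
  have h7 := (h.swap.b2 hL hH.toPI h3 h5 (inf_le_left.trans h6) (inf_le_left.trans h4)).2
  have e : 𝐎[r](L) = 𝐎[r](H) := le_antisymm ((le_inf le_rfl h6).trans (h.b1 hL hH.toPI h5 (inf_le_left.trans h4)))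
    ((le_inf le_rfl h7).trans (h.b1 hH hL.toPI h0 h1))
  exact (hL.mx H hH.toPI (h.le_mx hH (hH.toPI.core _) h0' (le_norm_piCoreOf_self _ _) hL.toPI
    (e ▸ le_norm_piCoreOf_self _ _))).symm

theorem uniq (h : MS q π p r A K P R) (hH : Mx π A K H) (h0 : 𝐎[p](H) ≠ ⊥) (h0' : 𝐎[r](H) ≠ ⊥) (hW : W ≤ 𝐎[p](H))
    (hn : A ≤ 𝐍(W)) (h1 : W ≠ ⊥) (hX : PI π A K X) (h2 : X ≤ 𝐍(W)) : X ≤ H := by
  have iW := (hH.toPI.core _).of_le hW hn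
  have h3 : 𝐎[p](H) ⊓ 𝐂(𝐎[p](H)) ≤ 𝐍(W) := le_norm_of_le_cent (inf_le_right.trans (centralizer_anti hW))
  have h4 : 𝐎[r](H) ⊓ 𝐂(𝐎[r](H)) ≤ 𝐍(W) :=
    le_norm_of_le_cent (inf_le_left.trans ((h.swap.cent2 hH.toPI).trans (centralizer_anti hW)))
  obtain ⟨L, h5, hL⟩ := (h.psup iW h1 (h.psup iW h1 (zpi hH.toPI p) (zpi hH.toPI r) h3 h4) hX (sup_le h3 h4) h2).ex
  exact le_sup_right.trans (h5.trans_eq (h.b3 hH hL h0 h0' (le_sup_left.trans (le_sup_left.trans h5))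
    (le_sup_right.trans (le_sup_left.trans h5))))

theorem step1 (h : MS q π p r A K P R) (hH : Mx π A K H) (h0 : 𝐎[p](H) ≠ ⊥) (h0' : 𝐎[r](H) ≠ ⊥) : R ≤ H := by
  haveI := Fact.mk h.rp
  have iR := h.swap.piP
  have iP := hH.toPI.core {p}
  have iQ := hH.toPI.core {r}
  have hQ : 𝐎[r](H) ≤ R := h.swap.core_le hH.toIV
  by_contra hc
  obtain ⟨a, ha, h1, h2⟩ : ∃ a ∈ A, a ≠ 1 ∧ ¬ R ⊓ 𝐂[a] ≤ H := by
    by_contra! e
    exact hc (h.gen iR.toIV e)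
  have c1 : ∀ b ∈ A, A ≤ 𝐍(𝐂[b]) := fun b hb => (h.le_c hb).trans le_normalizer
  have k1 : ∀ b ∈ A, b ≠ 1 → 𝐎[p](H) ⊓ 𝐂[b] ≠ ⊥ → R ⊓ 𝐂[b] ≤ H := fun b hb e e' =>
    h.uniq hH h0 h0' inf_le_left (iP.inf (c1 b hb)).n e' (iR.inf (c1 b hb)) (le_norm_of_le_cent (h.cc hb e iR.le iP.le))
  have h3 : 𝐎[p](H) ⊓ 𝐂[a] = ⊥ := by_contra fun e => h2 (k1 a ha h1 e)
  have h4 : 𝐎[r](H) ⊓ 𝐂[a] = ⊥ := by_contra fun e => h2 (h.swap.uniq hH h0' h0 inf_le_left (iQ.inf (c1 a ha)).n e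
    (iR.inf (c1 a ha)) (le_norm_of_le_cent (h.cc ha h1 iR.le iQ.le)))
  have k2 : ∀ a b T, Ind A a b → A ≤ 𝐍(T) → T ≤ H → T ≤ R → T ≤ 𝐂[a] → 𝐎[p](H) ⊓ 𝐂[b] = ⊥ → T ≤ 𝐎[r](H) :=
    fun a b T i hn e1 e2 e3 e4 => h.le_core hH.toPI e1 (h.sR.isPGroup.to_le e2) (h.frob i ⟨e1.trans hH.le, hn⟩ e3 iP.toIV
      (h.psol iP) (e1.trans (le_norm_piCoreOf_self _ _)) (h.cop2 (pgroup_pCoreOf h.pp _) (h.sR.isPGroup.to_le e2)).symm
      (e4.le.trans bot_le))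
  have iZ : PI π A K (R ⊓ 𝐂(R)) := iR.inf (le_normalizer_centralizer iR.n)
  have h5 : R ⊓ 𝐂(R) ≤ H := h.le_mx hH iQ h0' (le_norm_piCoreOf_self _ _) iZ
    (le_norm_of_le_cent (inf_le_right.trans (centralizer_anti hQ)))
  have h6 : ∀ T, T ≤ R ⊓ 𝐂(R) → A ≤ 𝐍(T) → T ≤ 𝐎[r](H) → T = ⊥ := fun T e1 e2 e3 => by_contra fun e =>
    hc (h.swap.uniq hH h0' h0 e3 e2 e iR (le_norm_of_le_cent (BG1.le_cent_symm (e1.trans inf_le_right))))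
  have h7 : R ⊓ 𝐂(R) ≤ 𝐂[a] := h.gen2 iZ.toIV ha h1 inf_le_right fun b i =>
    (h6 _ inf_le_left (iZ.inf (c1 b i.mb)).n (k2 b a _ (h.symm i) (iZ.inf (c1 b i.mb)).n (inf_le_left.trans h5)
      (inf_le_left.trans inf_le_left) inf_le_right h3)).le.trans bot_le
  have h8 : ∀ b, Ind A a b → R ⊓ 𝐂[b] ≤ 𝐎[r](H) := fun b i =>
    k2 b a _ (h.symm i) (iR.inf (c1 b i.mb)).n (k1 b i.mb (h.symm i).ne fun e =>
      inf_center_ne_bot h.sR.isPGroup le_rfl le_normalizer (ne_bot_of_le_ne_bot h0' hQ)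
        (h6 _ le_rfl iZ.n (k2 a b _ i iZ.n h5 inf_le_left h7 e))) inf_le_left inf_le_right h3
  have i2 := iR.inf hH.n
  have i1 := iR.inf (le_normalizer_normalizer i2.n)
  have hz := zpowers_le.2 ha
  have hza : 𝐂[a] ≤ 𝐂(zpowers a) := (Core.centralizer_zpowers a).ge
  have h9 : ⁅R ⊓ H, zpowers a⁆ ≤ 𝐎[r](H) := (commutator_mono (h.gen2 i2.toIV ha h1 le_sup_left fun b i =>
    (inf_le_inf_right _ inf_le_left).trans ((h8 b i).trans le_sup_right)) le_rfl).trans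
      (Amalg.comm_sup_le ((comm_eq_bot_iff.2 (inf_le_right.trans hza)).le.trans bot_le) (comm_le_left (hz.trans iQ.n))
        ((inf_le_left.trans inf_le_right).trans (le_norm_piCoreOf_self _ _)) le_normalizer)
  refine hc (inf_eq_left.1 (eq_of_inf_normalizer_le h.sR.isPGroup inf_le_left (le_inf inf_le_left
    (h.swap.uniq hH h0' h0 h9 (le_normalizer_commutator i2.n (le_norm_of_le_cent ((h.le_c ha).trans hza))) (fun e => ?_) i1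
      (h.gen2 i1.toIV ha h1 (le_normalizer_commutator (inf_le_left.trans inf_le_right)
        (le_norm_of_le_cent (inf_le_right.trans hza))) fun b i => ?_)))))
  · exact h0' (eq_bot_iff.2 (h4 ▸ le_inf le_rfl ((le_inf hQ (piCoreOf_le' _ _)).trans
      ((comm_eq_bot_iff.1 e).trans (Core.centralizer_zpowers a).le))))
  · exact (le_inf (inf_le_left.trans inf_le_left) ((inf_le_inf_right _ inf_le_left).trans
      ((h8 b i).trans (piCoreOf_le' _ _)))).trans (left_le_normalizer_comm _ _)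

end MS

end Cfsg.Lib.Hall
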