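import Cfsg.Agent.Lib.Hall.MarB

/-! A noncyclic group of order `q ^ 2` acting coprimely with abelian fixed point subgroups forces solvability. -/

set_option autoImplicit false
set_option linter.unusedSectionVars false

namespace Cfsg.Lib.Hall
open Subgroup Cfsg.Lib.Core Cfsg.Lib.Amalg Cfsg.Lib.BG1
open scoped commutatorElement Pointwise

universe u

section
variable {G : Type u} [Group G] [Finite G] {A H K L M N P R T V W X Y Z : Subgroup G} {p q r : ℕ} {a b : G}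
  {π : Set ℕ}

namespace MS

theorem le_normP (h : MS q π p r A K P R) (hH : Mx π A K H) (h0 : 𝐎[p](H) ≠ ⊥) (h1 : 𝐎[r](H) = ⊥) : H ≤ 𝐍(P) := by
  haveI := Fact.mk h.pp
  have iP := hH.toPI.core {p}
  have h2 : P ⊓ 𝐍(𝐎[p](H)) ≤ H := h.le_mx hH iP h0 (le_norm_piCoreOf_self _ _)
    (h.piP.inf (le_normalizer_normalizer iP.n)) inf_le_right
  rw [← eq_of_inf_normalizer_le h.sP.isPGroup (h.core_le hH.toIV) (h.swap.le_core hH.toPI h2
    (h.sP.isPGroup.to_le inf_le_left) (by rw [h1, Amalg.centralizer_bot]; exact le_top))]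
  exact le_norm_piCoreOf_self _ _

theorem dich (h : MS q π p r A K P R) (hc : ¬ IsPiNumber π (Nat.card ↥(P ⊔ R))) (hX : PI π A K X) (hT : T ≤ X)
    (hr : IsPGroup r T) (h0 : T ≠ ⊥) : X ≤ 𝐍(P) ∧ ¬ T ≤ 𝐂(P) ∨ X ≤ 𝐍(R) := by
  obtain ⟨H, h1, hH⟩ := hX.ex
  by_cases e : 𝐎[r](H) = ⊥
  · have h2 : ¬ T ≤ 𝐂(𝐎[p](H)) := fun h2 => h0 (eq_bot_iff.2 (e ▸ h.le_core hH.toPI (hT.trans h1) hr h2))
    exact .inl ⟨h1.trans (h.le_normP hH (fun e' => h2 (by rw [e', Amalg.centralizer_bot]; exact le_top)) e),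
      fun h3 => h2 (h3.trans (centralizer_anti (h.core_le hH.toIV)))⟩
  · by_cases e' : 𝐎[p](H) = ⊥
    · exact .inr (h1.trans (h.swap.le_normP hH e e'))
    · exact (hc (isPi_of_le hH.pi (sup_le (h.swap.step1 hH e e') (h.step1 hH e' e)))).elim

theorem not_norm (h : MS q π p r A K P R) (hc : ¬ IsPiNumber π (Nat.card ↥(P ⊔ R))) : ¬ R ≤ 𝐍(P) := fun e =>
  hc (isPi_sup' h.piP.pi h.swap.piP.pi e)

theorem cent_bot (h : MS q π p r A K P R) (hc : ¬ IsPiNumber π (Nat.card ↥(P ⊔ R))) : R ⊓ 𝐂(P) = ⊥ := by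
  by_contra e
  have iT := h.swap.piP.inf (le_normalizer_centralizer h.nP)
  exact (h.dich hc (h.psup iT e h.piP iT (le_norm_of_le_cent (BG1.le_cent_symm inf_le_right)) le_normalizer)
    le_sup_right (h.sR.isPGroup.to_le inf_le_left) e).elim (fun e => e.2 inf_le_right)
    fun e => h.swap.not_norm (sup_comm P R ▸ hc) (le_sup_left.trans e)

theorem pcc (h : MS q π p r A K P R) (hb : b ∈ A) (h1 : b ≠ 1) (h2 : P ⊓ 𝐂[b] ≠ ⊥) :
    PI π A K (P ⊓ 𝐂[b] ⊔ R ⊓ 𝐂[b]) :=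
  have c := (h.le_c hb).trans le_normalizer
  h.psup (h.piP.inf c) h2 (h.piP.inf c) (h.swap.piP.inf c) le_normalizer
    (le_norm_of_le_cent (h.cc hb h1 h.sR.le h.sP.le))

theorem step3 (h : MS q π p r A K P R) (hc : ¬ IsPiNumber π (Nat.card ↥(P ⊔ R))) (i : Ind A a b)
    (h0 : R ⊓ 𝐍(P) ⊓ 𝐂[a] ≠ ⊥) : R ⊓ 𝐂[b] ≤ 𝐍(P) := by
  have iT := (h.swap.piP.inf (le_normalizer_normalizer h.nP)).inf ((h.le_c i.ma).trans le_normalizer)
  have hT := h.sR.isPGroup.to_le (inf_le_left.trans inf_le_left : R ⊓ 𝐍(P) ⊓ 𝐂[a] ≤ R)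
  have h1 : ¬ P ⊓ 𝐂[b] ≤ 𝐂(R ⊓ 𝐍(P) ⊓ 𝐂[a]) := fun e => h0 (eq_bot_iff.2 (h.cent_bot hc ▸ le_inf
    (inf_le_left.trans inf_le_left) (h.frob i iT.toIV inf_le_right h.piP.toIV (h.psol h.piP)
      (inf_le_left.trans inf_le_right) (h.cop2 h.sP.isPGroup hT).symm e)))
  have h2 : P ⊓ 𝐂[b] ≠ ⊥ := fun e => h1 (e.le.trans bot_le)
  refine (h.swap.dich (sup_comm P R ▸ hc) (h.pcc i.mb (h.symm i).ne h2) le_sup_left
    (h.sP.isPGroup.to_le inf_le_left) h2).elim (fun e => (h1 (comm_eq_bot_iff.1 (eq_bot_iff.2 ?_))).elim)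
    le_sup_right.trans
  rw [← Coprime.inf_eq_bot_of_coprime_card (h.cop2 h.sP.isPGroup h.sR.isPGroup)]
  exact le_inf ((commutator_mono le_rfl (inf_le_left.trans inf_le_left)).trans (comm_le_right (le_sup_left.trans e.1)))
    ((commutator_mono inf_le_left le_rfl).trans (comm_le_left (inf_le_left.trans inf_le_right)))

theorem ex_ind (h : MS q π p r A K P R) (hc : ¬ IsPiNumber π (Nat.card ↥(P ⊔ R))) (ha : a ∈ A) (h1 : a ≠ 1) :
    ∃ b, Ind A a b ∧ R ⊓ 𝐂[b] ≠ ⊥ := by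
  haveI := Fact.mk h.rp
  by_contra! e
  exact h.g1 h.sR h.nR (fun e => h.not_norm hc (e.le.trans bot_le)) ha h1
    (h.gen2 h.swap.piP.toIV ha h1 inf_le_right fun b i => (e b i).le.trans bot_le)

theorem norm_bot (h : MS q π p r A K P R) (hc : ¬ IsPiNumber π (Nat.card ↥(P ⊔ R))) : R ⊓ 𝐍(P) = ⊥ := by
  refine eq_bot_iff.2 (h.gen (h.swap.piP.toIV.norm h.piP.toIV) fun a ha h1 => (eq_bot_iff.1 (by_contra fun e => ?_)))
  obtain ⟨b, i, hb⟩ := h.ex_ind hc ha h1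
  exact h.not_norm hc (h.gen2 h.swap.piP.toIV ha h1 (h.step3 hc (h.symm i) (ne_bot_of_le_ne_bot hb
    (le_inf (le_inf inf_le_left (h.step3 hc i e)) inf_le_right))) fun b i => h.step3 hc i e)

theorem pi_odd (h : MS q π p r A K P R) (hp : p ≠ 2) : IsPiNumber π (Nat.card ↥(P ⊔ R)) := by
  haveI := Fact.mk h.pp
  by_contra hc
  have hc' := sup_comm P R ▸ hc
  obtain ⟨a, ha, h1, h2⟩ := h.g2 hp h.sP h.nP fun e => h.swap.not_norm hc' (e.le.trans bot_le)
  obtain ⟨b, i, hb⟩ := h.ex_ind hc ha h1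
  exact (h.dich hc (h.pcc i.mb (h.symm i).ne (h2 b i)) le_sup_right (h.sR.isPGroup.to_le inf_le_left) hb).elim
    (fun e => hb (eq_bot_iff.2 (h.norm_bot hc ▸ le_inf inf_le_left (le_sup_right.trans e.1))))
    fun e => h2 b i (eq_bot_iff.2 (h.swap.norm_bot hc' ▸ le_inf inf_le_left (le_sup_left.trans e)))

theorem perm (h : MS q π p r A K P R) : Perm P R := by
  haveI := Fact.mk h.pp
  haveI := Fact.mk h.rp
  have h1 : IsPiNumber π (Nat.card ↥(P ⊔ R)) := by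
    by_cases e : p = 2
    · exact sup_comm R P ▸ h.swap.pi_odd (e ▸ h.pr.symm)
    · exact h.pi_odd e
  have h2 := sup_le h.sP.le h.sR.le
  refine coe_eq_mul_of_coprime_relIndex le_sup_left le_sup_right (Nat.coprime_of_dvd fun t ht h3 h4 => ?_)
  rcases (h.mem t).1 (h1 t ht (h3.trans (relIndex_dvd_card _ _))) with rfl | rfl
  · exact (h.sP.of_le le_sup_left h2).not_dvd_relIndex h3
  · exact (h.sR.of_le le_sup_right h2).not_dvd_relIndex h4

end MS

theorem MM.false (h : MM q A K) : False := by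
  have h1 : ∀ p : Nat.Primes, ∃ P, Syl p P K ∧ A ≤ 𝐍(P) := fun p =>
    haveI := Fact.mk p.2
    coprime_sylow_exists p h.n (h.coprime le_rfl le_rfl) (.inl h.solv)
  choose S h1 h2 using h1
  refine h.ns (Cfsg.Agent.S0021.result (fun p => (h1 p).toSylow) fun p r => ?_)
  by_cases e : p = r
  · rw [e]
  have h3 := perm_iff.1 (MS.perm (π := {p.1, r.1}) ⟨h, p.2, r.2, fun e' => e (Subtype.ext e'), fun _ => Iff.rfl,
    h1 p, h1 r, h2 p, h2 r⟩)
  apply Set.image_injective.2 K.subtype_injective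
  rw [Set.image_mul, Set.image_mul]
  have : ∀ p, K.subtype '' ((h1 p).toSylow : Set K) = S p := fun p => congrArg SetLike.coe (h1 p).map_toSylow
  rw [this, this, h3]

theorem MC.quo (h : MC q A K) (hN : IV A K N) (hn : K ≤ 𝐍(N)) : MC q (quo N A) (quo N K) := by
  refine ⟨h.pq, (fd_card_quo hN.n (h.coprime le_rfl hN.le)).trans h.card, fun x hx => ?_, mim_norm _ h.n,
    not_dvd_card_mim _ h.cop, fun x hx h1 => ?_⟩
  · obtain ⟨a, ha, h2, rfl⟩ := mem_mim.1 hx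
    rw [← map_pow, show (⟨a, ha⟩ : 𝐍(N)) ^ q = 1 from Subtype.ext (h.pow a h2), map_one]
  · obtain ⟨a, ha, h2, rfl⟩ := mem_mim.1 hx
    have hz := zpowers_le.2 h2
    rw [← Core.centralizer_zpowers, ← mim_zpowers, ← quo_inf_cent (hz.trans hN.n) hn (hz.trans h.n)
      (h.coprime hz hN.le) (.inl (solvable_of_le hz h.solv)), Core.centralizer_zpowers]
    exact mim_cent _ (h.ab a h2 fun e => h1 (by subst e; exact map_one _))

end

theorem mc_solvable {q : ℕ} (n : ℕ) : ∀ {G : Type u} [Group G] [Finite G] {A K : Subgroup G}, Nat.card K = n →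
    MC q A K → Group.IsSolvable K := by
  induction n using Nat.strong_induction_on with
  | _ n ih =>
    intro G _ _ A K e h
    have h1 : ∀ H, IV A K H → H ≠ K → Group.IsSolvable H := fun H hH hne =>
      ih _ (e ▸ Core.card_lt_of_lt (lt_of_le_of_ne hH.le hne)) rfl (h.mono hH)
    by_contra hc
    refine MM.false ⟨h, hc, h1, fun W hW hn => by_contra fun e' => hc ?_⟩
    rw [not_or] at e'
    exact isSolvable_of_quo hn (h1 W hW e'.2) (ih _ (e ▸ card_quo_lt hn hW.le e'.1) rfl (h.quo hW hn))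

end Cfsg.Lib.Hall
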