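import Cfsg.Agent.Lib.Hall.Huppert
import Cfsg.Agent.Lib.Hall.SolvCrit
import Cfsg.Agent.Lib.Hall.ClassSize
import Cfsg.Agent.Lib.Hall.HallThm
import Cfsg.Agent.Lib.BG1.Sec1
import Cfsg.Agent.Lib.PGrp.Basic
import Cfsg.Agent.Lib.Small.Simple

/-! Groups with restricted maximal subgroups: indices `p` or `p ^ 2` (P. Hall), two conjugacy classes (Pazderski). -/

set_option autoImplicit false
set_option linter.unusedSectionVars false

namespace Cfsg.Lib.Hall
open Subgroup Cfsg.Lib.Core Cfsg.Lib.Amalg Cfsg.Lib.BG1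

universe u

theorem index_modEq_one {G : Type u} [Group G] [Finite G] {p : ℕ} [Fact p.Prime] (P : Sylow p G) {M : Subgroup G}
    (hle : 𝐍((P : Subgroup G)) ≤ M) : M.index ≡ 1 [MOD p] := by
  have hPM : (P : Subgroup G) ≤ M := le_normalizer.trans hle
  have h1 := card_sylow_modEq_one p G
  have h2 := card_sylow_modEq_one p M
  have hle' : normalizer (P : Set G) ≤ M := hle
  rw [P.card_eq_index_normalizer, ← relIndex_mul_index hle'] at h1
  rw [(P.subtype hPM).card_eq_index_normalizer, show normalizer ((P.subtype hPM : Sylow p M) : Set M) =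
      (normalizer (P : Set G)).subgroupOf M from (subgroupOf_normalizer_eq hPM).symm] at h2
  simpa using (h2.mul_right M.index).symm.trans h1

theorem solv_of_index_sq (n : ℕ) : ∀ (G : Type u) [Group G] [Finite G], Nat.card G = n →
    (∀ M : Subgroup G, IsCoatom M → ∃ p : ℕ, p.Prime ∧ (M.index = p ∨ M.index = p ^ 2)) → Group.IsSolvable G := by
  induction n using Nat.strong_induction_on with
  | _ n ih =>
    intro G _ _ e h
    by_cases h1 : Nat.card G = 1
    · haveI := (Nat.card_eq_one_iff_unique.1 h1).1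
      infer_instance
    obtain ⟨p, hp, h2, h3⟩ := exists_max_prime_dvd Nat.card_pos.ne' h1
    haveI := Fact.mk hp
    obtain ⟨P⟩ : Nonempty (Sylow p G) := inferInstance
    by_cases h4 : 𝐍((P : Subgroup G)) = ⊤
    · haveI := normalizer_eq_top_iff.1 h4
      haveI := solvable_of_pgroup hp P.isPGroup'
      haveI := ih _ (e ▸ card_quotient_lt (P.ne_bot_of_dvd_card h2)) (G ⧸ (P : Subgroup G)) rfl fun M hM => by
        rw [← index_comap_mk']
        exact h _ (isCoatom_comap_of_surjective (QuotientGroup.mk'_surjective _) hM)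
      exact isSolvable_of_normal_quotient (P : Subgroup G)
    obtain ⟨M, hM, hle⟩ := exists_coatom_ge h4
    have h5 := (index_modEq_one P hle).symm
    obtain ⟨q, hq, h6⟩ := h M hM
    have h7 : q ≤ p := h3 q hq (h6.elim (· ▸ M.index_dvd_card) fun e =>
      (dvd_pow_self q two_ne_zero).trans (e ▸ M.index_dvd_card))
    have h8 := hq.two_le
    have h9 : ¬ p ∣ q - 1 := fun e => by have := Nat.le_of_dvd (by omega) e; omega
    rcases h6 with e | e
    · exact (h9 ((Nat.modEq_iff_dvd' hq.one_le).1 (e ▸ h5))).elim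
    have h10 := (Nat.modEq_iff_dvd' (Nat.one_le_pow _ _ hq.pos)).1 (e ▸ h5)
    rw [show q ^ 2 - 1 = (q + 1) * (q - 1) from Nat.sq_sub_sq q 1 ▸ by simp, hp.dvd_mul, or_iff_left h9] at h10
    have h11 := Nat.le_of_dvd (by omega) h10
    have h12 : q ≠ p := fun e => hp.one_lt.ne' (Nat.dvd_one.1 ((Nat.dvd_add_right dvd_rfl).1 (e ▸ h10)))
    have h13 : p = 3 := by
      rcases hq.eq_two_or_odd with e | e
      · omega
      · rcases hp.eq_two_or_odd with e | e <;> omega
    refine isSolvable_of_isPiNumber_pair Nat.prime_two Nat.prime_three fun r hr h14 => ?_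
    have := h3 r hr h14
    have := hr.two_le
    simp only [Set.mem_insert_iff, Set.mem_singleton_iff]
    omega

variable {G : Type u} [Group G] [Finite G] {M N X : Subgroup G} {p : ℕ}

/-- every proper subgroup lies in a conjugate of `M` or of `N` -/
def TwoCl (M N : Subgroup G) : Prop := ∀ H : Subgroup G, H ≠ ⊤ → ∃ g, H ≤ cj g M ∨ H ≤ cj g N

theorem TwoCl.symm (h : TwoCl M N) : TwoCl N M := fun H e => (h H e).imp fun _ => Or.symm

theorem TwoCl.coset [Fact p.Prime] (h : TwoCl M N) (hN : ¬ p ∣ N.index)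
    (hn : ∀ X : Subgroup G, X.Normal → IsPGroup p X → X ≤ M) (X : Subgroup G) : IsPGroup p X →
    (∀ g, ¬ X ≤ cj g M) → ∀ x y, X ≤ cj x N → X ≤ cj y N → x⁻¹ * y ∈ N := by
  induction X using WellFoundedGT.induction with
  | ind X ih =>
    intro hX h1
    obtain ⟨z, hz⟩ := h 𝐍(X) fun e => h1 1 (by rw [cj_one]; exact hn X (normalizer_eq_top_iff.1 e) hX)
    replace hz := hz.resolve_left fun e => h1 z (le_normalizer.trans e)
    have h2 : ∀ x, X ≤ cj x N → x⁻¹ * z ∈ N := fun x hx => by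
      obtain ⟨T, hT, h3⟩ := exists_syl_ge hX hx
      rcases h3.eq_or_lt with rfl | h3
      · have h4 := (hT.of_le_of_not_dvd le_top (by rwa [relIndex_top_right, index_cj])).of_le
          (le_normalizer.trans hz) le_top
        have h5 := hT.conj x⁻¹
        have h6 := h4.conj z⁻¹
        rw [cj_inv_cj] at h5 h6
        obtain ⟨n, hn, e⟩ := h5.exists_conj h6
        rw [← cj_mul, eq_comm, cj_eq_iff, inv_inv, ← cj_mul] at e
        have h7 := mem_cj.1 (hz (cj_eq_self_iff.1 e.symm))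
        simpa [mul_assoc] using N.mul_mem (N.inv_mem hn) h7
      · have h4 := lt_inf_normalizer_of_lt hT.isPGroup h3
        exact ih _ h4 (hT.isPGroup.to_le inf_le_left) (fun g e => h1 g (h4.le.trans e)) x z
          (inf_le_left.trans hT.le) (inf_le_right.trans hz)
    intro x y hx hy
    simpa [mul_assoc] using N.mul_mem (h2 x hx) (N.inv_mem (h2 y hy))

theorem TwoCl.dvd (h : TwoCl M N) (hM : M ≠ ⊤)
    (hn : ∀ p : ℕ, p.Prime → ∀ X : Subgroup G, X.Normal → IsPGroup p X → X ≤ M) : M.index ∣ N.index - 1 := by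
  refine (Nat.dvd_iff_prime_pow_dvd_dvd _ _).2 fun p k hp hk => ?_
  haveI := Fact.mk hp
  obtain ⟨P, hP⟩ := exists_syl p (⊤ : Subgroup G)
  have h0 : ¬ p ∣ P.index := relIndex_top_right P ▸ hP.not_dvd_relIndex
  have h1 : ∀ X ≤ P, ∀ g, X ≤ cj g M → p ^ k ∣ X.relIndex P := fun X hX g e =>
    ((Nat.Coprime.pow_left k (hp.coprime_iff_not_dvd.2 h0)).dvd_mul_right).1
      (by rw [relIndex_mul_index hX]; exact (index_cj g M ▸ hk).trans (index_dvd_of_le e))
  rcases k with _ | k
  · simp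
  have h2 : ∀ g, ¬ P ≤ cj g M := fun g e => hp.one_lt.ne' (Nat.dvd_one.1
    ((dvd_pow_self p k.succ_ne_zero).trans (relIndex_self P ▸ h1 P le_rfl g e)))
  obtain ⟨z, hz⟩ := h P fun e => hM (top_le_iff.1 (hn p hp ⊤ inferInstance (e ▸ hP.isPGroup)))
  replace hz := hz.resolve_left (h2 z)
  have hN : ¬ p ∣ N.index := fun e => h0 ((index_cj z N ▸ e).trans (index_dvd_of_le hz))
  have h3 : ∀ g x : G, g • (x : G ⧸ N) = x ↔ g ∈ cj x N := fun g x => by
    rw [mem_cj, MulAction.Quotient.smul_coe, eq_comm, QuotientGroup.eq, smul_eq_mul, mul_assoc]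
  have h4 := Small.dvd_card_of_orbits (H := P) (fun c : G ⧸ N => c ≠ z) (fun g c hc e => hc (by
    rw [← inv_smul_smul g c, e]; exact (h3 _ z).2 (hz g⁻¹.2))) (m := p ^ (k + 1)) fun c hc => by
      obtain ⟨x, rfl⟩ := QuotientGroup.mk_surjective c
      have h5 : MulAction.stabilizer P (x : G ⧸ N) = (P ⊓ cj x N).subgroupOf P := by
        ext g
        rw [MulAction.mem_stabilizer_iff, mem_subgroupOf, mem_inf, and_iff_right g.2]
        exact h3 g x
      rw [Nat.card_congr (MulAction.orbitEquivQuotientStabilizer P _), ← index_eq_card, h5]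
      by_contra e
      exact hc (QuotientGroup.eq.2 (h.coset hN (hn p hp) _ (hP.isPGroup.to_le inf_le_left)
        (fun g e' => e (h1 _ inf_le_left g e')) x z inf_le_right (inf_le_left.trans hz)))
  classical
  have := Fintype.ofFinite (G ⧸ N)
  rwa [Nat.card_eq_fintype_card, Fintype.card_subtype_compl, Fintype.card_subtype_eq, ← Nat.card_eq_fintype_card,
    ← index_eq_card] at h4

theorem TwoCl.solv [hp : Fact p.Prime] (h : TwoCl M N) (hN : N ≠ ⊤) [X.Normal] (hX : IsPGroup p X) (h1 : ¬ X ≤ M) :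
    Group.IsSolvable G := by
  obtain ⟨g, hg⟩ := not_forall.1 (mt eq_top_of_forall_conj_mem hN)
  have h2 : X ⊔ zpowers g = ⊤ := by_contra fun e => by
    obtain ⟨y, hy | hy⟩ := h _ e
    · exact h1 (cj_normal y⁻¹ X ▸ le_cj_iff.1 (le_sup_left.trans hy))
    · exact hg ⟨y⁻¹, by simpa using mem_cj.1 (hy (mem_sup_right (mem_zpowers g)))⟩
  haveI := solvable_of_pgroup hp.out hX
  haveI : Group.IsSolvable (zpowers g) := Group.isSolvable_of_comm mul_comm'
  exact isSolvable_top_iff.1 (h2 ▸ isSolvable_sup_of_normal (zpowers g) X)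

theorem TwoCl.solvable (h : TwoCl M N) (hM : M ≠ ⊤) (hN : N ≠ ⊤) : Group.IsSolvable G := by
  by_contra hc
  have k : ∀ {M N : Subgroup G}, TwoCl M N → M ≠ ⊤ → N ≠ ⊤ → M.index ≤ N.index - 1 := fun h hM hN =>
    Nat.le_of_dvd (Nat.sub_pos_of_lt (one_lt_index_of_ne_top hN)) (h.dvd hM fun p hp X _ hX =>
      haveI := Fact.mk hp; by_contra fun e => hc (h.solv hN hX e))
  have := k h hM hN
  have := k h.symm hN hM
  have := one_lt_index_of_ne_top hN
  omega

theorem TwoCl.primes (h : TwoCl M N) (hs : Group.IsSolvable G) (hM : M ≠ ⊤) (hN : N ≠ ⊤) :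
    (Nat.card G).primeFactors = {M.index.minFac, N.index.minFac} := by
  have k : ∀ {M : Subgroup G}, M ≠ ⊤ → M.index.minFac ∈ (Nat.card G).primeFactors := fun {M} hM =>
    Nat.mem_primeFactors.2 ⟨Nat.minFac_prime (mt index_eq_one.1 hM), (Nat.minFac_dvd _).trans M.index_dvd_card,
      Nat.card_pos.ne'⟩
  refine Finset.Subset.antisymm (fun r hr => ?_) (Finset.insert_subset (k hM) (Finset.singleton_subset_iff.2 (k hN)))
  obtain ⟨H, hH⟩ := exists_isPiHall (G := G) {r}ᶜ
  have h1 := Nat.mem_primeFactors.1 hr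
  have k2 : ∀ {M : Subgroup G} g, M ≠ ⊤ → H ≤ cj g M → r = M.index.minFac := fun {M} g hM e => by_contra fun e' =>
    hH.2 _ (Nat.minFac_prime (mt index_eq_one.1 hM)) (Ne.symm e')
      ((Nat.minFac_dvd _).trans (index_cj g M ▸ index_dvd_of_le e))
  obtain ⟨g, hg⟩ := h H fun e => hH.1 r h1.1 (by rw [e, card_top]; exact h1.2.1) rfl
  simpa using hg.imp (k2 g hM) (k2 g hN)

end Cfsg.Lib.Hall
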