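import Cfsg.Agent.Lib.Hall.RealElt
import Cfsg.Agent.Lib.Core.Frattini
import Cfsg.Agent.S0205

/-! Groups in which centralizers of non-central elements of a normal subgroup are maximal. -/

namespace Cfsg.Lib.Hall

open Subgroup _root_.Cfsg.Lib.Core
open scoped Pointwise commutatorElement

variable {G : Type*} [Group G]

theorem sup_eq_top_of_coatom {M B : Subgroup G} (hM : IsCoatom M) (h : ¬ B ≤ M) : B ⊔ M = ⊤ :=
  hM.2 _ (lt_of_le_of_ne le_sup_right (fun e => h (e ▸ le_sup_left)))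

theorem isCoatom_map_mk' {M : Subgroup G} (N : Subgroup G) [N.Normal] (hM : IsCoatom M)
    (h : N ≤ M) : IsCoatom (M.map (QuotientGroup.mk' N)) := by
  have e : (M.map (QuotientGroup.mk' N)).comap (QuotientGroup.mk' N) = M := by
    rw [Core.comap_map_mk', sup_eq_right.mpr h]
  refine ⟨fun h1 => hM.1 (by rw [← e, h1, comap_top]), fun B hB => ?_⟩
  have : M < B.comap (QuotientGroup.mk' N) := by
    rw [← e]
    exact (comap_lt_comap_of_surjective (QuotientGroup.mk'_surjective N)).mpr hB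
  rw [← Core.map_comap_mk' N B, hM.2 _ this, map_top_of_surjective _ (QuotientGroup.mk'_surjective N)]

theorem isSolvable_of_no_real [Finite G]
    (h : ∀ x : G, x ≠ 1 → Odd (orderOf x) → ¬ IsConj x x⁻¹) : Group.IsSolvable G := by
  haveI : Fact (Nat.Prime 2) := ⟨Nat.prime_two⟩
  obtain ⟨P⟩ : Nonempty (Sylow 2 G) := inferInstance
  haveI := sylow_two_normal_of_no_real h P
  haveI := Coprime.isSolvable_of_isPGroup P.isPGroup'
  haveI : Group.IsSolvable (G ⧸ (P : Subgroup G)) := Cfsg.Agent.S0205.result (by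
    rw [← Nat.not_even_iff_odd, even_iff_two_dvd]; exact P.not_dvd_index)
  exact isSolvable_of_normal_quotient (P : Subgroup G)

section

variable [Finite G] {N Z : Subgroup G} [N.Normal] (hZ : Z = N ⊓ centralizer (N : Set G))
  (h : ∀ x ∈ N, x ∉ Z → IsCoatom (centralizer ({x} : Set G)))
include hZ h

theorem MaxCent.le_of_coprime {x y : G} (hx : x ∈ N) (hxZ : x ∉ Z) (hy : y ∈ N) (hc : Commute x y)
    (ho : (orderOf x).Coprime (orderOf y)) : centralizer ({x} : Set G) ≤ centralizer {y} := by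
  have h1 : x * y ∉ Z := fun e => hxZ (zpowers_le.mpr e (left_mem_zpowers_mul hc ho))
  have h2 := h _ (N.mul_mem hx hy) h1
  rw [cent_mul_of_coprime hc ho] at h2
  rcases (inf_le_left : centralizer ({x} : Set G) ⊓ centralizer {y} ≤ _).eq_or_lt with e | e
  · rw [← e]; exact inf_le_right
  · exact absurd (h2.2 _ e) (h x hx hxZ).1

theorem MaxCent.not_le {x : G} (hx : x ∈ N) (hxZ : x ∉ Z) : ¬ N ≤ centralizer ({x} : Set G) :=
  fun e => hxZ (hZ ▸ ⟨hx, le_cent_iff.mp e⟩)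

theorem MaxCent.elementary {p : ℕ} (hp : p.Prime) (h1 : ∀ y ∈ N, (orderOf y).Coprime p → y ∈ Z) :
    ⁅N, N⁆ ≤ Z ∧ ∀ x ∈ N, x ^ p ∈ Z := by
  haveI : Fact p.Prime := ⟨hp⟩
  haveI : Z.Normal := hZ ▸ inferInstance
  have hP : IsPGroup p (N.map (QuotientGroup.mk' Z)) := by
    rw [isPGroup_iff_forall_mem]
    rintro _ ⟨x, hx, rfl⟩
    obtain ⟨k, hk⟩ := Transfer.exists_pow_coprime_orderOf (p := p) x
    refine ⟨k, ?_⟩
    rw [← map_pow, QuotientGroup.mk'_apply, QuotientGroup.eq_one_iff]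
    exact h1 _ (N.pow_mem hx _) hk
  haveI := normal_map_mk' Z N
  have key : ∀ c ∈ N, QuotientGroup.mk' Z c ∈ (frattini (N.map (QuotientGroup.mk' Z))).map
      (N.map (QuotientGroup.mk' Z)).subtype → c ∈ Z := by
    intro c hc hcF
    rw [hZ]
    refine ⟨hc, fun x hx => ?_⟩
    by_cases hxZ : x ∈ Z
    · exact ((hZ ▸ hxZ : x ∈ N ⊓ centralizer (N : Set G)).2 c hc).symm
    have hM := h x hx hxZ
    have hZM : Z ≤ centralizer ({x} : Set G) := fun z hz =>
      mem_cent_iff.mpr ((hZ ▸ hz : z ∈ N ⊓ centralizer (N : Set G)).2 x hx).symm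
    have h2 : IsCoatom ((centralizer ({x} : Set G)).map (QuotientGroup.mk' Z)) :=
      isCoatom_map_mk' Z hM hZM
    have h3 := mem_frattini_iff.mp (frattiniOf_le_frattini _ hcF) _ h2
    rw [← mem_comap, Core.comap_map_mk', sup_eq_right.mpr hZM] at h3
    exact (mem_cent_iff.mp h3).symm
  constructor
  · rw [commutator_le]
    intro a ha b hb
    refine key _ (commutator_le_left N N (commutator_mem_commutator ha hb)) ?_
    rw [map_commutatorElement]
    exact Core.commutator_le_frattiniOf hP (commutator_mem_commutator ⟨a, ha, rfl⟩ ⟨b, hb, rfl⟩)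
  · intro x hx
    refine key _ (N.pow_mem hx p) ?_
    rw [map_pow]
    exact pow_mem_frattiniOf hP ⟨x, hx, rfl⟩

theorem MaxCent.le_center (h1 : ∀ p : ℕ, p.Prime → ∃ y ∈ N, (orderOf y).Coprime p ∧ y ∉ Z) :
    Z ≤ center G := by
  apply le_of_forall_isPGroup
  intro p hp z hz hzp
  obtain ⟨y, hy, hyp, hyZ⟩ := h1 p hp
  have hz' : z ∈ N ⊓ centralizer (N : Set G) := hZ ▸ hz
  have h2 := MaxCent.le_of_coprime hZ h hy hyZ hz'.1 (hz'.2 y hy)
    (coprime_orderOf_of_isPGroup hp hzp hyp).symm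
  rw [← cent_eq_top_iff, eq_top_iff, ← sup_eq_top_of_coatom (h y hy hyZ) (MaxCent.not_le hZ h hy hyZ)]
  exact sup_le (le_cent_iff.mpr hz'.2) h2

theorem MaxCent.exists_solvable (hc : Z ≤ center G) (hne : ¬ N ≤ Z) :
    haveI : Z.Normal := hZ ▸ inferInstance
    ∃ S : Subgroup (G ⧸ Z), S.Normal ∧ S ≠ ⊥ ∧ S ≤ N.map (QuotientGroup.mk' Z) ∧
      Group.IsSolvable S := by
  haveI : Z.Normal := hZ ▸ inferInstance
  have hZN : Z ≤ N := hZ ▸ inf_le_left
  by_cases h1 : ∃ x ∈ N, x ∉ Z ∧ (zpowers (x : G ⧸ Z)).Normal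
  · obtain ⟨x, hx, hxZ, hn⟩ := h1
    refine ⟨_, hn, by simpa using hxZ, ?_, Coprime.isSolvable_zpowers _⟩
    rw [zpowers_le]; exact ⟨x, hx, rfl⟩
  · push Not at h1
    refine ⟨_, normal_map_mk' Z N, by rwa [Ne, map_mk'_eq_bot_iff], le_rfl, ?_⟩
    apply isSolvable_of_no_real
    rintro ⟨_, x, hx, rfl⟩ hx1 ho hr
    obtain ⟨⟨_, g, hg, rfl⟩, hr⟩ := isConj_iff.mp hr
    have hr' : (g : G ⧸ Z) * x * (g : G ⧸ Z)⁻¹ = (x : G ⧸ Z)⁻¹ := congrArg Subtype.val hr
    have hxZ : x ∉ Z := fun e => hx1 (Subtype.ext ((QuotientGroup.eq_one_iff x).mpr e))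
    have hM := h x hx hxZ
    have h2 : centralizer ({x} : Set G) ≤
        (normalizer ((zpowers (x : G ⧸ Z) : Subgroup _) : Set (G ⧸ Z))).comap (QuotientGroup.mk' Z) := by
      intro c hc
      have := map_cent_le (QuotientGroup.mk' Z) x ⟨c, hc, rfl⟩
      rw [← Core.centralizer_zpowers] at this
      exact centralizer_le_normalizer _ this
    rcases h2.eq_or_lt with e | e
    · have h3 : g ∈ centralizer ({x} : Set G) := e ▸ mem_normalizer_zpowers_of_inverts hr'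
      have h4 := sq_eq_one_of_inverts_of_mem_cent hr' (map_cent_le (QuotientGroup.mk' Z) x ⟨g, h3, rfl⟩)
      exact hx1 (eq_one_of_odd_of_sq_eq_one ho (Subtype.ext h4))
    · apply h1 x hx hxZ
      rw [← normalizer_eq_top_iff, eq_top_iff]
      intro y _
      obtain ⟨y, rfl⟩ := QuotientGroup.mk_surjective y
      exact (hM.2 _ e ▸ mem_top y : y ∈ Subgroup.comap _ _)

theorem MaxCent.frobenius (h1 : ∀ p : ℕ, p.Prime → ∃ y ∈ N, (orderOf y).Coprime p ∧ y ∉ Z) :
    Z ≤ center G ∧ ∃ (K L : Subgroup G) (p : ℕ), p.Prime ∧ K.Normal ∧ Z < K ∧ Z ≤ L ∧ K ⊔ L = N ∧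
      K ⊓ L = Z ∧ K ≤ centralizer (K : Set G) ∧ (∀ k ∈ K, k ^ p ∈ Z) ∧ (Z.relIndex L).Prime ∧
      (∀ w ∈ L, w ∉ Z → ∀ k ∈ K, k * w * k⁻¹ * w⁻¹ ∈ Z → k ∈ Z) ∧
      ∀ B : Subgroup G, B.Normal → Z ≤ B → B ≤ K → B = Z ∨ B = K := by
  haveI : Z.Normal := hZ ▸ inferInstance
  have hZN : Z ≤ N := hZ ▸ inf_le_left
  have hc := MaxCent.le_center hZ h h1
  refine ⟨hc, ?_⟩
  have hZC : ∀ x : G, Z ≤ centralizer ({x} : Set G) := fun x => hc.trans (center_le_cent x)
  have hcZ : ∀ x ∈ N, centralizer ({x} : Set G) = ⊤ → x ∈ Z := fun x hx e => by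
    rw [hZ]; exact ⟨hx, le_cent_iff.mp (e ▸ le_top)⟩
  have hne : ¬ N ≤ Z := by
    obtain ⟨y, hy, -, hyZ⟩ := h1 2 Nat.prime_two
    exact fun e => hyZ (e hy)
  obtain ⟨S, hS, hS1, hSN, hSs⟩ := MaxCent.exists_solvable hZ h hc hne
  obtain ⟨M, p, hM, hM1, hMS, hmin, hMc, hp, hMp, -⟩ := exists_minNormal_elementary_le S hS1
  haveI : Fact p.Prime := ⟨hp⟩
  set K := M.comap (QuotientGroup.mk' Z) with hK
  have hKn : K.Normal := inferInstance
  have hZK : Z ≤ K := Core.le_comap_mk' Z M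
  have hKM : K.map (QuotientGroup.mk' Z) = M := Core.map_comap_mk' Z M
  have hZK' : Z < K := lt_of_le_of_ne hZK (fun e => hM1 (by
    rw [← hKM, map_mk'_eq_bot_iff, ← e]))
  have hKN : K ≤ N := by
    have := comap_mono (f := QuotientGroup.mk' Z) (hMS.trans hSN)
    rwa [Core.comap_map_mk', sup_eq_right.mpr hZN] at this
  have hKp : ∀ k ∈ K, k ^ p ∈ Z := fun k hk => by
    rw [← QuotientGroup.eq_one_iff, QuotientGroup.mk_pow]; exact hMp _ hk
  have hKK : ∀ a ∈ K, ∀ b ∈ K, a * b * a⁻¹ * b⁻¹ ∈ Z := fun a ha b hb => by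
    rw [← QuotientGroup.eq_one_iff]
    have := Coprime.mul_comm_of_mem (V := M) ha hb
    simp only [QuotientGroup.mk'_apply] at this
    simp only [QuotientGroup.mk_mul, QuotientGroup.mk_inv]
    rw [this]; group
  have hKmin : ∀ B : Subgroup G, B.Normal → Z ≤ B → B ≤ K → B = Z ∨ B = K := by
    intro B hB h2 h3
    rcases hmin _ (normal_map_mk' Z B) (hKM ▸ map_mono h3) with e | e
    · exact Or.inl (le_antisymm ((map_mk'_eq_bot_iff _ _).mp e) h2)
    · right
      rw [hK, ← e, Core.comap_map_mk', sup_eq_right.mpr h2]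
  have hinf : ∀ x ∈ N, x ∉ Z → ¬ K ≤ centralizer ({x} : Set G) → K ⊓ centralizer {x} = Z := by
    intro x hx hxZ hn
    have h2 : (K ⊓ centralizer {x}).Normal := by
      rw [← normalizer_eq_top_iff, eq_top_iff, ← sup_eq_top_of_coatom (h x hx hxZ) hn]
      refine sup_le (fun k hk => ?_) (le_normalizer_inf (by rw [normalizer_eq_top]; exact le_top)
        le_normalizer)
      apply Core.mem_normalizer_of_conj_mem
      rintro a ⟨ha, ha'⟩
      refine ⟨hKn.conj_mem a ha k, ?_⟩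
      have := mul_mem (hZC x (hKK k hk a ha)) ha'
      rwa [inv_mul_cancel_right] at this
    rcases hKmin _ h2 (le_inf hZK (hZC x)) inf_le_left with e | e
    · exact e
    · exact absurd (e ▸ inf_le_right) hn
  have hKab : K ≤ centralizer (K : Set G) := by
    intro x hx
    rw [← le_cent_iff]
    by_cases hxZ : x ∈ Z
    · rw [cent_eq_top_iff.mpr (hc hxZ)]; exact le_top
    by_contra hn
    exact hxZ (hinf x (hKN hx) hxZ hn ▸ ⟨hx, self_mem_cent x⟩)
  have hpZ : ∀ y ∈ K, (orderOf y).Coprime p → y ∈ Z := fun y hy ho =>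
    Hall.mem_of_pow_mem_of_coprime ho.symm (hKp y hy)
  obtain ⟨x, hxK, hxZ, hxp⟩ : ∃ x ∈ K, x ∉ Z ∧ IsPGroup p (zpowers x) := by
    obtain ⟨w, hw, hwZ⟩ := SetLike.exists_of_lt hZK'
    obtain ⟨a, ha, b, hb, hab, ha2, hb2⟩ := exists_pPart hp w
    refine ⟨a, zpowers_le.mpr hw ha, fun e => hwZ ?_, ha2⟩
    rw [hab]; exact Z.mul_mem e (hpZ b (zpowers_le.mpr hw hb) hb2)
  have heq : ∀ {a b : G}, a ∈ N → a ∉ Z → b ∈ N → b ∉ Z → Commute a b →
      (orderOf a).Coprime (orderOf b) → centralizer ({a} : Set G) = centralizer {b} :=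
    fun ha haZ hb hbZ hab ho => le_antisymm (MaxCent.le_of_coprime hZ h ha haZ hb hab ho)
      (MaxCent.le_of_coprime hZ h hb hbZ ha hab.symm ho.symm)
  -- non-central `p'`-elements do not centralize `K`
  have hnle : ∀ y ∈ N, y ∉ Z → (orderOf y).Coprime p → ¬ K ≤ centralizer ({y} : Set G) := by
    intro y hy hyZ hyp hle
    have h2 : ∀ g : G, centralizer ({g * x * g⁻¹} : Set G) = centralizer {y} := by
      intro g
      have h3 := hKn.conj_mem x hxK g
      refine heq (hKN h3) (fun e => hxZ ?_) hy hyZ (mem_cent_iff.mp (hle h3)) ?_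
      · simpa [mul_assoc] using Normal.conj_mem ‹Z.Normal› _ e g⁻¹
      · rw [show orderOf (g * x * g⁻¹) = orderOf x from (MulAut.conj g).orderOf_eq x]
        exact coprime_orderOf_of_isPGroup hp hxp hyp
    have h3 : centralizer ({x} : Set G) = centralizer {y} := by simpa using h2 1
    have hA : N ⊓ centralizer ({y} : Set G) ≤ centralizer (centralizer ({y} : Set G) : Set G) := by
      apply le_of_forall_isPGroup
      rintro r hr a ⟨ha, ha'⟩ har
      rw [← le_cent_iff]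
      by_cases hrp : r = p
      · subst hrp
        exact MaxCent.le_of_coprime hZ h hy hyZ ha (mem_cent_iff.mp ha').symm
          (coprime_orderOf_of_isPGroup hp har hyp).symm
      · rw [← h3] at ha' ⊢
        refine MaxCent.le_of_coprime hZ h (hKN hxK) hxZ ha (mem_cent_iff.mp ha').symm
          (coprime_orderOf_of_isPGroup hp hxp (coprime_orderOf_of_isPGroup hr har ?_))
        exact (Nat.coprime_primes hp hr).mpr (Ne.symm hrp)
    obtain ⟨w, hw, hwy⟩ := SetLike.not_le_iff_exists.mp (MaxCent.not_le hZ h hy hyZ)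
    have hwZ : w ∉ Z := fun e => hwy (hZC y e)
    have hKW : ¬ K ≤ centralizer ({w} : Set G) := fun e => hwy (h3 ▸ mem_cent_comm.mp (e hxK))
    have h4 : y ∈ K ⊔ centralizer ({w} : Set G) := sup_eq_top_of_coatom (h w hw hwZ) hKW ▸ mem_top y
    obtain ⟨k, hk, c, hc', rfl⟩ := (mem_sup_of_le_normalizer_left
      (by rw [normalizer_eq_top]; exact le_top)).mp h4
    have hcN : c ∈ N := by simpa using N.mul_mem (N.inv_mem (hKN hk)) hy
    have hcy : c ∈ centralizer ({k * c} : Set G) := by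
      simpa using mul_mem (inv_mem (hle hk)) (self_mem_cent (k * c))
    have h5 : c ∈ Z := by
      apply hcZ c hcN
      rw [eq_top_iff, ← sup_eq_top_of_coatom (h _ hy hyZ) (B := zpowers w) (by rwa [zpowers_le])]
      exact sup_le (zpowers_le.mpr (mem_cent_comm.mp hc')) (le_cent_iff.mpr (hA ⟨hcN, hcy⟩))
    exact hyZ (hpZ _ (K.mul_mem hk (hZK h5)) hyp)
  have hfpf : ∀ y ∈ N, y ∉ Z → (orderOf y).Coprime p → ∀ k ∈ K, k * y * k⁻¹ * y⁻¹ ∈ Z → k ∈ Z := by
    intro y hy hyZ hyp k hk hky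
    rw [← hinf y hy hyZ (hnle y hy hyZ hyp)]
    refine ⟨hk, ?_⟩
    set z := k * y * k⁻¹ * y⁻¹ with hz
    have hzc := mem_center_iff.mp (hc hky)
    have e1 : z ^ orderOf y = 1 := by
      have : k * y * k⁻¹ = z * y := by rw [hz]; group
      have h2 := congrArg (· ^ orderOf y) this
      simp only [conj_pow, pow_orderOf_eq_one, Commute.mul_pow (hzc y).symm] at h2
      simpa using h2.symm
    have e2 : z ^ p = 1 := by
      have : y * k⁻¹ * y⁻¹ = k⁻¹ * z := by rw [hz]; group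
      have h2 := congrArg (· ^ p) this
      simp only [conj_pow, Commute.mul_pow (hzc k⁻¹)] at h2
      have h3 := mem_center_iff.mp (hc (hKp _ (K.inv_mem hk))) y
      rw [h3, mul_inv_cancel_right] at h2
      simpa using h2.symm
    have e3 : z = 1 := by
      rw [← orderOf_eq_one_iff]
      exact Nat.eq_one_of_dvd_coprimes hyp (orderOf_dvd_of_pow_eq_one e1) (orderOf_dvd_of_pow_eq_one e2)
    apply mem_cent_iff.mpr
    calc k * y = z * (y * k) := by rw [hz]; group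
      _ = _ := by rw [e3, one_mul]
  obtain ⟨y, hy, hyp, hyZ⟩ := h1 p hp
  set H := centralizer ({y} : Set G) with hH
  have hKH : K ⊓ H = Z := hinf y hy hyZ (hnle y hy hyZ hyp)
  have hKH' : K ⊔ H = ⊤ := sup_eq_top_of_coatom (h y hy hyZ) (hnle y hy hyZ hyp)
  have hded : ∀ W : Subgroup G, K ⊔ W = ⊤ → ∀ n ∈ N, ∃ k ∈ K, ∃ l ∈ N ⊓ W, k * l = n := by
    intro W hW n hn
    obtain ⟨k, hk, c, hc', rfl⟩ := (mem_sup_of_le_normalizer_left
      (by rw [normalizer_eq_top]; exact le_top)).mp (hW ▸ mem_top n : n ∈ K ⊔ W)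
    exact ⟨k, hk, c, ⟨by simpa using N.mul_mem (N.inv_mem (hKN hk)) hn, hc'⟩, rfl⟩
  set L := N ⊓ H with hL
  have hZL : Z ≤ L := le_inf hZN (hZC y)
  have hKL : K ⊓ L = Z := le_antisymm (hKH ▸ inf_le_inf_left K inf_le_right) (le_inf hZK hZL)
  have hLp : ∀ u ∈ L, IsPGroup p (zpowers u) → u ∈ Z := by
    intro u hu hup
    by_contra huZ
    have h2 : H = centralizer {u} := heq hy hyZ hu.1 huZ (mem_cent_iff.mp hu.2).symm
      (coprime_orderOf_of_isPGroup hp hup hyp).symm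
    have h3 := inf_centralizer_ne_bot_of_isPGroup (Q := M) (P := zpowers (u : G ⧸ Z))
      (isPGroup_of_pow_eq_one hMp) (by
        have := hup.map (QuotientGroup.mk' Z)
        rwa [MonoidHom.map_zpowers] at this) (by rw [normalizer_eq_top]; exact le_top) hM1
    obtain ⟨⟨k, hk, hku⟩, hk1⟩ := ne_bot_iff_exists_ne_one.mp h3
    obtain ⟨k, rfl⟩ := QuotientGroup.mk_surjective k
    have hkK : k ∈ K := hk
    have hkZ : k ∉ Z := fun e => hk1 (Subtype.ext ((QuotientGroup.eq_one_iff k).mpr e))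
    have h4 : u * k * u⁻¹ * k⁻¹ ∈ Z := by
      rw [← QuotientGroup.eq_one_iff]
      simp only [QuotientGroup.mk_mul, QuotientGroup.mk_inv]
      rw [hku _ (mem_zpowers _)]; group
    set z := u * k * u⁻¹ * k⁻¹ with hz
    have hzc := mem_center_iff.mp (hc h4)
    have huy := mem_cent_iff.mp hu.2
    have h5 : k⁻¹ * y * k⁻¹⁻¹ * y⁻¹ ∈ K ⊓ H := by
      refine ⟨by simpa [mul_assoc] using K.mul_mem (K.inv_mem hkK) (hKn.conj_mem k hkK y), ?_⟩
      rw [h2]
      apply mem_cent_iff.mpr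
      have e1 : u * k * u⁻¹ = z * k := by rw [hz]; group
      symm
      calc u * (k⁻¹ * y * k⁻¹⁻¹ * y⁻¹)
          = (u * k * u⁻¹)⁻¹ * (u * y) * u⁻¹ * (u * k * u⁻¹) * (u * y⁻¹ * u⁻¹) * u := by group
        _ = (z * k)⁻¹ * (u * y) * u⁻¹ * (z * k) * (u * y * u⁻¹)⁻¹ * u := by rw [e1]; group
        _ = (z * k)⁻¹ * (y * z) * k * y⁻¹ * u := by rw [huy]; group
        _ = _ := by rw [hzc y]; group
    rw [hKH] at h5
    exact hkZ (by simpa using Z.inv_mem (hfpf y hy hyZ hyp _ (K.inv_mem hkK) h5))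
  have hLb : ∀ w ∈ L, w ∉ Z → ∃ a ∈ Z, ∃ b ∈ N, b ∉ Z ∧ (orderOf b).Coprime p ∧ w = b * a := by
    intro w hw hwZ
    obtain ⟨a, ha, b, hb, hab, ha2, hb2⟩ := exists_pPart hp w
    have haZ := hLp a (zpowers_le.mpr hw ha) ha2
    refine ⟨a, haZ, b, zpowers_le.mpr hw.1 hb, fun e => hwZ (hab ▸ Z.mul_mem haZ e), hb2, ?_⟩
    rw [hab]; exact commute_of_mem_zpowers ha hb
  have hLf : ∀ w ∈ L, w ∉ Z → ∀ k ∈ K, k * w * k⁻¹ * w⁻¹ ∈ Z → k ∈ Z := by
    intro w hw hwZ k hk hkw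
    obtain ⟨a, ha, b, hb, hbZ, hbp, rfl⟩ := hLb w hw hwZ
    refine hfpf b hb hbZ hbp k hk ?_
    have := mem_center_iff.mp (hc ha) k⁻¹
    have e : k * (b * a) * k⁻¹ * (b * a)⁻¹ = k * b * (a * k⁻¹) * a⁻¹ * b⁻¹ := by group
    rw [e, ← this] at hkw
    simpa [mul_assoc] using hkw
  have hLC : ∀ w ∈ L, w ∉ Z → N ⊓ centralizer ({w} : Set G) = L := by
    intro w hw hwZ
    have h2 : N ⊓ centralizer ({w} : Set G) ≤ L := by
      rintro n ⟨hn, hnw⟩
      obtain ⟨k, hk, l, hl, rfl⟩ := hded H hKH' n hn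
      have hw' : l * w * l⁻¹ ∈ L := L.mul_mem (L.mul_mem hl hw) (L.inv_mem hl)
      have hw'Z : l * w * l⁻¹ ∉ Z := fun e => hwZ (by
        simpa [mul_assoc] using Normal.conj_mem ‹Z.Normal› _ e l⁻¹)
      refine L.mul_mem (hZL (hLf _ hw' hw'Z k hk ?_)) hl
      rw [← hKL]
      refine ⟨by simpa [mul_assoc] using K.mul_mem hk (hKn.conj_mem _ (K.inv_mem hk) (l * w * l⁻¹)), ?_⟩
      have e := mem_cent_iff.mp hnw
      have : k * (l * w * l⁻¹) * k⁻¹ = w := by
        calc k * (l * w * l⁻¹) * k⁻¹ = (k * l * w) * (k * l)⁻¹ := by group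
          _ = w := by rw [e]; group
      rw [this]
      exact L.mul_mem hw (L.inv_mem hw')
    refine le_antisymm h2 (le_inf inf_le_left fun l hl => ?_)
    obtain ⟨a, ha, b, hb, hbZ, hbp, rfl⟩ := hLb w hw hwZ
    have h3 := sup_eq_top_of_coatom (h b hb hbZ) (hnle b hb hbZ hbp)
    rw [← cent_mul_center (hc ha)] at h3
    obtain ⟨k, hk, c, hc', rfl⟩ := hded _ h3 l hl.1
    have : k ∈ Z := hKL ▸ ⟨hk, by simpa using L.mul_mem hl (L.inv_mem (h2 hc'))⟩
    exact mul_mem (hZC _ this) hc'.2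
  have hyL : y ∈ L := ⟨hy, self_mem_cent y⟩
  have hNL : normalizer (L : Set G) ≠ ⊤ := by
    intro e
    refine not_le_of_gt hZK' (fun k hk => hLf y hyL hyZ k hk ?_)
    rw [← hKL]
    refine ⟨by simpa [mul_assoc] using K.mul_mem hk (hKn.conj_mem _ (K.inv_mem hk) y), ?_⟩
    exact L.mul_mem (Core.conj_mem_of_mem_normalizer (e ▸ mem_top k) hyL) (L.inv_mem hyL)
  have hCN : ∀ w ∈ L, w ∉ Z → centralizer ({w} : Set G) = normalizer (L : Set G) := by
    intro w hw hwZ
    have h2 : centralizer ({w} : Set G) ≤ normalizer (L : Set G) := by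
      rw [← hLC w hw hwZ]
      exact le_normalizer_inf (by rw [normalizer_eq_top]; exact le_top) le_normalizer
    rcases h2.eq_or_lt with e | e
    · exact e
    · exact absurd ((h w hw.1 hwZ).2 _ e) hNL
  have hLH : ∀ w ∈ L, H ≤ centralizer ({w} : Set G) := by
    intro w hw
    by_cases hwZ : w ∈ Z
    · rw [cent_eq_top_iff.mpr (hc hwZ)]; exact le_top
    · rw [hCN w hw hwZ, hH, hCN y hyL hyZ]
  refine ⟨K, L, p, hp, hKn, hZK', hZL, ?_, hKL, hKab, hKp, ?_, hLf, hKmin⟩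
  · refine le_antisymm (sup_le hKN inf_le_left) (fun n hn => ?_)
    obtain ⟨k, hk, l, hl, rfl⟩ := hded H hKH' n hn
    exact mul_mem (mem_sup_left hk) (mem_sup_right hl)
  · have hLM : ∀ w ∈ L, w ∈ centralizer ({x} : Set G) → w ∈ Z := by
      intro w hw hwx
      by_contra hwZ
      refine hxZ (hLf w hw hwZ x hxK ?_)
      rw [← mem_cent_iff.mp hwx]
      simp
    apply prime_index_of_isCoatom_of_normal
    refine ⟨fun e => hyZ (subgroupOf_eq_top.mp e hyL), fun B hB => ?_⟩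
    obtain ⟨b, hb, hbZ⟩ := SetLike.exists_of_lt hB
    have hn : (zpowers (b : G) ⊔ K).Normal := by
      rw [← normalizer_eq_top_iff, eq_top_iff, ← hKH']
      refine sup_le (le_sup_right.trans le_normalizer) (le_normalizer_sup ?_
        (by rw [normalizer_eq_top]; exact le_top))
      refine (hLH b b.2).trans ?_
      rw [← Core.centralizer_zpowers]
      exact centralizer_le_normalizer _
    have h2 := sup_eq_top_of_coatom (h x (hKN hxK) hxZ) (B := zpowers (b : G) ⊔ K)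
      (fun e => hbZ (hLM b b.2 (e (mem_sup_left (mem_zpowers _)))))
    rw [eq_top_iff]
    intro l _
    obtain ⟨c, hc', m, hm, e⟩ := (mem_sup_of_le_normalizer_left
      (by rw [normalizer_eq_top]; exact le_top)).mp (h2 ▸ mem_top (l : G) : (l : G) ∈ _)
    obtain ⟨d, hd, k, hk, rfl⟩ := (mem_sup_of_le_normalizer_right
      (by rw [normalizer_eq_top]; exact le_top)).mp hc'
    obtain ⟨i, rfl⟩ := mem_zpowers_iff.mp hd
    have h3 : ((b ^ i)⁻¹ * l : L) ∈ Z.subgroupOf L := by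
      apply hLM _ ((b ^ i)⁻¹ * l).2
      have : (((b ^ i)⁻¹ * l : L) : G) = k * m := by
        simp only [Subgroup.coe_mul, Subgroup.coe_inv, Subgroup.coe_zpow]
        rw [← e]; group
      rw [this]
      exact mul_mem (le_cent_iff.mpr (hKab hxK) hk) hm
    simpa using B.mul_mem (B.zpow_mem hb i) (hB.le h3)

end

end Cfsg.Lib.Hall
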