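import Cfsg.Agent.Lib.Hall.Sqf
import Cfsg.Agent.Lib.Hall.Prim
import Cfsg.Agent.Lib.Coprime.Generation
import Cfsg.Agent.Lib.Clifford.Frobenius
import Cfsg.Agent.Lib.Core.Subnormal

/-! # Vanishing elements of solvable groups -/

set_option autoImplicit false
set_option linter.unusedSectionVars false
set_option linter.style.haveILetI false

namespace Cfsg.Lib.Hall.NV

open Cfsg Cfsg.Lib Subgroup MulAction Cfsg.Lib.Clifford
open scoped commutatorElement

/-- an abelian group acting coprimely has an orbit which is regular modulo the kernel -/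
theorem reg {D V : Type*} [Group D] [Finite D] [CommGroup V] [MulDistribMulAction D V] (hc : ∀ a b : D, a * b = b * a)
    {q : ℕ} (hV : ∀ v : V, v ^ q = 1) (hq : ∀ s : D, (orderOf s).Coprime q) :
    ∃ v : V, ∀ s : D, s • v = v → ∀ w : V, s • w = w := by
  let v := Function.argmin fun v : V => Nat.card (stabilizer D v)
  refine ⟨v, fun s hs w => ?_⟩
  by_contra hw
  have key : ∀ u : V, s • (s • u / u) = s • u / u → s • u / u = 1 := by
    intro u hd
    have hk : ∀ k : ℕ, s ^ k • u = u * (s • u / u) ^ k := by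
      intro k
      induction k with
      | zero => simp
      | succ k ih => rw [pow_succ', mul_smul, ih, smul_mul', smul_pow', hd, pow_succ', ← mul_assoc, mul_div_cancel]
    have h1 := hk (orderOf s)
    rw [pow_orderOf_eq_one, one_smul, left_eq_mul] at h1
    have := pow_gcd_eq_one.2 ⟨h1, hV _⟩
    rwa [(hq s).gcd_eq_one, pow_one] at this
  have hle : stabilizer D (v * (s • w / w)) ≤ stabilizer D v := by
    intro g hg
    rw [mem_stabilizer_iff, smul_mul'] at hg
    have e : g • v / v = s • (w / g • w) / (w / g • w) := by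
      have e1 : g • v / v = (s • w / w) / (g • (s • w / w)) := by
        rw [div_eq_div_iff_mul_eq_mul, hg, mul_comm]
      rw [e1, smul_div', smul_div', smul_smul, smul_smul, hc g s, div_div_div_comm]
    have h1 : s • (g • v / v) = g • v / v := by rw [smul_div', smul_smul, hc s g, mul_smul, hs]
    rw [e] at h1
    exact div_eq_one.1 (e.trans (key _ h1))
  have hne : s ∉ stabilizer D (v * (s • w / w)) := by
    intro h
    rw [mem_stabilizer_iff, smul_mul', hs, mul_right_inj] at h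
    exact hw (div_eq_one.1 (key w h))
  have hlt : Nat.card (stabilizer D (v * (s • w / w))) < Nat.card (stabilizer D v) :=
    (card_le_of_le hle).lt_of_ne fun e => hne (eq_of_le_of_card_ge hle e.ge ▸ hs)
  exact Function.not_lt_argmin (fun v : V => Nat.card (stabilizer D v)) _ hlt

variable {G : Type*} [Group G] [Finite G]

/-- vanishing elements -/
def Van (x : G) : Prop := ∃ χ : IrrCharacter G, (χ : G → ℂ) x = 0

theorem Van.lift {H : Type*} [Group H] (f : G →* H) (hf : Function.Surjective f) {x : G} (h : Van (f x)) : Van x :=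
  let ⟨χ, hχ⟩ := h
  ⟨⟨_, Char.Cfsg.IsIrrCharacter.comp χ.2 f hf⟩, hχ⟩

theorem van_lin (N : Subgroup G) [N.Normal] (f : N →* ℂˣ) {x : G}
    (h : ∀ g : G, ∃ n : N, f (MulAut.conjNormal (g * x * g⁻¹) n) ≠ f n) : Van x := by
  have h1 : LinOn N (extendByZero N fun v => (f v : ℂ)) := linOn_of_hom f fun v => extendByZero_of_mem _ v.2
  obtain ⟨χ, hχ, hd⟩ := h1.irrOn.exists_over (le_top : N ≤ ⊤)
  obtain ⟨ψ, -, -, e, -⟩ := exists_ind_inertia le_top (nrm_of_normal ⊤ N) h1.irrOn (irrOn_of_mem hχ) hd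
  refine ⟨⟨χ, irrOn_top.1 (irrOn_of_mem hχ)⟩, ?_⟩
  change χ x = 0
  rw [← cut_of_mem χ (mem_top x), ← e]
  refine ind_eq_zero fun g _ hg => ?_
  obtain ⟨n, hn⟩ := h g
  have h2 := ((mem_inertia (nrm_of_normal ⊤ N)).1 hg).2 n n.2
  rw [extendByZero_of_mem _ (nrm_of_normal ⊤ N _ trivial n n.2), extendByZero_of_mem _ n.2] at h2
  exact absurd (Units.ext h2) hn

theorem van_coset (N : Subgroup G) [N.Normal] (hN : N ≠ ⊥) {y : G} (h : ∀ n ∈ N, IsConj y (n * y)) : Van y := by
  obtain ⟨⟨n, hn⟩, h1⟩ := ne_bot_iff_exists_ne_one.1 hN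
  have h2 : ¬ ∀ χ, IsIrrCharacter G χ → χ n = χ 1 := fun e => h1 (Subtype.ext (Char.eq_one_of_forall_irr e))
  push Not at h2
  obtain ⟨χ, hχ, h2⟩ := h2
  have h3 := (irrOn_top.2 hχ).sum_coset_eq_zero le_top (nrm_of_normal ⊤ N) (fun ht => h2 (ht n hn)) (mem_top y)
  rw [Finset.sum_congr rfl (g := fun _ => χ y) fun n hn =>
    (Char.Cfsg.IsClassFunction.eq_of_isConj (Char.Cfsg.IsIrrCharacter.isClassFunction hχ) (h n (mem_elems.1 hn))).symm, Finset.sum_const, card_elems, nsmul_eq_mul] at h3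
  exact ⟨⟨χ, hχ⟩, (mul_eq_zero.1 h3).resolve_left (Clifford.card_ne_zero N)⟩

theorem core_bot {V : Subgroup G} [V.Normal] (h0 : V ≠ ⊥) (hmin : ∀ K : Subgroup G, K.Normal → K ≤ V → K = ⊥ ∨ K = V)
    {p : ℕ} (hp : p.Prime) (hVq : IsPGroup p V) : pCore p (MulAut.conjNormal : G →* MulAut V).range = ⊥ := by
  set φ : G →* MulAut V := MulAut.conjNormal with hφ
  haveI := Fact.mk hp
  have hQ := Core.isPGroup_pCore p φ.range
  set Q := pCore p φ.range
  haveI : Nontrivial V := (nontrivial_iff_ne_bot V).2 h0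
  obtain ⟨n, hn, e⟩ := hVq.nontrivial_iff_card.1 inferInstance
  obtain ⟨b, hb, hb1⟩ := hQ.exists_fixed_point_of_prime_dvd_card_of_fixed_point V
    (by rw [e]; exact dvd_pow_self _ hn.ne') (a := 1) (fun σ => smul_one σ)
  let W : Subgroup G := V ⊓ centralizer (Q.comap φ.rangeRestrict : Set G)
  have hW : ∀ v : V, (v : G) ∈ W ↔ ∀ σ : Q, σ • v = v := by
    intro v
    refine ⟨fun hv σ => ?_, fun hv => ⟨v.2, fun g hg => ?_⟩⟩
    · obtain ⟨⟨_, g, rfl⟩, hg⟩ := σ
      apply Subtype.ext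
      change g * v * g⁻¹ = v
      rw [hv.2 g hg]; group
    · have : g * v * g⁻¹ = v := congrArg Subtype.val (hv ⟨_, hg⟩)
      rw [← mul_inv_eq_iff_eq_mul]; exact this
  rcases hmin W inferInstance inf_le_left with e | e
  · exact absurd (Subtype.ext (mem_bot.1 (e ▸ (hW b).2 hb))).symm hb1
  · exact eq_bot_iff.2 fun g hg => mem_bot.2 (Subtype.ext (MulEquiv.ext fun v => (hW v).1 (e.symm ▸ v.2) ⟨g, hg⟩))

theorem van_min {V A : Subgroup G} [V.Normal] [A.Normal] (h0 : V ≠ ⊥)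
    (hmin : ∀ K : Subgroup G, K.Normal → K ≤ V → K = ⊥ ∨ K = V) [IsMulCommutative V] {q : ℕ} (hq : q.Prime)
    (hV : ∀ x ∈ V, x ^ q = 1) (hVq : IsPGroup q V) (hA : ∀ a ∈ A, ∀ b ∈ A, ⁅a, b⁆ ∈ centralizer (V : Set G))
    {x : G} (hx : x ∈ A) (hxV : x ∉ centralizer (V : Set G)) : Van x := by
  have hc := core_bot h0 hmin hq hVq
  set φ : G →* MulAut V := MulAut.conjNormal with hφ
  have hk : ∀ g : G, φ g = 1 ↔ g ∈ centralizer (V : Set G) := by
    intro g
    refine ⟨fun h v hv => ?_, fun h => MulEquiv.ext fun v => Subtype.ext ?_⟩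
    · have h2 : g * v * g⁻¹ = v := congrArg Subtype.val (DFunLike.congr_fun h (⟨v, hv⟩ : V))
      rw [eq_comm, ← mul_inv_eq_iff_eq_mul]; exact h2
    · change g * v * g⁻¹ = v
      rw [← h v v.2]; group
  let D := A.map φ.rangeRestrict
  haveI : D.Normal := Normal.map inferInstance _ φ.rangeRestrict_surjective
  have hD : ∀ a b : D, a * b = b * a := by
    rintro ⟨_, a, ha, rfl⟩ ⟨_, b, hb, rfl⟩
    refine Subtype.ext (Subtype.ext ?_)
    change φ a * φ b = φ b * φ a
    rw [← commutatorElement_eq_one_iff_mul_comm, ← map_commutatorElement]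
    exact (hk _).2 (hA a ha b hb)
  haveI : IsMulCommutative D := ⟨⟨hD⟩⟩
  have hq' : ∀ s : D, (orderOf s).Coprime q := by
    intro s
    rw [Nat.coprime_comm, hq.coprime_iff_not_dvd]
    intro hd
    have h1 := orderOf_pow_orderOf_div (orderOf_pos s).ne' hd
    set t := s ^ (orderOf s / q)
    haveI := Fact.mk hq
    have h2 : IsPGroup q (zpowers (t : φ.range)) :=
      IsPGroup.of_card (n := 1) (by rw [Nat.card_zpowers, orderOf_coe, h1, pow_one])
    have h3 := Core.le_pCore_of_le_fitting hq h2 ((zpowers_le.2 t.2).trans Core.le_fitting_of_isMulCommutative)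
    rw [hc] at h3
    have h4 : t = 1 := Subtype.ext (mem_bot.1 (h3 (mem_zpowers _)))
    rw [h4, orderOf_one] at h1
    exact hq.one_lt.ne h1
  letI := Sqf.dual V
  letI : CommGroup V := IsMulCommutative.instCommGroup
  obtain ⟨f, hf⟩ := reg (V := V →* ℂˣ) hD (q := q) (fun f => by
    ext v
    rw [MonoidHom.pow_apply, ← map_pow, show v ^ q = 1 from Subtype.ext (hV v v.2), map_one]; rfl) hq'
  refine van_lin V f fun g => ?_
  by_contra hcon
  push Not at hcon
  have h1 : (g * x * g⁻¹)⁻¹ ∈ A := A.inv_mem (Normal.conj_mem inferInstance x hx g)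
  have h2 := hf ⟨φ.rangeRestrict (g * x * g⁻¹)⁻¹, mem_map_of_mem _ h1⟩ (MonoidHom.ext fun v => by
    change f ((φ (g * x * g⁻¹)⁻¹)⁻¹ v) = _
    rw [map_inv, inv_inv]; exact hcon v)
  have h3 : φ (g * x * g⁻¹) = 1 := MulEquiv.ext fun v =>
    (CommGroup.forall_apply_eq_apply_iff (G := V) (M := ℂ)).1 fun f' => by
      have := DFunLike.congr_fun (h2 f') v
      change f' ((φ (g * x * g⁻¹)⁻¹)⁻¹ v) = _ at this
      rw [map_inv, inv_inv] at this
      exact this
  exact hxV (by simpa [mul_assoc] using Normal.conj_mem inferInstance _ ((hk _).1 h3) g⁻¹)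

universe u in
theorem mem_fit (n : ℕ) : ∀ {G : Type u} [Group G] [Finite G] [Group.IsSolvable G], Nat.card G = n →
    ∀ (A : Subgroup G) [A.Normal], (∀ a ∈ A, ∀ b ∈ A, ⁅a, b⁆ ∈ fittingSubgroup G) → ∀ x ∈ A, ¬ Van x →
    x ∈ fittingSubgroup G := by
  induction n using Nat.strong_induction_on with
  | _ n ih =>
  intro G _ _ _ hn A _ hA x hx hv
  rcases subsingleton_or_nontrivial G with _ | _
  · rw [Subsingleton.elim x 1]; exact one_mem _
  obtain ⟨V, q, _, h0, hmin, _, hq, hV, hVq⟩ := exists_minNormal_elementary (G := G)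
  have hc : x ∈ centralizer (V : Set G) := by
    by_contra hc
    exact hv (van_min h0 hmin hq hV hVq (fun a ha b hb => fitting_le_centralizer_of_minNormal hmin (hA a ha b hb)) hx hc)
  have hlt : Nat.card (G ⧸ V) < n := by
    rw [← hn, ← V.card_mul_index]
    exact lt_mul_of_one_lt_left Nat.card_pos ((one_lt_card_iff_ne_bot V).2 h0)
  have hs := QuotientGroup.mk'_surjective V
  haveI : (A.map (QuotientGroup.mk' V)).Normal := Normal.map inferInstance _ hs
  have h1 := ih _ hlt rfl (A.map (QuotientGroup.mk' V)) (by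
    rintro _ ⟨a, ha, rfl⟩ _ ⟨b, hb, rfl⟩
    rw [← map_commutatorElement]
    exact Core.map_fitting_le_of_surjective hs (mem_map_of_mem _ (hA a ha b hb))) _ (mem_map_of_mem _ hx)
    fun e => hv (e.lift _ hs)
  haveI := Core.fitting_normal (G ⧸ V)
  haveI := Core.isNilpotent_fitting (G ⧸ V)
  let M := (fittingSubgroup (G ⧸ V)).comap (QuotientGroup.mk' V) ⊓ centralizer (V : Set G)
  refine Core.le_fitting (N := M) ?_ ⟨h1, hc⟩
  refine Subgroup.isNilpotent_of_ker_le_center (((QuotientGroup.mk' V).comp M.subtype).codRestrict (fittingSubgroup (G ⧸ V))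
    fun g => g.2.1) fun g hg => ?_
  have h1 : (g : G) ∈ V := (QuotientGroup.eq_one_iff _).1 (congrArg Subtype.val hg)
  exact mem_center_iff.2 fun k => Subtype.ext (k.2.2 g h1).symm

theorem lift_reg {H : Type*} [Group H] (f : G →* H) (hf : Function.Surjective f) {q : ℕ} (hq : q.Prime) {y : H}
    (hy : ¬ q ∣ orderOf y) : ∃ x, f x = y ∧ ¬ q ∣ orderOf x := by
  obtain ⟨x, rfl⟩ := hf y
  obtain ⟨k, m, hm, e⟩ := Nat.exists_eq_pow_mul_and_not_dvd (orderOf_pos x).ne' q hq.ne_one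
  obtain ⟨t, ht⟩ := exists_pow_eq_self_of_coprime (x := f x) (n := q ^ k)
    (Nat.Coprime.pow_left k (hq.coprime_iff_not_dvd.2 hy))
  refine ⟨(x ^ q ^ k) ^ t, by rw [map_pow, map_pow, ht], fun h => hm (h.trans (orderOf_dvd_of_pow_eq_one ?_))⟩
  rw [← pow_mul, mul_comm t, pow_mul, ← pow_mul x, ← e, pow_orderOf_eq_one, one_pow]

/-- the inductive hypothesis on vanishing elements of order divisible by `p` -/
def Q (p : ℕ) (G : Type*) [Group G] : Prop :=
  (∀ x y : G, Van x → Van y → p ∣ orderOf x → p ∣ orderOf y → ∀ q : ℕ, q.Prime → q ∣ orderOf x → q ∣ orderOf y) ∧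
    ∀ x : G, Van x → Van (x ^ p) → ¬ p ∣ orderOf (x ^ p)

theorem Q.of_eq {p : ℕ} (hp : p.Prime)
    (h : ∀ x y : G, Van x → Van y → p ∣ orderOf x → p ∣ orderOf y → orderOf x = orderOf y) : Q p G := by
  refine ⟨fun x y hx hy h1 h2 q _ hq => h x y hx hy h1 h2 ▸ hq, fun x hx hy h1 => ?_⟩
  have h2 := h1.trans (orderOf_pow_dvd p)
  have h3 := h x _ hx hy h2 h1
  rw [orderOf_pow' x hp.ne_zero, Nat.gcd_eq_right h2] at h3
  exact (Nat.div_lt_self (orderOf_pos x) hp.one_lt).ne' h3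

theorem Q.surj {p : ℕ} (h : Q p G) {H : Type*} [Group H] (f : G →* H) (hf : Function.Surjective f) : Q p H := by
  refine ⟨fun x y hx hy h1 h2 q hq h3 => ?_, fun x hx hy h1 => ?_⟩
  · by_contra h4
    obtain ⟨y, rfl, h5⟩ := lift_reg f hf hq h4
    obtain ⟨x, rfl⟩ := hf x
    exact h5 (h.1 x y (hx.lift f hf) (hy.lift f hf) (h1.trans (orderOf_map_dvd f x)) (h2.trans (orderOf_map_dvd f y)) q hq
      (h3.trans (orderOf_map_dvd f x)))
  · obtain ⟨x, rfl⟩ := hf x
    rw [← map_pow] at hy h1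
    exact h.2 x (hx.lift f hf) (hy.lift f hf) (h1.trans (orderOf_map_dvd f _))

theorem dvd_ord {p : ℕ} (hp : p.Prime) {B : Subgroup G} (hB : IsPGroup p B) {y : G} (hy : y ∈ B) (h1 : y ≠ 1) :
    p ∣ orderOf y := by
  haveI := Fact.mk hp
  obtain ⟨k, hk⟩ := IsPGroup.iff_orderOf.1 hB ⟨y, hy⟩
  rw [orderOf_mk] at hk
  rcases k with _ | k
  · exact absurd (orderOf_eq_one_iff.1 hk) h1
  · rw [hk]; exact dvd_pow_self _ k.succ_ne_zero

section step
variable [Group.IsSolvable G] [Nontrivial G] {p : ℕ} {H : Type*} [Group H] [Finite H] {f : G →* H}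

theorem good (hk : f.ker = fittingSubgroup G) (B : Subgroup H) [B.Normal] (hB : ∀ a ∈ B, ∀ b ∈ B, a * b = b * a)
    {x : G} (hx : f x ∈ B) (h1 : f x ≠ 1) : Van x := by
  by_contra hv
  refine h1 (MonoidHom.mem_ker.1 (hk ▸ mem_fit _ rfl (B.comap f) (fun a ha b hb => ?_) x hx hv))
  rw [← hk, MonoidHom.mem_ker, map_commutatorElement, commutatorElement_eq_one_iff_mul_comm]
  exact hB _ ha _ hb

theorem card_dvd (hp : p.Prime) (hQ : Q p G) (hf : Function.Surjective f) (hk : f.ker = fittingSubgroup G)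
    (h0 : pCore p G = ⊥) (PP : ∀ x : G, Van x → p ∣ orderOf x → ∀ q : ℕ, q.Prime → q ∣ orderOf x → q = p)
    (B : Subgroup H) (hB : ∀ a ∈ B, ∀ b ∈ B, a * b = b * a) (hp' : IsPGroup p B)
    (hv : ∀ x : G, f x ∈ B → f x ≠ 1 → Van x) : Nat.card B ∣ p := by
  haveI := Fact.mk hp
  have hF : (Nat.card (fittingSubgroup G)).Coprime p :=
    Core.coprime_of_le (Core.coprime_card_pPrimeCore p G) (Core.fitting_le_pPrimeCore_of_pCore_eq_bot hp h0)
  have hexp : ∀ y ∈ B, y ^ p = 1 := by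
    intro y hy
    by_contra h1
    obtain ⟨x, rfl⟩ := hf y
    rw [← map_pow] at h1
    have h2 : f (x ^ p) ∈ B := by rw [map_pow]; exact B.pow_mem hy p
    exact hQ.2 x (hv x hy fun e => h1 (by rw [map_pow, e, one_pow])) (hv _ h2 h1)
      ((dvd_ord hp hp' h2 h1).trans (orderOf_map_dvd f _))
  have hcyc : IsCyclic B := by
    obtain ⟨S⟩ : Nonempty (Sylow p (B.comap f)) := inferInstance
    let A := (S : Subgroup (B.comap f)).map (B.comap f).subtype
    have hA : IsPGroup p A := S.isPGroup'.map _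
    have hAB : A ≤ B.comap f := map_subtype_le _
    have hinj : ∀ a ∈ A, f a = 1 → a = 1 := fun a ha e =>
      mem_bot.1 (Core.inf_eq_bot_of_isPGroup_of_coprime hp hA hF ▸ (⟨ha, hk ▸ e⟩ : a ∈ A ⊓ fittingSubgroup G))
    let g : B.comap f →* B := (f.comp (B.comap f).subtype).codRestrict B fun x => x.2
    have hg : Function.Surjective g := fun ⟨y, hy⟩ => by
      obtain ⟨x, rfl⟩ := hf y
      exact ⟨⟨x, hy⟩, rfl⟩
    have hS : (S : Subgroup (B.comap f)).map g = ⊤ :=
      ((S.mapSurjective hg).is_maximal' (hp'.to_subgroup ⊤) le_top).symm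
    by_cases hc : IsCyclic A
    · refine isCyclic_of_surjective ((f.comp A.subtype).codRestrict B fun x => hAB x.2) fun y => ?_
      obtain ⟨x, hx, rfl⟩ := (hS ▸ mem_top y : y ∈ (S : Subgroup (B.comap f)).map g)
      exact ⟨⟨x, mem_map_of_mem _ hx⟩, rfl⟩
    · exfalso
      haveI : IsMulCommutative A := ⟨⟨fun a b => Subtype.ext (commutatorElement_eq_one_iff_mul_comm.1
        (hinj _ (A.mul_mem (A.mul_mem (A.mul_mem a.2 b.2) (A.inv_mem a.2)) (A.inv_mem b.2)) (by
          rw [map_commutatorElement, commutatorElement_eq_one_iff_mul_comm]; exact hB _ (hAB a.2) _ (hAB b.2))))⟩⟩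
      haveI := Core.fitting_normal G
      obtain ⟨a, ha, ha1, h2⟩ := Coprime.exists_centralizer_ne_bot hc (K := fittingSubgroup G)
        (by rw [normalizer_eq_top]; exact le_top) (Core.coprime_card_of_isPGroup hp hA hF) Core.fitting_ne_bot_of_solvable
      obtain ⟨⟨c, hc1, hc2⟩, hc3⟩ := ne_bot_iff_exists_ne_one.1 h2
      have hc4 : c ≠ 1 := fun e => hc3 (Subtype.ext e)
      obtain ⟨q, hq, hq1⟩ := Nat.exists_prime_and_dvd (n := orderOf c) (by rwa [ne_eq, orderOf_eq_one_iff])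
      have e1 : f (a * c) = f a := by rw [map_mul, MonoidHom.mem_ker.1 (hk.symm ▸ hc1 : c ∈ f.ker), mul_one]
      have e2 : (orderOf c).Coprime p := Core.coprime_orderOf_of_mem hF hc1
      obtain ⟨k, e3⟩ := IsPGroup.iff_orderOf.1 hA ⟨a, ha⟩
      rw [orderOf_mk] at e3
      have e4 : orderOf (a * c) = orderOf a * orderOf c :=
        Commute.orderOf_mul_eq_mul_orderOf_of_coprime (hc2 a rfl) (e3 ▸ (e2.pow_right k).symm)
      have := PP (a * c) (hv _ (e1 ▸ hAB ha) (e1 ▸ fun e => ha1 (hinj a ha e)))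
        (e4 ▸ (dvd_ord hp hA ha ha1).mul_right _) q hq (e4 ▸ hq1.mul_left _)
      exact hp.coprime_iff_not_dvd.1 e2.symm (this ▸ hq1)
  rw [← IsCyclic.exponent_eq_card]
  exact Monoid.exponent_dvd_of_forall_pow_eq_one fun y => Subtype.ext (hexp y y.2)

theorem step (hp : p.Prime) (hQ : Q p G) (hf : Function.Surjective f) (hk : f.ker = fittingSubgroup G)
    (h0 : pCore p G = ⊥) (h1 : pCore p H ≠ ⊥) : ¬ p ^ 2 ∣ Nat.card H := by
  haveI := Fact.mk hp
  haveI : Group.IsSolvable H := Group.isSolvable_of_surjective hf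
  have hE := Core.isPGroup_pCore p H
  set E := pCore p H
  let Z := E ⊓ centralizer (E : Set H)
  have hZ : ∀ a ∈ Z, ∀ b ∈ Z, a * b = b * a := fun a ha b hb => hb.2 a ha.1
  have hZp : IsPGroup p Z := hE.to_le inf_le_left
  haveI : Nontrivial E := (nontrivial_iff_ne_bot E).2 h1
  obtain ⟨z, hz, hz1⟩ : ∃ z ∈ Z, z ≠ 1 := by
    obtain ⟨⟨z, hz⟩, h⟩ := @exists_ne _ hE.center_nontrivial (1 : center E)
    exact ⟨z, ⟨z.2, fun a ha => congrArg Subtype.val (mem_center_iff.1 hz ⟨a, ha⟩)⟩, fun e => h (Subtype.ext (Subtype.ext e))⟩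
  have PP : ∀ x : G, Van x → p ∣ orderOf x → ∀ q : ℕ, q.Prime → q ∣ orderOf x → q = p := by
    intro x hx h2 q hq h3
    by_contra hne
    obtain ⟨k, e⟩ := IsPGroup.iff_orderOf.1 hZp ⟨z, hz⟩
    rw [orderOf_mk] at e
    obtain ⟨y, rfl, h4⟩ := lift_reg f hf hq (y := z) fun h => hne ((Nat.prime_dvd_prime_iff_eq hq hp).1 (hq.dvd_of_dvd_pow (e ▸ h)))
    exact h4 (hQ.1 x y hx (good hk Z hZ hz hz1) h2 ((dvd_ord hp hZp hz hz1).trans (orderOf_map_dvd f y)) q hq h3)
  have hZ0 : Z ≠ ⊥ := fun e => hz1 (mem_bot.1 (e ▸ hz))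
  have hZc : Nat.card Z = p := ((Nat.dvd_prime hp).1 (card_dvd hp hQ hf hk h0 PP Z hZ hZp fun x => good hk Z hZ)).resolve_left
    fun e => hZ0 (card_eq_one.1 e)
  have hEZ : E ≤ Z := by
    by_contra hne
    obtain ⟨y, hy, hyZ, hc⟩ : ∃ y ∈ E, y ∉ Z ∧ ∀ e ∈ E, ⁅e, y⁆ ∈ Z := by
      have hm : ∀ a : E, a ∈ center E ↔ (a : H) ∈ Z := fun a =>
        ⟨fun h => ⟨a.2, fun b hb => congrArg Subtype.val (mem_center_iff.1 h ⟨b, hb⟩)⟩,
          fun h => mem_center_iff.2 fun b => Subtype.ext (h.2 b b.2)⟩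
      haveI : Nontrivial (E ⧸ center E) := by
        rw [QuotientGroup.nontrivial_iff]
        exact fun e => hne fun a ha => (hm ⟨a, ha⟩).1 (e ▸ mem_top _)
      obtain ⟨⟨y, hy⟩, h⟩ := @exists_ne _ (hE.to_quotient (center E)).center_nontrivial (1 : center (E ⧸ center E))
      obtain ⟨y, rfl⟩ := QuotientGroup.mk'_surjective _ y
      refine ⟨y, y.2, fun e => h (Subtype.ext ((QuotientGroup.eq_one_iff _).2 ((hm y).2 e))), fun e he => ?_⟩
      refine (hm ⁅(⟨e, he⟩ : E), y⁆).1 ((QuotientGroup.eq_one_iff _).1 ?_)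
      change QuotientGroup.mk' _ _ = 1
      rw [map_commutatorElement, commutatorElement_eq_one_iff_mul_comm]
      exact mem_center_iff.1 hy _
    obtain ⟨e, he, he1⟩ : ∃ e ∈ E, ⁅e, y⁆ ≠ 1 := by
      by_contra h
      push Not at h
      exact hyZ ⟨hy, fun e he => commutatorElement_eq_one_iff_mul_comm.1 (h e he)⟩
    let B := zpowers y ⊔ Z
    have hBE : B ≤ E := sup_le (zpowers_le.2 hy) inf_le_left
    have hB : ∀ a ∈ B, ∀ b ∈ B, a * b = b * a := by
      have h2 : B ≤ centralizer (B : Set H) := sup_le (le_centralizer_iff.1 (sup_le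
        (zpowers_le.2 fun b ⟨k, hk⟩ => hk ▸ ((Commute.refl y).zpow_left k).eq)
        (inf_le_right.trans (centralizer_le (zpowers_le.2 hy))))) (inf_le_right.trans (centralizer_le hBE))
      exact fun a ha b hb => h2 hb a ha
    have hc' : ∀ w ∈ B, ∀ e ∈ E, ⁅e, w⁆ ∈ Z := by
      intro w hw e he
      have h2 : B ≤ (centralizer {QuotientGroup.mk' Z e}).comap (QuotientGroup.mk' Z) := by
        refine sup_le (zpowers_le.2 (mem_centralizer_singleton_iff.2 ?_)) fun a ha => mem_centralizer_singleton_iff.2 ?_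
        · rw [eq_comm, ← commutatorElement_eq_one_iff_mul_comm, ← map_commutatorElement]
          exact (QuotientGroup.eq_one_iff _).2 (hc e he)
        · rw [show QuotientGroup.mk' Z a = 1 from (QuotientGroup.eq_one_iff _).2 ha, one_mul, mul_one]
      have h3 := mem_centralizer_singleton_iff.1 (h2 hw)
      rw [eq_comm, ← commutatorElement_eq_one_iff_mul_comm, ← map_commutatorElement] at h3
      exact (QuotientGroup.eq_one_iff _).1 h3
    have h3 := card_dvd hp hQ hf hk h0 PP B hB (hE.to_le hBE) fun x hx hx1 => by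
      by_cases hxZ : f x ∈ Z
      · exact good hk Z hZ hxZ hx1
      refine Van.lift f hf (van_coset Z hZ0 fun n hn => ?_)
      set w := f x
      obtain ⟨e, he, he1⟩ : ∃ e ∈ E, ⁅e, w⁆ ≠ 1 := by
        by_contra h
        push Not at h
        exact hxZ ⟨hBE hx, fun e he => commutatorElement_eq_one_iff_mul_comm.1 (h e he)⟩
      have h4 : zpowers ⁅e, w⁆ = Z := by
        have h5 := zpowers_le.2 (hc' w hx e he)
        refine eq_of_le_of_card_ge h5 ?_
        have h6 := card_dvd_of_le h5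
        rw [hZc] at h6 ⊢
        exact (((Nat.dvd_prime hp).1 h6).resolve_left fun e => he1 (zpowers_eq_bot.1 (card_eq_one.1 e))).ge
      obtain ⟨k, rfl⟩ := mem_powers_iff_mem_zpowers.2 (h4.symm ▸ hn : n ∈ zpowers ⁅e, w⁆)
      refine isConj_iff.2 ⟨e ^ k, ?_⟩
      clear hn
      beta_reduce
      induction k with
      | zero => simp
      | succ k ih =>
        have h5 : e * ⁅e, w⁆ ^ k = ⁅e, w⁆ ^ k * e := (Z.pow_mem (hc' w hx e he) k).2 e he
        rw [pow_succ', mul_inv_rev, show e * e ^ k * w * ((e ^ k)⁻¹ * e⁻¹) = e * (e ^ k * w * (e ^ k)⁻¹) * e⁻¹ by group, ih,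
          ← mul_assoc, h5, pow_succ, commutatorElement_def]
        group
    exact hyZ (eq_of_le_of_card_ge (le_sup_right : Z ≤ B) (hZc ▸ Nat.le_of_dvd hp.pos h3) ▸
      (le_sup_left : zpowers y ≤ B) (mem_zpowers y))
  have hF : fittingSubgroup H ≤ E := Core.fitting_le_of_forall_pCore_le fun q hq => by
    by_cases hqp : q = p
    · rw [hqp]
    by_contra hne
    haveI := Core.isSolvable_of_isPGroup hq (Core.isPGroup_pCore q H)
    obtain ⟨L, r, _, hL0, hL, hmin, _, -⟩ := exists_minNormal_elementary_le (pCore q H) fun e => hne (e ▸ bot_le)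
    have hLq : IsPGroup q L := (Core.isPGroup_pCore q H).to_le hL
    have hZL : Z ≤ centralizer (L : Set H) :=
      (inf_le_left.trans (Core.pCore_le_fitting hp)).trans (fitting_le_centralizer_of_minNormal hmin)
    have hB : ∀ a ∈ Z ⊔ L, ∀ b ∈ Z ⊔ L, a * b = b * a := by
      have h2 : Z ⊔ L ≤ centralizer ((Z ⊔ L : Subgroup H) : Set H) := sup_le (le_centralizer_iff.1 (sup_le
        (fun a ha b hb => hZ b hb a ha) (le_centralizer_iff.1 hZL))) (le_centralizer_iff.1 (sup_le hZL (le_centralizer L)))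
      exact fun a ha b hb => h2 hb a ha
    obtain ⟨⟨l, hl⟩, hl1⟩ := ne_bot_iff_exists_ne_one.1 hL0
    have hl2 : l ≠ 1 := fun e => hl1 (Subtype.ext e)
    haveI := Fact.mk hq
    obtain ⟨i, e1⟩ := IsPGroup.iff_orderOf.1 hZp ⟨z, hz⟩
    obtain ⟨j, e2⟩ := IsPGroup.iff_orderOf.1 hLq ⟨l, hl⟩
    rw [orderOf_mk] at e1 e2
    have e3 : orderOf (z * l) = orderOf z * orderOf l := Commute.orderOf_mul_eq_mul_orderOf_of_coprime (hZL hz l hl).symm
      (by rw [e1, e2]; exact Nat.Coprime.pow _ _ ((Nat.coprime_primes hp hq).2 (Ne.symm hqp)))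
    obtain ⟨x, hx⟩ := hf (z * l)
    have e4 : p ∣ orderOf (z * l) := e3 ▸ (dvd_ord hp hZp hz hz1).mul_right _
    have e5 := orderOf_map_dvd f x
    rw [hx] at e5
    refine hqp (PP x (good hk (Z ⊔ L) hB (hx ▸ mul_mem_sup hz hl) fun e => ?_) (e4.trans e5) q hq
      ((e3 ▸ (dvd_ord hq hLq hl hl2).mul_left _ : q ∣ orderOf (z * l)).trans e5))
    rw [← hx, e, orderOf_one, Nat.dvd_one] at e4
    exact hp.one_lt.ne' e4
  have hC : (MulAut.conjNormal : H →* MulAut Z).ker ≤ Z := by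
    refine fun g hg => hEZ (hF (Core.centralizer_fitting_le fun v hv => ?_))
    have h2 : g * v * g⁻¹ = v := congrArg Subtype.val (DFunLike.congr_fun (MonoidHom.mem_ker.1 hg) (⟨v, hEZ (hF hv)⟩ : Z))
    rw [eq_comm, ← mul_inv_eq_iff_eq_mul]; exact h2
  haveI := isCyclic_of_prime_card hZc
  have h2 := card_subgroup_dvd_card (MulAut.conjNormal : H →* MulAut Z).range
  rw [← index_ker, IsCyclic.card_mulAut, hZc, Nat.totient_prime hp] at h2
  have h3 := card_dvd_of_le hC
  rw [hZc] at h3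
  intro h
  rw [← (MulAut.conjNormal : H →* MulAut Z).ker.card_mul_index, sq] at h
  have := Nat.le_of_dvd (Nat.sub_pos_of_lt hp.one_lt) (Nat.dvd_of_mul_dvd_mul_left hp.pos (h.trans (mul_dvd_mul h3 h2)))
  have := hp.one_lt
  omega

end step

universe u in
theorem main {p : ℕ} (hp : p.Prime) (n : ℕ) : ∀ {G : Type u} [Group G] [Finite G] [Group.IsSolvable G], Nat.card G = n →
    Q p G → ¬ p ^ 2 ∣ (pCore p G).index := by
  induction n using Nat.strong_induction_on with
  | _ n ih =>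
  intro G _ _ _ hn hQ
  have hlt : ∀ (V : Subgroup G) [V.Normal], V ≠ ⊥ → Nat.card (G ⧸ V) < n := fun V _ h0 => by
    rw [← hn, ← V.card_mul_index]
    exact lt_mul_of_one_lt_left Nat.card_pos ((one_lt_card_iff_ne_bot V).2 h0)
  by_cases h0 : pCore p G = ⊥
  · rw [h0, index_bot]
    rcases subsingleton_or_nontrivial G with _ | _
    · rw [Nat.card_unique, Nat.dvd_one]; exact (Nat.one_lt_pow two_ne_zero hp.one_lt).ne'
    haveI := Core.fitting_normal G
    have hs := QuotientGroup.mk'_surjective (fittingSubgroup G)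
    have hF : (Nat.card (fittingSubgroup G)).Coprime p :=
      Core.coprime_of_le (Core.coprime_card_pPrimeCore p G) (Core.fitting_le_pPrimeCore_of_pCore_eq_bot hp h0)
    intro h
    rw [← (fittingSubgroup G).card_mul_index] at h
    have h2 := (hF.symm.pow_left 2).dvd_of_dvd_mul_left h
    by_cases h1 : pCore p (G ⧸ fittingSubgroup G) = ⊥
    · have := ih _ (hlt _ Core.fitting_ne_bot_of_solvable) rfl (hQ.surj _ hs)
      rw [h1, index_bot] at this
      exact this h2
    · exact step hp hQ hs (QuotientGroup.ker_mk' _) h0 h1 h2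
  · have := ih _ (hlt _ h0) rfl (hQ.surj _ (QuotientGroup.mk'_surjective _))
    rwa [Core.pCore_quotient_pCore, index_bot] at this

theorem rel_dvd [Group.IsSolvable G] {p : ℕ} (hp : p.Prime) (hQ : Q p G) {P : Subgroup G} (hP : IsPGroup p P) :
    (pCore p G).relIndex P ∣ p := by
  haveI := Fact.mk hp
  obtain ⟨n, hn⟩ := IsPGroup.iff_card.1 hP
  obtain ⟨k, -, hk⟩ := (Nat.dvd_prime_pow hp).1 (hn ▸ index_dvd_card ((pCore p G).subgroupOf P))
  have h1 := relIndex_dvd_index_of_normal (pCore p G) P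
  change (pCore p G).relIndex P = _ at hk
  rw [hk] at h1 ⊢
  have : ¬ 2 ≤ k := fun h => main hp _ rfl hQ ((pow_dvd_pow p h).trans h1)
  exact (pow_dvd_pow p (by omega : k ≤ 1)).trans (pow_one p).dvd

end Cfsg.Lib.Hall.NV
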