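import Cfsg.Agent.Lib.Hall.Orbital
import Mathlib.GroupTheory.GroupAction.Jordan

/-!
# Subdegrees and degrees of constituents
-/

set_option autoImplicit false
set_option linter.dupNamespace false

namespace Cfsg.Lib.Hall
open Cfsg.Lib.Char Module MulAction Matrix
open scoped ComplexConjugate

variable {G : Type*} [Group G] {Ω : Type*} [MulAction G Ω]

theorem prime_of_stabilizer_le [Finite G] [IsPreprimitive G Ω] {a b : Ω} (hab : b ≠ a)
    (h : stabilizer G a ≤ stabilizer G b) : (Nat.card Ω).Prime := by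
  have : Nontrivial Ω := ⟨⟨b, a, hab⟩⟩
  have ha := IsPreprimitive.isCoatom_stabilizer_of_isPreprimitive (G := G) a
  have hb := IsPreprimitive.isCoatom_stabilizer_of_isPreprimitive (G := G) b
  have he : stabilizer G b = stabilizer G a := (ha.le_iff_eq hb.1).1 h
  obtain ⟨g, rfl⟩ := exists_smul_eq G a b
  have hg : g ∈ Subgroup.normalizer (stabilizer G a : Set G) := by
    rw [Subgroup.mem_normalizer_iff]
    intro x
    nth_rw 2 [← he]
    simp only [SetLike.mem_coe, mem_stabilizer_iff, mul_smul, inv_smul_smul, smul_left_cancel_iff]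
  have hN : Subgroup.normalizer (stabilizer G a : Set G) = ⊤ :=
    ha.2 _ (lt_of_le_of_ne Subgroup.le_normalizer fun e => hab (by rw [← e] at hg; exact hg))
  have hn : (stabilizer G a).Normal := Subgroup.normalizer_eq_top_iff.1 hN
  rw [← index_stabilizer_of_transitive G a, Subgroup.index]
  have h1 : Nat.card (G ⧸ stabilizer G a) ≠ 1 := fun e => ha.1 (Subgroup.index_eq_one.1 e)
  obtain ⟨q, hq, hd⟩ := Nat.exists_prime_and_dvd h1
  have := Fact.mk hq
  obtain ⟨y, hy⟩ := exists_prime_orderOf_dvd_card' q hd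
  have h2 : (Subgroup.zpowers y).comap (QuotientGroup.mk' (stabilizer G a)) = ⊤ := by
    refine ha.2 _ (lt_of_le_of_ne (QuotientGroup.le_comap_mk' _ _) fun e => ?_)
    obtain ⟨z, rfl⟩ := QuotientGroup.mk'_surjective _ y
    have hz : z ∈ stabilizer G a := by rw [e]; exact Subgroup.mem_zpowers _
    rw [show QuotientGroup.mk' (stabilizer G a) z = 1 from (QuotientGroup.eq_one_iff z).2 hz,
      orderOf_one] at hy
    exact hq.one_lt.ne hy
  have h3 : Subgroup.zpowers y = ⊤ :=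
    Subgroup.comap_injective (QuotientGroup.mk'_surjective _) (h2.trans (Subgroup.comap_top _).symm)
  rw [← Subgroup.card_top, ← h3, Nat.card_zpowers, hy]
  exact hq

theorem card_orbit_pos' [Finite G] (b : Ω) : 0 < Nat.card (orbit G b) := by
  have : Finite (orbit G b) := Set.finite_range _
  have : Nonempty (orbit G b) := ⟨⟨b, mem_orbit_self b⟩⟩
  exact Nat.card_pos

theorem two_le_subdegree [Finite G] [IsPreprimitive G Ω] (hn : ¬ (Nat.card Ω).Prime) {a b : Ω}
    (hab : b ≠ a) : 2 ≤ Nat.card (orbit (stabilizer G a) b) := by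
  have h0 : 0 < Nat.card (orbit (stabilizer G a) b) := card_orbit_pos' b
  by_contra hc
  have h1 : Nat.card (orbit (stabilizer G a) b) = 1 := by omega
  refine hn (prime_of_stabilizer_le (G := G) hab fun g hg => ?_)
  have := (Nat.card_eq_one_iff_unique.1 h1).1
  exact congrArg Subtype.val (Subsingleton.elim (⟨_, mem_orbit b (⟨g, hg⟩ : stabilizer G a)⟩ :
    orbit (stabilizer G a) b) ⟨b, mem_orbit_self b⟩)

theorem card_eq_sum_orbits [Fintype Ω] [Fintype (orbitRel.Quotient G Ω)] :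
    Fintype.card Ω = ∑ ω : orbitRel.Quotient G Ω, Nat.card ω.orbit := by
  rw [← Nat.card_eq_fintype_card, Nat.card_congr (selfEquivSigmaOrbits' G Ω), Nat.card_sigma]

theorem card_orbit_stabilizer_self (a : Ω) : Nat.card (orbit (stabilizer G a) a) = 1 := by
  have : orbit (stabilizer G a) a = {a} := by
    ext y
    exact ⟨fun ⟨g, hg⟩ => hg.symm.trans g.2, fun h => by rw [h]; exact mem_orbit_self a⟩
  rw [this]; simp

theorem mk_eq_self_iff {a b : Ω} : (Quotient.mk'' b : orbitRel.Quotient (stabilizer G a) Ω) =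
    Quotient.mk'' a ↔ b = a := by
  rw [Quotient.eq'', orbitRel_apply]
  exact ⟨fun ⟨g, hg⟩ => hg.symm.trans g.2, fun h => h ▸ mem_orbit_self _⟩

variable [Fintype G] [Fintype Ω]

omit [Fintype G] in
theorem pch_one : pch G Ω 1 = Fintype.card Ω := by
  simp [pch]

theorem exists_mult [IsPretransitive G Ω] (a : Ω) : ∃ (s : Finset (IrrCharacter G))
    (m : IrrCharacter G → ℕ), (∀ χ : IrrCharacter G, χ ∈ s ↔ (χ : G → ℂ) ≠ fun _ => 1) ∧
    (∀ χ : IrrCharacter G, classInner (pch G Ω) χ = m χ) ∧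
    pch G Ω = (fun _ => 1) + ∑ χ ∈ s, (m χ : ℂ) • (χ : G → ℂ) ∧
    Nat.card (orbitRel.Quotient (stabilizer G a) Ω) = 1 + ∑ χ ∈ s, m χ ^ 2 := by
  classical
  obtain ⟨m, h1, h2⟩ := (isCharacter_fixedBy (G := G) Ω).exists_nat_coeffs
  have h3 : m ⟨_, isIrrCharacter_one⟩ = 1 := by
    have := h1 ⟨_, isIrrCharacter_one⟩
    rw [pch_inner_one a] at this
    exact_mod_cast this.symm
  refine ⟨Finset.univ.erase ⟨_, isIrrCharacter_one⟩, m, fun χ => by simp [Subtype.ext_iff], h1,
    ?_, ?_⟩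
  · rw [← Finset.add_sum_erase _ _ (Finset.mem_univ ⟨_, isIrrCharacter_one⟩), h3] at h2
    rw [Nat.cast_one, one_smul] at h2
    exact h2
  · have h4 := pch_inner_self (G := G) a
    change pch G Ω = _ at h2
    rw [h2, classInner_sum_irr_sum_irr,
      ← Finset.add_sum_erase _ _ (Finset.mem_univ ⟨_, isIrrCharacter_one⟩), h3] at h4
    simp only [map_natCast, ← pow_two] at h4
    exact_mod_cast h4.symm

theorem same_degree [IsPretransitive G Ω] (a : Ω) (f : ℕ)
    (hf : ∀ χ : G → ℂ, IsIrrCharacter G χ → χ ≠ (fun _ => 1) → classInner (pch G Ω) χ ≠ 0 →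
      χ 1 = f) :
    (∀ χ : G → ℂ, IsIrrCharacter G χ →
      classInner (pch G Ω) χ = 0 ∨ classInner (pch G Ω) χ = 1) ∧
    ∀ b : Ω, b ≠ a → Nat.card (orbit (stabilizer G a) b) = f := by
  classical
  obtain ⟨s, m, hs, hm, h1, h2⟩ := exists_mult (G := G) a
  have : Fintype (orbitRel.Quotient (stabilizer G a) Ω) := Fintype.ofFinite _
  have hd : ∀ b, b ≠ a → f ≤ Nat.card (orbit (stabilizer G a) b) ∧ 0 < f := fun b hb => by
    have h3 := dvd_subdegree f (fun χ h1 h2 h3 => ⟨1, by rw [hf χ h1 h2 h3]; simp⟩) hb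
    have : 0 < Nat.card (orbit (stabilizer G a) b) := card_orbit_pos' b
    exact ⟨Nat.le_of_dvd this h3, Nat.pos_of_dvd_of_pos h3 this⟩
  have h3 : Fintype.card Ω = 1 + ∑ χ ∈ s, m χ * f := by
    have := congrFun h1 1
    rw [pch_one, Pi.add_apply, Finset.sum_apply, Finset.sum_congr rfl
      (g := fun χ => (m χ : ℂ) * f) fun χ hχ => by
        by_cases h0 : m χ = 0
        · simp [h0]
        · rw [Pi.smul_apply, hf χ χ.2 ((hs χ).1 hχ) (by rw [hm]; exact_mod_cast h0), smul_eq_mul]]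
      at this
    exact_mod_cast this
  have h4 := card_eq_sum_orbits (G := stabilizer G a) (Ω := Ω)
  set t := (Finset.univ : Finset (orbitRel.Quotient (stabilizer G a) Ω)).erase (Quotient.mk'' a)
  rw [← Finset.add_sum_erase _ _ (Finset.mem_univ (Quotient.mk'' a)), orbitRel.Quotient.orbit_mk,
    card_orbit_stabilizer_self] at h4
  change _ = 1 + ∑ ω ∈ t, Nat.card ω.orbit at h4
  have h5 : ∀ ω ∈ t, f ≤ Nat.card ω.orbit := fun ω hω => by
    induction ω using Quotient.inductionOn' with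
    | h b => exact (hd b fun e => (Finset.mem_erase.1 hω).1 (by rw [e])).1
  have h6 : t.card = ∑ χ ∈ s, m χ ^ 2 := by
    rw [Finset.card_erase_of_mem (Finset.mem_univ _), Finset.card_univ, ← Nat.card_eq_fintype_card,
      h2]
    omega
  have h7 : ∑ ω ∈ t, f ≤ ∑ ω ∈ t, Nat.card ω.orbit := Finset.sum_le_sum h5
  have h8 : ∀ χ ∈ s, m χ * f ≤ m χ ^ 2 * f := fun χ _ =>
    Nat.mul_le_mul_right _ (Nat.le_self_pow two_ne_zero _)
  have h9 := Finset.sum_le_sum h8
  have h10 : ∑ ω ∈ t, f = ∑ χ ∈ s, m χ ^ 2 * f := by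
    rw [Finset.sum_const, h6, smul_eq_mul, Finset.sum_mul]
  constructor
  · intro χ hχ
    by_cases h0 : χ = fun _ => 1
    · right; rw [h0, pch_inner_one a]
    by_cases h00 : classInner (pch G Ω) χ = 0
    · exact Or.inl h00
    have h11 := (Finset.sum_eq_sum_iff_of_le h8).1 (by omega) ⟨χ, hχ⟩ ((hs _).2 h0)
    have hf0 : 0 < f := by
      refine Nat.pos_of_ne_zero fun e => hχ.apply_one_ne_zero ?_
      rw [hf χ hχ h0 h00, e, Nat.cast_zero]
    have h12 := Nat.eq_of_mul_eq_mul_right hf0 h11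
    have h13 := hm ⟨χ, hχ⟩
    have h14 : m ⟨χ, hχ⟩ = 0 ∨ m ⟨χ, hχ⟩ = 1 := by
      rcases Nat.eq_zero_or_pos (m ⟨χ, hχ⟩) with h | h
      · exact Or.inl h
      · right; nlinarith
    rcases h14 with h | h <;> rw [h] at h13 <;> simp [h13]
  · intro b hb
    exact ((Finset.sum_eq_sum_iff_of_le h5).1 (by omega) (Quotient.mk'' b)
      (Finset.mem_erase.2 ⟨fun e => hb (mk_eq_self_iff.1 e), Finset.mem_univ _⟩)).symm

theorem mf_of_rank_le_five [IsPretransitive G Ω] (a : Ω)
    (hr : Nat.card (orbitRel.Quotient (stabilizer G a) Ω) ≤ 5) (χ : G → ℂ)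
    (hχ : IsIrrCharacter G χ) : classInner (pch G Ω) χ = 0 ∨ classInner (pch G Ω) χ = 1 := by
  classical
  obtain ⟨s, m, hs, hm, h1, h2⟩ := exists_mult (G := G) a
  by_contra hc
  have h0 : χ ≠ fun _ => 1 := fun e => hc (Or.inr (by rw [e, pch_inner_one a]))
  have h3 : 2 ≤ m ⟨χ, hχ⟩ := by
    by_contra h
    apply hc
    have h13 := hm ⟨χ, hχ⟩
    have : m ⟨χ, hχ⟩ = 0 ∨ m ⟨χ, hχ⟩ = 1 := by omega
    rcases this with h | h <;> rw [h] at h13 <;> simp [h13]
  rw [← Finset.add_sum_erase _ _ ((hs ⟨χ, hχ⟩).2 h0)] at h2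
  have h4 : 4 ≤ m ⟨χ, hχ⟩ ^ 2 := by nlinarith
  have h5 : ∑ ψ ∈ s.erase ⟨χ, hχ⟩, m ψ ^ 2 = 0 := by omega
  obtain ⟨f, hf⟩ := hχ.isCharacter.exists_nat_degree
  refine hc ((same_degree a f fun ψ hψ h6 h7 => ?_).1 χ hχ)
  by_cases e : ψ = χ
  · rw [e, hf]
  exfalso
  have := Finset.sum_eq_zero_iff.1 h5 ⟨ψ, hψ⟩
    (Finset.mem_erase.2 ⟨fun h => e (congrArg Subtype.val h), (hs _).2 h6⟩)
  exact h7 (by rw [hm ⟨ψ, hψ⟩, pow_eq_zero_iff two_ne_zero |>.1 this, Nat.cast_zero])

/-! ### Rational constituents -/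

theorem pch_inner_map {χ : G → ℂ} (hχ : IsCharacter G χ) (σ : ℂ ≃+* ℂ) :
    classInner (pch G Ω) (fun g => σ (χ g)) = σ (classInner (pch G Ω) χ) := by
  have := hχ.isGeneralizedCharacter.classInner_map_ringHom (pch G Ω) σ.toRingHom
  refine Eq.trans ?_ this
  congr 1
  funext g
  exact (map_natCast _ _).symm

theorem MInv.inner_int {M : Matrix Ω Ω ℂ} (hM : MInv G M) (hi : ∀ x y, ∃ n : ℤ, M x y = n)
    {χ : G → ℂ} (hχ : IsCharacter G χ) (hr : ∀ (σ : ℂ ≃+* ℂ) g, σ (χ g) = χ g) :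
    ∃ n : ℤ, classInner (tm G M) χ = n := by
  refine exists_int_of_forall_ringEquiv (hM.isIntegral hi hχ) fun σ => ?_
  have := hχ.isGeneralizedCharacter.classInner_map_ringHom (tm G M) σ.toRingHom
  refine this.symm.trans ?_
  congr 1
  · funext g
    simp only [tm, map_sum]
    refine Finset.sum_congr rfl fun x _ => ?_
    obtain ⟨n, hn⟩ := hi x (g • x)
    rw [hn, map_intCast]
  · exact funext fun g => hr σ g

theorem inner_transpose (M : Matrix Ω Ω ℂ) {χ : G → ℂ} (hχ : IsCharacter G χ)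
    (hr : ∀ (σ : ℂ ≃+* ℂ) g, σ (χ g) = χ g) : classInner (tm G Mᵀ) χ = classInner (tm G M) χ := by
  simp only [classInner_def, tm_transpose]
  congr 1
  refine Fintype.sum_equiv (Equiv.inv G) _ _ fun g => ?_
  rw [Equiv.inv_apply, hχ.apply_inv]
  have := hr (starRingAut : ℂ ≃+* ℂ) g
  change conj (χ g) = χ g at this
  rw [this, this]

theorem wielandt_arith {m k t u : ℤ} (h2 : 2 ≤ k) (hk : k ≤ m - 1)
    (h1 : k + t * (m - 1) + u * m = 0) (h3 : k * k + t * t * (m - 1) + u * u * m = 2 * m * k) :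
    ∃ a : ℕ, 0 < a ∧ m = 2 * a ^ 2 + 2 * a + 1 ∧ k = a * (2 * a + 1) := by
  have hm : 0 < m := by omega
  have ht : t * t ≤ m + 1 := by
    have h4 : t * t * (m - 1) ≤ (m + 1) * (m - 1) := by nlinarith [mul_self_nonneg u]
    exact le_of_mul_le_mul_right h4 (by omega)
  obtain ⟨s, hs⟩ : ∃ s, s = -(t + u) := ⟨_, rfl⟩
  have hks : k = t + m * s := by rw [hs]; linear_combination h1
  have hs1 : s = 1 := by
    by_contra hne
    rcases (by omega : s ≤ -1 ∨ s = 0 ∨ 2 ≤ s) with h | h | h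
    · have : m + 1 ≤ t := by nlinarith
      nlinarith
    · have e1 : t = k := by rw [hks, h]; ring
      have e2 : u = -k := by omega
      rw [e1, e2] at h3
      have : 2 * m * k * (k - 1) = 0 := by linear_combination h3
      have : 0 < 2 * m * k * (k - 1) := by
        have : 0 < k - 1 := by omega
        positivity
      omega
    · have : t ≤ -(m + 1) := by nlinarith
      nlinarith
  have e2 : u = -1 - t := by omega
  rw [hs1, mul_one] at hks
  rw [e2, hks] at h3
  have h5 : m * (m - (2 * t ^ 2 + 2 * t + 1)) = 0 := by linear_combination -h3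
  have h6 : m = 2 * t ^ 2 + 2 * t + 1 := by
    have := (mul_eq_zero.1 h5).resolve_left hm.ne'
    omega
  obtain ⟨a, ha⟩ := Int.eq_ofNat_of_zero_le (by omega : 0 ≤ -t - 1)
  have e3 : t = -a - 1 := by omega
  refine ⟨a, Nat.pos_of_ne_zero ?_, by rw [h6, e3]; ring, by rw [hks, h6, e3]; ring⟩
  rintro rfl
  rw [e3] at h6 hks
  simp at h6 hks
  omega

theorem wielandt_type (hprim : IsPreprimitive G Ω) {m : ℕ} (hm : Fintype.card Ω = 2 * m) (a₀ : Ω)
    (hrank : Nat.card (orbitRel.Quotient (stabilizer G a₀) Ω) = 3) (χ₁ χ₂ : G → ℂ)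
    (h₁ : IsIrrCharacter G χ₁) (h₂ : IsIrrCharacter G χ₂)
    (hπ : pch G Ω = fun g => 1 + χ₁ g + χ₂ g) (hd₁ : χ₁ 1 = (m : ℂ) - 1) (hd₂ : χ₂ 1 = m) :
    ∃ a : ℕ, 0 < a ∧ m = 2 * a ^ 2 + 2 * a + 1 ∧ ∀ b : Ω, b ≠ a₀ →
      Nat.card (orbit (stabilizer G a₀) b) = a * (2 * a + 1) ∨
      Nat.card (orbit (stabilizer G a₀) b) = (a + 1) * (2 * a + 1) := by
  classical
  have hπ' : pch G Ω = (fun _ => 1) + χ₁ + χ₂ := hπ
  have hin : ∀ ψ, IsIrrCharacter G ψ → classInner (pch G Ω) ψ =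
      (if (fun _ => 1) = ψ then 1 else 0) + (if χ₁ = ψ then 1 else 0) +
        (if χ₂ = ψ then 1 else 0) := fun ψ hψ => by
    rw [hπ', classInner_add_left, classInner_add_left, isIrrCharacter_one.classInner_eq_ite hψ,
      h₁.classInner_eq_ite hψ, h₂.classInner_eq_ite hψ]
  have h12 : χ₁ ≠ χ₂ := fun e => by
    rw [e, hd₂] at hd₁
    exact one_ne_zero (by linear_combination hd₁ : (1 : ℂ) = 0)
  have h0 := hin _ isIrrCharacter_one
  rw [pch_inner_one a₀, if_pos rfl] at h0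
  have h01 : χ₁ ≠ fun _ => 1 := fun e => by
    rw [if_pos e, if_neg (e ▸ h12.symm)] at h0
    norm_num at h0
  have h02 : χ₂ ≠ fun _ => 1 := fun e => by
    rw [if_pos e, if_neg h01] at h0
    norm_num at h0
  have hm1 : classInner (pch G Ω) χ₁ = 1 := by
    rw [hin _ h₁, if_neg h01.symm, if_pos rfl, if_neg h12.symm]; simp
  have hm2 : classInner (pch G Ω) χ₂ = 1 := by
    rw [hin _ h₂, if_neg h02.symm, if_pos rfl, if_neg h12]; simp
  have hcon : ∀ ψ, IsIrrCharacter G ψ → classInner (pch G Ω) ψ ≠ 0 →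
      ψ = (fun _ => 1) ∨ ψ = χ₁ ∨ ψ = χ₂ := fun ψ hψ h => by
    by_contra hc
    push Not at hc
    rw [hin _ hψ, if_neg hc.1.symm, if_neg hc.2.1.symm, if_neg hc.2.2.symm] at h
    simp at h
  have hne1 : ∀ {χ : G → ℂ} (σ : ℂ ≃+* ℂ), χ ≠ (fun _ => 1) → (fun g => σ (χ g)) ≠ fun _ => 1 :=
    fun σ h e => h (funext fun g => σ.injective ((congrFun e g).trans (map_one σ).symm))
  have hr1 : ∀ (σ : ℂ ≃+* ℂ) g, σ (χ₁ g) = χ₁ g := fun σ => by
    rcases hcon _ (h₁.map_ringEquiv σ) (by rw [pch_inner_map h₁.isCharacter, hm1]; simp)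
      with h | h | h
    · exact absurd h (hne1 σ h01)
    · exact congrFun h
    · have := congrFun h 1
      simp only [hd₁, hd₂, map_sub, map_natCast, map_one] at this
      exact absurd (by linear_combination -this : (1 : ℂ) = 0) one_ne_zero
  have hr2 : ∀ (σ : ℂ ≃+* ℂ) g, σ (χ₂ g) = χ₂ g := fun σ => by
    rcases hcon _ (h₂.map_ringEquiv σ) (by rw [pch_inner_map h₂.isCharacter, hm2]; simp)
      with h | h | h
    · exact absurd h (hne1 σ h02)
    · have := congrFun h 1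
      simp only [hd₁, hd₂, map_natCast] at this
      exact absurd (by linear_combination this : (1 : ℂ) = 0) one_ne_zero
    · exact congrFun h
  have htr : ∀ M : Matrix Ω Ω ℂ, MInv G M → M.trace = classInner (tm G M) (fun _ => 1) +
      classInner (tm G M) χ₁ * (m - 1) + classInner (tm G M) χ₂ * m := fun M hM => by
    rw [hM.trace_eq, ← Finset.sum_subset (Finset.subset_univ
      ({⟨_, isIrrCharacter_one⟩, ⟨χ₁, h₁⟩, ⟨χ₂, h₂⟩} : Finset (IrrCharacter G))),
      Finset.sum_insert (by simp [h01.symm, h02.symm]), Finset.sum_pair (by simp [h12])]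
    · simp only [hd₁, hd₂]; ring
    · intro ψ _ hψ
      rw [hM.inner_eq_zero ψ.2.isCharacter, zero_mul]
      by_contra hc
      apply hψ
      simpa [Subtype.ext_iff] using hcon _ ψ.2 hc
  have : Fintype (orbitRel.Quotient (stabilizer G a₀) Ω) := Fintype.ofFinite _
  have h4 := card_eq_sum_orbits (G := stabilizer G a₀) (Ω := Ω)
  rw [← Finset.add_sum_erase _ _ (Finset.mem_univ (Quotient.mk'' a₀)), orbitRel.Quotient.orbit_mk,
    card_orbit_stabilizer_self] at h4
  obtain ⟨ω₁, ω₂, hω, hωe⟩ := Finset.card_eq_two.1 (by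
    rw [Finset.card_erase_of_mem (Finset.mem_univ _), Finset.card_univ, ← Nat.card_eq_fintype_card,
      hrank] : ((Finset.univ : Finset (orbitRel.Quotient (stabilizer G a₀) Ω)).erase
        (Quotient.mk'' a₀)).card = 2)
  have hmem : ∀ b, b ≠ a₀ ↔ (Quotient.mk'' b = ω₁ ∨ Quotient.mk'' b = ω₂) := fun b => by
    have := Finset.ext_iff.1 hωe (Quotient.mk'' b)
    rw [Finset.mem_erase, Finset.mem_insert, Finset.mem_singleton, Ne, mk_eq_self_iff] at this
    simpa using this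
  rw [hωe, Finset.sum_pair hω, hm] at h4
  have key : ∀ b, b ≠ a₀ → Nat.card (orbit (stabilizer G a₀) b) < m → ∃ a : ℕ, 0 < a ∧
      m = 2 * a ^ 2 + 2 * a + 1 ∧ Nat.card (orbit (stabilizer G a₀) b) = a * (2 * a + 1) := by
    intro b hb hlt
    have hA := mInv_om (G := G) a₀ b
    have h2 : 2 ≤ Nat.card (orbit (stabilizer G a₀) b) := by
      refine two_le_subdegree (fun hp => ?_) hb
      rw [Nat.card_eq_fintype_card, hm] at hp
      have := card_orbit_pos' (G := stabilizer G a₀) b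
      exact Nat.not_prime_mul (by norm_num) (by omega) hp
    obtain ⟨t, ht⟩ := hA.inner_int (om_int a₀ b) h₁.isCharacter hr1
    obtain ⟨u, hu⟩ := hA.inner_int (om_int a₀ b) h₂.isCharacter hr2
    have e1 := htr _ hA
    have e2 := htr _ (hA.mul hA.transpose)
    rw [om_trace hb, om_inner_one, ht, hu] at e1
    rw [hA.trace_mul_om, om_of_mem ⟨1, one_smul _ _, one_smul _ _⟩,
      hA.inner_mul hA.transpose isCharacter_one (Or.inr (pch_inner_one a₀)),
      hA.inner_mul hA.transpose h₁.isCharacter (Or.inr hm1),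
      hA.inner_mul hA.transpose h₂.isCharacter (Or.inr hm2),
      inner_transpose _ isCharacter_one (by simp), inner_transpose _ h₁.isCharacter hr1,
      inner_transpose _ h₂.isCharacter hr2, om_inner_one, ht, hu, hm, mul_one] at e2
    obtain ⟨a, ha0, ha1, ha2⟩ := wielandt_arith (m := m)
      (k := Nat.card (orbit (stabilizer G a₀) b)) (t := t) (u := u) (by omega) (by omega)
      (by exact_mod_cast e1.symm) (by exact_mod_cast e2.symm)
    exact ⟨a, ha0, by exact_mod_cast ha1, by exact_mod_cast ha2⟩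
  induction ω₁ using Quotient.inductionOn' with | h b₁ =>
  induction ω₂ using Quotient.inductionOn' with | h b₂ =>
  simp only [orbitRel.Quotient.orbit_mk] at h4
  have horb : ∀ b c : Ω, (Quotient.mk'' b : orbitRel.Quotient (stabilizer G a₀) Ω) =
      Quotient.mk'' c → orbit (stabilizer G a₀) b = orbit (stabilizer G a₀) c := fun b c h =>
    congrArg orbitRel.Quotient.orbit h
  rcases lt_or_ge (Nat.card (orbit (stabilizer G a₀) b₁)) m with h | h
  · obtain ⟨a, ha0, ha1, ha2⟩ := key b₁ ((hmem _).2 (Or.inl rfl)) h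
    refine ⟨a, ha0, ha1, fun b hb => ?_⟩
    rcases (hmem b).1 hb with e | e <;> rw [horb _ _ e]
    · exact Or.inl ha2
    · right; nlinarith
  · obtain ⟨a, ha0, ha1, ha2⟩ := key b₂ ((hmem _).2 (Or.inr rfl)) (by omega)
    refine ⟨a, ha0, ha1, fun b hb => ?_⟩
    rcases (hmem b).1 hb with e | e <;> rw [horb _ _ e]
    · right; nlinarith
    · exact Or.inl ha2

end Cfsg.Lib.Hall
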