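import Cfsg.Agent.Lib.Hall.Orbital2
import Cfsg.Agent.Lib.Char.Kernel
import Cfsg.Agent.Lib.Perm.Basic
import Mathlib.RingTheory.Polynomial.Cyclotomic.Roots

/-!
# Wielandt's theorem on primitive groups of degree `2p`
-/

set_option autoImplicit false
set_option linter.dupNamespace false

namespace Cfsg.Lib.Hall
open Cfsg.Lib.Char Module MulAction Matrix
open scoped ComplexConjugate

variable {G : Type*} [Group G] {Ω : Type*} [MulAction G Ω]

theorem eq_zero_of_sum_lin {P : Type*} [Group P] [Fintype P] {p : ℕ} (hp : p.Prime)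
    (hP : Nat.card P = p) (u : P → ℕ) (h1 : u 1 = 0) (lam : P →* ℂˣ)
    (h : ∑ x, (u x : ℂ) * lam x = 0) (x : P) : u x = 0 := by
  classical
  have := Fact.mk hp
  by_cases h0 : lam = 1
  · rw [h0] at h
    simp only [MonoidHom.one_apply, Units.val_one, mul_one] at h
    have h2 : ∑ x, u x = 0 := by exact_mod_cast h
    exact Finset.sum_eq_zero_iff.1 h2 x (Finset.mem_univ _)
  obtain ⟨g, hg⟩ : ∃ g, lam g ≠ 1 := by
    by_contra hc
    push Not at hc
    exact h0 (MonoidHom.ext hc)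
  have hg1 : g ≠ 1 := fun e => hg (by rw [e, map_one])
  have ho : orderOf g = p := orderOf_eq_prime (by rw [← hP]; exact pow_card_eq_one') hg1
  have hζ : IsPrimitiveRoot (lam g : ℂ) p := by
    have h3 : orderOf (lam g) = p := orderOf_eq_prime (by rw [← map_pow, ← ho, pow_orderOf_eq_one,
      map_one]) hg
    rw [IsPrimitiveRoot.coe_units_iff, ← h3]
    exact IsPrimitiveRoot.orderOf _
  have hb : Function.Bijective fun i : Fin p => g ^ (i : ℕ) := by
    rw [Fintype.bijective_iff_injective_and_card, Fintype.card_fin, ← Nat.card_eq_fintype_card, hP]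
    exact ⟨fun i j hij => Fin.ext (pow_injOn_Iio_orderOf (by rw [ho]; exact i.2)
      (by rw [ho]; exact j.2) hij), rfl⟩
  rw [← hb.sum_comp] at h
  have h4 := (hζ.sum_eq_zero_iff_forall_eq_int hp fun i => u (g ^ (i : ℕ))).1 (by simpa using h)
  obtain ⟨i, rfl⟩ := hb.2 x
  have h5 := h4 i ⟨0, hp.pos⟩
  simp only [pow_zero, h1] at h5
  exact_mod_cast h5

theorem mem_orbit_of_mem_orbit' {a b : Ω} (h : b ∈ orbit G a) (g : G) : g • b ∈ orbit G a := by
  obtain ⟨k, rfl⟩ := h
  exact ⟨g * k, mul_smul _ _ _⟩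

open Classical in
/-- Indicator of an orbital, as a natural number. -/
noncomputable def oi (G : Type*) [Group G] {Ω : Type*} [MulAction G Ω] (a b x y : Ω) : ℕ :=
  if ∃ g : G, g • a = x ∧ g • b = y then 1 else 0

theorem om_eq_oi (a b x y : Ω) : om G a b x y = oi G a b x y := by
  simp only [om, oi, Matrix.of_apply]
  split_ifs <;> simp

theorem oi_cases (a b x y : Ω) :
    oi G a b x y = 0 ∨ (oi G a b x y = 1 ∧ ∃ g : G, g • a = x ∧ g • b = y) := by
  simp only [oi]
  split_ifs with h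
  · exact Or.inr ⟨rfl, h⟩
  · exact Or.inl rfl

theorem oi_self (a b : Ω) : oi G a b a b = 1 := if_pos ⟨1, one_smul _ _, one_smul _ _⟩

theorem om_smul (g : G) (a b : Ω) : om G (g • a) (g • b) = om G a b := by
  ext x y
  simp only [om, Matrix.of_apply]
  congr 1
  refine propext ⟨fun ⟨k, h1, h2⟩ => ⟨k * g, by rwa [mul_smul], by rwa [mul_smul]⟩,
    fun ⟨k, h1, h2⟩ => ⟨k * g⁻¹, ?_, ?_⟩⟩ <;> rwa [mul_smul, inv_smul_smul]

variable [Fintype G] [Fintype Ω]

theorem parseval (hc : ∀ a b : G, a * b = b * a) {F X Y : Matrix Ω Ω ℂ} (hF : MInv G F)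
    (hFF : F * F = F) (hX : MInv G X) (hY : MInv G Y) (hFX : F * X = X) (hFY : F * Y = Y)
    (hr : tm G F = regChar G) :
    Nat.card G * (X * Y).trace = ∑ h, tm G X h * tm G Y h⁻¹ := by
  have h1 := card_mul_classInner (tm G X) (fun h => conj (tm G Y h⁻¹))
  simp only [Complex.conj_conj] at h1
  rw [← h1, hX.isClassFunction.classInner_eq_sum, (hX.mul hY).trace_eq]
  congr 1
  refine Finset.sum_congr rfl fun lam _ => ?_
  have hd := lam.2.degree_eq_one_of_comm hc
  rw [hF.inner_mul_idem hFF hX hY hFX hFY lam.2.isCharacter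
    (Or.inr (by rw [hr, classInner_regChar_left, hd, map_one])), hd, mul_one]
  congr 1
  simp only [classInner_def, Complex.conj_conj]
  congr 1
  refine Fintype.sum_equiv (Equiv.inv G) _ _ fun g => ?_
  rw [Equiv.inv_apply, inv_inv, lam.2.isCharacter.apply_inv, mul_comm]

/-- The configuration in the main case of Wielandt's theorem. -/
structure W2 (p : ℕ) (P : Subgroup G) [Fintype P] (χ : G → ℂ) (x y : Ω) : Prop where
  hp : p.Prime
  hn : Fintype.card Ω = 2 * p
  hP : Nat.card P = p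
  sum : ∀ f : Ω → ℂ, ∑ z, f z = ∑ k : P, f (k • x) + ∑ k : P, f (k • y)
  free : ∀ h : P, h ≠ 1 → ∀ z : Ω, h • z ≠ z
  hy : y ∉ orbit P x
  irr : IsIrrCharacter G χ
  mult : classInner (pch G Ω) χ = 1
  ne1 : χ ≠ fun _ => 1
  rat : ∀ (σ : ℂ ≃+* ℂ) g, σ (χ g) = χ g
  deg : χ 1 = p
  van : ∀ h : P, h ≠ 1 → χ h = 0
  oth : ∀ ψ, IsIrrCharacter G ψ → ψ ≠ (fun _ => 1) → ψ ≠ χ →
    classInner (pch G Ω) ψ = 0 ∨ classInner (fun h : P => ψ h) (fun _ => 1) = 0

namespace W2
variable {p : ℕ} {P : Subgroup G} [Fintype P] {χ : G → ℂ} {x y : Ω} (w : W2 p P χ x y)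
include w

theorem comm (a b : P) : a * b = b * a := by
  have := Fact.mk w.hp
  have := isCyclic_of_prime_card w.hP
  exact mul_comm' a b

theorem p_ne : (p : ℂ) ≠ 0 := Nat.cast_ne_zero.2 w.hp.ne_zero

theorem tm_eq {M : Matrix Ω Ω ℂ} (hM : MInv P M) (h : P) :
    tm P M h = p * (M x (h • x) + M y (h • y)) := by
  have : ∀ (z : Ω) (k : P), M (k • z) (h • k • z) = M z (h • z) := fun z k => by
    rw [← mul_smul, w.comm, mul_smul, hM k]
  simp only [tm]
  rw [w.sum]
  simp only [this, Finset.sum_const, Finset.card_univ, ← Nat.card_eq_fintype_card, w.hP,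
    nsmul_eq_mul]
  ring

theorem sum_chi (f : P → ℂ) : ∑ h : P, f h * χ h = f 1 * p := by
  rw [Finset.sum_eq_single 1 (fun h _ h1 => by rw [w.van h h1, mul_zero]) (by simp)]
  exact congrArg _ w.deg

theorem tm_E : tm G (ide Ω χ) = χ := by
  classical
  rw [tm_ide w.irr, w.mult, one_smul]

theorem E_add (h : P) (h1 : h ≠ 1) : ide Ω χ x (h • x) + ide Ω χ y (h • y) = 0 := by
  have h2 := w.tm_eq ((mInv_ide w.irr.isClassFunction).subgroup P) h
  change tm G (ide Ω χ) h = _ at h2
  rw [w.tm_E, w.van h h1] at h2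
  exact (mul_eq_zero.1 h2.symm).resolve_left w.p_ne

theorem tm_F [DecidableEq Ω] : tm P (1 - ide Ω χ) = regChar P := by
  funext h
  change tm G (1 - ide Ω χ) h = _
  rw [tm_sub, tm_one, w.tm_E, Pi.sub_apply]
  by_cases h1 : h = 1
  · rw [h1, regChar_one, w.hP, OneMemClass.coe_one, pch_one, w.hn, w.deg]
    push_cast; ring
  · rw [regChar_of_ne h1, w.van h h1, sub_zero]
    have : IsEmpty (fixedBy Ω (h : G)) := ⟨fun z => w.free h h1 z z.2⟩
    simp [pch]

theorem F_mul_F [DecidableEq Ω] : (1 - ide Ω χ) * (1 - ide Ω χ) = 1 - ide Ω χ := by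
  rw [Matrix.sub_mul, Matrix.mul_sub, Matrix.mul_sub, ide_mul_ide w.irr]
  simp

variable [IsPretransitive G Ω]

theorem sum_eq {A : Matrix Ω Ω ℂ} (hA : MInv G A) : ∑ h : P, (A x (h • x) + A y (h • y)) =
    classInner (tm G A) (fun _ => 1) + classInner (tm G A) χ := by
  classical
  have h1 : ∑ h : P, tm P A h = ∑ ψ : IrrCharacter G, classInner (tm G A) ψ *
      ∑ h : P, (ψ : G → ℂ) h := by
    simp only [Finset.mul_sum]
    rw [Finset.sum_comm]
    exact Finset.sum_congr rfl fun h _ => hA.isClassFunction.apply_eq_sum h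
  rw [← Finset.sum_subset (Finset.subset_univ
      ({⟨_, isIrrCharacter_one⟩, ⟨χ, w.irr⟩} : Finset (IrrCharacter G))),
      Finset.sum_pair (by simp [w.ne1.symm])] at h1
  · have h2 := w.sum_chi fun _ => 1
    simp only [one_mul] at h2
    simp only [w.tm_eq (hA.subgroup P), ← Finset.mul_sum, h2, Finset.sum_const, Finset.card_univ,
      ← Nat.card_eq_fintype_card, w.hP, nsmul_eq_mul] at h1
    apply mul_left_cancel₀ w.p_ne
    rw [show (∑ h : P, (A x (h • x) + A y (h • y))) = _ from rfl] at h1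
    linear_combination h1
  · intro ψ _ hψ
    simp only [Finset.mem_insert, Finset.mem_singleton, Subtype.ext_iff, not_or] at hψ
    rcases w.oth ψ ψ.2 hψ.1 hψ.2 with h | h
    · rw [hA.inner_eq_zero ψ.2.isCharacter h, zero_mul]
    · rw [classInner_one_right] at h
      rw [(mul_eq_zero.1 h).resolve_left (inv_ne_zero (card_ne_zero P)), mul_zero]

omit [IsPretransitive G Ω] in
theorem gram {A B : Matrix Ω Ω ℂ} (hA : MInv G A) (hB : MInv G B) (hA0 : A.trace = 0)
    (hB0 : B.trace = 0) : (A * Bᵀ).trace =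
      p * (2 * classInner (tm G A) χ * classInner (tm G B) χ +
        ∑ h : P, (A x (h • x) + A y (h • y)) * (B x (h • x) + B y (h • y))) := by
  classical
  have hE : MInv G (ide Ω χ) := mInv_ide w.irr.isClassFunction
  have hF : MInv G (1 - ide Ω χ) := MInv.one.sub hE
  have h1 := parseval w.comm (hF.subgroup P) w.F_mul_F ((hF.mul hA).subgroup P)
    ((hF.mul hB.transpose).subgroup P) (by rw [← Matrix.mul_assoc, w.F_mul_F])
    (by rw [← Matrix.mul_assoc, w.F_mul_F]) w.tm_F
  have h2 : ∀ M, MInv G M → (1 - ide Ω χ) * M = M * (1 - ide Ω χ) := fun M hM => by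
    rw [Matrix.sub_mul, Matrix.mul_sub, hM.comm_ide w.irr]; simp
  have h3 : ∀ M, MInv G M → ∀ h : P, tm P ((1 - ide Ω χ) * M) h =
      tm P M h - classInner (tm G M) χ * χ h := fun M hM h => by
    change tm G _ h = tm G _ h - _
    rw [h2 M hM, Matrix.mul_sub, Matrix.mul_one, tm_sub, hM.tm_mul_ide w.irr]; rfl
  have h4 : ∀ h : P, χ (h⁻¹ : P) = χ h := fun h => by
    rw [InvMemClass.coe_inv, w.irr.isCharacter.apply_inv]
    exact w.rat (starRingAut : ℂ ≃+* ℂ) h
  rw [h2 A hA, Matrix.mul_assoc, ← Matrix.mul_assoc (1 - _), w.F_mul_F, h2 _ hB.transpose,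
    ← Matrix.mul_assoc, Matrix.mul_sub, Matrix.mul_one, Matrix.trace_sub,
    (hA.mul hB.transpose).trace_mul_ide w.irr,
    hA.inner_mul hB.transpose w.irr.isCharacter (Or.inr w.mult), ← h2 A hA, ← h2 _ hB.transpose]
    at h1
  simp only [h3 A hA, h3 _ hB.transpose, tm_transpose, inv_inv, h4,
    inner_transpose _ w.irr.isCharacter w.rat, w.hP, w.deg] at h1
  set a := classInner (tm G A) χ
  set b := classInner (tm G B) χ
  have h5 : ∀ h : P, (tm P A h - a * χ h) * (tm P B h - b * χ h) =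
      tm P A h * tm P B h + (a * b * χ h - a * tm P B h - b * tm P A h) * χ h := fun h => by ring
  simp only [h5, Finset.sum_add_distrib, w.sum_chi, tm_apply_one, hA0, hB0, OneMemClass.coe_one,
    w.deg] at h1
  simp only [w.tm_eq (hA.subgroup P), w.tm_eq (hB.subgroup P)] at h1
  apply mul_left_cancel₀ w.p_ne
  rw [Finset.sum_congr rfl (g := fun h : P => (p : ℂ) * p *
    ((A x (h • x) + A y (h • y)) * (B x (h • x) + B y (h • y)))) (fun h _ => by ring),
    ← Finset.mul_sum] at h1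
  linear_combination h1

theorem E_eq (z z' : Ω) : 2 * (Nat.card (orbit (stabilizer G z) z') * ide Ω χ z z') =
    classInner (tm G (om G z z')) χ := by
  have h1 := (mInv_ide (Ω := Ω) w.irr.isClassFunction).trace_mul_om z z'
  rw [Matrix.trace_mul_comm, (mInv_om z z').transpose.trace_mul_ide w.irr,
    inner_transpose _ w.irr.isCharacter w.rat, w.deg, w.hn] at h1
  apply mul_left_cancel₀ w.p_ne
  push_cast at h1
  linear_combination -h1

omit [IsPretransitive G Ω] in
theorem ex_theta (z z' : Ω) : ∃ t : ℤ, classInner (tm G (om G z z')) χ = t :=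
  (mInv_om z z').inner_int (om_int z z') w.irr.isCharacter w.rat

theorem f1 {z z' : Ω} {t : ℤ} (ht : classInner (tm G (om G z z')) χ = t) :
    ∑ h : P, ((oi G z z' x (h • x) : ℤ) + oi G z z' y (h • y)) =
      Nat.card (orbit (stabilizer G z) z') + t := by
  have := w.sum_eq (mInv_om z z')
  simp only [om_inner_one, ht, om_eq_oi] at this
  exact_mod_cast this

theorem f2 {z z' c c' : Ω} (hz : z' ≠ z) (hc : c' ≠ c) {t s : ℤ}
    (ht : classInner (tm G (om G z z')) χ = t) (hs : classInner (tm G (om G c c')) χ = s) :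
    2 * (Nat.card (orbit (stabilizer G c) c') * oi G z z' c c' : ℤ) = 2 * t * s +
      ∑ h : P, ((oi G z z' x (h • x) : ℤ) + oi G z z' y (h • y)) *
        (oi G c c' x (h • x) + oi G c c' y (h • y)) := by
  have := w.gram (mInv_om z z') (mInv_om c c') (om_trace hz) (om_trace hc)
  rw [(mInv_om z z').trace_mul_om, w.hn, Nat.cast_mul, mul_comm _ (p : ℂ), mul_assoc] at this
  have h2 := mul_left_cancel₀ w.p_ne this
  simp only [ht, hs, om_eq_oi] at h2
  exact_mod_cast h2

theorem k_eq {z z' : Ω} (hz : z' ≠ z) {t : ℤ} (ht : classInner (tm G (om G z z')) χ = t)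
    (h0 : t ≠ 0) : (Nat.card (orbit (stabilizer G z) z') : ℤ) = t * (2 * t + 1) ∧
      ide Ω χ z z' * (2 * (2 * t + 1)) = 1 := by
  have hE := mInv_ide (Ω := Ω) w.irr.isClassFunction
  have h1 := w.f1 ht
  have h2 := w.f2 hz hz ht ht
  have h3 := w.E_eq z z'
  rw [ht] at h3
  have h4 : ∀ h : P, ((oi G z z' x (h • x) : ℤ) + oi G z z' y (h • y)) *
      (oi G z z' x (h • x) + oi G z z' y (h • y)) = oi G z z' x (h • x) + oi G z z' y (h • y) := by
    intro h
    rcases oi_cases (G := G) z z' x (h • x) with e1 | ⟨e1, g1, a1, b1⟩ <;>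
    rcases oi_cases (G := G) z z' y (h • y) with e2 | ⟨e2, g2, a2, b2⟩ <;> rw [e1, e2] <;> norm_num
    have hh : h ≠ 1 := by
      rintro rfl
      rw [one_smul, ← a1] at b1
      exact hz (smul_left_cancel g1 b1)
    have h5 := w.E_add h hh
    rw [← b1, ← b2, ← a1, ← a2, hE g1, hE g2] at h5
    have h6 : ide Ω χ z z' = 0 := by linear_combination h5 / 2
    rw [h6, mul_zero, mul_zero] at h3
    exact h0 (by exact_mod_cast h3.symm)
  simp only [h4, h1, oi_self, Nat.cast_one, mul_one] at h2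
  have h7 : (Nat.card (orbit (stabilizer G z) z') : ℤ) = t * (2 * t + 1) := by linarith
  refine ⟨h7, ?_⟩
  have h8 : (Nat.card (orbit (stabilizer G z) z') : ℂ) = t * (2 * t + 1) := by exact_mod_cast h7
  have h9 : (t : ℂ) ≠ 0 := by exact_mod_cast h0
  rw [h8] at h3
  apply mul_left_cancel₀ h9
  linear_combination h3

theorem rel_of_pos {z z' c c' : Ω} (hz : z' ≠ z) (hc : c' ≠ c) {t s : ℤ}
    (ht : classInner (tm G (om G z z')) χ = t) (hs : classInner (tm G (om G c c')) χ = s)
    (h : 0 < t * s) : ∃ g : G, g • z = c ∧ g • z' = c' := by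
  have h1 := w.f2 hz hc ht hs
  rcases oi_cases (G := G) z z' c c' with e | ⟨_, e⟩
  · exfalso
    rw [e] at h1
    have : 0 ≤ ∑ h : P, ((oi G z z' x (h • x) : ℤ) + oi G z z' y (h • y)) *
        (oi G c c' x (h • x) + oi G c c' y (h • y)) := Finset.sum_nonneg fun _ _ => by positivity
    simp only [Nat.cast_zero, mul_zero] at h1
    linarith
  · exact e

theorem E_zero {z z' : Ω} (hz : z' ≠ z) (ht : classInner (tm G (om G z z')) χ = 0) (h : P)
    (h1 : h ≠ 1) : ide Ω χ x (h • x) = 0 := by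
  classical
  have hE : MInv G (ide Ω χ) := mInv_ide w.irr.isClassFunction
  have hF : MInv G (1 - ide Ω χ) := MInv.one.sub hE
  have hA := mInv_om (G := G) z z'
  have ht' : classInner (tm G (om G z z')) χ = (0 : ℤ) := by rw [ht]; simp
  have h2 := w.f1 ht'
  have h3 := w.f2 hz hz ht' ht'
  simp only [oi_self, Nat.cast_one, mul_one, mul_zero, zero_add, add_zero] at h2 h3
  have huv : ∀ k : P, oi G z z' x (k • x) = oi G z z' y (k • y) := by
    have h4 : ∑ k : P, ((oi G z z' x (k • x) : ℤ) - oi G z z' y (k • y)) ^ 2 = 0 := by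
      have : ∀ k : P, ((oi G z z' x (k • x) : ℤ) - oi G z z' y (k • y)) ^ 2 =
          2 * ((oi G z z' x (k • x) : ℤ) + oi G z z' y (k • y)) -
            ((oi G z z' x (k • x) : ℤ) + oi G z z' y (k • y)) *
            (oi G z z' x (k • x) + oi G z z' y (k • y)) := fun k => by
        rcases oi_cases (G := G) z z' x (k • x) with e1 | ⟨e1, -⟩ <;>
        rcases oi_cases (G := G) z z' y (k • y) with e2 | ⟨e2, -⟩ <;> rw [e1, e2] <;> norm_num
      simp only [this, Finset.sum_sub_distrib, ← Finset.mul_sum, h2, ← h3, sub_self]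
    intro k
    have := (Finset.sum_eq_zero_iff_of_nonneg fun _ _ => sq_nonneg _).1 h4 k (Finset.mem_univ _)
    exact_mod_cast sub_eq_zero.1 (pow_eq_zero_iff two_ne_zero |>.1 this)
  let d : Ω → ℂ := fun c => if c ∈ orbit P x then 1 else -1
  have hd : ∀ (k : P) c, d (k • c) = d c := fun k c => by
    simp only [d]
    congr 1
    exact propext ⟨fun h => by simpa using mem_orbit_of_mem_orbit' h k⁻¹,
      fun h => mem_orbit_of_mem_orbit' h k⟩
  have hD : MInv P (Matrix.diagonal d) := fun k a b => by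
    simp only [Matrix.diagonal_apply, smul_left_cancel_iff, hd]
  have hMD : ∀ M, MInv G M → ∀ k : P, tm P (M * Matrix.diagonal d) k =
      p * (M x (k • x) - M y (k • y)) := fun M hM k => by
    rw [w.tm_eq ((hM.subgroup P).mul hD), Matrix.mul_diagonal, Matrix.mul_diagonal, hd, hd]
    simp only [d, if_pos (mem_orbit_self x), if_neg w.hy]
    ring
  have hAE : om G z z' * ide Ω χ = 0 := by rw [hA.mul_ide w.irr w.mult, ht, zero_smul]
  have hAF : om G z z' * (1 - ide Ω χ) = om G z z' := by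
    rw [Matrix.mul_sub, hAE, Matrix.mul_one, sub_zero]
  have hFA : (1 - ide Ω χ) * om G z z' = om G z z' := by
    rw [Matrix.sub_mul, hA.comm_ide w.irr, hAE, Matrix.one_mul, sub_zero]
  have hX := (hF.subgroup P).mul hD
  have h5 : tm P ((1 - ide Ω χ) * Matrix.diagonal d) = 0 := by
    refine hX.isClassFunction.eq_zero_of_classInner fun lam hlam => ?_
    have hd1 := hlam.degree_eq_one_of_comm w.comm
    have h6 := (hF.subgroup P).inner_mul_idem w.F_mul_F (hA.subgroup P) hX hFA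
      (by rw [← Matrix.mul_assoc, w.F_mul_F]) hlam.isCharacter
      (Or.inr (by rw [w.tm_F, classInner_regChar_left, hd1, map_one]))
    have h7 : tm P (om G z z' * Matrix.diagonal d) = 0 := by
      funext k
      rw [hMD _ hA, om_eq_oi, om_eq_oi, huv, sub_self, mul_zero]; rfl
    rw [← Matrix.mul_assoc, hAF, h7, classInner_zero_left] at h6
    refine (mul_eq_zero.1 h6.symm).resolve_left fun h8 => ?_
    obtain ⟨mu, hmu⟩ := hlam.conj.exists_linear_of_comm w.comm
    rw [classInner_def] at h8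
    have h9 := (mul_eq_zero.1 h8).resolve_left (inv_ne_zero (card_ne_zero P))
    have h10 : ∀ k : P, tm P (om G z z') k * conj (lam k) =
        2 * p * ((oi G z z' y (k • y) : ℂ) * mu k) := fun k => by
      rw [w.tm_eq (hA.subgroup P), om_eq_oi, om_eq_oi, huv, congrFun hmu k]; ring
    simp only [h10, ← Finset.mul_sum] at h9
    have h11 := eq_zero_of_sum_lin w.hp w.hP (fun k => oi G z z' y (k • y)) (by
      have := om_diag (G := G) hz y
      rw [om_eq_oi] at this
      simpa using this) mu ((mul_eq_zero.1 h9).resolve_left (mul_ne_zero two_ne_zero w.p_ne))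
    simp only [huv, h11, Nat.cast_zero, add_zero, Finset.sum_const_zero] at h2
    have := card_orbit_pos' (G := stabilizer G z) z'
    omega
  have h6 := congrFun h5 h
  rw [hMD _ hF, Matrix.sub_apply, Matrix.sub_apply, Matrix.one_apply_ne (w.free h h1 x).symm,
    Matrix.one_apply_ne (w.free h h1 y).symm] at h6
  have h7 := (mul_eq_zero.1 h6).resolve_left w.p_ne
  linear_combination (w.E_add h h1 - h7) / 2

theorem theta_ne (hk : ∀ z z' : Ω, z' ≠ z → 2 ≤ Nat.card (orbit (stabilizer G z) z'))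
    {z z' : Ω} (hz : z' ≠ z) : classInner (tm G (om G z z')) χ ≠ 0 := by
  intro ht
  have hE : MInv G (ide Ω χ) := mInv_ide w.irr.isClassFunction
  have h1 : ∀ c c' : Ω, c' ≠ c → ide Ω χ c c' = 0 := fun c c' hc => by
    obtain ⟨s, hs⟩ := w.ex_theta c c'
    by_cases h0 : s = 0
    · have h2 := w.E_eq c c'
      rw [hs, h0, Int.cast_zero] at h2
      have : (Nat.card (orbit (stabilizer G c) c') : ℂ) ≠ 0 :=
        Nat.cast_ne_zero.2 (card_orbit_pos' _).ne'
      exact (mul_eq_zero.1 ((mul_eq_zero.1 h2).resolve_left two_ne_zero)).resolve_left this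
    by_contra hne
    have h2 := w.f1 hs
    have h3 := (w.k_eq hc hs h0).1
    have h4 : ∀ (h : P) (v : Ω), (h ≠ 1 → ide Ω χ v (h • v) = 0) → oi G c c' v (h • v) = 0 := by
      intro h v hv
      rcases oi_cases (G := G) c c' v (h • v) with e | ⟨-, g, a1, b1⟩
      · exact e
      have hh : h ≠ 1 := by
        rintro rfl
        rw [one_smul, ← a1] at b1
        exact hc (smul_left_cancel g b1)
      have := hv hh
      rw [← b1, ← a1, hE g] at this
      exact absurd this hne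
    rw [Finset.sum_eq_zero fun h _ => by
      rw [h4 h x (w.E_zero hz ht h), h4 h y fun h1 => by
        linear_combination w.E_add h h1 - w.E_zero hz ht h h1]; rfl] at h2
    have := hk c c' hc
    have h5 : s * (s + 1) = 0 := by linarith
    have h6 : s = -1 := by
      have := (mul_eq_zero.1 h5).resolve_left h0
      omega
    omega
  have h2 : ∀ c, ide Ω χ c c = 0 := fun c => by
    have h3 := hE.inner_one c
    rw [w.tm_E, w.irr.classInner_of_ne isIrrCharacter_one w.ne1,
      Finset.sum_eq_single c (fun c' _ hc => h1 c c' hc) (by simp)] at h3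
    exact h3.symm
  have h3 := congrFun w.tm_E 1
  rw [tm_apply_one, w.deg, Matrix.trace] at h3
  exact w.p_ne (h3.symm.trans (Finset.sum_eq_zero fun c _ => h2 c))

theorem main (hk : ∀ z z' : Ω, z' ≠ z → 2 ≤ Nat.card (orbit (stabilizer G z) z')) (a₀ : Ω) :
    Nat.card (orbitRel.Quotient (stabilizer G a₀) Ω) = 3 ∧ ∃ a : ℕ, 0 < a ∧
      p = 2 * a ^ 2 + 2 * a + 1 ∧ ∀ b : Ω, b ≠ a₀ →
      Nat.card (orbit (stabilizer G a₀) b) = a * (2 * a + 1) ∨
      Nat.card (orbit (stabilizer G a₀) b) = (a + 1) * (2 * a + 1) := by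
  classical
  have hE : MInv G (ide Ω χ) := mInv_ide w.irr.isClassFunction
  choose t ht using w.ex_theta a₀
  have h0 : ∀ b, b ≠ a₀ → t b ≠ 0 := fun b hb e =>
    w.theta_ne hk hb (by rw [ht, e, Int.cast_zero])
  have : Nontrivial P := Finite.one_lt_card_iff_nontrivial.1 (by rw [w.hP]; exact w.hp.one_lt)
  obtain ⟨h, h1⟩ := exists_ne (1 : P)
  have hb : ∀ v : Ω, ∃ b, b ≠ a₀ ∧ ide Ω χ a₀ b = ide Ω χ v (h • v) := fun v => by
    obtain ⟨g, hg⟩ := exists_smul_eq G v a₀
    exact ⟨g • h • v, fun e => w.free h h1 v (smul_left_cancel g (e.trans hg.symm)), by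
      rw [← hg, hE g]⟩
  obtain ⟨b₁, b₂, hb₁, hb₂, hpos, hsum⟩ : ∃ b₁ b₂, b₁ ≠ a₀ ∧ b₂ ≠ a₀ ∧ 0 < t b₁ ∧
      t b₁ + t b₂ = -1 := by
    obtain ⟨b₁, hb₁, e₁⟩ := hb x
    obtain ⟨b₂, hb₂, e₂⟩ := hb y
    have e₃ := w.E_add h h1
    rw [← e₁, ← e₂] at e₃
    have e₄ := (w.k_eq hb₁ (ht b₁) (h0 b₁ hb₁)).2
    have e₅ := (w.k_eq hb₂ (ht b₂) (h0 b₂ hb₂)).2
    have e₆ : (t b₁ : ℂ) + t b₂ = -1 := by
      linear_combination (2 * t b₁ + 1) * (2 * t b₂ + 1) * e₃ - (2 * t b₂ + 1) / 2 * e₄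
        - (2 * t b₁ + 1) / 2 * e₅
    have e₇ : t b₁ + t b₂ = -1 := by exact_mod_cast e₆
    have := h0 b₁ hb₁
    have := h0 b₂ hb₂
    rcases lt_or_ge 0 (t b₁) with h | h
    · exact ⟨b₁, b₂, hb₁, hb₂, h, e₇⟩
    · exact ⟨b₂, b₁, hb₂, hb₁, by omega, by omega⟩
  obtain ⟨a, ha⟩ := Int.eq_ofNat_of_zero_le hpos.le
  have k₁ : Nat.card (orbit (stabilizer G a₀) b₁) = a * (2 * a + 1) := by
    have := (w.k_eq hb₁ (ht b₁) (h0 b₁ hb₁)).1
    rw [ha] at this
    exact_mod_cast this
  have k₂ : Nat.card (orbit (stabilizer G a₀) b₂) = (a + 1) * (2 * a + 1) := by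
    have := (w.k_eq hb₂ (ht b₂) (h0 b₂ hb₂)).1
    rw [show t b₂ = -a - 1 by omega] at this
    zify
    linarith
  have hrel : ∀ b c, b ≠ a₀ → c ≠ a₀ → 0 < t c * t b →
      (Quotient.mk'' b : orbitRel.Quotient (stabilizer G a₀) Ω) = Quotient.mk'' c := by
    intro b c hb hc h
    rw [Quotient.eq'', orbitRel_apply, ← exists_iff_mem_orbit]
    exact w.rel_of_pos hc hb (ht c) (ht b) h
  have horb : ∀ b c : Ω, (Quotient.mk'' b : orbitRel.Quotient (stabilizer G a₀) Ω) =
      Quotient.mk'' c → orbit (stabilizer G a₀) b = orbit (stabilizer G a₀) c := fun b c h =>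
    congrArg orbitRel.Quotient.orbit h
  have hall : ∀ b, b ≠ a₀ → (Quotient.mk'' b : orbitRel.Quotient (stabilizer G a₀) Ω) =
      Quotient.mk'' b₁ ∨ (Quotient.mk'' b : orbitRel.Quotient (stabilizer G a₀) Ω) =
      Quotient.mk'' b₂ := fun b hb => by
    rcases lt_or_gt_of_ne (h0 b hb) with h | h
    · exact Or.inr (hrel _ _ hb hb₂ (mul_pos_of_neg_of_neg (by omega) h))
    · exact Or.inl (hrel _ _ hb hb₁ (mul_pos hpos h))
  have : Fintype (orbitRel.Quotient (stabilizer G a₀) Ω) := Fintype.ofFinite _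
  have n1 : (Quotient.mk'' b₁ : orbitRel.Quotient (stabilizer G a₀) Ω) ≠ Quotient.mk'' b₂ :=
    fun e => by
      rw [horb _ _ e, k₂] at k₁
      nlinarith
  have n2 : (Quotient.mk'' a₀ : orbitRel.Quotient (stabilizer G a₀) Ω) ∉
      ({Quotient.mk'' b₁, Quotient.mk'' b₂} : Finset _) := by
    simp only [Finset.mem_insert, Finset.mem_singleton, not_or]
    exact ⟨fun e => hb₁ (mk_eq_self_iff.1 e.symm), fun e => hb₂ (mk_eq_self_iff.1 e.symm)⟩
  have hu : (Finset.univ : Finset (orbitRel.Quotient (stabilizer G a₀) Ω)) =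
      {Quotient.mk'' a₀, Quotient.mk'' b₁, Quotient.mk'' b₂} := by
    symm
    refine Finset.eq_univ_of_forall fun ω => ?_
    induction ω using Quotient.inductionOn' with | h b =>
    simp only [Finset.mem_insert, Finset.mem_singleton]
    by_cases hb : b = a₀
    · exact Or.inl (by rw [hb])
    · exact Or.inr (hall b hb)
  have h4 := card_eq_sum_orbits (G := stabilizer G a₀) (Ω := Ω)
  rw [hu, Finset.sum_insert n2, Finset.sum_pair n1] at h4
  simp only [orbitRel.Quotient.orbit_mk] at h4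
  rw [card_orbit_stabilizer_self, k₁, k₂, w.hn] at h4
  refine ⟨?_, a, by omega, by nlinarith, fun b hb => ?_⟩
  · rw [Nat.card_eq_fintype_card, ← Finset.card_univ, hu, Finset.card_insert_of_notMem n2,
      Finset.card_pair n1]
  · rcases hall b hb with e | e <;> rw [horb _ _ e]
    · exact Or.inl k₁
    · exact Or.inr k₂

end W2

theorem restrict_inner_one [IsPretransitive G Ω] {s : Finset (IrrCharacter G)}
    {m : IrrCharacter G → ℕ} (h : pch G Ω = (fun _ => 1) + ∑ χ ∈ s, (m χ : ℂ) • (χ : G → ℂ))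
    (H : Subgroup G) [Fintype H] : ∃ a : IrrCharacter G → ℕ,
      (∀ χ : IrrCharacter G, classInner (fun h : H => (χ : G → ℂ) h) (fun _ => 1) = a χ) ∧
      classInner (pch H Ω) (fun _ => 1) = (1 + ∑ χ ∈ s, m χ * a χ : ℕ) := by
  choose a ha using fun χ : IrrCharacter G =>
    (χ.2.isCharacter.restrict H).classInner_nat isCharacter_one
  refine ⟨a, ha, ?_⟩
  have h1 : pch H Ω = (fun _ => 1) + ∑ χ ∈ s, (m χ : ℂ) • fun h : H => (χ : G → ℂ) h := by
    funext k
    have := congrFun h k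
    simp only [Pi.add_apply, Finset.sum_apply, Pi.smul_apply] at this ⊢
    exact this
  rw [h1, classInner_add_left, classInner_sum_left, isIrrCharacter_one.classInner_self]
  simp only [classInner_smul_left, ha]
  push_cast
  rfl

omit [Fintype G] in
theorem two_of_rank [IsPretransitive G Ω] (a : Ω)
    (h : Nat.card (orbitRel.Quotient (stabilizer G a) Ω) = 2) : IsMultiplyPretransitive G Ω 2 := by
  have h1 : ∀ b c, b ≠ a → c ≠ a → ∃ g : G, g • a = a ∧ g • b = c := fun b c hb hc => by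
    rw [exists_iff_mem_orbit, ← orbitRel_apply, ← Quotient.eq'']
    obtain ⟨ω, -, h2⟩ := (Nat.card_eq_two_iff' (Quotient.mk'' a)).1 h
    exact (h2 _ fun e => hc (mk_eq_self_iff.1 e)).trans (h2 _ fun e => hb (mk_eq_self_iff.1 e)).symm
  rw [is_two_pretransitive_iff]
  intro b c b' c' hbc hbc'
  obtain ⟨g, hg⟩ := exists_smul_eq G b a
  obtain ⟨g', hg'⟩ := exists_smul_eq G b' a
  obtain ⟨k, k1, k2⟩ := h1 (g • c) (g' • c')
    (fun e => hbc (smul_left_cancel g (hg.trans e.symm)))
    (fun e => hbc' (smul_left_cancel g' (hg'.trans e.symm)))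
  exact ⟨g'⁻¹ * k * g, by rw [mul_smul, mul_smul, hg, k1, ← hg', inv_smul_smul],
    by rw [mul_smul, mul_smul, k2, inv_smul_smul]⟩

omit [Fintype G] in
theorem exists_two_orbits {p : ℕ} (hp : 0 < p) (hn : Fintype.card Ω = 2 * p) (P : Subgroup G)
    [Fintype P] (hP : Nat.card P = p) (hf : ∀ h : P, h ≠ 1 → ∀ z : Ω, h • z ≠ z) (x : Ω) :
    ∃ y, y ∉ orbit P x ∧ ∀ f : Ω → ℂ, ∑ z, f z = ∑ k : P, f (k • x) + ∑ k : P, f (k • y) := by
  classical
  have hi : ∀ z : Ω, Function.Injective fun k : P => k • z := fun z k l hkl => by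
    by_contra hne
    refine hf (l⁻¹ * k) (fun e => hne (inv_mul_eq_one.1 e).symm) z ?_
    rw [mul_smul, inv_smul_eq_iff]
    exact hkl
  rw [Nat.card_eq_fintype_card] at hP
  obtain ⟨y, hy⟩ : ∃ y, y ∉ orbit P x := by
    by_contra hc
    push Not at hc
    have := Fintype.card_le_of_surjective (fun k : P => k • x) hc
    omega
  refine ⟨y, hy, fun f => ?_⟩
  have hb : Function.Bijective (Sum.elim (fun k : P => k • x) (fun k : P => k • y)) := by
    rw [Fintype.bijective_iff_injective_and_card, Fintype.card_sum, hP, hn, two_mul]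
    refine ⟨(hi x).sumElim (hi y) fun k l e => hy ⟨l⁻¹ * k, ?_⟩, rfl⟩
    simp only [mul_smul, inv_smul_eq_iff]
    exact e
  rw [← hb.sum_comp, Fintype.sum_sum_type]
  rfl

theorem wielandt_free [FaithfulSMul G Ω] [IsPreprimitive G Ω] {p : ℕ} (hp : p.Prime)
    (hn : Fintype.card Ω = 2 * p) (P : Subgroup G) (hP : Nat.card P = p)
    (hf : ∀ h : P, h ≠ 1 → ∀ z : Ω, h • z ≠ z) (a₀ : Ω) : IsMultiplyPretransitive G Ω 2 ∨
    (Nat.card (orbitRel.Quotient (stabilizer G a₀) Ω) = 3 ∧ ∃ a : ℕ, 0 < a ∧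
      p = 2 * a ^ 2 + 2 * a + 1 ∧ ∀ b : Ω, b ≠ a₀ →
      Nat.card (orbit (stabilizer G a₀) b) = a * (2 * a + 1) ∨
      Nat.card (orbit (stabilizer G a₀) b) = (a + 1) * (2 * a + 1)) := by
  classical
  have hp0 : (p : ℂ) ≠ 0 := Nat.cast_ne_zero.2 hp.ne_zero
  obtain ⟨s, m, hs, hm, h1, h2⟩ := exists_mult (G := G) a₀
  obtain ⟨a, ha, h3⟩ := restrict_inner_one h1 P
  have h4 : classInner (pch P Ω) (fun _ => 1) = 2 := by
    rw [classInner_one_right, Finset.sum_eq_single 1, pch_one, hn, hP]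
    · push_cast; field_simp
    · intro h _ h1
      have : IsEmpty (fixedBy Ω h) := ⟨fun z => hf h h1 z z.2⟩
      simp [pch]
    · simp
  have h5 : ∑ χ ∈ s, m χ * a χ = 1 := by
    have : ((1 + ∑ χ ∈ s, m χ * a χ : ℕ) : ℂ) = (2 : ℕ) := by rw [← h3, h4]; simp
    have := Nat.cast_injective this
    omega
  obtain ⟨χ, hχ, hne⟩ := Finset.exists_ne_zero_of_sum_ne_zero
    (h5 ▸ one_ne_zero : ∑ χ ∈ s, m χ * a χ ≠ 0)
  rw [← Finset.add_sum_erase s _ hχ] at h5
  have h6 : m χ * a χ = 1 := by omega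
  have hm1 : m χ = 1 := Nat.eq_one_of_mul_eq_one_right h6
  have ha1 : a χ = 1 := Nat.eq_one_of_mul_eq_one_left h6
  have h7 : ∀ ψ ∈ s, ψ ≠ χ → m ψ * a ψ = 0 := fun ψ hψ hψχ =>
    Finset.sum_eq_zero_iff.1 (by omega : ∑ x ∈ s.erase χ, m x * a x = 0) ψ
      (Finset.mem_erase.2 ⟨hψχ, hψ⟩)
  have hne1 := (hs χ).1 hχ
  have hrat : ∀ (σ : ℂ ≃+* ℂ) g, σ (χ.1 g) = χ.1 g := fun σ => by
    by_contra hc
    let ψ : IrrCharacter G := ⟨_, χ.2.map_ringEquiv σ⟩
    have e1 : m ψ = 1 := by
      have := pch_inner_map (Ω := Ω) χ.2.isCharacter σ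
      rw [hm χ, hm1, map_natCast] at this
      exact_mod_cast (hm ψ).symm.trans this
    have e2 : a ψ = 1 := by
      have := isGeneralizedCharacter_one.classInner_map_ringHom (fun h : P => χ.1 h) σ.toRingHom
      rw [ha χ, ha1, map_natCast] at this
      simp only [map_one] at this
      exact_mod_cast (ha ψ).symm.trans this
    have := h7 ψ ((hs ψ).2 fun e => hne1 (funext fun g =>
      σ.injective ((congrFun e g).trans (map_one σ).symm))) fun e => hc fun g =>
        congrFun (congrArg Subtype.val e) g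
    rw [e1, e2] at this
    omega
  have : Nontrivial P := Finite.one_lt_card_iff_nontrivial.1 (by rw [hP]; exact hp.one_lt)
  obtain ⟨g, hg⟩ := exists_ne (1 : P)
  obtain ⟨v, hv⟩ := exists_int_of_forall_ringEquiv (χ.2.isCharacter.isIntegral g) fun σ => hrat σ g
  have hvv : ∀ h : P, h ≠ 1 → χ.1 h = v := fun h h1 => by
    have := Fact.mk hp
    obtain ⟨k, rfl⟩ : h ∈ Submonoid.powers g := mem_powers_of_prime_card hP hg
    have hgp : g ^ p = 1 := by rw [← hP]; exact pow_card_eq_one'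
    have hk : k.Coprime p := by
      rw [Nat.coprime_comm, hp.coprime_iff_not_dvd]
      rintro ⟨l, rfl⟩
      exact h1 (by simp only [pow_mul, hgp, one_pow])
    obtain ⟨σ, hσ⟩ := exists_ringEquiv_pow hp.ne_zero hk
    have := χ.2.isGeneralizedCharacter.map_eq_apply_pow σ.toRingHom hσ
      (g := (g : G)) (by exact_mod_cast hgp)
    rw [← hv, ← hrat σ g]
    exact this.symm
  obtain ⟨d, hd0, hd⟩ := χ.2.exists_pos_degree
  have h8 : (d : ℤ) + (p - 1) * v = p := by
    have := ha χ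
    rw [classInner_one_right, ha1, ← Finset.add_sum_erase _ _ (Finset.mem_univ 1),
      Finset.sum_congr rfl fun h hh => hvv h (Finset.mem_erase.1 hh).1, Finset.sum_const,
      Finset.card_erase_of_mem (Finset.mem_univ _), Finset.card_univ, ← Nat.card_eq_fintype_card,
      hP, OneMemClass.coe_one, hd, nsmul_eq_mul, Nat.cast_sub hp.one_le,
      inv_mul_eq_iff_eq_mul₀ hp0] at this
    simp only [Nat.cast_one, mul_one] at this
    exact_mod_cast this
  choose dg hdg0 hdg using fun ψ : IrrCharacter G => ψ.2.exists_pos_degree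
  have h9 : 2 * p = 1 + (d + ∑ ψ ∈ s.erase χ, m ψ * dg ψ) := by
    have := congrFun h1 1
    rw [pch_one, hn, Pi.add_apply, Finset.sum_apply, ← Finset.add_sum_erase s _ hχ] at this
    simp only [Pi.smul_apply, hdg, hm1, smul_eq_mul] at this
    rw [← hdg χ, hd] at this
    rw [Nat.cast_one, one_mul] at this
    exact_mod_cast this
  have hp2 := hp.two_le
  have h10 : v = 1 ∨ v = 0 ∨ v = -1 ∨ (v = -2 ∧ p = 2) := by
    have e1 : v ≤ 1 := by nlinarith
    have e2 : (d : ℤ) ≤ 2 * p - 1 := by omega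
    have e3 : -1 ≤ v := by nlinarith
    omega
  rcases h10 with rfl | rfl | h10
  · exfalso
    have hN : (charKer χ.1).Normal := χ.2.charKer_normal
    have hd1 : χ.1 1 = 1 := by rw [hd, show d = 1 by omega, Nat.cast_one]
    have := Perm.isPretransitive_of_normal (α := Ω) (charKer χ.1) fun e => hg (by
      have : (g : G) ∈ charKer χ.1 := χ.2.mem_charKer.2 (by rw [hv, hd1, Int.cast_one])
      rw [e] at this
      exact Subtype.ext this)
    obtain ⟨b, hb, h11⟩ := restrict_inner_one h1 (charKer χ.1)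
    rw [pch_inner_one a₀] at h11
    have h12 : 1 = 1 + ∑ ψ ∈ s, m ψ * b ψ := by exact_mod_cast h11
    have h13 := Finset.sum_eq_zero_iff.1 (by omega : ∑ ψ ∈ s, m ψ * b ψ = 0) χ hχ
    have h14 := hb χ
    rw [show (fun h : charKer χ.1 => χ.1 h) = fun _ => 1 from
      funext fun h => (apply_eq_of_mem_charKer h.2).trans hd1, isIrrCharacter_one.classInner_self]
      at h14
    have h15 : b χ = 1 := by exact_mod_cast h14.symm
    rw [hm1, h15] at h13
    omega
  · right
    obtain ⟨y, hy, hsum⟩ := exists_two_orbits hp.pos hn P hP hf a₀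
    have w : W2 p P χ.1 a₀ y := ⟨hp, hn, hP, hsum, hf, hy, χ.2, by rw [hm, hm1, Nat.cast_one], hne1,
      hrat, by rw [hd, show d = p by omega], fun h h1 => by rw [hvv h h1, Int.cast_zero],
      fun ψ hψ e1 e2 => by
        rcases Nat.mul_eq_zero.1 (h7 ⟨ψ, hψ⟩ ((hs _).2 e1) fun e => e2 (congrArg Subtype.val e))
          with h | h
        · left; rw [hm ⟨ψ, hψ⟩, h, Nat.cast_zero]
        · right; rw [ha ⟨ψ, hψ⟩, h, Nat.cast_zero]⟩
    refine w.main (fun z z' hz => two_le_subdegree (fun hq => ?_) hz) a₀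
    rw [Nat.card_eq_fintype_card, hn] at hq
    exact Nat.not_prime_mul (by norm_num) hp.one_lt.ne' hq
  · left
    refine two_of_rank a₀ ?_
    have h11 : ∑ ψ ∈ s.erase χ, m ψ * dg ψ = 0 := by
      rcases h10 with rfl | ⟨rfl, rfl⟩ <;> omega
    rw [h2, ← Finset.add_sum_erase s _ hχ, hm1, Finset.sum_eq_zero fun ψ hψ => by
      rw [(Nat.mul_eq_zero.1 (Finset.sum_eq_zero_iff.1 h11 ψ hψ)).resolve_right (hdg0 ψ).ne']; rfl]
    rfl

theorem wielandt_two_p {α : Type*} [Fintype α] [DecidableEq α] {p : ℕ} (hp : p.Prime)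
    (hα : Fintype.card α = 2 * p) (G : Subgroup (Equiv.Perm α)) (hG : IsPreprimitive G α)
    (a₀ : α) : IsMultiplyPretransitive G α 2 ∨
    (Nat.card (orbitRel.Quotient (stabilizer G a₀) α) = 3 ∧ ∃ a : ℕ, 0 < a ∧
      p = 2 * a ^ 2 + 2 * a + 1 ∧ ∀ b : α, b ≠ a₀ →
      Nat.card (orbit (stabilizer G a₀) b) = a * (2 * a + 1) ∨
      Nat.card (orbit (stabilizer G a₀) b) = (a + 1) * (2 * a + 1)) := by
  classical
  have := Fact.mk hp
  have hd : p ∣ Nat.card G := by
    refine Dvd.dvd.trans ?_ (stabilizer G a₀).index_dvd_card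
    rw [index_stabilizer_of_transitive, Nat.card_eq_fintype_card, hα]
    exact Dvd.intro_left 2 rfl
  obtain ⟨g, hg⟩ := exists_prime_orderOf_dvd_card' p hd
  have hg' : orderOf (g : Equiv.Perm α) = p := by rw [Subgroup.orderOf_coe, hg]
  rcases lt_or_ge (g : Equiv.Perm α).support.card (2 * p) with h | h
  · left
    have hc : (g : Equiv.Perm α).IsCycle :=
      Equiv.Perm.isCycle_of_prime_order (hg' ▸ hp) (hg' ▸ h)
    refine hG.is_two_pretransitive (n := p - 1) ?_ ?_
      (Equiv.Perm.isPretransitive_of_isCycle_mem hc g.2)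
    · have h1 := Set.ncard_add_ncard_compl ((g : Equiv.Perm α).support : Set α)
      rw [Set.ncard_coe_finset, ← hc.orderOf, hg', Nat.card_eq_fintype_card, hα] at h1
      have := hp.pos
      omega
    · rw [Nat.card_eq_fintype_card, hα]
      have := hp.two_le
      omega
  · have hs : (g : Equiv.Perm α).support = Finset.univ :=
      Finset.eq_univ_of_card _ (le_antisymm (Finset.card_le_univ _) (hα ▸ h))
    have hP : Nat.card (Subgroup.zpowers g) = p := by rw [Nat.card_zpowers, hg]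
    refine wielandt_free hp hα (Subgroup.zpowers g) hP (fun k hk z hz => ?_) a₀
    have h1 : (⟨g, Subgroup.mem_zpowers g⟩ : Subgroup.zpowers g) ∈ stabilizer _ z :=
      (Subgroup.zpowers_le.2 hz : Subgroup.zpowers k ≤ stabilizer _ z)
        (mem_zpowers_of_prime_card hP hk)
    exact Equiv.Perm.mem_support.1 (hs ▸ Finset.mem_univ z) h1

end Cfsg.Lib.Hall
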