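import Cfsg.Agent.Lib.Hall.ClassSize
import Cfsg.Agent.Lib.Amalg.Bridge
import Cfsg.Agent.Lib.Coprime.CycSyl
import Cfsg.Agent.Lib.Clifford.Fixed
import Cfsg.Agent.Lib.Exc.D8

/-! `p`-by-cyclic subgroups -/

set_option autoImplicit false

namespace Cfsg.Lib.Hall

open Subgroup Cfsg.Lib.Core Cfsg.Lib.Amalg

variable {G : Type*} [Group G] [Finite G] {p : ℕ} [Fact p.Prime]

theorem of_pbc {C : Subgroup G → Prop} (h : ∀ H : Subgroup G, (∀ S : Sylow p H, (S : Subgroup H).Normal) →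
    (∀ (S : Sylow p H) [(S : Subgroup H).Normal], IsCyclic (H ⧸ (S : Subgroup H))) → C H)
    {S : Subgroup G} (hS : IsPGroup p S) {x : G} (hx : x ∈ 𝐍 S) : C (S ⊔ zpowers x) := by
  haveI : (S.subgroupOf (S ⊔ zpowers x)).Normal := normal_subgroupOf_of_le_normalizer (sup_le le_normalizer (zpowers_le.2 hx))
  have e : S.subgroupOf (S ⊔ zpowers x) ⊔ zpowers ⟨x, mem_sup_right (mem_zpowers x)⟩ = ⊤ :=
    map_injective (subtype_injective _) (by
      rw [Subgroup.map_sup, map_subtype_subgroupOf_of_le le_sup_left, MonoidHom.map_zpowers, ← MonoidHom.range_eq_map, range_subtype]; rfl)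
  have le : ∀ T : Sylow p ↥(S ⊔ zpowers x), S.subgroupOf (S ⊔ zpowers x) ≤ T := fun T =>
    (syl_top T).le_of_normal hS.comap_subtype le_top le_normalizer_of_normal
  exact h _ (fun T => Normal.of_commutator_le _ ((PGrp.commutator_le_of_sup_zpowers_eq_top e).trans (le T))) fun T _ =>
    (PGrp.isCyclic_quotient_iff _).2 ⟨_, top_le_iff.1 (e.ge.trans (sup_le_sup_right (le T) _))⟩

theorem exists_pbc (P : Sylow p G) {H : Subgroup G} (h1 : ∀ S : Sylow p H, (S : Subgroup H).Normal)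
    (h2 : ∀ (S : Sylow p H) [(S : Subgroup H).Normal], IsCyclic (H ⧸ (S : Subgroup H))) :
    ∃ (S : Subgroup G) (x : G), S ≤ P ∧ Syl p S (S ⊔ zpowers x) ∧ (orderOf x).Coprime p ∧ x ∈ 𝐍 S ∧ Nonempty (H ≃* ↥(S ⊔ zpowers x)) := by
  obtain ⟨T⟩ : Nonempty (Sylow p H) := inferInstance
  haveI := h1 T
  obtain ⟨b, hb⟩ := (PGrp.isCyclic_quotient_iff _).1 (h2 T)
  obtain ⟨x, hx, y, hy, e, a1, a2⟩ := exists_pPart (Fact.out : p.Prime) b
  have hxT : x ∈ T := (syl_top T).le_of_le_normalizer' a1 le_top le_normalizer_of_normal (mem_zpowers x)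
  have e1 : (T : Subgroup H) ⊔ zpowers y = ⊤ := top_le_iff.1 (hb.ge.trans (sup_le le_sup_left (zpowers_le.2
    (e ▸ mul_mem (mem_sup_left hxT) (mem_sup_right (mem_zpowers y))))))
  have e2 : (T : Subgroup H).map H.subtype ⊔ zpowers (y : G) = H := by
    have := congrArg (map H.subtype) e1
    rwa [Subgroup.map_sup, MonoidHom.map_zpowers, ← MonoidHom.range_eq_map, range_subtype] at this
  obtain ⟨g, -, hg⟩ := (syl_top P).exists_conj_le (syl_of_sylow T).isPGroup le_top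
  have e3 : cj g ((T : Subgroup H).map H.subtype) ⊔ zpowers (g * y * g⁻¹) = cj g H := by rw [← cj_zpowers, ← cj_sup, e2]
  refine ⟨_, g * y * g⁻¹, hg, e3 ▸ (syl_of_sylow T).conj g, ?_, ?_, e3 ▸ ⟨cjEquiv g H⟩⟩
  · rwa [show orderOf (g * y * g⁻¹) = orderOf y from ((MulAut.conj g).orderOf_eq (y : G)).trans (orderOf_coe y)]
  · rw [← cj_normalizer]
    exact conj_mem_cj g (PGrp.le_normalizer_map_subtype (h1 T) y.2)

theorem isCyclic_pbc {S : Subgroup G} (hS : IsPGroup p S) (hc : IsCyclic S) {x : G} (h1 : (orderOf x).Coprime p) (h2 : x ∈ 𝐂 S) :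
    IsCyclic ↥(S ⊔ zpowers x) :=
  Clifford.isCyclic_sup_of_coprime hc inferInstance (fun a ha _ hb => (zpowers_le.2 h2 hb a ha))
    (coprime_card_of_isPGroup Fact.out hS (by rwa [Nat.card_zpowers]))

end Cfsg.Lib.Hall
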