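import Cfsg.Agent.Lib.Hall.Product
import Cfsg.Agent.Lib.Clifford.Cover
import Cfsg.Prelude.Def_DegreeGraph
import Mathlib.GroupTheory.FiniteAbelian.Duality
import Mathlib.RingTheory.RootsOfUnity.AlgebraicallyClosed

/-! # The common divisor graph of relative character degrees -/

set_option autoImplicit false
set_option linter.unusedSectionVars false
set_option linter.style.haveILetI false

namespace Cfsg.Lib.Hall.RD

open Cfsg Cfsg.Lib Subgroup Cfsg.Lib.Clifford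

variable {G : Type*} [Group G] [Finite G] {N : Subgroup G} [hN : N.Normal] {θ lam w : G → ℂ} {a b c l : ℕ}

/-- `a` is the degree of an irreducible character over `θ` -/
def Ov (N : Subgroup G) (θ : G → ℂ) (a : ℕ) : Prop := ∃ χ, IrrOn ⊤ χ ∧ dot N χ θ ≠ 0 ∧ charDegree χ = a

/-- the `k`-th power is trivial on `N` -/
def Pw (N : Subgroup G) (θ : G → ℂ) (k : ℕ) : Prop := ∀ n ∈ N, θ n ^ k = 1

/-- the inertia group -/
abbrev I (N : Subgroup G) (θ : G → ℂ) : Subgroup G := inertia ⊤ N θ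

theorem mem_I {g : G} : g ∈ I N θ ↔ ∀ n ∈ N, θ (g * n * g⁻¹) = θ n := by
  rw [mem_inertia (nrm_of_normal ⊤ N)]; simp

theorem Pw.dvd (h : Pw N θ a) (hd : a ∣ b) : Pw N θ b := fun n hn => by
  obtain ⟨k, rfl⟩ := hd; rw [pow_mul, h n hn, one_pow]

theorem Pw.one (h : Pw N θ a) (h' : Pw N θ b) (hc : a.Coprime b) : Pw N θ 1 := fun n hn => by
  have := pow_gcd_eq_one.2 ⟨h n hn, h' n hn⟩
  rwa [hc.gcd_eq_one] at this

theorem exists_ov (h : IrrOn N θ) : ∃ a, Ov N θ a :=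
  let ⟨χ, h1, h2⟩ := h.exists_over (le_top : N ≤ ⊤); ⟨_, χ, irrOn_of_mem h1, h2, rfl⟩

theorem Ov.dvd (h : Ov N θ a) (hθ : IrrOn N θ) : (I N θ).index * charDegree θ ∣ a := by
  obtain ⟨χ, h1, h2, rfl⟩ := h
  rw [clifford_deg le_top (nrm_of_normal ⊤ N) h1 hθ h2, relIndex_top_right]
  exact Dvd.intro_left _ rfl

theorem Ov.idvd (h : Ov N θ a) (hθ : IrrOn N θ) : (I N θ).index ∣ a := (Dvd.intro _ rfl).trans (h.dvd hθ)
theorem Ov.ddvd (h : Ov N θ a) (hθ : IrrOn N θ) : charDegree θ ∣ a := (Dvd.intro_left _ rfl).trans (h.dvd hθ)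

theorem triv_iff (hθ : IrrOn N θ) : Triv N θ ↔ Pw N θ 1 := by
  refine ⟨fun h n hn => ?_, fun h n hn => by simpa using (h n hn).trans (h 1 N.one_mem).symm⟩
  have := ((hθ.linOn_iff).2 (h.mono (Subgroup.commutator_le_self N))).2
  rw [pow_one, h n hn, this]

theorem Ov.mem (h : Ov N θ a) (hθ : IrrOn N θ) (h0 : ¬ Pw N θ 1) : a ∈ relCharDegrees N := by
  obtain ⟨χ, h1, h2, rfl⟩ := h
  refine ⟨⟨χ, irrOn_top.1 h1⟩, ?_, rfl⟩
  by_contra! h3
  exact h0 ((triv_iff hθ).1 ((triv_iff_of_dot le_top le_rfl (nrm_of_normal ⊤ N) h1 hθ h2).1 h3))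

theorem exists_under (h : a ∈ relCharDegrees N) : ∃ θ, IrrOn N θ ∧ ¬ Pw N θ 1 ∧ Ov N θ a := by
  obtain ⟨χ, ⟨x, hx, h1⟩, rfl⟩ := h
  have h2 := irrOn_top.2 χ.2
  obtain ⟨θ, hθ, hd⟩ := h2.exists_under (le_top : N ≤ ⊤)
  have h3 := irrOn_of_mem hθ
  exact ⟨θ, h3, fun h => h1 ((triv_iff_of_dot le_top le_rfl (nrm_of_normal ⊤ N) h2 h3 hd).2 ((triv_iff h3).2 h) x hx),
    χ, h2, hd, rfl⟩

theorem Ov.ext (h : Ov N θ a) (hθ : IrrOn N θ) :
    ∃ δ e, LinOn (I N θ) δ ∧ e ∣ a ∧ ∀ n ∈ N, δ n = detOn N θ n ^ e := by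
  obtain ⟨χ, h1, h2, rfl⟩ := h
  have hn := nrm_of_normal ⊤ N
  obtain ⟨ψ, hψ, h3, -, h4⟩ := exists_ind_inertia le_top hn hθ h1 h2
  have hψ' := irrOn_of_mem hψ
  have hle := le_inertia le_top hn hθ.classOn
  refine ⟨detOn _ ψ, mult N ψ θ, linOn_detOn _ _, ?_, fun n hn' => ?_⟩
  · have : mult N ψ θ = mult N χ θ := by unfold mult; rw [h4]
    rw [clifford_deg le_top hn h1 hθ h2, this]; exact Dvd.intro _ rfl
  · rw [← hψ'.charOn.detOn_mono hle hn', detOn_congr (ψ := (mult N ψ θ : ℂ) • θ) fun x hx =>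
      clifford_invOn hle (hn.mono le_top) hψ' hθ (invOn_inertia hn) h3 hx, hθ.charOn.detOn_smul _ hn']

theorem pw_of_ext (hG : N ≤ _root_.commutator G) {S : Subgroup G} (hS : N ≤ S) {δ : G → ℂ} (hδ : LinOn S δ)
    (hi : I N lam = ⊤) {k : ℕ} (e : ∀ n ∈ N, δ n = lam n ^ k) : Pw N lam (k * S.index) := by
  obtain ⟨μ, h1, h2⟩ := hδ.exists_pow_ext hS le_top (nrm_of_normal ⊤ N) fun g _ n hn => by
    rw [e n hn, e _ (hN.conj_mem n hn g), (mem_I (θ := lam)).1 (hi ▸ mem_top g) n hn]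
  intro n hn
  rw [pow_mul, ← e n hn, ← relIndex_top_right, ← h2 n hn]
  exact (h1.mem_kerOn.1 (h1.commutator_le (hG hn))).2

theorem le_I (hθ : IrrOn N θ) : N ≤ I N θ := le_inertia le_top (nrm_of_normal ⊤ N) hθ.classOn

theorem Ov.pw (hG : N ≤ _root_.commutator G) (h : Ov N lam a) (hl : LinOn N lam) (hi : I N lam = ⊤) : Pw N lam a := by
  obtain ⟨δ, e, h1, h2, h3⟩ := h.ext hl.irrOn
  have := pw_of_ext hG (le_I hl.irrOn) h1 hi (k := e) fun n hn => by rw [h3 n hn, hl.detOn_eq hn]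
  rw [hi, index_top, mul_one] at this
  exact this.dvd h2

theorem lin_of (hθ : IrrOn N θ) (h : charDegree θ = 1) : LinOn N θ := hθ.charOn.linOn_of_deg h

theorem clique (hG : N ≤ _root_.commutator G) (hθ : IrrOn N θ) (h0 : ¬ Pw N θ 1) (ha : Ov N θ a) (hb : Ov N θ b) :
    ¬ a.Coprime b := fun hc => by
  have h1 := Nat.eq_one_of_dvd_coprimes hc (ha.dvd hθ) (hb.dvd hθ)
  have hl := lin_of hθ (Nat.eq_one_of_mul_eq_one_left h1)
  have hi := index_eq_one.1 (Nat.eq_one_of_mul_eq_one_right h1)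
  exact h0 ((ha.pw hG hl hi).one (hb.pw hG hl hi) hc)

theorem exists_w (hl : LinOn N lam) (h0 : I N lam ≠ ⊤) (h1 : (I N θ).index.Coprime (I N lam).index)
    (h2 : (I N lam).index.Coprime (I N (θ * lam)).index) :
    ∃ w, LinOn N w ∧ ¬ Pw N w 1 ∧ (∀ k, Pw N lam k → Pw N w k) ∧
      ∀ h : G, ∃ h' : G, ∀ n ∈ N, θ (h * n * h⁻¹) * w n = θ (h' * n * h'⁻¹) := by
  obtain ⟨x, hx⟩ : ∃ x, x ∉ I N lam := by
    by_contra! h; exact h0 (eq_top_iff.2 fun x _ => h x)
  have hc : LinOn N (cj x lam) := (hl.irrOn.cj (nrm_of_normal ⊤ N) (mem_top x)).linOn (by rw [cj_at_one, hl.2])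
  have e : ∀ n ∈ N, (lam * star (cj x lam)) n * lam (x * n * x⁻¹) = lam n := fun n hn => by
    have := hc.mul_conj hn
    rw [cj_apply] at this
    simp only [Pi.mul_apply, Pi.star_apply, RCLike.star_def, cj_apply]
    rw [mul_assoc, mul_comm _ (lam (x * n * x⁻¹)), this, mul_one]
  refine ⟨_, hl.mul hc.star, fun h => hx (mem_I.2 fun n hn => ?_), fun k hk n hn => ?_, fun h => ?_⟩
  · rw [← e n hn, ← pow_one ((lam * star (cj x lam)) n), h n hn, one_mul]
  · have := congrArg (· ^ k) (e n hn)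
    simpa only [mul_pow, hk n hn, hk _ (hN.conj_mem n hn x), mul_one] using this
  · obtain ⟨s, hs, t, ht, rfl⟩ := factor_of_coprime_index h1 h
    obtain ⟨t₁, ht₁, u, hu, e'⟩ := factor_of_coprime_index h2 (x * t⁻¹)
    refine ⟨u * t, fun n hn => ?_⟩
    have hn' := hN.conj_mem n hn t
    have a1 := mem_I.1 hs _ hn'
    have a2 := mem_I.1 ht _ hn
    have a3 := mem_I.1 hu _ hn'
    have a4 := mem_I.1 ht₁ _ (hN.conj_mem _ hn' u)
    have b1 : s * t * n * (s * t)⁻¹ = s * (t * n * t⁻¹) * s⁻¹ := by group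
    have b2 : u * t * n * (u * t)⁻¹ = u * (t * n * t⁻¹) * u⁻¹ := by group
    have b3 : t₁ * (u * (t * n * t⁻¹) * u⁻¹) * t₁⁻¹ = x * n * x⁻¹ := by
      rw [show x = t₁ * u * t by rw [← e']; group]; group
    rw [b3] at a4
    refine mul_right_cancel₀ (hl.ne_zero (hN.conj_mem n hn x)) ?_
    rw [b1, b2, a1, mul_assoc, e n hn, a4, ← a2]
    exact a3.symm

theorem exists_prime_pow {M : Type*} [Monoid M] {x : M} (h : x ≠ 1) {m : ℕ} (hm : m ≠ 0) (e : x ^ m = 1) :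
    ∃ p j : ℕ, p.Prime ∧ p ∣ m ∧ (x ^ j) ^ p = 1 ∧ x ^ j ≠ 1 := by
  have h1 := orderOf_dvd_of_pow_eq_one e
  have h2 : orderOf x ≠ 1 := fun e => h (orderOf_eq_one_iff.1 e)
  have h3 : orderOf x ≠ 0 := ne_zero_of_dvd_ne_zero hm h1
  obtain ⟨j, hj⟩ := Nat.minFac_dvd (orderOf x)
  have hp := Nat.minFac_prime h2
  have hj0 : j ≠ 0 := by rintro rfl; exact h3 hj
  refine ⟨_, j, hp, (Nat.minFac_dvd _).trans h1, by rw [← pow_mul, mul_comm, ← hj, pow_orderOf_eq_one],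
    pow_ne_one_of_lt_orderOf hj0 ?_⟩
  conv_rhs => rw [hj]
  exact lt_mul_of_one_lt_left (Nat.pos_of_ne_zero hj0) hp.one_lt

theorem not_coprime_of_w (hθ : IrrOn N θ) (hw : LinOn N w) (h0 : ¬ Pw N w 1) {m : ℕ} (hm : m ≠ 0) (h1 : Pw N w m)
    (h : ∀ h : G, ∃ h' : G, ∀ n ∈ N, θ (h * n * h⁻¹) * w n = θ (h' * n * h'⁻¹)) :
    ¬ ((I N θ).index * charDegree θ).Coprime m := fun hc => by
  classical
  have hn := nrm_of_normal ⊤ N
  obtain ⟨p, j, hp, hpm, e1, e2⟩ := exists_prime_pow (x := res N w)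
    (fun e => h0 fun n hn => by rw [pow_one]; exact congrFun e ⟨n, hn⟩) hm (funext fun n => h1 n n.2)
  haveI := Fact.mk hp
  have hj : ∀ j : ℕ, ∀ h : G, ∃ h' : G, ∀ n ∈ N, θ (h * n * h⁻¹) * w n ^ j = θ (h' * n * h'⁻¹) := by
    intro j
    induction j with
    | zero => exact fun h => ⟨h, by simp⟩
    | succ j ih =>
      intro g
      obtain ⟨g', hg⟩ := ih g
      obtain ⟨g'', hg'⟩ := h g'
      exact ⟨g'', fun n hn => by rw [pow_succ, ← mul_assoc, hg n hn, hg' n hn]⟩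
  have hf : ∀ φ ∈ orb ⊤ N θ, φ * w ^ j ∈ orb ⊤ N θ := by
    intro φ hφ
    obtain ⟨g, -, rfl⟩ := mem_orb.1 hφ
    obtain ⟨g', hg⟩ := hj j g
    refine mem_orb.2 ⟨g', trivial, ?_⟩
    rw [cj_cut hn (mem_top _), cj_cut hn (mem_top _)]
    ext x
    by_cases hx : x ∈ N
    · rw [Pi.mul_apply, cut_of_mem _ hx, cut_of_mem _ hx]; exact (hg x hx).symm
    · rw [Pi.mul_apply, cut_of_notMem _ hx, cut_of_notMem _ hx, zero_mul]
  let f : Function.End (orb ⊤ N θ) := fun φ => ⟨φ * w ^ j, hf _ φ.2⟩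
  have hk : ∀ k : ℕ, ∀ φ, ((f ^ k) φ : G → ℂ) = φ * (w ^ j) ^ k := by
    intro k
    induction k with
    | zero => intro φ; simp; rfl
    | succ k ih => intro φ; rw [pow_succ', pow_succ, ← mul_assoc, ← ih]; rfl
  have hfp : f ^ p ^ 1 = 1 := by
    funext φ
    apply Subtype.ext
    rw [pow_one, hk]
    ext x
    by_cases hx : x ∈ N
    · have : ((w ^ j) ^ p) x = 1 := congrFun e1 ⟨x, hx⟩
      rw [Pi.mul_apply, this, mul_one]; rfl
    · have := zero_of_mem_Irr (orb_subset hn hθ φ.2) hx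
      rw [Pi.mul_apply, this, zero_mul]; exact this.symm
  have h2 := Equiv.Perm.card_fixedPoints_modEq hfp
  rw [Fintype.card_coe, card_orb, relIndex_top_right] at h2
  have hc' := hc.coprime_dvd_right hpm
  obtain ⟨⟨φ, hφ⟩⟩ : Nonempty f.fixedPoints := by
    by_contra h3
    rw [not_nonempty_iff] at h3
    rw [Fintype.card_eq_zero] at h2
    exact hp.one_lt.ne' (Nat.eq_one_of_dvd_coprimes hc' (((Nat.modEq_zero_iff_dvd).1 h2).mul_right _) dvd_rfl)
  have h3 := irrOn_of_mem (orb_subset hn hθ φ.2)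
  have h4 : w ^ j * φ = φ := (mul_comm _ _).trans (congrArg Subtype.val hφ)
  have h5 : charDegree (φ : G → ℂ) = charDegree θ := charDegree_of_eq ((orb_one φ.2).trans hθ.one_eq)
  refine e2 (funext fun x => ?_)
  have h6 := (hw.pow j).detOn_mul h3.charOn x.2
  rw [h4, h5, right_eq_mul₀ ((linOn_detOn _ _).ne_zero x.2)] at h6
  have h7 : ((w ^ j) x) ^ p = 1 := congrFun e1 x
  have := pow_gcd_eq_one.2 ⟨h6, h7⟩
  rwa [(Nat.Coprime.coprime_mul_left hc').gcd_eq_one, pow_one] at this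

/-- distance at most two -/
def D2 (N : Subgroup G) (a b : ℕ) : Prop :=
  ¬ a.Coprime b ∨ ∃ c ∈ relCharDegrees N, ¬ a.Coprime c ∧ ¬ c.Coprime b

theorem deg_mul (hθ : IrrOn N θ) (hl : LinOn N lam) : charDegree (θ * lam) = charDegree θ :=
  charDegree_of_eq (by rw [Pi.mul_apply, hl.2, mul_one, hθ.one_eq])

theorem I_mul (hl : LinOn N lam) (hi : I N lam = ⊤) : I N (θ * lam) = I N θ := by
  ext g
  rw [mem_I, mem_I]
  refine forall₂_congr fun n hn => ?_
  rw [Pi.mul_apply, Pi.mul_apply, (mem_I (θ := lam)).1 (hi ▸ mem_top g) n hn, mul_left_inj' (hl.ne_zero hn)]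

theorem not_pw_mul (hG : N ≤ _root_.commutator G) (hθ : IrrOn N θ) (hl : LinOn N lam) (h0 : ¬ Pw N lam 1)
    (ha : Ov N θ a) (hb : Ov N lam l) (hc : a.Coprime l) : ¬ Pw N (θ * lam) 1 := fun h => by
  have e : ∀ n ∈ N, θ n = (lam n)⁻¹ := fun n hn => eq_inv_of_mul_eq_one_left (by simpa using h n hn)
  have h1 : I N θ = I N lam := by
    ext g
    rw [mem_I, mem_I]
    exact forall₂_congr fun n hn => by rw [e n hn, e _ (hN.conj_mem n hn g), inv_inj]
  have h2 : I N lam = ⊤ := index_eq_one.1 (Nat.eq_one_of_dvd_coprimes hc (h1 ▸ ha.idvd hθ) (hb.idvd hl.irrOn))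
  have h3 := ha.pw hG (hθ.linOn (by rw [e 1 N.one_mem, hl.2, inv_one])) (h1 ▸ h2)
  refine h0 (Pw.one (fun n hn => ?_) (hb.pw hG hl h2) hc)
  have := h3 n hn
  rwa [e n hn, inv_pow, inv_eq_one] at this

theorem lemV (hG : N ≤ _root_.commutator G) {p : ℕ} (hp : p.Prime) (hl : LinOn N lam) (hl0 : ¬ Pw N lam 1)
    (hlp : Pw N lam p) (hlt : ¬ p ∣ (I N lam).index) (hθ : IrrOn N θ) (h0 : ¬ Pw N θ 1) (ha : Ov N θ a)
    (hb : Ov N lam l) : p ∣ a ∨ D2 N a l := by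
  by_contra! h
  obtain ⟨hpa, h⟩ := h
  rw [D2] at h
  push Not at h
  obtain ⟨hal, h⟩ := h
  have hm := hθ.mul_lin hl
  obtain ⟨c, hc⟩ := exists_ov hm
  replace h := h c (hc.mem hm (not_pw_mul hG hθ hl hl0 ha hb hal))
  have pd : ∀ k, Pw N lam k → p ∣ k := fun k hk => by
    by_contra h1; exact hl0 (hlp.one hk ((Nat.Prime.coprime_iff_not_dvd hp).2 h1))
  by_cases hi : I N lam = ⊤
  · have h1 := pd _ (hb.pw hG hl hi)
    have hI := I_mul (θ := θ) hl hi
    have h2 : p ∣ c := by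
      by_contra h2
      obtain ⟨δ₁, e₁, a1, a2, a3⟩ := ha.ext hθ
      obtain ⟨δ₂, e₂, b1, b2, b3⟩ := hc.ext hm
      rw [hI] at b1
      have := pd _ (pw_of_ext hG (le_I hθ) ((b1.pow e₁).mul (a1.star.pow e₂)) hi (k := charDegree θ * e₂ * e₁) fun n hn => by
        have h3 := (linOn_detOn N θ).ne_zero hn
        simp only [Pi.mul_apply, Pi.pow_apply, Pi.star_apply, RCLike.star_def]
        rw [a1.conj_eq_inv (le_I hθ hn), a3 n hn, b3 n hn, mul_comm θ, hl.detOn_mul hθ.charOn hn]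
        rw [inv_pow, mul_inv_eq_iff_eq_mul₀ (pow_ne_zero _ (pow_ne_zero _ h3))]
        ring)
      simp only [hp.dvd_mul] at this
      rcases this with ((h3 | h3) | h3) | h3
      exacts [hpa (h3.trans (ha.ddvd hθ)), h2 (h3.trans b2), hpa (h3.trans a2), hpa (h3.trans (ha.idvd hθ))]
    have h3 : a.Coprime c := by
      by_contra h3; exact hp.one_lt.ne' (Nat.eq_one_of_dvd_coprimes (h h3) h2 h1)
    have h4 := Nat.eq_one_of_dvd_coprimes h3 (ha.dvd hθ) (by have := hc.dvd hm; rwa [hI, deg_mul hθ hl] at this)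
    have hl' := lin_of hθ (Nat.eq_one_of_mul_eq_one_left h4)
    have hi' := index_eq_one.1 (Nat.eq_one_of_mul_eq_one_right h4)
    refine h0 ((ha.pw hG hl' hi').one (fun n hn => ?_) h3)
    have := hc.pw hG (hl'.mul hl) (hI ▸ hi') n hn
    rwa [Pi.mul_apply, mul_pow, hlp.dvd h2 n hn, mul_one] at this
  · have h1 : (I N θ).index.Coprime (I N lam).index :=
      (hal.coprime_dvd_left (ha.idvd hθ)).coprime_dvd_right (hb.idvd hl.irrOn)
    by_cases h2 : (I N lam).index.Coprime (I N (θ * lam)).index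
    · obtain ⟨w, w1, w2, w3, w4⟩ := exists_w hl hi h1 h2
      refine not_coprime_of_w hθ w1 w2 hp.ne_zero (w3 p hlp) w4 ?_
      exact (((Nat.Prime.coprime_iff_not_dvd hp).2 hpa).symm).coprime_dvd_left (ha.dvd hθ)
    have h3 : a.Coprime c := by
      by_contra h3
      exact h2 (((h h3).symm.coprime_dvd_left (hb.idvd hl.irrOn)).coprime_dvd_right (hc.idvd hm))
    have hl' := lin_of hθ (Nat.eq_one_of_dvd_coprimes h3 (ha.ddvd hθ) (deg_mul hθ hl ▸ hc.ddvd hm))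
    by_cases hi' : I N θ = ⊤
    · obtain ⟨δ, e, a1, a2, a3⟩ := hc.ext hm
      have hI : I N (θ * lam) = I N lam := by rw [mul_comm, I_mul hl' hi']
      have := pw_of_ext hG (le_I hm) (a1.pow p) hi' (k := e * p) fun n hn => by
        rw [Pi.pow_apply, a3 n hn, (hl'.mul hl).detOn_eq hn, ← pow_mul, Pi.mul_apply, mul_pow,
          hlp.dvd (Dvd.intro_left e rfl) n hn, mul_one]
      refine h0 ((ha.pw hG hl' hi').one this ?_)
      rw [hI]
      exact ((h3.coprime_dvd_right a2).mul_right ((Nat.Prime.coprime_iff_not_dvd hp).2 hpa).symm).mul_right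
        (hal.coprime_dvd_right (hb.idvd hl.irrOn))
    · obtain ⟨w, w1, w2, -, w4⟩ := exists_w (θ := lam) hl' hi' h1.symm
        (by rw [mul_comm]; exact (h3.coprime_dvd_left (ha.idvd hθ)).coprime_dvd_right (hc.idvd hm))
      refine not_coprime_of_w hl.irrOn w1 w2 hp.ne_zero (fun n hn => ?_) w4 ?_
      · obtain ⟨g, hg⟩ := w4 1
        have := congrArg (· ^ p) (hg n hn)
        beta_reduce at this
        rwa [mul_pow, hlp _ (hN.conj_mem n hn _), hlp _ (hN.conj_mem n hn _), one_mul] at this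
      · rw [hl.deg, mul_one]; exact ((Nat.Prime.coprime_iff_not_dvd hp).2 hlt).symm

theorem exists_lam {p : ℕ} (hp : p.Prime) (h : p ∣ ⁅N, N⁆.relIndex N) :
    ∃ lam, LinOn N lam ∧ ¬ Pw N lam 1 ∧ Pw N lam p ∧ ¬ p ∣ (I N lam).index := by
  haveI := Fact.mk hp
  obtain ⟨P⟩ := (inferInstance : Nonempty (Sylow p G))
  let B : Subgroup (N →* ℂˣ) :=
    { carrier := {f | ∀ x, f x ^ p = 1}
      one_mem' := fun x => by simp
      mul_mem' := fun {f g} hf hg x => by rw [MonoidHom.mul_apply, mul_pow, hf x, hg x, mul_one]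
      inv_mem' := fun {f} hf x => by rw [MonoidHom.inv_apply, inv_pow, hf x, inv_one] }
  have hB : p ∣ Nat.card B := by
    haveI : Finite (Abelianization N) := inferInstanceAs (Finite (N ⧸ _root_.commutator N))
    haveI : NeZero (Monoid.exponent (Abelianization N)) := ⟨Monoid.exponent_ne_zero_of_finite⟩
    haveI : NeZero ((Monoid.exponent (Abelianization N) : ℕ) : ℂ) := ⟨Nat.cast_ne_zero.2 Monoid.exponent_ne_zero_of_finite⟩
    have h1 : Nat.card (Abelianization N →* ℂˣ) = ⁅N, N⁆.relIndex N := by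
      rw [CommGroup.card_monoidHom_of_hasEnoughRootsOfUnity, ← map_subtype_commutator N, relIndex,
        subgroupOf, comap_map_eq_self_of_injective N.subtype_injective]
      rfl
    obtain ⟨f, hf⟩ := exists_prime_orderOf_dvd_card' p (h1 ▸ h)
    have h2 : orderOf (Abelianization.lift.symm f) = p := by
      refine orderOf_eq_prime (MonoidHom.ext fun x => ?_) fun e => hp.one_lt.ne' ?_
      · have := DFunLike.congr_fun (hf ▸ pow_orderOf_eq_one f : f ^ p = 1) (Abelianization.of x)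
        exact this
      · rw [← hf, orderOf_eq_one_iff]
        exact Abelianization.lift.symm.injective e
    refine h2 ▸ B.orderOf_dvd_natCard fun x => ?_
    rw [← MonoidHom.pow_apply, ← h2, pow_orderOf_eq_one]; rfl
  letI : MulAction P B :=
    { smul := fun g f => ⟨f.1.comp (MulAut.conjNormal (g : G)⁻¹).toMonoidHom, fun x => f.2 _⟩
      one_smul := fun f => Subtype.ext (MonoidHom.ext fun x => by
        change f.1 (MulAut.conjNormal ((1 : P) : G)⁻¹ x) = _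
        simp)
      mul_smul := fun g k f => Subtype.ext (MonoidHom.ext fun x => by
        change f.1 (MulAut.conjNormal ((g * k : P) : G)⁻¹ x) = f.1 (MulAut.conjNormal (k : G)⁻¹ (MulAut.conjNormal (g : G)⁻¹ x))
        simp) }
  obtain ⟨f, hf, hf1⟩ := P.isPGroup'.exists_fixed_point_of_prime_dvd_card_of_fixed_point B hB (a := 1) fun _ => rfl
  refine ⟨extendByZero N fun v => (f.1 v : ℂ), linOn_of_hom f.1 fun v => extendByZero_of_mem _ v.2, fun h => hf1 ?_,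
    fun n hn => ?_, fun h => P.not_dvd_index (h.trans (index_dvd_of_le fun g hg => mem_I.2 fun n hn => ?_))⟩
  · refine Subtype.ext (MonoidHom.ext fun x => Units.ext ?_)
    have := h x x.2
    rw [extendByZero_of_mem _ x.2, pow_one] at this
    exact this.symm
  · rw [extendByZero_of_mem _ hn, ← Units.val_pow_eq_pow_val]
    exact congrArg Units.val (f.2 ⟨n, hn⟩)
  · rw [extendByZero_of_mem _ hn, extendByZero_of_mem _ (hN.conj_mem n hn g)]
    have := DFunLike.congr_fun (congrArg Subtype.val (hf (⟨g, hg⟩⁻¹ : P))) ⟨n, hn⟩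
    rw [← this]
    change _ = (f.1 (MulAut.conjNormal (g⁻¹)⁻¹ ⟨n, hn⟩) : ℂ)
    rw [inv_inv]; rfl

end Cfsg.Lib.Hall.RD
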