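import Cfsg.Agent.Lib.Hall.MWa
import Cfsg.Agent.Lib.Hall.RelDeg
import Cfsg.Agent.Lib.PGrp.Comm

/-! # Modules in which every nonzero vector is fixed by a unique Sylow subgroup -/

set_option autoImplicit false
set_option linter.unusedSectionVars false
set_option linter.style.haveILetI false

namespace Cfsg.Lib.Hall.Pal

open Cfsg Cfsg.Lib Subgroup Cfsg.Lib.Block.B2 Cfsg.Lib.Hall.B3 MulAction Cfsg.Lib.Clifford
open scoped commutatorElement Pointwise

universe u
variable {G V : Type u} [Group G] [Finite G] [AddCommGroup V] [Finite V] [DistribMulAction G V] {u : ℕ}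

local notation "𝐂" S => centralizer (SetLike.coe S)

variable (G V) in
/-- every nonzero vector is fixed by exactly one Sylow subgroup -/
def NS (u : ℕ) : Prop := ∀ v : V, v ≠ 0 → ∃! S : Sylow u G, (S : Subgroup G) ≤ stabilizer G v

/-- `n` divides some irreducible degree -/
def Dv (G : Type*) [Group G] (n : ℕ) : Prop := ∃ χ : G → ℂ, IrrOn ⊤ χ ∧ n ∣ charDegree χ

theorem Dv.dvd {G : Type*} [Group G] {m n : ℕ} (h : Dv G n) (d : m ∣ n) : Dv G m := let ⟨χ, a, b⟩ := h; ⟨χ, a, d.trans b⟩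

theorem Dv.lift {G H : Type*} [Group G] [Group H] {f : G →* H} (hf : Function.Surjective f) {n : ℕ} (h : Dv H n) : Dv G n :=
  let ⟨χ, a, b⟩ := h
  ⟨_, irrOn_top.2 (Char.Cfsg.IsIrrCharacter.comp (irrOn_top.1 a) f hf), by simpa [charDegree] using b⟩

variable (V) in
/-- the fixed points of a subgroup -/
def fS (S : Subgroup G) : AddSubgroup V where
  carrier := {v | S ≤ stabilizer G v}
  zero_mem' := fun s _ => smul_zero s
  add_mem' := fun {a b} ha hb s hs => by show _ = _; rw [smul_add, ha hs, hb hs]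
  neg_mem' := fun {a} ha s hs => by show _ = _; rw [smul_neg, ha hs]

theorem mem_smul_syl {S : Sylow u G} {g x : G} : x ∈ (g • S : Sylow u G) ↔ g⁻¹ * x * g ∈ S := by
  show x ∈ ((g • S : Sylow u G) : Subgroup G) ↔ _
  rw [Sylow.coe_subgroup_smul, mem_pointwise_smul_iff_inv_smul_mem, ← map_inv, MulAut.smul_def, MulAut.conj_apply, inv_inv]
  rfl

theorem smul_le_stab {S : Sylow u G} {v : V} (h : (S : Subgroup G) ≤ stabilizer G v) (g : G) :
    ((g • S : Sylow u G) : Subgroup G) ≤ stabilizer G (g • v) := fun x hx => by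
  have : (g⁻¹ * x * g) • v = v := h (mem_smul_syl.1 hx)
  show _ = _
  rwa [mul_smul, mul_smul, inv_smul_eq_iff] at this

theorem card_fS [Fact u.Prime] (S T : Sylow u G) : Nat.card (fS V (S : Subgroup G)) = Nat.card (fS V (T : Subgroup G)) := by
  have key : ∀ S T : Sylow u G, Nat.card (fS V (S : Subgroup G)) ≤ Nat.card (fS V (T : Subgroup G)) := fun S T => by
    obtain ⟨g, rfl⟩ := exists_smul_eq G S T
    exact Nat.card_le_card_of_injective (fun v => ⟨g • v.1, smul_le_stab v.2 g⟩) fun a b e =>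
      Subtype.ext (MulAction.injective g (congrArg Subtype.val e))
  exact le_antisymm (key S T) (key T S)

theorem card_ne (X : Type*) [Finite X] (a : X) : Nat.card {x // x ≠ a} = Nat.card X - 1 := by
  classical
  rw [← Nat.card_congr (Equiv.optionSubtypeNe a), Finite.card_option]; rfl

theorem NS.count [Fact u.Prime] (h : NS G V u) (S : Sylow u G) :
    Nat.card V - 1 = Nat.card (Sylow u G) * (Nat.card (fS V (S : Subgroup G)) - 1) := by
  haveI := Fintype.ofFinite (Sylow u G)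
  rw [← card_ne V 0, ← Nat.card_congr (Equiv.ofBijective (fun x : Σ T : Sylow u G, {w : fS V (T : Subgroup G) // w ≠ 0} =>
    (⟨x.2.1.1, fun e => x.2.2 (Subtype.ext e)⟩ : {v : V // v ≠ 0})) ⟨?_, ?_⟩), Nat.card_sigma]
  · simp only [card_ne, fun T => card_fS (V := V) T S]
    simp
  · rintro ⟨T, ⟨v, hv⟩, h0⟩ ⟨T', ⟨v', hv'⟩, h0'⟩ e
    obtain rfl : v = v' := congrArg Subtype.val e
    obtain rfl : T = T' := (h v fun e => h0 (Subtype.ext e)).unique hv hv'
    rfl
  · rintro ⟨v, hv⟩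
    obtain ⟨T, hT, -⟩ := h v hv
    exact ⟨⟨T, ⟨v, hT⟩, fun e => hv (congrArg Subtype.val e)⟩, rfl⟩

theorem NS.map [Fact u.Prime] (h : NS G V u) {G' : Type u} [Group G'] [Finite G'] [DistribMulAction G' V] {f : G →* G'}
    (hf : Function.Surjective f) (e : ∀ g (v : V), f g • v = g • v) : NS G' V u := fun v hv => by
  obtain ⟨S, h1, h2⟩ := h v hv
  refine ⟨S.mapSurjective hf, ?_, fun T hT => ?_⟩
  · rintro _ ⟨s, hs, rfl⟩; exact (e s v).trans (h1 hs)
  · obtain ⟨T, rfl⟩ := Sylow.mapSurjective_surjective hf u T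
    rw [h2 T fun s hs => (e s v).symm.trans (hT ⟨s, hs, rfl⟩)]

theorem syl_le [hu : Fact u.Prime] {N : Subgroup G} [N.Normal] (h : ¬ u ∣ N.index) (S : Sylow u G) : (S : Subgroup G) ≤ N := by
  rw [← relIndex_eq_one]
  obtain ⟨k, hk⟩ := IsPGroup.iff_card.1 S.isPGroup'
  exact Nat.eq_one_of_dvd_coprimes ((hu.out.coprime_iff_not_dvd.2 h).pow_left k)
    (hk ▸ relIndex_dvd_card _ _) (relIndex_dvd_index_of_normal _ _)

theorem NS.subsingleton [Nontrivial V] [Fact u.Prime] (h : NS G V u) (hd : ¬ u ∣ (kr G V).index) :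
    Subsingleton (Sylow u G) := ⟨fun S T => by
  obtain ⟨v, hv⟩ := exists_ne (0 : V)
  exact (h v hv).unique (fun s hs => syl_le hd S hs v) fun s hs => syl_le hd T hs v⟩

theorem exists_ord [Fact u.Prime] (hd : u ∣ Nat.card G) (S : Sylow u G) : ∃ s ∈ S, orderOf s = u := by
  obtain ⟨s, hs⟩ := exists_prime_orderOf_dvd_card' (G := S) u (S.dvd_card_of_dvd_card hd)
  exact ⟨s.1, s.2, (orderOf_coe s).trans hs⟩

theorem imp_case [hu : Fact u.Prime] (hi : Block.B2.Irr G V) (hf : ∀ g : G, (∀ v : V, g • v = v) → g = 1) {H : Subgroup G} {e : V →+ V}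
    (h : Imp V H e) (h2 : u ≠ 2) (hN : NS G V u) : ¬ u ∣ Nat.card G := fun hd => by
  have key : ∀ v ∈ e.range, v ≠ 0 → ∀ g ∉ H, ∀ w ∈ e.range, ∃ S : Sylow u G, (S : Subgroup G) ≤ stabilizer G v ∧
      (S : Subgroup G) ≤ stabilizer G (g • w) := fun v hv v0 g hg w hw => by
    have e1 : e (v + g • w) = v := by rw [map_add, h.fix v hv, h.orth' g hg w hw, add_zero]
    obtain ⟨S, hS, -⟩ := hN (v + g • w) fun t => v0 (by rw [← e1, t, map_zero])
    have k1 : ∀ s ∈ S, e (s • v) + e ((s * g) • w) = v := fun s hs => by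
      rw [← map_add, mul_smul, ← smul_add, hS hs, e1]
    have k2 : ∀ s ∈ S, s ∉ H → s * g ∈ H := fun s hs n => by_contra fun n' => v0 (by
      rw [← k1 s hs, h.orth' s n v hv, h.orth' _ n' w hw, add_zero])
    have k3 : ∀ s ∈ S, s ∈ H := fun s hs => by_contra fun n => by
      by_cases t : s * s ∈ H
      · obtain ⟨k, hk⟩ := S.isPGroup' ⟨s, hs⟩
        have h1 : (2 : ℕ).Coprime (orderOf s) := Nat.Coprime.coprime_dvd_right (orderOf_dvd_of_pow_eq_one
          (congrArg Subtype.val hk)) (((Nat.coprime_primes Nat.prime_two hu.out).2 h2.symm).pow_right k)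
        obtain ⟨m, hm⟩ := exists_pow_eq_self_of_coprime h1
        exact n (by rw [← hm, sq]; exact pow_mem t m)
      · exact n (by simpa using H.mul_mem (k2 _ (S.mul_mem hs hs) t) (H.inv_mem (k2 s hs n)))
    have k4 : (S : Subgroup G) ≤ stabilizer G v := fun s hs => by
      have := k1 s hs
      rw [h.orth' (s * g) (fun t => hg (by simpa using H.mul_mem (H.inv_mem (k3 s hs)) t)) w hw, add_zero,
        h.comm s (k3 s hs), h.fix v hv] at this
      exact this
    refine ⟨S, k4, fun s hs => ?_⟩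
    have : s • (v + g • w) = v + g • w := hS hs
    rw [smul_add, k4 hs] at this
    exact add_left_cancel this
  obtain ⟨v0, hv0⟩ := h.ne
  obtain ⟨g0, hg0⟩ : ∃ g, g ∉ H := by simpa [eq_top_iff'] using h.co.1
  obtain ⟨S, h1, h2⟩ := key _ ⟨v0, rfl⟩ hv0 g0 hg0 _ ⟨v0, rfl⟩
  obtain ⟨s, hs, os⟩ := exists_ord hd S
  refine hu.out.ne_one (os.symm.trans (orderOf_eq_one_iff.2 (hf s (h.triv hi fun c x hx => ?_))))
  by_cases hc : c.out ∈ H
  · by_cases x0 : c.out • x = 0
    · rw [x0, smul_zero]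
    obtain ⟨T, t1, t2⟩ := key _ (h.inv ⟨_, hc⟩ x hx) x0 g0 hg0 _ ⟨v0, rfl⟩
    exact t1 ((hN _ (by rwa [Ne, smul_eq_zero_iff_eq])).unique h2 t2 ▸ hs)
  · obtain ⟨T, t1, t2⟩ := key _ ⟨v0, rfl⟩ hv0 _ hc x hx
    exact t2 ((hN _ hv0).unique h1 t1 ▸ hs)

section ps
variable {K : Type u} [Field K] [Finite K] [Module K V] {Z : Subgroup G} [hZn : Z.Normal] {ι : Z →* K} {E : Subgroup G}
  [hEn : E.Normal] {A : Type u} [AddCommGroup A] [Finite A] [DistribMulAction G A] {π : G → A} {β : Fm K A}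

theorem not_dvd_Z [Nontrivial V] [hu : Fact u.Prime] (P : PS V Z ι E π β) (hN : NS G V u) : ¬ u ∣ Nat.card Z := fun hd => by
  obtain ⟨v, hv⟩ := exists_ne (0 : V)
  obtain ⟨S, hS, -⟩ := hN v hv
  obtain ⟨z, hz⟩ := exists_prime_orderOf_dvd_card' (G := Z) u hd
  have h1 : IsPGroup u (zpowers z.1) := IsPGroup.of_card (n := 1) (by rw [Nat.card_zpowers, orderOf_coe, hz, pow_one])
  obtain ⟨T, hT⟩ := h1.exists_le_sylow
  obtain ⟨g, rfl⟩ := exists_smul_eq G S T
  have h2 : z.1 • g • v = g • v := smul_le_stab hS g (hT (mem_zpowers _))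
  refine hv ((smul_eq_zero_iff_eq g).1 (P.L.fpf z.2 (fun e => hu.out.ne_one ?_) h2))
  rw [← hz, ← orderOf_coe, e, orderOf_one]

open Polynomial in
theorem eig (P : PS V Z ι E π β) {t : ℕ} (ht : t.Prime) (hd : t ∣ Nat.card Z) {y : G} (hy : y ∈ 𝐂 Z) (h1 : y ^ t = 1)
    {B : Subgroup G} (hB : B ≤ 𝐂 Z) (hc : ∀ b ∈ B, b * y = y * b) {v : V} (hv : v ≠ 0) (hBv : B ≤ stabilizer G v) :
    ∃ z ∈ Z, ∃ w : V, w ≠ 0 ∧ B ≤ stabilizer G w ∧ (z * y) • w = w := by
  classical
  haveI := Fact.mk ht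
  obtain ⟨z, hz⟩ := exists_prime_orderOf_dvd_card' (G := Z) t hd
  have hζ : IsPrimitiveRoot (ι z) t := by
    rw [← hz, ← orderOf_injective ι P.L.inj]; exact IsPrimitiveRoot.orderOf _
  let f : Module.End K V := ⟨⟨fun w => y • w, smul_add y⟩, P.L.lin y hy⟩
  have fp : ∀ (n : ℕ) w, (f ^ n) w = y ^ n • w := fun n => by
    induction n with
    | zero => simp
    | succ n ih => intro w; rw [pow_succ, Module.End.mul_apply, ih, pow_succ, mul_smul]; rfl
  have key : ∀ s : Finset K, ∀ v : V, v ≠ 0 → B ≤ stabilizer G v → aeval f (∏ c ∈ s, (X - C c)) v = 0 →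
      ∃ c ∈ s, ∃ w : V, w ≠ 0 ∧ B ≤ stabilizer G w ∧ y • w = c • w := fun s => by
    induction s using Finset.induction_on with
    | empty => intro v hv _ h; exact (hv (by simpa using h)).elim
    | insert c s hc' ih =>
      intro v hv hBv h
      by_cases e : y • v - c • v = 0
      · exact ⟨c, Finset.mem_insert_self _ _, v, hv, hBv, sub_eq_zero.1 e⟩
      obtain ⟨d, hd, r⟩ := ih _ e (fun b hb => by
        show _ = _
        rw [smul_sub, ← mul_smul, hc b hb, mul_smul, P.L.lin b (hB hb), hBv hb]) (by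
          rw [Finset.prod_insert hc', mul_comm, map_mul, Module.End.mul_apply] at h
          simpa [f] using h)
      exact ⟨d, Finset.mem_insert_of_mem hd, r⟩
  obtain ⟨c, hc', w, w0, h2, h3⟩ := key (nthRootsFinset t 1) v hv hBv (by
    rw [← X_pow_sub_one_eq_prod ht.pos hζ]; simp [fp, h1])
  haveI : NeZero t := ⟨ht.ne_zero⟩
  obtain ⟨i, -, rfl⟩ := hζ.eq_pow_of_pow_eq_one ((mem_nthRootsFinset ht.pos 1).1 hc')
  refine ⟨(z ^ i)⁻¹.1, (z ^ i)⁻¹.2, w, w0, h2, ?_⟩
  rw [mul_smul, h3, ← map_pow, ← P.L.smul, ← mul_smul]; simp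

theorem lemA [Nontrivial V] [hu : Fact u.Prime] (P : PS V Z ι E π β) (hN : NS G V u) (hd : u ∣ Nat.card G)
    (hi : ¬ u ∣ (𝐂 Z).index) : u = 3 ∧ 2 ∣ Nat.card A := by
  have uZ := not_dvd_Z P hN
  have uA : ¬ u ∣ Nat.card A := fun h => uZ (P.prime_dvd hu.out h)
  obtain ⟨v0, hv0⟩ := exists_ne (0 : V)
  obtain ⟨v, hv, hmax⟩ := Set.exists_max_image {v : V | v ≠ 0} (fun v => Nat.card ↥(E ⊓ stabilizer G v)) (Set.toFinite _)
    ⟨v0, hv0⟩
  obtain ⟨S, hS, hS'⟩ := hN v hv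
  obtain ⟨s, hs, os⟩ := exists_ord hd S
  have sC : s ∈ 𝐂 Z := syl_le hi S hs
  have ES : ∀ x ∈ E, x ∈ S → x = 1 := fun x hx hx' => by
    obtain ⟨k, hk⟩ := S.isPGroup' ⟨x, hx'⟩
    have t1 := orderOf_dvd_natCard E hx
    rw [← relIndex_bot_left, ← relIndex_mul_relIndex ⊥ Z E bot_le P.le, relIndex_bot_left, ← P.card_A] at t1
    exact orderOf_eq_one_iff.1 (Nat.eq_one_of_dvd_coprimes ((Nat.Coprime.mul_right (hu.out.coprime_iff_not_dvd.2 uZ)
      (hu.out.coprime_iff_not_dvd.2 uA)).pow_left k) (orderOf_dvd_of_pow_eq_one (congrArg Subtype.val hk)) t1)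
  have cen : ∀ b ∈ E ⊓ stabilizer G v, s • π b = π b := fun b hb => by
    have t1 := smul_le_stab hS b
    rw [show b • v = v from hb.2] at t1
    have t2 : b⁻¹ * s * b ∈ S := mem_smul_syl.1 ((hS' _ t1).symm ▸ hs)
    have t3 := ES (b⁻¹ * s * b * s⁻¹) (by simpa [mul_assoc] using E.mul_mem (E.inv_mem hb.1) (hEn.conj_mem b hb.1 s))
      (S.mul_mem t2 (S.inv_mem hs))
    rw [← P.conj s b hb.1]; congr 1
    rw [← mul_one b, ← t3]; conv_lhs => rw [t3]
    group
  have inv : ∀ a b, β (s • a) (s • b) = β a b := P.sy.inv (ph Z A ⟨s, sC⟩)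
  let W : AddSubgroup A := (DistribSMul.toAddMonoidHom A s - AddMonoidHom.id A).range
  have mW : ∀ a, s • a - a ∈ W := fun a => ⟨a, rfl⟩
  have sW : ∀ w ∈ W, s • w ∈ W := by rintro _ ⟨a, rfl⟩; exact ⟨s • a, (smul_sub s (s • a) a).symm⟩
  have w1 : ∀ w ∈ W, s • w = w → w = 0 := by
    rintro _ ⟨a, rfl⟩ h
    change s • (s • a - a) = s • a - a at h
    have : ∀ k : ℕ, s ^ k • a = a + k • (s • a - a) := fun k => by
      induction k with
      | zero => simp
      | succ k ih => rw [pow_succ', mul_smul, ih, smul_add, smul_comm s k, h, succ_nsmul]; abel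
    have t := this u
    rw [← os, pow_orderOf_eq_one, one_smul, os, left_eq_add] at t
    exact AddMonoid.addOrderOf_eq_one_iff.1 (Nat.eq_one_of_dvd_coprimes (hu.out.coprime_iff_not_dvd.2 uA)
      (addOrderOf_dvd_of_nsmul_eq_zero t) (addOrderOf_dvd_natCard _))
  have key : ∀ t : ℕ, t.Prime → ∀ y ∈ E, y ^ t = 1 → π y ∈ W → π y = 0 := fun t ht y hy h1 h2 => by_contra fun h0 => by
    haveI := Fact.mk ht
    have t1 : addOrderOf (π y) = t := addOrderOf_eq_prime (by rw [← P.pow hy, h1, P.one]) h0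
    obtain ⟨z, hz, w, w0, t2, t3⟩ := eig P ht (P.prime_dvd ht (t1 ▸ addOrderOf_dvd_natCard _)) (P.le' hy) h1
      (B := E ⊓ stabilizer G v) (inf_le_left.trans P.le') (fun b hb => (P.bz hb.1 hy).1 (by
        obtain ⟨a, ha⟩ := h2
        rw [← ha]; show β (π b) (s • a - a) = 0
        rw [map_sub, ← inv (π b) a, cen b hb, sub_self])) hv inf_le_right
    have t4 : E ⊓ stabilizer G v = E ⊓ stabilizer G w := eq_of_le_of_card_ge (le_inf inf_le_left t2) (hmax w w0)
    have t5 := cen (z * y) (t4 ▸ ⟨E.mul_mem (P.le hz) hy, t3⟩)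
    rw [P.mul _ (P.le hz) _ hy, (P.zero z (P.le hz)).2 hz, zero_add] at t5
    exact h0 (w1 _ h2 t5)
  have k2 : ∀ t : ℕ, t.Prime → ∀ w ∈ W, t • w = 0 → w ≠ 0 → t.choose 2 • β w (s • w) ≠ 0 := fun t ht w hw h1 h0 h2 => by
    obtain ⟨x, hx, rfl⟩ := P.surj w
    have hx' := hEn.conj_mem x hx s
    obtain ⟨c, e⟩ := P.form _ (E.inv_mem hx) _ hx'
    have xZ : x ^ t ∈ Z := (P.zero _ (E.pow_mem hx t)).1 (by rw [P.pow hx, h1])
    have t1 : π (s * x * s⁻¹ * x⁻¹) = s • π x - π x := by rw [P.mul _ hx' _ (E.inv_mem hx), P.conj _ _ hx, P.inv hx, sub_eq_add_neg]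
    refine h0 (w1 _ hw (sub_eq_zero.1 (t1 ▸ key t ht _ (E.mul_mem hx' (E.inv_mem hx)) ?_ (t1 ▸ mW _))))
    rw [PGrp.mul_pow_eq_of_commute (P.le' hx' _ c) (P.le' (E.inv_mem hx) _ c), conj_pow, ← sC _ xZ, inv_pow,
      mul_inv_cancel_right, mul_inv_cancel, one_mul]
    refine congrArg Subtype.val (P.L.inj (?_ : ι (⟨_, c⟩ ^ t.choose 2) = ι 1))
    rw [map_pow, e, map_one, ← Units.val_pow_eq_pow_val, ← toMul_nsmul, P.inv hx, P.conj _ _ hx, map_neg,
      AddMonoidHom.neg_apply, neg_nsmul, h2]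
    simp
  haveI : Nontrivial W := by
    refine (AddSubgroup.nontrivial_iff_ne_bot W).2 fun e => hu.out.ne_one (os.symm.trans (orderOf_eq_one_iff.2
      (ES s (P.faith s sC fun a => sub_eq_zero.1 (AddSubgroup.mem_bot.1 (e ▸ mW a))) hs)))
  obtain ⟨t, ht, d⟩ := Nat.exists_prime_and_dvd (Finite.one_lt_card (α := W)).ne'
  haveI := Fact.mk ht
  obtain ⟨⟨w, hw⟩, ow⟩ := exists_prime_addOrderOf_dvd_card' t d
  have a1 : t • w = 0 := congrArg Subtype.val (ow ▸ addOrderOf_nsmul_eq_zero (⟨w, hw⟩ : W))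
  have a0 : w ≠ 0 := fun e => ht.ne_one (ow.symm.trans (AddMonoid.addOrderOf_eq_one_iff.2 (Subtype.ext e)))
  obtain rfl : t = 2 := by_contra fun n => k2 t ht w hw a1 a0 (by
    obtain ⟨m, hm⟩ := PGrp.dvd_choose_two_of_odd (ht.odd_of_ne_two n)
    have : t • β w (s • w) = 0 := by rw [← AddMonoidHom.nsmul_apply, ← map_nsmul, a1]; simp
    rw [hm, mul_nsmul, this, nsmul_zero])
  have A2 : 2 ∣ Nat.card A := d.trans W.card_addSubgroup_dvd_card
  refine ⟨by_contra fun n => ?_, A2⟩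
  have fix : ∀ k : ℕ, k.Prime → u ≠ k → s ^ k • w ≠ w := fun k hk h e => by
    obtain ⟨m, hm⟩ := exists_pow_eq_self_of_coprime (x := s) (os ▸ (Nat.coprime_primes hk hu.out).2 h.symm)
    exact a0 (w1 w hw (hm ▸ (stabilizer G w).pow_mem e m))
  have tor : ∀ a : A, 2 • a = 0 → ∀ b, 2 • β a b = 0 := fun a ha b => by
    rw [← AddMonoidHom.nsmul_apply, ← map_nsmul, ha]; simp
  have q1 : ∀ a ∈ W, 2 • a = 0 → a ≠ 0 → β a (s • a) = β w (s • w) := fun a ha h1 h0 =>
    two_tor (tor a h1 _) (tor w a1 _) (by simpa using k2 2 ht a ha h1 h0) (by simpa using k2 2 ht w hw a1 a0)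
  have q0 : β w (s • w) ≠ 0 := by simpa using k2 2 ht w hw a1 a0
  have q2 : ∀ a ∈ W, 2 • a = 0 → a ≠ 0 → w + a ≠ 0 → β w (s • a) + β a (s • w) = β w (s • w) := fun a ha h1 h0 h2 => by
    have t := q1 (w + a) (W.add_mem hw ha) (by rw [smul_add, a1, h1, add_zero]) h2
    simp only [smul_add, map_add, AddMonoidHom.add_apply, q1 a ha h1 h0] at t
    have t' := tor w a1 (s • w)
    rw [two_nsmul] at t'
    refine Eq.trans ?_ ((congrArg₂ (· - ·) t t').trans (sub_zero _))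
    abel
  have ng : ∀ a : A, 2 • a = 0 → ∀ b, a + b = 0 → b = a := fun a ha b h => by
    rw [two_nsmul] at ha; exact add_left_cancel (h.trans ha.symm)
  have s1 : 2 • s • w = 0 := by rw [smul_comm, a1, smul_zero]
  have s2 : 2 • s • s • w = 0 := by rw [smul_comm, s1, smul_zero]
  have n1 : s • w ≠ w := fun e => a0 (w1 w hw e)
  have r1 := q2 _ (sW w hw) s1 (by rwa [Ne, smul_eq_zero_iff_eq]) fun e => n1 (ng w a1 _ e)
  have r2 := q2 _ (sW _ (sW w hw)) s2 (by rwa [Ne, smul_eq_zero_iff_eq, smul_eq_zero_iff_eq]) fun e =>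
    fix 2 ht (fun e => uA (e ▸ A2)) (by rw [sq, mul_smul]; exact ng w a1 _ e)
  have r3 := q2 _ (W.add_mem (sW w hw) (sW _ (sW w hw))) (by rw [smul_add, s1, s2, add_zero])
    (fun e => n1 (MulAction.injective s (ng _ s1 _ e))) fun e => fix 3 Nat.prime_three n (by
      have e' := congrArg (fun a => s • a) e
      simp only [smul_add, smul_zero] at e'
      rw [pow_succ, sq, mul_smul, mul_smul]
      refine add_left_cancel (a := s • w + s • s • w) ?_
      rw [add_assoc, e', add_comm, e])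
  simp only [smul_add, map_add, AddMonoidHom.add_apply] at r3
  rw [add_add_add_comm, r1, r2, ← two_nsmul, tor w a1] at r3
  exact q0 r3.symm

theorem cyc_lin (Z : Type*) [Group Z] [Finite Z] [IsCyclic Z] : ∃ f : Z →* ℂˣ, Function.Injective f := by
  obtain ⟨g, hg⟩ := IsCyclic.exists_generator (α := Z)
  have n0 : Nat.card Z ≠ 0 := Nat.card_pos.ne'
  have h := (Complex.isPrimitiveRoot_exp _ n0).isUnit_unit n0
  have o := (orderOf_eq_card_of_forall_mem_zpowers hg).trans h.eq_orderOf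
  refine ⟨monoidHomOfForallMemZpowers hg o.symm.dvd, (injective_iff_map_eq_one _).2 fun x hx => ?_⟩
  obtain ⟨k, rfl⟩ := hg x
  simp only [map_zpow, monoidHomOfForallMemZpowers_apply_gen] at hx
  rwa [← orderOf_dvd_iff_zpow_eq_one, ← o, orderOf_dvd_iff_zpow_eq_one] at hx

theorem ps_index (P : PS V Z ι E π β) : Dv G (𝐂 Z).index := by
  haveI := isCyclic_of_injective_ringHom ι P.L.inj
  obtain ⟨f, hf⟩ := cyc_lin Z
  have h1 : LinOn Z (extendByZero Z fun v => (f v : ℂ)) := linOn_of_hom f fun v => extendByZero_of_mem _ v.2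
  obtain ⟨a, ha⟩ := RD.exists_ov h1.irrOn
  have h2 := ha.idvd h1.irrOn
  obtain ⟨χ, h3, -, rfl⟩ := ha
  refine ⟨χ, h3, (index_dvd_of_le fun g hg z hz => ?_).trans h2⟩
  have := RD.mem_I.1 hg z hz
  rw [extendByZero_of_mem _ (hZn.conj_mem z hz g), extendByZero_of_mem _ hz] at this
  exact (mul_inv_eq_iff_eq_mul.1 (congrArg Subtype.val (hf (Units.ext this)))).symm

theorem ps_small [Nontrivial V] [hu : Fact u.Prime] (P : PS V Z ι E π β) (hN : NS G V u) (hd : u ∣ Nat.card G)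
    (hi : ¬ u ∣ (𝐂 Z).index) {r : ℕ} [hr : Fact r.Prime] (hN' : NS G V r) (hi' : r ∣ (𝐂 Z).index) (ur : u ≠ r) : False := by
  obtain ⟨rfl, A2⟩ := lemA P hN hd hi
  have Z2 := P.prime_dvd Nat.prime_two A2
  have r5 : 5 ≤ r := hr.out.five_le_of_ne_two_of_ne_three (fun e => not_dvd_Z P hN' (e ▸ Z2)) ur.symm
  obtain ⟨q0, q1, q2⟩ := P.fld
  have i5 := r5.trans (Nat.le_of_dvd (Nat.pos_of_ne_zero index_ne_zero_of_finite) hi')
  have K2 := Z2.trans P.card_Z
  have q3 : 3 ≤ q0 := by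
    by_contra! l
    obtain rfl : q0 = 2 := by omega
    have := dvd_pow_self 2 (show (𝐂 Z).index ≠ 0 by omega)
    have := P.q2
    omega
  have k1 : 243 ≤ Nat.card K := q2 ▸ (Nat.pow_le_pow_left q3 5).trans (Nat.pow_le_pow_right (by omega) i5)
  obtain ⟨b, hb⟩ := P.alt.isSquare
  have b2 : 2 ≤ b := Nat.le_of_dvd (P.bb hb).1 ((Nat.prime_two.dvd_mul.1 (hb ▸ A2)).elim id id)
  have k2 := (Nat.pow_le_pow_left k1 b).trans (MW.qb P hb)
  have k3 := P.pw hb b2
  obtain ⟨S⟩ : Nonempty (Sylow 3 G) := inferInstance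
  have k4 := hN.count S
  have k5 : Nat.card (Sylow 3 G) ≤ b * b * Nat.card (HH Z A) := by
    refine (Nat.card_le_card_of_injective (fun T : Sylow 3 G => T.subtype (syl_le hi T)) fun a b e =>
      Sylow.subtype_injective e).trans ?_
    rw [(S.subtype (syl_le hi S)).card_eq_index_normalizer]
    refine (index_antitone (H := Z.subgroupOf (𝐂 Z)) (le_trans (fun z hz => mem_center_iff.2 fun g =>
      Subtype.ext (g.2 _ hz).symm) (center_le_normalizer _))).trans (Nat.le_of_mul_le_mul_left (c := Nat.card Z) ?_ Nat.card_pos)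
    rw [← hb, ← mul_assoc, ← P.card_C, ← Nat.card_congr (subgroupOfEquivOfLe P.comm).toEquiv, card_mul_index]
  have k6 : Nat.card (fS V (S : Subgroup G)) * Nat.card (fS V (S : Subgroup G)) ≤ Nat.card V := by
    by_cases h : ∀ T : Sylow 3 G, T = S
    · obtain ⟨s, hs, os⟩ := exists_ord hd S
      rw [P.L.faith s fun v => by_contra fun n => by
        obtain ⟨T, hT, -⟩ := hN v (by rintro rfl; exact n (smul_zero s))
        exact n (hT (h T ▸ hs)), orderOf_one] at os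
      omega
    push Not at h
    obtain ⟨T, h⟩ := h
    nth_rewrite 1 [card_fS S T]
    exact card_mul_le' (eq_bot_iff.2 fun v hv => by_contra fun n => h ((hN v n).unique hv.1 hv.2))
  have k7 : Nat.card V ≤ Nat.card (Sylow 3 G) * Nat.card (Sylow 3 G) := by
    by_contra! l
    have c0 : 0 < Nat.card (fS V (S : Subgroup G)) := Nat.card_pos
    have n0 : 0 < Nat.card (Sylow 3 G) := Nat.card_pos
    have v1 : 1 < Nat.card V := Finite.one_lt_card
    generalize Nat.card (fS V (S : Subgroup G)) = c at *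
    generalize Nat.card (Sylow 3 G) = n at *
    generalize Nat.card V = N at *
    obtain ⟨c, rfl⟩ := Nat.exists_eq_add_of_lt c0
    have : n * (0 + c + 1) < N := lt_of_mul_self_lt_mul_self₀ (Nat.zero_le _) (by
      rw [mul_mul_mul_comm]; exact Nat.mul_lt_mul_of_lt_of_le l k6 (by omega))
    simp only [zero_add, Nat.add_sub_cancel, mul_add, mul_one] at this k4
    omega
  have k8 := ind_pow 2 13 1 243 1 (by norm_num) (by norm_num) (by norm_num) b2
  have k9 := Nat.pow_le_pow_left (k2.trans (k7.trans (Nat.mul_le_mul k5 k5))) 6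
  have k10 := Nat.pow_le_pow_left k8 6
  have b0 : 0 < b ^ 78 := by positivity
  have : 24 ^ 4 * b ^ 78 ≤ b ^ 78 :=
    calc _ = 24 ^ 4 * (1 * b ^ 13) ^ 6 := by ring
      _ ≤ 24 ^ 4 * (b * b * Nat.card (HH Z A) * (b * b * Nat.card (HH Z A))) ^ 6 :=
        Nat.mul_le_mul_left _ (k10.trans (by rwa [mul_one]))
      _ = b ^ 24 * (24 ^ 4 * Nat.card (HH Z A) ^ 12) := by ring
      _ ≤ b ^ 24 * b ^ 54 := Nat.mul_le_mul_left _ k3
      _ = _ := by ring
  omega

end ps

/-- The main lemma on modules. -/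
theorem ML [Nontrivial V] [Group.IsSolvable G] (hi : Block.B2.Irr G V) {q r : ℕ} [hq : Fact q.Prime] [hr : Fact r.Prime]
    (qr : q ≠ r) (h1 : q ∣ (kr G V).index) (h2 : r ∣ (kr G V).index) (n1 : NS G V q) (n2 : NS G V r) : Dv G (q * r) := by
  refine Dv.lift (rp G V).rangeRestrict_surjective ?_
  rw [← card_im] at h1 h2
  replace n1 := n1.map (rp G V).rangeRestrict_surjective im_smul
  replace n2 := n2.map (rp G V).rangeRestrict_surjective im_smul
  haveI := im_solv (G := G) (V := V)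
  replace hi := im_irr hi
  rcases exists_PS hi im_faith with ⟨H, e, h⟩ | ⟨K, _, _, _, Z, _, ι, E, _, A, _, _, _, π, β, P⟩
  · by_cases q2 : q = 2
    · exact (imp_case hi im_faith h (fun e => qr (q2.trans e.symm)) n2 h2).elim
    · exact (imp_case hi im_faith h q2 n1 h1).elim
  by_cases a : q ∣ (𝐂 Z).index <;> by_cases b : r ∣ (𝐂 Z).index
  · exact (ps_index P).dvd (((Nat.coprime_primes hq.out hr.out).2 qr).mul_dvd_of_dvd_of_dvd a b)
  · exact (ps_small P n2 h2 b n1 a qr.symm).elim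
  · exact (ps_small P n1 h1 a n2 b qr).elim
  · exact (qr ((lemA P n1 h1 a).1.trans (lemA P n2 h2 b).1.symm)).elim

end Cfsg.Lib.Hall.Pal
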