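import Cfsg.Agent.Lib.Hall.PalA
import Cfsg.Agent.Lib.Hall.MinNormal
import Cfsg.Agent.Lib.Coprime.Glaub2
import Cfsg.Agent.Lib.Clifford.Thompson
import Cfsg.Agent.Lib.Clifford.Count
import Cfsg.Agent.Lib.Clifford.Norm

/-! # Dual modules and Sylow subgroups of inertia groups -/

set_option autoImplicit false
set_option linter.unusedSectionVars false
set_option linter.style.haveILetI false

namespace Cfsg.Lib.Hall.Pal

open Cfsg Cfsg.Lib Subgroup Cfsg.Lib.Block.B2 Cfsg.Lib.Hall.B3 MulAction Cfsg.Lib.Clifford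
open scoped commutatorElement Pointwise

universe u
variable {G Γ Y : Type u} [Group G] [Finite G] [Group Γ] [Finite Γ] [AddCommGroup Y] [Finite Y] {p q r u : ℕ}

local notation "𝐂" S => centralizer (SetLike.coe S)

theorem exists_syl_le [hu : Fact u.Prime] {T : Subgroup G} (h : ¬ u ∣ T.index) : ∃ S : Sylow u G, (S : Subgroup G) ≤ T := by
  obtain ⟨S⟩ : Nonempty (Sylow u T) := inferInstance
  refine ⟨(S.isPGroup'.map T.subtype).toSylow ?_, map_subtype_le _⟩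
  rw [index_map_subtype, hu.out.dvd_mul]
  exact fun t => t.elim S.not_dvd_index h

theorem no_dv {S : Subgroup G} [S.Normal] (hc : ∀ a ∈ S, ∀ b ∈ S, a * b = b * a) (h : ¬ u ∣ S.index) : ¬ Dv G u :=
  fun ⟨_, h1, h2⟩ => h (h2.trans (relIndex_top_right S ▸ h1.deg_dvd_relIndex_of_comm le_top (nrm_of_normal _ _) hc))

theorem dv_I (N : Subgroup G) [N.Normal] {θ : G → ℂ} (h : IrrOn N θ) : Dv G ((RD.I N θ).index * charDegree θ) := by
  obtain ⟨a, ha⟩ := RD.exists_ov h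
  have h2 := ha.dvd h
  obtain ⟨χ, h3, -, rfl⟩ := ha
  exact ⟨χ, h3, h2⟩

/-- `T` is the inertia group of an extendible character -/
def Gd (f : G →* Γ) (p : ℕ) (T : Subgroup G) : Prop := ∃ (N : Subgroup G) (θ χ : G → ℂ), N.Normal ∧ N ≤ f.ker ∧
  IrrOn N θ ∧ inertia ⊤ N θ = T ∧ CharOn T χ ∧ (∀ n ∈ N, χ n = θ n) ∧ p ∣ T.index * charDegree θ

theorem Gd.syl [Group.IsSolvable Γ] {f : G →* Γ} (hf : Function.Surjective f) {T : Subgroup G} (h : Gd f p T) (hp : p.Prime)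
    [hu : Fact u.Prime] (pu : p ≠ u) (hd : ¬ Dv G (p * u)) : ∃ S : Sylow u Γ, (S : Subgroup Γ) ≤ T.map f ∧
      (∀ a ∈ S, ∀ b ∈ S, a * b = b * a) ∧ ∀ S' : Sylow u Γ, (S' : Subgroup Γ) ≤ T.map f → S' = S := by
  obtain ⟨N, θ, χ, _, h1, h2, rfl, h3, h4, h5⟩ := h
  have hN := nrm_of_normal ⊤ N
  have t1 : N ≤ inertia ⊤ N θ := RD.le_I h2
  have t2 : IrrOn N χ := h2.congr fun x hx => (h4 x hx).symm
  have key : ∀ β, IrrOn ((inertia ⊤ N θ).map f) β → ¬ u ∣ (inertia ⊤ N θ).index * charDegree β := fun β hβ d => by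
    have t3 : Triv N (β ∘ f) := fun n hn => by simp [MonoidHom.mem_ker.1 (h1 hn)]
    have t4 := hβ.comp.mul_ext t3 t1 (nrm_of_normal _ N) h3 t2
    have t5 : (β ∘ f) 1 = charDegree β := by simpa using hβ.one_eq
    refine hd ⟨_, irrOn_ind_inertia le_top hN h2 t4 ?_, ?_⟩
    · rw [← dot_congr (fun _ _ => rfl) h4, t3.dot_mul_ext t2, t5]
      exact Nat.cast_ne_zero.2 hβ.deg_pos.ne'
    · rw [t4.charOn.deg_ind le_top, relIndex_top_right, charDegree_of_eq (n := charDegree β * charDegree θ) (by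
        rw [Pi.mul_apply, t5, h4 1 N.one_mem, h2.one_eq, Nat.cast_mul])]
      refine ((Nat.coprime_primes hp hu.out).2 pu).mul_dvd_of_dvd_of_dvd (h5.trans ?_) (by rw [← mul_assoc]; exact d.mul_right _)
      exact Nat.mul_dvd_mul_left _ (Dvd.intro_left _ rfl)
  obtain ⟨S, hS⟩ := exists_syl_le (T := (inertia ⊤ N θ).map f) (u := u) fun d =>
    key 1 (irrOn_one _) ((d.trans (index_map_dvd _ hf)).mul_right _)
  obtain ⟨k1, k2⟩ := (ito_pSolvable (Core.isPSolvable_of_isSolvable hu.out) (S.subtype hS)).2 fun β hβ d =>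
    key _ (irrOn_extendByZero.2 hβ) (Dvd.dvd.mul_left (by rwa [← charDegree_res, res_extendByZero]) _)
  refine ⟨S, hS, fun a ha b hb => congrArg Subtype.val (k2 ⟨a, hS ha⟩ ha ⟨b, hS hb⟩ hb), fun S' hS' => ?_⟩
  haveI := Sylow.unique_of_normal _ k1
  exact Sylow.subtype_injective (hP := hS') (hQ := hS) (Subsingleton.elim _ _)

section act
variable [DistribMulAction G Y] [DistribMulAction Γ Y] {f : G →* Γ}

theorem map_stab (hf : Function.Surjective f) (e : ∀ g (y : Y), f g • y = g • y) (y : Y) :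
    (stabilizer G y).map f = stabilizer Γ y := by
  refine le_antisymm ?_ fun x hx => ?_
  · rintro _ ⟨g, hg, rfl⟩; exact (e g y).trans hg
  · obtain ⟨g, rfl⟩ := hf x; exact ⟨g, (e g y).symm.trans hx, rfl⟩

theorem ns_of [Group.IsSolvable Γ] (hf : Function.Surjective f) (e : ∀ g (y : Y), f g • y = g • y)
    (h : ∀ y : Y, y ≠ 0 → Gd f p (stabilizer G y)) (hp : p.Prime) [hu : Fact u.Prime] (pu : p ≠ u) (hd : ¬ Dv G (p * u)) :
    NS Γ Y u := fun y hy => by
  obtain ⟨S, h1, -, h2⟩ := (h y hy).syl hf hp pu hd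
  rw [map_stab hf e] at h1 h2
  exact ⟨S, h1, h2⟩

theorem syl_stab (hf : Function.Surjective f) (e : ∀ g (y : Y), f g • y = g • y) [hu : Fact u.Prime]
    [Subsingleton (Sylow u Γ)] (S : Sylow u Γ) {y : Y} (h : ¬ u ∣ (stabilizer G y).index) :
    (S : Subgroup Γ) ≤ stabilizer Γ y := by
  obtain ⟨T, hT⟩ := exists_syl_le (T := stabilizer Γ y) (u := u) fun d =>
    h ((map_stab hf e y ▸ d).trans (index_map_dvd _ hf))
  exact Subsingleton.elim T S ▸ hT

theorem fS_inv (S : Subgroup Γ) [h : S.Normal] : Block.B2.Inv Γ Y (fS Y S) := fun g y hy s hs => by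
  have : (g⁻¹ * s * g) • y = y := hy (h.conj_mem' s hs g)
  show _ = _
  rwa [mul_smul, mul_smul, inv_smul_eq_iff] at this

/-- the action of a quotient by a subgroup acting trivially -/
@[reducible] def qAct (M : Subgroup G) [M.Normal] (h : M ≤ kr G Y) : DistribMulAction (G ⧸ M) Y :=
  DistribMulAction.compHom Y (QuotientGroup.lift M (rp G Y) fun g hg => LinearEquiv.ext (h hg))
end act

theorem ar {n a b : ℕ} (hp : 2 ≤ p) (hn : 1 < n) (ha : 1 < p ^ a) (h : p ^ a - 1 = n * (p ^ b - 1)) :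
    p ^ b ∣ n - 1 ∧ ¬ p ^ (b + 1) ∣ n - 1 := by
  have b0 : 0 < p ^ b := by positivity
  obtain ⟨n, rfl⟩ := Nat.exists_eq_add_of_lt hn
  obtain ⟨B, hB⟩ := Nat.exists_eq_add_of_lt b0
  rw [zero_add] at hB
  have e : p ^ a = p ^ b + (n + 1) * B := by
    rw [hB, Nat.add_sub_cancel] at h
    rw [hB]; linarith [Nat.sub_add_cancel ha.le]
  have B0 : 0 < B := Nat.pos_of_ne_zero (by rintro rfl; omega)
  have d : p ^ (b + 1) ∣ p ^ a := pow_dvd_pow _ ((Nat.pow_lt_pow_iff_right hp).1 (by rw [e]; nlinarith))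
  rw [show 1 + n + 1 - 1 = n + 1 by omega]
  refine ⟨Nat.Coprime.dvd_of_dvd_mul_right (show (p ^ b).Coprime B by rw [hB]; simp)
    ((Nat.dvd_add_right dvd_rfl).1 (e ▸ (pow_dvd_pow p b.le_succ).trans d)), fun t => ?_⟩
  have := Nat.le_of_dvd b0 ((Nat.dvd_add_left (t.mul_right B)).1 (e ▸ d))
  rw [pow_succ] at this
  nlinarith

theorem card_pow [hp : Fact p.Prime] (h : ∀ y : Y, ∃ k, p ^ k • y = 0) : ∃ n, Nat.card Y = p ^ n :=
  IsPGroup.iff_card (G := Multiplicative Y).1 h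

theorem card_eq [hp : Fact p.Prime] [Fact u.Prime] {W : Type u} [AddCommGroup W] [Finite W] [DistribMulAction Γ Y]
    [DistribMulAction Γ W] [Nontrivial Y] [Nontrivial W] (h1 : ∀ y : Y, ∃ k, p ^ k • y = 0) (h2 : ∀ y : W, ∃ k, p ^ k • y = 0)
    (n1 : NS Γ Y u) (n2 : NS Γ W u) (hn : ¬ Subsingleton (Sylow u Γ)) : Nat.card Y = Nat.card W := by
  obtain ⟨S⟩ : Nonempty (Sylow u Γ) := inferInstance
  have t1 := n1.count S
  have t2 := n2.count S
  have y1 : 1 < Nat.card Y := Finite.one_lt_card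
  have y2 : 1 < Nat.card W := Finite.one_lt_card
  have n : 1 < Nat.card (Sylow u Γ) := Finite.one_lt_card_iff_nontrivial.2 (not_subsingleton_iff_nontrivial.1 hn)
  obtain ⟨a, ha⟩ := card_pow h1
  obtain ⟨a', ha'⟩ := card_pow h2
  obtain ⟨b, hb⟩ := card_pow (Y := fS Y (S : Subgroup Γ)) fun y => (h1 y.1).imp fun _ e => Subtype.ext e
  obtain ⟨b', hb'⟩ := card_pow (Y := fS W (S : Subgroup Γ)) fun y => (h2 y.1).imp fun _ e => Subtype.ext e
  obtain ⟨r1, r2⟩ := ar hp.out.two_le n (ha ▸ y1) (ha ▸ hb ▸ t1)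
  obtain ⟨r3, r4⟩ := ar hp.out.two_le n (ha' ▸ y2) (ha' ▸ hb' ▸ t2)
  obtain rfl : b = b' := le_antisymm (by_contra fun l => r4 ((pow_dvd_pow p (by omega)).trans r1))
    (by_contra fun l => r2 ((pow_dvd_pow p (by omega)).trans r3))
  rw [hb, ← hb', ← t2] at t1
  omega

/-- the linear characters of a subgroup, written additively -/
def DL (N : Subgroup G) : Type u := Additive (N →* ℂˣ)

namespace DL
variable {N : Subgroup G}

instance : AddCommGroup (DL N) := inferInstanceAs (AddCommGroup (Additive (N →* ℂˣ)))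

/-- the underlying homomorphism -/
def hom (y : DL N) : N →* ℂˣ := Additive.toMul y
/-- the character -/
noncomputable def fn (y : DL N) : G → ℂ := extendByZero N fun v => (y.hom v : ℂ)

theorem fn_mem (y : DL N) {x : G} (hx : x ∈ N) : y.fn x = y.hom ⟨x, hx⟩ := extendByZero_of_mem _ hx
theorem lin (y : DL N) : LinOn N y.fn := linOn_of_hom y.hom fun v => y.fn_mem v.2
theorem ext {y z : DL N} (h : ∀ x ∈ N, y.fn x = z.fn x) : y = z :=
  (MonoidHom.ext fun x => Units.ext (by rw [← fn_mem _ x.2, ← fn_mem _ x.2, h x x.2]) : y.hom = z.hom)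
theorem fn_zero {x : G} (hx : x ∈ N) : (0 : DL N).fn x = 1 := fn_mem _ hx
theorem fn_add (y z : DL N) {x : G} (hx : x ∈ N) : (y + z).fn x = y.fn x * z.fn x := by
  rw [fn_mem _ hx, fn_mem _ hx, fn_mem _ hx]; rfl
theorem exists_fn {l : G → ℂ} (h : LinOn N l) : ∃ y : DL N, ∀ x ∈ N, y.fn x = l x := by
  obtain ⟨f, hf⟩ := h.exists_hom
  exact ⟨Additive.ofMul f, fun x hx => (fn_mem _ hx).trans (hf ⟨x, hx⟩).symm⟩

instance : Finite (DL N) := Finite.of_injective (fun y : DL N => (⟨_, y.lin.irrOn.cut_mem⟩ : Clifford.Irr N)) fun a b e =>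
  ext fun x hx => by simpa [cut_of_mem _ hx] using congrFun (congrArg Subtype.val e) x

theorem tor [Fact p.Prime] (h : IsPGroup p N) (y : DL N) : ∃ k, p ^ k • y = 0 := by
  obtain ⟨k, hk⟩ := IsPGroup.iff_card.1 h
  exact ⟨k, (MonoidHom.ext fun x => by rw [MonoidHom.pow_apply, ← map_pow, ← hk, pow_card_eq_one', map_one]; rfl :
    y.hom ^ p ^ k = 1)⟩

variable [hN : N.Normal]

instance : DistribMulAction G (DL N) where
  smul g y := Additive.ofMul (y.hom.comp (MulAut.conjNormal g⁻¹).toMonoidHom)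
  one_smul y := (MonoidHom.ext fun x => congrArg y.hom (Subtype.ext (by simp)) : MonoidHom.comp _ _ = y.hom)
  mul_smul a b y := by
    have : y.hom.comp (MulAut.conjNormal (a * b)⁻¹).toMonoidHom =
        (y.hom.comp (MulAut.conjNormal b⁻¹).toMonoidHom).comp (MulAut.conjNormal a⁻¹).toMonoidHom :=
      MonoidHom.ext fun x => congrArg y.hom (Subtype.ext (by simp [mul_assoc]))
    exact congrArg Additive.ofMul this
  smul_zero _ := rfl
  smul_add _ _ _ := rfl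

theorem fn_smul (g : G) (y : DL N) {x : G} (hx : x ∈ N) : (g • y).fn x = y.fn (g⁻¹ * x * g) := by
  rw [fn_mem _ hx, fn_mem _ (hN.conj_mem' x hx g)]
  exact congrArg (fun x => (y.hom x : ℂ)) (Subtype.ext (by simp))

theorem mem_stab {g : G} {y : DL N} : g ∈ stabilizer G y ↔ ∀ x ∈ N, y.fn (g * x * g⁻¹) = y.fn x := by
  rw [← inv_mem_iff]
  exact ⟨fun h x hx => by simpa [fn_smul _ _ hx] using congrFun (congrArg fn h) x,
    fun h => ext fun x hx => by rw [fn_smul _ _ hx, inv_inv, h x hx]⟩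

theorem I_eq (y : DL N) : RD.I N y.fn = stabilizer G y := Subgroup.ext fun _ => RD.mem_I.trans mem_stab.symm

theorem le_kr : N ≤ kr G (DL N) := fun g hg y => mem_stab.2 (y.lin.classOn g hg)
theorem cent_le_kr : (𝐂 N) ≤ kr G (DL N) := fun g hg y => mem_stab.2 fun x hx => by rw [← hg x hx, mul_inv_cancel_right]

theorem sep {M : Subgroup G} (hM : M ≤ N) [M.Normal] (h : ⁅N, N⁆ ≤ M) {x : G} (hx : x ∈ N) (hx' : x ∉ M) :
    ∃ y : DL N, (∀ m ∈ M, y.fn m = 1) ∧ y.fn x ≠ 1 := by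
  obtain ⟨β, h1, h2⟩ := exists_IrrKer_ne hM (nrm_of_normal _ _) hx'
  have h3 := linOn_of_mem_IrrKer h h1
  obtain ⟨y, hy⟩ := exists_fn h3
  exact ⟨y, fun m hm => by rw [hy m (hM hm), (mem_IrrKer.1 h1).2 m hm, h3.2], by rwa [hy x hx, ← h3.2]⟩

theorem comm_mem {M : Subgroup G} (hM : M ≤ N) [M.Normal] (h : ⁅N, N⁆ ≤ M) {g x : G} (hx : x ∈ N)
    (hg : ∀ y : DL N, y.fn (g * x * g⁻¹) = y.fn x) : ⁅g, x⁆ ∈ M := by_contra fun n => by
  obtain ⟨y, -, h2⟩ := sep hM h (N.mul_mem (hN.conj_mem x hx g) (N.inv_mem hx)) n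
  rw [y.lin.map_mul (hN.conj_mem x hx g) (N.inv_mem hx), hg, y.lin.map_inv hx, mul_inv_cancel₀ (y.lin.ne_zero hx)] at h2
  exact h2 rfl

theorem kr_le (hc : ∀ a ∈ N, ∀ b ∈ N, a * b = b * a) : kr G (DL N) ≤ 𝐂 N := fun g hg x hx =>
  (commutatorElement_eq_one_iff_mul_comm.1 (mem_bot.1 (comm_mem bot_le (commutator_le.2 fun a ha b hb =>
    mem_bot.2 (commutatorElement_eq_one_iff_mul_comm.2 (hc a ha b hb))) hx fun y => mem_stab.1 (hg y) x hx))).symm

theorem nontriv (hc : ∀ a ∈ N, ∀ b ∈ N, a * b = b * a) (h0 : N ≠ ⊥) : Nontrivial (DL N) := by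
  obtain ⟨⟨x, hx⟩, h1⟩ := ne_bot_iff_exists_ne_one.1 h0
  obtain ⟨y, -, h⟩ := sep bot_le (commutator_le.2 fun a ha b hb =>
    mem_bot.2 (commutatorElement_eq_one_iff_mul_comm.2 (hc a ha b hb))) hx fun e => h1 (Subtype.ext e)
  exact ⟨y, 0, fun e => h (e ▸ fn_zero hx)⟩

theorem card [IsMulCommutative N] : Nat.card (DL N) = Nat.card N := by
  letI : CommGroup N := IsMulCommutative.instCommGroup
  exact CommGroup.card_monoidHom_of_hasEnoughRootsOfUnity N ℂ

theorem irr [IsMulCommutative N] (hmin : ∀ K : Subgroup G, K.Normal → K ≤ N → K = ⊥ ∨ K = N) : Block.B2.Irr G (DL N) := by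
  intro U hU
  letI : CommGroup N := IsMulCommutative.instCommGroup
  let Φ : Subgroup (N →* ℂˣ) := AddSubgroup.toSubgroup' U
  let e := CommGroup.subgroupOrderIsoSubgroupMonoidHom N ℂ
  have m : ∀ x, x ∈ e.symm (OrderDual.toDual Φ) ↔ ∀ φ ∈ Φ, φ x = 1 :=
    CommGroup.mem_subgroupOrderIsoSubgroupMonoidHom_symm_iff ℂ Φ
  rcases hmin ((e.symm (OrderDual.toDual Φ)).map N.subtype) ⟨by
    rintro _ ⟨x, hx, rfl⟩ g
    refine ⟨MulAut.conjNormal g x, (m _).2 fun φ hφ => ?_, rfl⟩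
    have t : φ (MulAut.conjNormal g⁻¹⁻¹ x) = 1 := (m _).1 hx _ (hU g⁻¹ (Additive.ofMul φ) hφ)
    rwa [inv_inv] at t⟩ (map_subtype_le _) with h | h
  · rw [map_eq_bot_iff_of_injective _ N.subtype_injective, OrderIso.symm_apply_eq, OrderIso.map_bot] at h
    exact Or.inr (eq_top_iff.2 fun y _ => (show y.hom ∈ Φ from (OrderDual.toDual.injective h : Φ = ⊤) ▸ mem_top _))
  · refine Or.inl (eq_bot_iff.2 fun y hy => (MonoidHom.ext fun x => ?_ : y.hom = 1))
    obtain ⟨z, hz, t⟩ := h.ge x.2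
    exact Subtype.ext t ▸ (m _).1 hz _ hy

end DL

end Cfsg.Lib.Hall.Pal
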