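import Cfsg.Agent.Lib.Hall.PalB

/-! # Three primes dividing character degrees of a solvable group -/

set_option autoImplicit false
set_option linter.unusedSectionVars false
set_option linter.style.haveILetI false

namespace Cfsg.Lib.Hall.Pal

open Cfsg Cfsg.Lib Subgroup Cfsg.Lib.Block.B2 Cfsg.Lib.Hall.B3 MulAction Cfsg.Lib.Clifford QuotientGroup
open scoped commutatorElement Pointwise

universe u
variable {G : Type u} [Group G] [Finite G] [Group.IsSolvable G] {V : Subgroup G} [hVn : V.Normal] {p q r u : ℕ}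
  [hp : Fact p.Prime] [hq : Fact q.Prime] [hr : Fact r.Prime] [hu : Fact u.Prime]

local notation "𝐂" S => centralizer (SetLike.coe S)

theorem ito_q (h : ¬ Dv (G ⧸ V) p) (P : Sylow p G) : ((P.mapSurjective (mk'_surjective V) : Sylow p _) : Subgroup (G ⧸ V)).Normal ∧
    ((P : Subgroup G) ⊔ V).Normal ∧ ∀ a ∈ P, ∀ b ∈ P, ⁅a, b⁆ ∈ V := by
  obtain ⟨k1, k2⟩ := (ito_pSolvable (Core.isPSolvable_of_isSolvable hp.out) (P.mapSurjective (mk'_surjective V))).2
    fun χ hχ d => h ⟨χ, irrOn_top.2 hχ, d⟩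
  refine ⟨k1, ?_, fun a ha b hb => comm_mem_iff.2 (k2 _ ⟨a, ha, rfl⟩ _ ⟨b, hb, rfl⟩)⟩
  have := k1.comap (mk' V)
  rwa [Sylow.coe_mapSurjective, comap_map_eq, ker_mk'] at this

theorem type2 [IsMulCommutative V] (h0 : V ≠ ⊥) (hmin : ∀ K : Subgroup G, K.Normal → K ≤ V → K = ⊥ ∨ K = V)
    (hV : IsPGroup u V) (sp : p ≠ u) (pq : p ≠ q) (pr : p ≠ r) (qr : q ≠ r) (h : ¬ Dv (G ⧸ V) p) (d1 : Dv G p) (d2 : Dv G q)
    (d3 : Dv G r) (n1 : ¬ Dv G (p * q)) (n2 : ¬ Dv G (p * r)) : Dv G (q * r) := by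
  obtain ⟨P⟩ : Nonempty (Sylow p G) := inferInstance
  obtain ⟨k1, k2, k3⟩ := ito_q h P
  have cV : ∀ a ∈ V, ∀ b ∈ V, a * b = b * a := fun a ha b hb => congrArg Subtype.val (mul_comm' (⟨a, ha⟩ : V) ⟨b, hb⟩)
  have PV : ∀ {x : G}, x ∈ (P : Subgroup G) → x ∈ V → x = 1 := disjoint_def.1 (IsPGroup.disjoint_of_ne p u sp _ _ P.isPGroup' hV)
  set H := normalizer ((P : Subgroup G) : Set G) with hH
  have hH' : V ⊔ H = ⊤ := eq_top_iff.2 ((Sylow.normalizer_sup_eq_top' P (le_sup_left : _ ≤ (P : Subgroup G) ⊔ V)).ge.trans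
    (sup_le le_sup_right (sup_le (le_normalizer.trans le_sup_right) le_sup_left)))
  have dec : ∀ g, ∃ v ∈ V, ∃ h ∈ H, v * h = g := fun g => mem_sup_of_normal_left.1 (hH' ▸ mem_top g)
  have nV : ¬ V ≤ H := fun e => by
    haveI : (P : Subgroup G).Normal := normalizer_eq_top_iff.1 (by rw [← hH, ← hH', sup_eq_right.2 e])
    exact no_dv (fun a ha b hb => commutatorElement_eq_one_iff_mul_comm.1 (PV (commutator_le_left _ _
      (commutator_mem_commutator ha hb)) (k3 a ha b hb))) P.not_dvd_index d1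
  have VH : V ⊓ H = ⊥ := (hmin _ ⟨fun t ht g => by
    obtain ⟨v, hv, k, hk, rfl⟩ := dec g
    have := cV v hv _ (hVn.conj_mem t ht.1 k)
    rw [show v * k * t * (v * k)⁻¹ = v * (k * t * k⁻¹) * v⁻¹ by group, this, mul_inv_cancel_right]
    exact ⟨hVn.conj_mem t ht.1 k, H.mul_mem (H.mul_mem hk ht.2) (H.inv_mem hk)⟩⟩ inf_le_left).resolve_right
      fun e => nV (inf_eq_left.1 e)
  choose a ha b hb ab using dec
  have uq : ∀ v ∈ V, ∀ k ∈ H, a (v * k) = v := fun v hv k hk => by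
    have : v⁻¹ * a (v * k) ∈ V ⊓ H := ⟨V.mul_mem (V.inv_mem hv) (ha _), by
      rw [show v⁻¹ * a (v * k) = k * (b (v * k))⁻¹ by rw [eq_mul_inv_iff_mul_eq, mul_assoc, ab]; group]
      exact H.mul_mem hk (H.inv_mem (hb _))⟩
    rw [VH, mem_bot, inv_mul_eq_one] at this
    exact this.symm
  letI := qAct V (DL.le_kr (N := V))
  have e : ∀ g (y : DL V), mk' V g • y = g • y := fun _ _ => rfl
  have hi : Block.B2.Irr (G ⧸ V) (DL V) := fun U hU => DL.irr hmin U fun g => hU (mk' V g)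
  haveI := DL.nontriv cV h0
  have gd : ∀ y : DL V, y ≠ 0 → Gd (mk' V) p (stabilizer G y) := fun y hy => by
    have a1 : ∀ v ∈ V, a v = v := fun v hv => by simpa using uq v hv 1 H.one_mem
    refine ⟨V, y.fn, fun g => y.fn (a g), hVn, (ker_mk' V).ge, y.lin.irrOn, y.I_eq, (linOn_of_map_mul ?_ fun g hg k _ => ?_).1,
      fun v hv => congrArg y.fn (a1 v hv), Dvd.dvd.mul_right (by_contra fun n => nV ?_) _⟩
    · rw [a1 1 V.one_mem, y.lin.2]
    · have t : g * k = a g * (b g * a k * (b g)⁻¹) * (b g * b k) := by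
        conv_lhs => rw [← ab g, ← ab k]
        group
      have t' : b g ∈ stabilizer G y := by
        rw [eq_inv_mul_of_mul_eq (ab g)]; exact mul_mem (inv_mem (DL.le_kr (ha g) y)) hg
      show y.fn (a (g * k)) = _
      rw [t, uq _ (V.mul_mem (ha g) (hVn.conj_mem _ (ha k) _)) _ (H.mul_mem (hb g) (hb k)),
        y.lin.map_mul (ha g) (hVn.conj_mem _ (ha k) _), DL.mem_stab.1 t' _ (ha k)]
    · haveI := Sylow.unique_of_normal _ k1
      have t1 := (hi _ (fS_inv _ (h := k1))).resolve_left fun t =>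
        hy (AddSubgroup.mem_bot.1 (t ▸ syl_stab (mk'_surjective V) e _ n))
      exact (le_centralizer_iff.1 fun g hg => DL.kr_le cV fun z => t1.ge (AddSubgroup.mem_top z) ⟨g, hg, rfl⟩).trans
        (centralizer_le_normalizer _)
  have key : ∀ (u : ℕ) [Fact u.Prime], p ≠ u → Dv G u → ¬ Dv G (p * u) → u ∣ (kr (G ⧸ V) (DL V)).index :=
    fun u _ pu d n => by_contra fun t => by
      haveI := (ns_of (mk'_surjective V) e gd hp.out pu n).subsingleton t
      obtain ⟨y, hy⟩ := exists_ne (0 : DL V)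
      obtain ⟨S, -, c, -⟩ := (gd y hy).syl (mk'_surjective V) hp.out pu n
      haveI := S.normal_of_subsingleton
      refine no_dv (S := (S : Subgroup (G ⧸ V)).comap (mk' V)) (fun x hx z hz => ?_)
        (by rw [index_comap_of_surjective _ (mk'_surjective V)]; exact S.not_dvd_index) d
      have c1 : ∀ x, mk' V (b x) = mk' V x := fun x => by
        conv_rhs => rw [← ab x, map_mul, mk'_apply V (a x), (eq_one_iff _).2 (ha x), one_mul]
      have c2 : ∀ x, mk' V x ∈ S → b x ∈ 𝐂 V := fun x hx => DL.kr_le cV (syl_le t S (c1 x ▸ hx))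
      have c3 : ⁅b x, b z⁆ ∈ V ⊓ H := ⟨comm_mem_iff.2 (by rw [c1, c1]; exact c _ hx _ hz),
        H.mul_mem (H.mul_mem (H.mul_mem (hb x) (hb z)) (H.inv_mem (hb x))) (H.inv_mem (hb z))⟩
      rw [VH, mem_bot, commutatorElement_eq_one_iff_mul_comm] at c3
      rw [← ab x, ← ab z, mul_assoc, ← mul_assoc (b x), ← c2 x hx _ (ha z), mul_assoc, c3, ← mul_assoc, cV _ (ha x) _ (ha z),
        mul_assoc, ← mul_assoc (a x), c2 z hz _ (ha x)]
      simp only [mul_assoc]
  exact (ML hi qr (key q pq d2 n1) (key r pr d3 n2) (ns_of (mk'_surjective V) e gd hp.out pq n1)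
    (ns_of (mk'_surjective V) e gd hp.out pr n2)).lift (mk'_surjective V)

/-- the configuration in which the minimal normal subgroup is the derived subgroup of a normal Sylow subgroup -/
structure T1 (P : Sylow p G) (V : Subgroup G) : Prop where
  ne : V ≠ ⊥
  le : V ≤ P
  comm : ⁅(P : Subgroup G), (P : Subgroup G)⁆ = V
  cen : (P : Subgroup G) ≤ 𝐂 V

variable {P : Sylow p G} [hP : (P : Subgroup G).Normal]

theorem cop (P : Sylow p G) [(P : Subgroup G).Normal] (T : Subgroup G) :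
    ((P : Subgroup G).relIndex T).Coprime (Nat.card P) :=
  P.card_coprime_index.symm.coprime_dvd_left (relIndex_dvd_index_of_normal _ _)

theorem gdP (y : DL (P : Subgroup G)) (h : u ∣ (stabilizer G y).index) : Gd (mk' (P : Subgroup G)) u (stabilizer G y) := by
  obtain ⟨χ, h1, h2⟩ := exists_ext_of_hall (K := stabilizer G y) (fun g hg => DL.le_kr hg y) (nrm_of_normal _ _)
    y.lin.irrOn (fun g hg => DL.mem_stab.1 hg) (cop P _)
  exact ⟨P, y.fn, χ, hP, (ker_mk' _).ge, y.lin.irrOn, y.I_eq, (irrOn_of_mem h1).charOn, h2, h.mul_right _⟩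

theorem deg_p {θ : G → ℂ} (h : IrrOn (P : Subgroup G) θ) (hl : ¬ LinOn (P : Subgroup G) θ) : p ∣ charDegree θ := by
  obtain ⟨k, hk⟩ := IsPGroup.iff_card.1 P.isPGroup'
  obtain ⟨i, -, e⟩ := (Nat.dvd_prime_pow hp.out).1 (hk ▸ h.deg_dvd_card)
  exact e ▸ dvd_pow_self p fun t => hl (h.charOn.linOn_of_deg (by rw [e, t, pow_zero]))

theorem T1.cV (T : T1 P V) : ∀ a ∈ V, ∀ b ∈ V, a * b = b * a := fun a ha _ hb => T.cen (T.le hb) a ha

theorem T1.stab (T : T1 P V) (y : DL V) : (P : Subgroup G) ≤ stabilizer G y := fun _ hg => DL.cent_le_kr (T.cen hg) y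

theorem T1.gd (T : T1 P V) (y : DL V) (hy : y ≠ 0) : Gd (mk' (P : Subgroup G)) p (stabilizer G y) := by
  obtain ⟨H, hH⟩ := exists_right_complement'_of_coprime (N := (P : Subgroup G)) P.card_coprime_index
  have PT := T.stab y
  obtain ⟨θ, h1, h2, h3⟩ := Coprime.exists_invOn_over_of_solvable (S := H ⊓ stabilizer G y) (G := P) (N := V) (θ := y.fn)
    inferInstance (nrm_of_normal _ _) (nrm_of_normal _ _) T.le (nrm_of_normal _ _)
    (P.card_coprime_index.coprime_dvd_right (hH.symm.index_eq_card ▸ card_dvd_of_le inf_le_left)) y.lin.irrOn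
    fun g hg => DL.mem_stab.1 hg.2
  replace h1 := irrOn_of_mem h1
  have t1 : ∀ n ∈ V, θ n = mult V θ y.fn * y.fn n := fun n hn =>
    clifford_invOn T.le (nrm_of_normal _ _) h1 y.lin.irrOn (fun g hg => DL.mem_stab.1 (PT hg)) h2 hn
  have t0 : (mult V θ y.fn : ℂ) = θ 1 := by rw [t1 1 V.one_mem, y.lin.2, mul_one]
  have t2 : inertia ⊤ P θ = stabilizer G y := le_antisymm (fun g hg => DL.mem_stab.2 fun x hx =>
    mul_left_cancel₀ (t0 ▸ h1.one_ne_zero) (by rw [← t1 _ (hVn.conj_mem x hx g), ← t1 _ hx, RD.mem_I.1 hg x (T.le hx)]))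
    fun g hg => by
      obtain ⟨a, ha, b, hb, rfl⟩ := mem_sup_of_normal_left.1 (hH.sup_eq_top ▸ mem_top g)
      exact mul_mem (RD.le_I h1 ha) (RD.mem_I.2 (h3 b ⟨hb, (mul_mem_cancel_left (PT ha)).1 hg⟩))
  obtain ⟨χ, k1, k2⟩ := exists_ext_of_hall PT (nrm_of_normal _ _) h1 (t2 ▸ invOn_inertia (nrm_of_normal _ _)) (cop P _)
  refine ⟨P, θ, χ, hP, (ker_mk' _).ge, h1, t2, (irrOn_of_mem k1).charOn, k2,
    (deg_p h1 fun l => hy (DL.ext fun x hx => ?_)).mul_left _⟩
  have := h1.linOn_iff.1 l x (T.comm ▸ hx)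
  rw [t1 x hx, t0, l.2, one_mul] at this
  rw [this, DL.fn_zero hx]

/-- the Sylow `u`-subgroups are abelian, centralize `V`, and are normal modulo `P` -/
def Nm (P V : Subgroup G) (u : ℕ) : Prop := ∀ U : Sylow u G, ((U : Subgroup G) ⊔ P).Normal ∧ (U : Subgroup G) ≤ (𝐂 V) ∧
  ∀ a ∈ U, ∀ b ∈ U, a * b = b * a

theorem T1.nm (T : T1 P V) (pu : p ≠ u) (n : ¬ Dv G (p * u)) (hs : Subsingleton (Sylow u (G ⧸ (P : Subgroup G)))) :
    Nm P V u := fun U => by
  have hf := mk'_surjective (P : Subgroup G)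
  have k1 := (U.mapSurjective hf).normal_of_subsingleton.comap (mk' (P : Subgroup G))
  rw [Sylow.coe_mapSurjective, comap_map_eq, ker_mk'] at k1
  refine ⟨k1, fun g hg => DL.kr_le T.cV fun y => ?_, fun a ha b hb => ?_⟩
  · by_cases hy : y = 0
    · rw [hy, smul_zero]
    obtain ⟨S, h1, -⟩ := (T.gd y hy).syl hf hp.out pu n
    rw [Subsingleton.elim S (U.mapSurjective hf)] at h1
    have := comap_mono (f := mk' (P : Subgroup G)) h1 (show g ∈ _ from ⟨g, hg, rfl⟩)
    rwa [comap_map_eq, ker_mk', sup_eq_left.2 (T.stab y)] at this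
  · haveI := DL.nontriv T.cV T.ne
    obtain ⟨y, hy⟩ := exists_ne (0 : DL V)
    obtain ⟨S, -, h1, -⟩ := (T.gd y hy).syl hf hp.out pu n
    rw [Subsingleton.elim S (U.mapSurjective hf)] at h1
    exact commutatorElement_eq_one_iff_mul_comm.1 (disjoint_def.1 (IsPGroup.disjoint_of_ne p u pu _ _ P.isPGroup' U.isPGroup')
      (comm_mem_iff.2 (h1 _ ⟨a, ha, rfl⟩ _ ⟨b, hb, rfl⟩)) (mul_mem (mul_mem (mul_mem ha hb) (inv_mem ha)) (inv_mem hb)))

theorem Nm.idx {P : Subgroup G} (h : Nm P V u) {T : Subgroup G} (PT : P ≤ T) (U : Sylow u G) (hU : ¬ (U : Subgroup G) ≤ T) :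
    u ∣ T.index := by_contra fun n => by
  obtain ⟨S, hS⟩ := exists_syl_le n
  haveI := (h S).1
  exact hU ((syl_le (N := (S : Subgroup G) ⊔ P) (fun d => S.not_dvd_index (d.trans (index_dvd_of_le le_sup_left))) U).trans
    (sup_le hS PT))

theorem T1.mov (T : T1 P V) (h : Nm P V u) (pu : p ≠ u) (d : Dv G u) (U : Sylow u G) :
    ∃ y : DL (P : Subgroup G), ¬ (U : Subgroup G) ≤ stabilizer G y := by
  by_contra! t
  have t1 : ⁅(P : Subgroup G), (U : Subgroup G)⁆ ≤ V := by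
    rw [Subgroup.commutator_comm]
    exact commutator_le.2 fun g hg x hx => DL.comm_mem T.le T.comm.le hx fun y => DL.mem_stab.1 (t y hg) x hx
  have t2 := Coprime.le_centralizer_of_commutator_commutator_eq_bot le_normalizer_of_normal
    (IsPGroup.coprime_card_of_ne u p pu.symm _ _ U.isPGroup' P.isPGroup') (eq_bot_iff.2 ((commutator_mono t1 le_rfl).trans
      (commutator_eq_bot_iff_le_centralizer.2 (le_centralizer_iff.1 (h U).2.1)).le))
  haveI := (h U).1
  haveI : (U : Subgroup G).Normal := normalizer_eq_top_iff.1 (eq_top_iff.2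
    ((Sylow.normalizer_sup_eq_top' U (le_sup_left : _ ≤ (U : Subgroup G) ⊔ P)).ge.trans
      (sup_le le_rfl (sup_le le_normalizer ((le_centralizer_iff.1 t2).trans (centralizer_le_normalizer _))))))
  exact no_dv (h U).2.2 U.not_dvd_index d

theorem T1.both (T : T1 P V) (h1 : Nm P V q) (h2 : Nm P V r) (pq : p ≠ q) (pr : p ≠ r) (qr : q ≠ r) (d2 : Dv G q)
    (d3 : Dv G r) : Dv G (q * r) := by
  obtain ⟨Q⟩ : Nonempty (Sylow q G) := inferInstance
  obtain ⟨R⟩ : Nonempty (Sylow r G) := inferInstance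
  obtain ⟨y, hy⟩ := T.mov h1 pq d2 Q
  obtain ⟨z, hz⟩ := T.mov h2 pr d3 R
  obtain ⟨w, w1, w2⟩ : ∃ w : DL (P : Subgroup G), ¬ (Q : Subgroup G) ≤ stabilizer G w ∧ ¬ (R : Subgroup G) ≤ stabilizer G w := by
    by_cases a : (R : Subgroup G) ≤ stabilizer G y
    swap
    · exact ⟨y, hy, a⟩
    by_cases b : (Q : Subgroup G) ≤ stabilizer G z
    swap
    · exact ⟨z, b, hz⟩
    exact ⟨y + z, fun t => hy (((fS _ (Q : Subgroup G)).add_mem_cancel_right b).1 t),
      fun t => hz (((fS _ (R : Subgroup G)).add_mem_cancel_left a).1 t)⟩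
  refine (dv_I _ w.lin.irrOn).dvd (Dvd.dvd.mul_right ?_ _)
  rw [w.I_eq]
  exact ((Nat.coprime_primes hq.out hr.out).2 qr).mul_dvd_of_dvd_of_dvd (h1.idx (fun g hg => DL.le_kr hg w) Q w1)
    (h2.idx (fun g hg => DL.le_kr hg w) R w2)

theorem T1.conj (T : T1 P V) (h1 : Nm P V q) (pq : p ≠ q) (n1 : ¬ Dv G (p * q)) (Q : Sylow q G) {x v : G} (hx : x ∈ P)
    (hx' : x ∉ cz V ((Q : Subgroup G) ⊔ P)) (hv : v ∈ V) : ∃ g ∈ P, ⁅g, x⁆ = v := by
  have inv : ∀ θ, IrrOn (P : Subgroup G) θ → ¬ LinOn (P : Subgroup G) θ → (Q : Subgroup G) ⊔ P ≤ RD.I P θ := fun θ h l =>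
    sup_le (by_contra fun t => n1 ((dv_I _ h).dvd (by
      rw [mul_comm]; exact Nat.mul_dvd_mul (h1.idx (RD.le_I h) Q t) (deg_p h l)))) (RD.le_I h)
  have van : ∀ θ, IrrOn (P : Subgroup G) θ → ¬ LinOn (P : Subgroup G) θ → ∀ x ∈ P, x ∉ cz V ((Q : Subgroup G) ⊔ P) → θ x = 0 :=
    fun θ h l x hx hx' => by_contra fun t => hx' (mem_cz.2 fun g hg => by
      rw [← commutatorElement_inv]
      refine V.inv_mem (DL.comm_mem T.le T.comm.le hx fun y => mul_left_cancel₀ t ?_)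
      have := RD.mem_I.1 (inv _ (h.mul_lin y.lin) (fun l' => l ⟨h.charOn, by simpa [y.lin.2] using l'.2⟩) hg) x hx
      rwa [Pi.mul_apply, RD.mem_I.1 (inv _ h l hg) x hx] at this)
  obtain ⟨g, hg⟩ := isConj_iff.1 (isConj_of_forall_irr (g := (⟨x, hx⟩ : (P : Subgroup G))) (h := ⟨v * x, mul_mem (T.le hv) hx⟩)
    fun χ hχ => by
      have k := irrOn_extendByZero.2 hχ
      rw [← extendByZero_of_mem χ hx, ← extendByZero_of_mem χ (mul_mem (T.le hv) hx)]
      by_cases l : LinOn (P : Subgroup G) (extendByZero P χ)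
      · rw [l.map_mul (T.le hv) hx, k.linOn_iff.1 l v (T.comm ▸ hv), l.2, one_mul]; exact Or.inr rfl
      · exact Or.inl (van _ k l x hx hx'))
  exact ⟨g.1, g.2, mul_inv_eq_iff_eq_mul.2 (congrArg Subtype.val hg)⟩

theorem T1.cnt [IsMulCommutative V] (T : T1 P V) (h1 : Nm P V q) (pq : p ≠ q) (pr : p ≠ r) (qr : q ≠ r) (d2 : Dv G q)
    (n1 : ¬ Dv G (p * q)) (n2 : ¬ Dv G (p * r)) (n3 : ¬ Dv G (q * r)) : Subsingleton (Sylow r (G ⧸ (P : Subgroup G))) := by
  by_contra hs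
  obtain ⟨Q⟩ : Nonempty (Sylow q G) := inferInstance
  haveI := (h1 Q).1
  set C := (P : Subgroup G) ⊓ cz V ((Q : Subgroup G) ⊔ P) with hC
  have c0 : ∀ a ∈ P, ∀ b ∈ P, ⁅a, b⁆ ∈ V := fun a ha b hb => T.comm.le (commutator_mem_commutator ha hb)
  have c1 : V ≤ C := le_inf T.le (le_cz _)
  have c2 : (P : Subgroup G) ⊓ (𝐂 (Q : Subgroup G)) ≤ C := le_inf inf_le_left (cz_symm (sup_le
    (cz_symm (inf_le_right.trans (cent_le_cz _))) (cz_symm fun a ha => mem_cz.2 (c0 a (inf_le_left (b := 𝐂 (Q : Subgroup G)) ha)))))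
  have c3 := Coprime.commutator_sup_centralizer le_normalizer_of_normal
    (IsPGroup.coprime_card_of_ne q p pq.symm _ _ Q.isPGroup' P.isPGroup') (Or.inl inferInstance)
  have c4 : ⁅(P : Subgroup G), (Q : Subgroup G)⁆ ≤ 𝐂 C := (commutator_mono le_rfl le_sup_left).trans
    (commutator_eq_bot_iff_le_centralizer.1 (commutator_commutator_eq_bot_of_rotate (H₂ := (Q : Subgroup G) ⊔ P)
      (eq_bot_iff.2 ((commutator_mono (commutator_le.2 fun a ha b hb => mem_cz.1 (cz_symm inf_le_right ha) b hb) le_rfl).trans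
        (commutator_eq_bot_iff_le_centralizer.2 (le_centralizer_iff.1 T.cen)).le))
      (eq_bot_iff.2 ((commutator_mono (commutator_le.2 fun a (ha : a ∈ C) b hb => c0 a ha.1 b hb) le_rfl).trans
        (commutator_eq_bot_iff_le_centralizer.2 (le_centralizer_iff.1 (sup_le (h1 Q).2.1 T.cen))).le))))
  obtain ⟨x, hx, hx'⟩ : ∃ x ∈ ⁅(P : Subgroup G), (Q : Subgroup G)⁆, x ∉ C := by
    by_contra! t
    obtain ⟨y, hy⟩ := T.mov h1 pq d2 Q
    refine hy fun g hg => DL.mem_stab.2 fun x hx => ?_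
    have t1 : ⁅g, x⁆ ∈ V := mem_cz.1 (cz_symm ((c3.ge.trans (sup_le t c2)).trans inf_le_right) (mem_sup_left hg)) x hx
    rw [show g * x * g⁻¹ = ⁅g, x⁆ * x by rw [commutatorElement_def]; group, y.lin.map_mul (T.le t1) hx,
      y.lin.irrOn.linOn_iff.1 y.lin _ (T.comm ▸ t1), y.lin.2, one_mul]
  have xP : x ∈ P := commutator_le_left _ _ hx
  have k1 : Nat.card V < C.relIndex P := by
    let φ : (P : Subgroup G) →* V := MonoidHom.mk' (fun g => ⟨⁅g.1, x⁆, c0 _ g.2 _ xP⟩) fun a b => Subtype.ext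
      ((comm_mul_left (T.cen a.2) (c0 _ b.2 _ xP)).trans (T.cV _ (c0 _ b.2 _ xP) _ (c0 _ a.2 _ xP)))
    have : φ.range = ⊤ := MonoidHom.range_eq_top.2 fun v => by
      obtain ⟨g, h1, h2⟩ := T.conj h1 pq n1 Q xP (fun t => hx' ⟨xP, t⟩) v.2
      exact ⟨⟨g, h1⟩, Subtype.ext h2⟩
    rw [← card_top (G := V), ← this, ← index_ker]
    refine index_strictAnti (lt_of_le_of_ne (fun g hg => Subtype.ext (commutatorElement_eq_one_iff_mul_comm.2 (c4 hx _ hg)))
      fun e => hx' (e.ge (show (⟨x, xP⟩ : (P : Subgroup G)) ∈ φ.ker from Subtype.ext (commutatorElement_self x))))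
  let U : AddSubgroup (DL (P : Subgroup G)) :=
    { carrier := {y | ∀ x ∈ C, y.fn x = 1}
      zero_mem' := fun x hx => DL.fn_zero hx.1
      add_mem' := fun {a b} ha hb x hx => by rw [DL.fn_add _ _ hx.1, ha x hx, hb x hx, mul_one]
      neg_mem' := fun {a} ha x hx => by
        have := DL.fn_add (-a) a hx.1
        rw [neg_add_cancel, DL.fn_zero hx.1, ha x hx, mul_one] at this
        exact this.symm }
  have k2 : C.relIndex P ≤ Nat.card U := by
    have t := T.comm.le.trans c1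
    rw [← card_IrrKer_of_abelian inf_le_left (nrm_of_normal _ _) t, ← Nat.card_eq_finsetCard]
    choose F hF using fun β : IrrKer (P : Subgroup G) C => DL.exists_fn (linOn_of_mem_IrrKer t β.2)
    exact Nat.card_le_card_of_injective (fun β => ⟨F β, fun x hx => by
      rw [hF β x hx.1, (mem_IrrKer.1 β.2).2 x hx, (linOn_of_mem_IrrKer t β.2).2]⟩) fun a b e => Subtype.ext
        (eq_of_mem_Irr (IrrKer_subset a.2) (IrrKer_subset b.2) fun x hx => by
          rw [← hF a x hx, ← hF b x hx, show F a = F b from congrArg Subtype.val e])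
  have hf := mk'_surjective (P : Subgroup G)
  letI := qAct (Y := DL V) (P : Subgroup G) (T.cen.trans DL.cent_le_kr)
  have i1 : Block.B2.Inv G _ U := fun g y hy x hx => by
    rw [DL.fn_smul _ _ hx.1]; exact hy _ (Normal.conj_mem' inferInstance x hx g)
  letI := subAct i1
  letI := qAct (Y := U) (P : Subgroup G) fun g hg y => Subtype.ext (DL.le_kr hg y.1)
  have gd : ∀ y : U, y ≠ 0 → Gd (mk' (P : Subgroup G)) q (stabilizer G y) := fun y hy => by
    rw [show stabilizer G y = stabilizer G y.1 from Subgroup.ext fun g => Subtype.ext_iff]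
    refine gdP _ (h1.idx (fun g hg => DL.le_kr hg _) Q fun t => hy (Subtype.ext (DL.ext fun x hx => ?_)))
    refine (y.1.lin.mem_kerOn.1 ((c3.ge.trans (sup_le (commutator_le.2 fun a ha g hg => ?_) (c2.trans fun a ha => ?_))) hx)).2.trans
      (DL.fn_zero hx).symm
    · refine y.1.lin.mem_kerOn.2 ⟨commutator_le_left _ _ (commutator_mem_commutator ha hg), ?_⟩
      rw [show ⁅a, g⁆ = a * (g * a⁻¹ * g⁻¹) by rw [commutatorElement_def]; group,
        y.1.lin.map_mul ha (hP.conj_mem _ (inv_mem ha) g), DL.mem_stab.1 (t hg) _ (inv_mem ha), y.1.lin.map_inv ha,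
        mul_inv_cancel₀ (y.1.lin.ne_zero ha)]
    · exact y.1.lin.mem_kerOn.2 ⟨ha.1, y.2 a ha⟩
  haveI := DL.nontriv T.cV T.ne
  have k3 : 0 < Nat.card V := Nat.card_pos
  haveI : Nontrivial U := Finite.one_lt_card_iff_nontrivial.1 (by omega)
  have := card_eq (DL.tor (P.isPGroup'.to_le T.le)) (fun y : U => (DL.tor P.isPGroup' y.1).imp fun _ e => Subtype.ext e)
    (ns_of hf (fun _ _ => rfl) T.gd hp.out pr n2) (ns_of hf (fun _ _ => rfl) gd hq.out qr n3) hs
  rw [DL.card] at this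
  omega

omit hP in
theorem type1 [IsMulCommutative V] (h0 : V ≠ ⊥) (hmin : ∀ K : Subgroup G, K.Normal → K ≤ V → K = ⊥ ∨ K = V)
    (hV : IsPGroup p V) (pq : p ≠ q) (pr : p ≠ r) (qr : q ≠ r) (h : ¬ Dv (G ⧸ V) p) (d1 : Dv G p) (d2 : Dv G q)
    (d3 : Dv G r) (n1 : ¬ Dv G (p * q)) (n2 : ¬ Dv G (p * r)) : Dv G (q * r) := by
  obtain ⟨P⟩ : Nonempty (Sylow p G) := inferInstance
  obtain ⟨-, k2, k3⟩ := ito_q h P
  have VP := hV.le_sylow_of_normal P
  rw [sup_eq_left.2 VP] at k2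
  have T : T1 P V := ⟨h0, VP, (hmin _ inferInstance (commutator_le.2 k3)).resolve_left fun e => no_dv (fun a ha b hb =>
    commutatorElement_eq_one_iff_mul_comm.1 (mem_bot.1 (e ▸ commutator_mem_commutator ha hb))) P.not_dvd_index d1,
    le_centralizer_iff.1 (inf_eq_left.1 ((hmin _ inferInstance inf_le_left).resolve_left
      (Core.inf_centralizer_ne_bot_of_isPGroup hV P.isPGroup' le_normalizer_of_normal h0)))⟩
  have hf := mk'_surjective (P : Subgroup G)
  letI := qAct (Y := DL V) (P : Subgroup G) (T.cen.trans DL.cent_le_kr)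
  haveI := DL.nontriv T.cV h0
  have m1 := ns_of hf (fun _ _ => rfl) T.gd hp.out pq n1
  have m2 := ns_of hf (fun _ _ => rfl) T.gd hp.out pr n2
  by_contra n3
  by_cases a : q ∣ (kr (G ⧸ (P : Subgroup G)) (DL V)).index
  · by_cases b : r ∣ (kr (G ⧸ (P : Subgroup G)) (DL V)).index
    · exact n3 ((ML (fun U hU => DL.irr hmin U fun g => hU (mk' _ g)) qr a b m1 m2).lift hf)
    · have t := T.nm pr n2 (m2.subsingleton b)
      exact n3 (T.both (T.nm pq n1 (T.cnt t pr pq qr.symm d3 n2 n1 (by rwa [mul_comm]))) t pq pr qr d2 d3)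
  · have t := T.nm pq n1 (m1.subsingleton a)
    exact n3 (T.both t (T.nm pr n2 (T.cnt t pq pr qr d2 n1 n2 n3)) pq pr qr d2 d3)

omit hVn in
theorem main (pq : p ≠ q) (qr : q ≠ r) (pr : p ≠ r) (n : ℕ) : ∀ {G : Type u} [Group G] [Finite G] [Group.IsSolvable G],
    Nat.card G = n → Dv G p → Dv G q → Dv G r → Dv G (p * q) ∨ Dv G (q * r) ∨ Dv G (p * r) := by
  induction n using Nat.strong_induction_on with
  | _ n ih =>
  intro G _ _ _ hn d1 d2 d3
  rcases subsingleton_or_nontrivial G with _ | _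
  · exact (no_dv (S := ⊤) (fun _ _ _ _ => Subsingleton.elim _ _) (by simpa using hp.out.ne_one) d1).elim
  obtain ⟨V, s, _, h0, hmin, _, hs, -, hV⟩ := exists_minNormal_elementary (G := G)
  haveI := Fact.mk hs
  have core : ∀ (p q r : ℕ) [Fact p.Prime] [Fact q.Prime] [Fact r.Prime], p ≠ q → p ≠ r → q ≠ r → ¬ Dv (G ⧸ V) p → Dv G p →
      Dv G q → Dv G r → ¬ Dv G (p * q) → ¬ Dv G (p * r) → Dv G (q * r) := fun p q r _ _ _ => by
    by_cases e : p = s
    · exact type1 h0 hmin (e ▸ hV)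
    · exact type2 h0 hmin hV e
  by_contra! t
  obtain ⟨t1, t2, t3⟩ := t
  by_cases a : Dv (G ⧸ V) p
  swap
  · exact t2 (core p q r pq pr qr a d1 d2 d3 t1 t3)
  by_cases b : Dv (G ⧸ V) q
  swap
  · exact t3 (core q p r pq.symm qr pr b d2 d1 d3 (by rwa [mul_comm]) t2)
  by_cases c : Dv (G ⧸ V) r
  swap
  · exact t1 (core r p q pr.symm qr.symm pq c d3 d1 d2 (by rwa [mul_comm]) (by rwa [mul_comm]))
  have hlt : Nat.card (G ⧸ V) < n := by
    rw [← hn, ← V.card_mul_index]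
    exact lt_mul_of_one_lt_left Nat.card_pos ((one_lt_card_iff_ne_bot V).2 h0)
  rcases ih _ hlt rfl a b c with h | h | h
  exacts [t1 (h.lift (mk'_surjective V)), t2 (h.lift (mk'_surjective V)), t3 (h.lift (mk'_surjective V))]

end Cfsg.Lib.Hall.Pal
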