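import Cfsg.Agent.Lib.Hall.RelDeg
import Cfsg.Agent.S4493
import Cfsg.Agent.Lib.Clifford.Mono

/-! # The common divisor graph of relative character degrees, II -/

set_option autoImplicit false
set_option linter.unusedSectionVars false
set_option linter.style.haveILetI false

namespace Cfsg.Lib.Hall.RD

open Cfsg Cfsg.Lib Subgroup Cfsg.Lib.Clifford

variable {G : Type*} [Group G] [Finite G] {N : Subgroup G} [hN : N.Normal] {θ lam w : G → ℂ} {a b c l x : ℕ}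

/-- connected in the graph -/
def Cn (N : Subgroup G) (a b : ℕ) : Prop :=
  ∃ ha hb, (commonDivisorGraph.induce (relCharDegrees N)).Reachable ⟨a, ha⟩ ⟨b, hb⟩

theorem Cn.symm (h : Cn N a b) : Cn N b a := let ⟨h1, h2, h⟩ := h; ⟨h2, h1, h.symm⟩
theorem Cn.trans (h : Cn N a b) (h' : Cn N b c) : Cn N a c := let ⟨h1, _, h⟩ := h; let ⟨_, h2, h'⟩ := h'; ⟨h1, h2, h.trans h'⟩

theorem pos_of_mem (ha : a ∈ relCharDegrees N) : 0 < a := by
  obtain ⟨χ, -, rfl⟩ := ha; exact (irrOn_top.2 χ.2).deg_pos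

theorem adj_of (ha : a ∈ relCharDegrees N) (hb : b ∈ relCharDegrees N) (h : ¬ a.Coprime b) (hne : a ≠ b) :
    (commonDivisorGraph.induce (relCharDegrees N)).Adj ⟨a, ha⟩ ⟨b, hb⟩ := by
  have := Nat.gcd_pos_of_pos_left b (pos_of_mem ha)
  exact ⟨hne, by rw [Nat.Coprime] at h; change 1 < Nat.gcd a b; omega⟩

theorem cn_of (ha : a ∈ relCharDegrees N) (hb : b ∈ relCharDegrees N) (h : ¬ a.Coprime b) : Cn N a b := by
  refine ⟨ha, hb, ?_⟩
  by_cases e : a = b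
  · subst e; rfl
  · exact (adj_of ha hb h e).reachable

theorem D2.cn (h : D2 N a b) (ha : a ∈ relCharDegrees N) (hb : b ∈ relCharDegrees N) : Cn N a b := by
  rcases h with h | ⟨c, hc, h1, h2⟩
  · exact cn_of ha hb h
  · exact (cn_of ha hc h1).trans (cn_of hc hb h2)

theorem nc {p : ℕ} (hp : p.Prime) (h1 : p ∣ a) (h2 : p ∣ b) : ¬ a.Coprime b :=
  fun h => hp.one_lt.ne' (Nat.eq_one_of_dvd_coprimes h h1 h2)

theorem I_mul_le (hl : LinOn N lam) (hθ : LinOn N θ) {p q : ℕ} (hc : p.Coprime q) (h1 : Pw N θ p) (h2 : Pw N lam q) :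
    I N (θ * lam) ≤ I N θ := fun g hg => mem_I.2 fun n hn => by
  have hn' := hN.conj_mem n hn g
  have e : θ (g * n * g⁻¹) / θ n = lam n / lam (g * n * g⁻¹) := by
    rw [div_eq_div_iff (hθ.ne_zero hn) (hl.ne_zero hn'), mul_comm (lam n)]; exact mem_I.1 hg n hn
  have := pow_gcd_eq_one.2 ⟨(by rw [div_pow, h1 n hn, h1 _ hn', div_one] : (θ (g * n * g⁻¹) / θ n) ^ p = 1),
    (by rw [e, div_pow, h2 n hn, h2 _ hn', div_one] : (θ (g * n * g⁻¹) / θ n) ^ q = 1)⟩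
  rwa [hc.gcd_eq_one, pow_one, div_eq_one_iff_eq (hθ.ne_zero hn)] at this

theorem cn_two (hG : N ≤ _root_.commutator G) {p q : ℕ} (hp : p.Prime) (hq : q.Prime) (hpq : p ≠ q)
    (hl : LinOn N lam) (hl0 : ¬ Pw N lam 1) (hlp : Pw N lam p) (hlt : ¬ p ∣ (I N lam).index)
    (hθ : LinOn N θ) (h0 : ¬ Pw N θ 1) (hθq : Pw N θ q) (hθt : ¬ q ∣ (I N θ).index) (ha : Ov N θ a) (hb : Ov N lam l) :
    Cn N a l := by
  have ma := ha.mem hθ.irrOn h0
  have mb := hb.mem hl.irrOn hl0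
  rcases lemV hG hp hl hl0 hlp hlt hθ.irrOn h0 ha hb with h1 | h1
  swap; · exact h1.cn ma mb
  rcases lemV hG hq hθ h0 hθq hθt hl.irrOn hl0 hb ha with h2 | h2
  swap; · exact (h2.cn mb ma).symm
  by_cases hal : a.Coprime l
  swap; · exact cn_of ma mb hal
  have hc := (Nat.coprime_primes hp hq).2 hpq
  have hm := hθ.irrOn.mul_lin hl
  obtain ⟨c, hc'⟩ := exists_ov hm
  have mc := hc'.mem hm (not_pw_mul hG hθ.irrOn hl hl0 ha hb hal)
  refine (cn_of ma mc fun h => ?_).trans (cn_of mc mb fun h => ?_)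
  · have := index_eq_one.1 (Nat.eq_one_of_dvd_coprimes h (ha.idvd hθ.irrOn)
      ((index_dvd_of_le (I_mul_le hl hθ hc.symm hθq hlp)).trans (hc'.idvd hm)))
    exact h0 (hθq.one (ha.pw hG hθ this) ((hq.coprime_iff_not_dvd).2 fun h => nc hq h h2 hal))
  · have := index_eq_one.1 (Nat.eq_one_of_dvd_coprimes h
      ((index_dvd_of_le (mul_comm θ lam ▸ I_mul_le hθ hl hc hlp hθq)).trans (hc'.idvd hm)) (hb.idvd hl.irrOn))
    exact hl0 (hlp.one (hb.pw hG hl this) ((hp.coprime_iff_not_dvd).2 fun h => nc hp h1 h hal))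

theorem exists_l (hG : N ≤ _root_.commutator G) {p : ℕ} (hp : p.Prime) (h : p ∣ ⁅N, N⁆.relIndex N) :
    ∃ lam l, LinOn N lam ∧ ¬ Pw N lam 1 ∧ Pw N lam p ∧ ¬ p ∣ (I N lam).index ∧ Ov N lam l ∧
      ∀ a ∈ relCharDegrees N, p ∣ a ∨ Cn N a l := by
  obtain ⟨lam, h1, h2, h3, h4⟩ := exists_lam hp h
  obtain ⟨l, hl⟩ := exists_ov h1.irrOn
  refine ⟨lam, l, h1, h2, h3, h4, hl, fun a ha => ?_⟩
  obtain ⟨θ, a1, a2, a3⟩ := exists_under ha
  exact (lemV hG hp h1 h2 h3 h4 a1 a2 a3 hl).imp_right fun h => h.cn ha (hl.mem h1.irrOn h2)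

theorem split (hG : N ≤ _root_.commutator G) (ha : a ∈ relCharDegrees N) (hb : b ∈ relCharDegrees N) (h : ¬ Cn N a b) :
    (a.Coprime (⁅N, N⁆.relIndex N) ∧ ∀ r : ℕ, r.Prime → r ∣ ⁅N, N⁆.relIndex N → r ∣ b) ∨
    (b.Coprime (⁅N, N⁆.relIndex N) ∧ ∀ r : ℕ, r.Prime → r ∣ ⁅N, N⁆.relIndex N → r ∣ a) := by
  have hab : a.Coprime b := by by_contra h1; exact h (cn_of ha hb h1)
  by_cases h1 : ∀ r : ℕ, r.Prime → r ∣ ⁅N, N⁆.relIndex N → r ∣ b
  · exact .inl ⟨Nat.Coprime.symm (Nat.coprime_of_dvd fun r hr h2 h3 => nc hr h3 (h1 r hr h2) hab), h1⟩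
  have h2 : ∀ r : ℕ, r.Prime → r ∣ ⁅N, N⁆.relIndex N → r ∣ a := by
    push Not at h1
    obtain ⟨q, hq, hq1, hq2⟩ := h1
    intro p hp hp1
    by_contra hp2
    obtain ⟨lam, l, a1, a2, a3, a4, a5, a6⟩ := exists_l hG hp hp1
    by_cases e : p = q
    · subst e
      exact h (((a6 a ha).resolve_left hp2).trans ((a6 b hb).resolve_left hq2).symm)
    obtain ⟨θ, c, b1, b2, b3, b4, b5, b6⟩ := exists_l hG hq hq1
    exact h (((a6 a ha).resolve_left hp2).trans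
      (((b6 b hb).resolve_left hq2).trans (cn_two hG hp hq e a1 a2 a3 a4 b1 b2 b3 b4 b5 a5)).symm)
  exact .inr ⟨Nat.Coprime.symm (Nat.coprime_of_dvd fun r hr h3 h4 => nc hr (h2 r hr h3) h4 hab), h2⟩

theorem exists_prime (h : ⁅N, N⁆ < N) : ∃ p : ℕ, p.Prime ∧ p ∣ ⁅N, N⁆.relIndex N :=
  Nat.exists_prime_and_dvd fun e => h.not_ge (relIndex_eq_one.1 e)

theorem card_le_two (hG : N ≤ _root_.commutator G) (h : ⁅N, N⁆ < N) :
    Nat.card (commonDivisorGraph.induce (relCharDegrees N)).ConnectedComponent ≤ 2 := by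
  obtain ⟨p, hp, hp1⟩ := exists_prime h
  obtain ⟨lam, l, a1, a2, -, -, a5, a6⟩ := exists_l hG hp hp1
  have ml := a5.mem a1.irrOn a2
  obtain ⟨x, hx, hx'⟩ : ∃ x ∈ relCharDegrees N, ∀ a ∈ relCharDegrees N, p ∣ a → Cn N a x := by
    by_cases h1 : ∃ x ∈ relCharDegrees N, p ∣ x
    · obtain ⟨x, hx, hx'⟩ := h1
      exact ⟨x, hx, fun a ha h => cn_of ha hx (nc hp h hx')⟩
    · exact ⟨l, ml, fun a ha h => (h1 ⟨a, ha, h⟩).elim⟩
  refine (Nat.card_le_card_of_surjective (fun b : Bool => if b then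
    (commonDivisorGraph.induce (relCharDegrees N)).connectedComponentMk ⟨l, ml⟩ else
    (commonDivisorGraph.induce (relCharDegrees N)).connectedComponentMk ⟨x, hx⟩) fun C => ?_).trans (by simp)
  induction C using SimpleGraph.ConnectedComponent.ind with | _ v =>
  rcases a6 v v.2 with h1 | ⟨_, _, h1⟩
  · obtain ⟨_, _, h2⟩ := hx' v v.2 h1
    exact ⟨false, SimpleGraph.ConnectedComponent.sound h2.symm⟩
  · exact ⟨true, SimpleGraph.ConnectedComponent.sound h1.symm⟩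

theorem pw_m (hl : LinOn N lam) : Pw N lam (⁅N, N⁆.relIndex N) := fun n hn => by
  rw [← hl.map_pow hn]
  exact (hl.mem_kerOn.1 (hl.commutator_le (Clifford.pow_relIndex_mem (nrm_of_normal N ⁅N, N⁆) hn))).2

theorem lemY (hG : N ≤ _root_.commutator G) (hl : LinOn N lam) (hl0 : ¬ Pw N lam 1) (hθ : IrrOn N θ) (h0 : ¬ Pw N θ 1)
    (ha : Ov N θ a) (hb : Ov N lam l) (ca : a.Coprime (⁅N, N⁆.relIndex N)) (cl : l.Coprime (⁅N, N⁆.relIndex N)) :
    D2 N a l := by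
  by_contra h
  rw [D2] at h
  push Not at h
  obtain ⟨hal, h⟩ := h
  have hm := hθ.mul_lin hl
  obtain ⟨c, hc⟩ := exists_ov hm
  replace h := h c (hc.mem hm (not_pw_mul hG hθ hl hl0 ha hb hal))
  have m0 : ⁅N, N⁆.relIndex N ≠ 0 := relIndex_ne_zero _ _
  have hi : I N lam ≠ ⊤ := fun hi => hl0 ((hb.pw hG hl hi).one (pw_m hl) cl)
  have h1 : (I N θ).index.Coprime (I N lam).index :=
    (hal.coprime_dvd_left (ha.idvd hθ)).coprime_dvd_right (hb.idvd hl.irrOn)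
  have h3 : a.Coprime c := by
    by_contra h3
    obtain ⟨w, w1, w2, -, w4⟩ := exists_w hl hi h1
      (((h h3).symm.coprime_dvd_left (hb.idvd hl.irrOn)).coprime_dvd_right (hc.idvd hm))
    exact not_coprime_of_w hθ w1 w2 m0 (pw_m w1) w4 (ca.coprime_dvd_left (ha.dvd hθ))
  have hl' := lin_of hθ (Nat.eq_one_of_dvd_coprimes h3 (ha.ddvd hθ) (deg_mul hθ hl ▸ hc.ddvd hm))
  have hi' : I N θ ≠ ⊤ := fun hi => h0 ((ha.pw hG hl' hi).one (pw_m hl') ca)
  obtain ⟨w, w1, w2, -, w4⟩ := exists_w (θ := lam) hl' hi' h1.symm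
    (by rw [mul_comm]; exact (h3.coprime_dvd_left (ha.idvd hθ)).coprime_dvd_right (hc.idvd hm))
  exact not_coprime_of_w hl.irrOn w1 w2 m0 (pw_m w1) w4 (cl.coprime_dvd_left (hb.dvd hl.irrOn))

theorem comm_of_coprime {H : Type*} [Group H] [Finite H] [hs : Group.IsSolvable H]
    (h : ∀ χ : IrrCharacter H, (charDegree (χ : H → ℂ)).Coprime (_root_.commutator H).index) (x y : H) : x * y = y * x := by
  have h1 : ∀ p : {p : ℕ // p.Prime ∧ p ∣ (_root_.commutator H).index}, _ := fun p =>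
    (Cfsg.Agent.S4493.result hs p p.2.1).2 fun χ hd => nc p.2.1 hd p.2.2 (h χ)
  choose P h1 h2 h3 h4 using h1
  have h5 : ⨆ p, P p = ⊤ := by
    by_contra h5
    haveI : (⨆ p, P p).Normal := Subgroup.iSup_normal _
    obtain ⟨p, hp, hd⟩ := Nat.exists_prime_and_dvd fun e => ((solvMod_of_isSolvable ⊤ (⨆ p, P p)).commutator_sup_lt
      (lt_top_iff_ne_top.2 h5) (nrm_of_normal _ _)).ne (index_eq_one.1 e)
    exact h4 ⟨p, hp, hd.trans (index_dvd_of_le le_sup_left)⟩ (hd.trans (index_dvd_of_le (le_sup_of_le_right (le_iSup P _))))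
  have h6 : (⊤ : Subgroup H) ≤ centralizer ((⊤ : Subgroup H) : Set H) := by
    conv_lhs => rw [← h5]
    refine iSup_le fun p => le_centralizer_iff.1 ?_
    rw [← h5]
    refine iSup_le fun q a ha b hb => ?_
    by_cases e : p = q
    · subst e; exact h2 p b hb a ha
    · haveI := Fact.mk p.2.1
      haveI := Fact.mk q.2.1
      exact commute_of_normal_of_disjoint _ _ (h1 p) (h1 q)
        (IsPGroup.disjoint_of_ne p q (fun h => e (Subtype.ext h)) _ _ (h3 p) (h3 q)) b a hb ha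
  exact h6 (mem_top y) x trivial

theorem mem_mono {M : Subgroup G} (h : M ≤ N) (ha : a ∈ relCharDegrees M) : a ∈ relCharDegrees N :=
  let ⟨χ, ⟨x, hx, h1⟩, e⟩ := ha; ⟨χ, ⟨x, h hx, h1⟩, e⟩

theorem Cn.mono {M : Subgroup G} (h : M ≤ N) (hc : Cn M a b) : Cn N a b := by
  obtain ⟨ha, hb, hc⟩ := hc
  exact ⟨mem_mono h ha, mem_mono h hb, hc.map (commonDivisorGraph.induceHomOfLE fun _ => mem_mono h).toHom⟩

theorem Ov.mem' (h : Ov N θ a) (hθ : IrrOn N θ) (h0 : ¬ LinOn N θ) : a ∈ relCharDegrees ⁅N, N⁆ := by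
  obtain ⟨χ, h1, h2, rfl⟩ := h
  refine ⟨⟨χ, irrOn_top.1 h1⟩, ?_, rfl⟩
  by_contra! h3
  exact h0 (hθ.linOn_iff.2 ((triv_iff_of_dot le_top (Subgroup.commutator_le_self N) (nrm_of_normal ⊤ _) h1 hθ h2).1 h3))

theorem lt_of_mem [Group.IsSolvable N] (ha : a ∈ relCharDegrees N) : ⁅N, N⁆ < N := by
  have : (⊤ : Subgroup N) ≠ ⊥ := by
    obtain ⟨χ, ⟨x, hx, h1⟩, -⟩ := ha
    intro e
    have h2 : (⟨x, hx⟩ : N) = 1 := mem_bot.1 (e ▸ mem_top _)
    exact h1 (by rw [Subtype.mk.inj h2])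
  have := (map_lt_map_iff_of_injective N.subtype_injective).2 (Group.IsSolvable.commutator_lt_of_ne_bot this)
  rwa [map_commutator, ← MonoidHom.range_eq_map, range_subtype] at this

theorem diam_two (N : Subgroup G) : ∀ [N.Normal] [Group.IsSolvable N], N ≤ _root_.commutator G → ∀ {a b x : ℕ},
    a ∈ relCharDegrees N → b ∈ relCharDegrees N → x ∈ relCharDegrees N → ¬ Cn N a x → ¬ Cn N b x → D2 N a b := by
  induction N using WellFoundedLT.induction with | ind N ih =>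
  intro _ _ hG a b x ha hb hx h1 h2
  have hlt := lt_of_mem ha
  obtain ⟨p, hp, hp1⟩ := exists_prime hlt
  rcases split hG ha hx h1 with ⟨c1, c2⟩ | ⟨c1, c2⟩
  swap
  · exact .inl (nc hp (c2 p hp hp1) (((split hG hb hx h2).resolve_left fun h => nc hp (h.2 p hp hp1) hp1 c1).2 p hp hp1))
  have c3 := ((split hG hb hx h2).resolve_right fun h => nc hp (c2 p hp hp1) hp1 h.1).1
  obtain ⟨θ, a1, a2, a3⟩ := exists_under ha
  obtain ⟨φ, b1, b2, b3⟩ := exists_under hb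
  by_cases l1 : LinOn N φ
  · exact lemY hG l1 b2 a1 a2 a3 b3 c1 c3
  by_cases l2 : LinOn N θ
  · rcases lemY hG l2 a2 b1 b2 b3 a3 c3 c1 with h | ⟨c, hc, h, h'⟩
    · exact .inl fun e => h e.symm
    · exact .inr ⟨c, hc, fun e => h' e.symm, fun e => h e.symm⟩
  by_cases h3 : ∃ y ∈ relCharDegrees ⁅N, N⁆, ¬ y.Coprime (⁅N, N⁆.relIndex N)
  · obtain ⟨y, hy, hy'⟩ := h3
    obtain ⟨r, hr, r1, r2⟩ := Nat.Prime.not_coprime_iff_dvd.1 hy'
    have h4 := cn_of (mem_mono hlt.le hy) hx (nc hr r1 (c2 r hr r2))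
    haveI : Group.IsSolvable (⁅N, N⁆ : Subgroup G) :=
      Group.isSolvable_of_isSolvable_injective (inclusion_injective hlt.le)
    rcases ih _ hlt (hlt.le.trans hG) (a3.mem' a1 l2) (b3.mem' b1 l1) hy (fun h => h1 ((h.mono hlt.le).trans h4))
      (fun h => h2 ((h.mono hlt.le).trans h4)) with h | ⟨c, hc, h⟩
    · exact .inl h
    · exact .inr ⟨c, mem_mono hlt.le hc, h⟩
  · refine (l1 (b1.linOn_of_comm fun u hu v hv => congrArg Subtype.val
      (comm_of_coprime (H := N) (fun χ => ?_) ⟨u, hu⟩ ⟨v, hv⟩))).elim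
    have e : (_root_.commutator N).index = ⁅N, N⁆.relIndex N := by
      rw [← map_subtype_commutator N, relIndex, subgroupOf, comap_map_eq_self_of_injective N.subtype_injective]
    have h4 : IrrOn N (extendByZero N χ) := irrOn_extendByZero.2 χ.2
    have e' : charDegree (extendByZero N χ) = charDegree (χ : N → ℂ) := by rw [← charDegree_res N, res_extendByZero]
    rw [e, ← e']
    by_cases h5 : LinOn N (extendByZero N χ)
    · rw [h5.deg]; exact Nat.coprime_one_left _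
    · obtain ⟨c, hc⟩ := exists_ov h4
      push Not at h3
      exact (h3 c (hc.mem' h4 h5)).coprime_dvd_left (hc.ddvd h4)

end Cfsg.Lib.Hall.RD
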