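import Mathlib.GroupTheory.Subgroup.Simple
import Mathlib.GroupTheory.Commutator.Basic
import Mathlib.GroupTheory.QuotientGroup.Basic
import Mathlib.GroupTheory.Abelianization.Defs
import Mathlib.SetTheory.Cardinal.Finite
import Mathlib.Tactic

/-!
# Direct powers of a non-abelian simple group; Scott's lemma
-/

set_option autoImplicit false
set_option linter.dupNamespace false

namespace Cfsg.Lib.Hall
open scoped commutatorElement

variable {T ι : Type*} [Group T] [IsSimpleGroup T]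

theorem eq_one_of_comm (hT : ¬ IsMulCommutative T) {t : T} (h : ∀ s, s * t = t * s) : t = 1 := by
  rcases (inferInstance : (Subgroup.center T).Normal).eq_bot_or_eq_top with e | e
  · exact (Subgroup.mem_bot).1 (e ▸ Subgroup.mem_center_iff.2 h)
  · exact absurd ⟨⟨fun a b => Subgroup.mem_center_iff.1 (e ▸ Subgroup.mem_top b) a⟩⟩ hT

theorem commutator_top_top (hT : ¬ IsMulCommutative T) :
    ⁅(⊤ : Subgroup T), (⊤ : Subgroup T)⁆ = ⊤ := by
  rcases (inferInstance : (⁅(⊤ : Subgroup T), (⊤ : Subgroup T)⁆).Normal).eq_bot_or_eq_top with e | e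
  · exact absurd ⟨⟨fun a b => commutatorElement_eq_one_iff_mul_comm.1 (Subgroup.mem_bot.1
      (e ▸ Subgroup.commutator_mem_commutator (Subgroup.mem_top a) (Subgroup.mem_top b)))⟩⟩ hT
  · exact e

variable [DecidableEq ι]

theorem single_mem_of_normal (hT : ¬ IsMulCommutative T) (M : Subgroup (ι → T)) [hM : M.Normal]
    {x : ι → T} (hx : x ∈ M) {i : ι} (hi : x i ≠ 1) (t : T) : Pi.mulSingle i t ∈ M := by
  let f : T →* (ι → T) := MonoidHom.mulSingle (fun _ => T) i
  rcases (hM.comap f).eq_bot_or_eq_top with e | e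
  · refine absurd (eq_one_of_comm hT fun s => ?_) hi
    have h1 : ⁅s, x i⁆ ∈ M.comap f := by
      have : f ⁅s, x i⁆ = ⁅f s, x⁆ := by
        funext j
        by_cases hj : j = i
        · subst hj; simp [f, commutatorElement_def]
        · simp [f, commutatorElement_def, hj]
      rw [Subgroup.mem_comap, this, commutatorElement_def]
      exact M.mul_mem (hM.conj_mem x hx _) (M.inv_mem hx)
    rw [e] at h1
    exact commutatorElement_eq_one_iff_mul_comm.1 h1
  · exact (e ▸ Subgroup.mem_top t : t ∈ M.comap f)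

/-- The coordinate factor. -/
def fac (T : Type*) [Group T] (i : ι) : Subgroup (ι → T) where
  carrier := {x | ∀ j, j ≠ i → x j = 1}
  mul_mem' {a b} ha hb j hj := by simp [ha j hj, hb j hj]
  one_mem' _ _ := rfl
  inv_mem' {a} ha j hj := by simp [ha j hj]

omit [IsSimpleGroup T] [DecidableEq ι] in
theorem fac_normal (i : ι) : (fac T i).Normal := ⟨fun x hx g j hj => by simp [hx j hj]⟩

omit [IsSimpleGroup T] in
theorem eq_single_of_mem_fac {i : ι} {x : ι → T} (hx : x ∈ fac T i) : x = Pi.mulSingle i (x i) := by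
  funext j
  by_cases hj : j = i
  · subst hj; simp
  · simp [hj, hx j hj]

omit [IsSimpleGroup T] in
theorem single_mem_fac (i : ι) (t : T) : Pi.mulSingle i t ∈ fac T i :=
  fun j hj => by simp [hj]

theorem exists_map_fac (hT : ¬ IsMulCommutative T) (φ : (ι → T) ≃* (ι → T)) (i : ι) :
    ∃ j, ∀ x, φ x ∈ fac T j ↔ x ∈ fac T i := by
  obtain ⟨t, ht⟩ := exists_ne (1 : T)
  obtain ⟨j, hj⟩ : ∃ j, φ (Pi.mulSingle i t) j ≠ 1 := by
    by_contra hc
    push Not at hc
    have := congrFun ((map_eq_one_iff φ φ.injective).1 (funext hc)) i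
    exact ht (by simpa using this)
  have h1 := (fac_normal (T := T) i).comap φ.symm.toMonoidHom
  have h2 := (fac_normal (T := T) j).comap φ.toMonoidHom
  have h3 : ∀ s, φ.symm (Pi.mulSingle j s) ∈ fac T i := fun s =>
    single_mem_of_normal hT ((fac T i).comap φ.symm.toMonoidHom) (x := φ (Pi.mulSingle i t))
      (by simpa using single_mem_fac i t) hj s
  refine ⟨j, fun x => ⟨fun hx => ?_, fun hx => ?_⟩⟩
  · have := h3 (φ x j)
    rwa [← eq_single_of_mem_fac hx, MulEquiv.symm_apply_apply] at this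
  · rw [eq_single_of_mem_fac hx]
    refine single_mem_of_normal hT ((fac T j).comap φ.toMonoidHom) (x := φ.symm (Pi.mulSingle j t))
      (by simpa using single_mem_fac j t) (fun e => ht ?_) _
    have h4 := eq_single_of_mem_fac (h3 t)
    rw [e, Pi.mulSingle_one] at h4
    have := congrFun ((map_eq_one_iff φ.symm φ.symm.injective).1 h4) j
    simpa using this

/-- Automorphisms of a finite direct power of a non-abelian simple group permute the factors. -/
theorem aut_pi [Finite ι] (hT : ¬ IsMulCommutative T) (φ : (ι → T) ≃* (ι → T)) :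
    ∃ (σ : Equiv.Perm ι) (α : ι → T ≃* T), ∀ x i, φ x (σ i) = α i (x i) := by
  choose σ hσ using exists_map_fac hT φ
  obtain ⟨t, ht⟩ := exists_ne (1 : T)
  have hi : Function.Injective σ := fun i j hij => by
    by_contra hne
    have := (hσ j _).1 (hij ▸ (hσ i _).2 (single_mem_fac i t)) i hne
    exact ht (by simpa using this)
  let f : ι → T →* T := fun i => (Pi.evalMonoidHom (fun _ => T) (σ i)).comp
    (φ.toMonoidHom.comp (MonoidHom.mulSingle (fun _ => T) i))
  have hf : ∀ i s, f i s = φ (Pi.mulSingle i s) (σ i) := fun _ _ => rfl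
  have hb : ∀ i, Function.Bijective (f i) := fun i => by
    constructor
    · rw [injective_iff_map_eq_one]
      intro s hs
      have h1 := eq_single_of_mem_fac ((hσ i _).2 (single_mem_fac i s))
      rw [← hf, hs, Pi.mulSingle_one] at h1
      have := congrFun ((map_eq_one_iff φ φ.injective).1 h1) i
      simpa using this
    · intro s
      have h1 : φ.symm (Pi.mulSingle (σ i) s) ∈ fac T i :=
        (hσ i _).1 (by simpa using single_mem_fac (σ i) s)
      exact ⟨_, by rw [hf, ← eq_single_of_mem_fac h1]; simp⟩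
  refine ⟨Equiv.ofBijective σ (Finite.injective_iff_bijective.1 hi),
    fun i => MulEquiv.ofBijective (f i) (hb i), fun x i => ?_⟩
  change φ x (σ i) = f i (x i)
  have h1 : φ ((Pi.mulSingle i (x i))⁻¹ * x) (σ i) = 1 := eq_one_of_comm hT fun s => by
    obtain ⟨r, rfl⟩ := (hb i).2 s
    rw [hf, ← Pi.mul_apply, ← Pi.mul_apply, ← map_mul, ← map_mul]
    refine congrArg (fun z => φ z (σ i)) ?_
    funext j
    by_cases hj : j = i
    · subst hj; simp
    · simp [hj]
  rw [map_mul, map_inv, Pi.mul_apply, Pi.inv_apply, inv_mul_eq_one] at h1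
  exact h1.symm

omit [IsSimpleGroup T] [DecidableEq ι] in
theorem exists_equiv_of_ker_eq {D : Type*} [Group D] (f g : D →* T) (hf : Function.Surjective f)
    (hg : Function.Surjective g) (h : f.ker = g.ker) : ∃ β : T ≃* T, ∀ d, β (f d) = g d := by
  refine ⟨(QuotientGroup.quotientKerEquivOfSurjective f hf).symm.trans
    ((QuotientGroup.quotientMulEquivOfEq h).trans
      (QuotientGroup.quotientKerEquivOfSurjective g hg)), fun d => ?_⟩
  have : (QuotientGroup.quotientKerEquivOfSurjective f hf).symm (f d) = (d : D ⧸ f.ker) :=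
    (MulEquiv.symm_apply_eq _).2 rfl
  rw [MulEquiv.trans_apply, this]
  rfl

/-- Scott's lemma, non-degenerate case. -/
theorem eq_top_of_subdirect [Finite ι] (hT : ¬ IsMulCommutative T) (D : Subgroup (ι → T))
    (hs : ∀ i t, ∃ d ∈ D, d i = t) (hk : ∀ i j, (∀ d ∈ D, d i = 1 ↔ d j = 1) → i = j) : D = ⊤ := by
  let π : ι → D →* T := fun i => (Pi.evalMonoidHom (fun _ => T) i).comp D.subtype
  have hπ : ∀ i, Function.Surjective (π i) := fun i t =>
    let ⟨d, hd, e⟩ := hs i t; ⟨⟨d, hd⟩, e⟩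
  have h1 : ∀ i j, i ≠ j → (π j).ker.map (π i) = ⊤ := fun i j hij => by
    refine ((inferInstance : (π j).ker.Normal).map _ (hπ i)).eq_bot_or_eq_top.resolve_left
      fun e => ?_
    rw [Subgroup.map_eq_bot_iff] at e
    rcases ((inferInstance : (π i).ker.Normal).map _ (hπ j)).eq_bot_or_eq_top with e' | e'
    · rw [Subgroup.map_eq_bot_iff] at e'
      exact hij (hk i j fun d hd => ⟨fun h => @e' ⟨d, hd⟩ h, fun h => @e ⟨d, hd⟩ h⟩)
    · obtain ⟨t, ht⟩ := exists_ne (1 : T)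
      obtain ⟨d, rfl⟩ := hπ i t
      obtain ⟨c, hc, hcd⟩ : π j d ∈ (π i).ker.map (π j) := e' ▸ Subgroup.mem_top _
      have : c⁻¹ * d ∈ (π i).ker := e (by rw [MonoidHom.mem_ker, map_mul, map_inv, hcd]; simp)
      rw [MonoidHom.mem_ker, map_mul, map_inv, MonoidHom.mem_ker.1 hc] at this
      exact ht (by simpa using this)
  have h2 : ∀ i (S : Finset ι), i ∉ S → (⨅ j ∈ S, (π j).ker).map (π i) = ⊤ := fun i S => by
    induction S using Finset.induction_on with
    | empty => simpa using Subgroup.map_top_of_surjective _ (hπ i)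
    | insert j S hj ih =>
      intro hi
      rw [Finset.mem_insert, not_or] at hi
      have : (⨅ j ∈ S, (π j).ker).Normal :=
        Subgroup.normal_iInf_normal fun j => Subgroup.normal_iInf_normal fun _ => inferInstance
      rw [Finset.iInf_insert, eq_top_iff, ← commutator_top_top hT]
      nth_rw 1 [← h1 i j hi.1]
      rw [← ih hi.2, ← Subgroup.map_commutator]
      exact Subgroup.map_mono (Subgroup.commutator_le_inf _ _)
  have := Fintype.ofFinite ι
  rw [eq_top_iff]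
  intro x _
  refine Subgroup.pi_mem_of_mulSingle_mem x fun i => ?_
  obtain ⟨d, hd, e⟩ : x i ∈ (⨅ j ∈ Finset.univ.erase i, (π j).ker).map (π i) :=
    h2 i _ (Finset.notMem_erase i _) ▸ Subgroup.mem_top _
  have h3 : (d : ι → T) ∈ fac T i := fun j hj => by
    simp only [SetLike.mem_coe, Subgroup.mem_iInf] at hd
    exact hd j (by simp [hj])
  rw [← e]
  exact (eq_single_of_mem_fac h3) ▸ d.2

theorem forall_of_min [Finite ι] (hT : ¬ IsMulCommutative T) {Φ : Set ((ι → T) ≃* (ι → T))}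
    (hmin : ∀ M : Subgroup (ι → T), M.Normal → (∀ φ ∈ Φ, ∀ x ∈ M, φ x ∈ M) → M = ⊥ ∨ M = ⊤)
    (p : ι → Prop) (hp : ∀ φ ∈ Φ, ∀ (σ : Equiv.Perm ι) (α : ι → T ≃* T),
      (∀ x i, φ x (σ i) = α i (x i)) → ∀ i, p (σ i) → p i) {i₀ : ι} (h0 : p i₀) (i : ι) : p i := by
  let M : Subgroup (ι → T) :=
    { carrier := {x | ∀ j, p j → x j = 1}
      mul_mem' := fun {a b} ha hb j hj => by simp [ha j hj, hb j hj]
      one_mem' := fun _ _ => rfl
      inv_mem' := fun {a} ha j hj => by simp [ha j hj] }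
  obtain ⟨t, ht⟩ := exists_ne (1 : T)
  rcases hmin M ⟨fun x hx g j hj => by simp [hx j hj]⟩ (fun φ hφ x hx j hj => by
    obtain ⟨σ, α, h⟩ := aut_pi hT φ
    obtain ⟨j, rfl⟩ := σ.surjective j
    rw [h, hx j (hp φ hφ σ α h j hj), map_one]) with e | e
  · by_contra hi
    have : Pi.mulSingle i t ∈ M := fun j hj => by
      have : j ≠ i := by rintro rfl; exact hi hj
      simp [this]
    rw [e] at this
    exact ht (by simpa using congrFun (Subgroup.mem_bot.1 this) i)
  · exact absurd ((e ▸ Subgroup.mem_top _ : (fun _ => t) ∈ M) i₀ h0) ht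

theorem scott_core [Finite ι] (hT : ¬ IsMulCommutative T) (D : Subgroup (ι → T))
    (Φ : Set ((ι → T) ≃* (ι → T))) (hΦ : ∀ φ ∈ Φ, ∀ x, φ x ∈ D ↔ x ∈ D)
    (hmax : ∀ X : Subgroup (ι → T), D ≤ X → (∀ φ ∈ Φ, ∀ x ∈ X, φ x ∈ X) → X = D ∨ X = ⊤)
    (hmin : ∀ M : Subgroup (ι → T), M.Normal → (∀ φ ∈ Φ, ∀ x ∈ M, φ x ∈ M) → M = ⊥ ∨ M = ⊤)
    (hD : D ≠ ⊤) : (∃ K : ι → Subgroup T, (∀ i, K i ≠ ⊤) ∧ ∀ x, x ∈ D ↔ ∀ i, x i ∈ K i) ∨
      ∃ (β : ι → T ≃* T) (k : ℕ) (c : ι → ι), 2 ≤ k ∧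
        (∀ j, Nat.card {i // c i = j} = k ∨ Nat.card {i // c i = j} = 0) ∧
        ∀ x, x ∈ D ↔ ∀ i j, c i = c j → β i (x i) = β j (x j) := by
  obtain ⟨t, ht⟩ := exists_ne (1 : T)
  let K : ι → Subgroup T := fun i => D.map (Pi.evalMonoidHom (fun _ => T) i)
  by_cases hK : ∃ i, K i ≠ ⊤
  · left
    obtain ⟨i₀, h0⟩ := hK
    refine ⟨K, forall_of_min hT hmin (fun i => K i ≠ ⊤) (fun φ hφ σ α h i h1 h2 => h1 ?_) h0, ?_⟩
    · rw [eq_top_iff]
      intro s _
      obtain ⟨d, hd, e⟩ : (α i).symm s ∈ K i := h2 ▸ Subgroup.mem_top _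
      exact ⟨φ d, (hΦ φ hφ d).2 hd, (h d i).trans (by
        rw [show d i = (α i).symm s from e, MulEquiv.apply_symm_apply])⟩
    rcases hmax (Subgroup.pi Set.univ K) (fun d hd i _ => ⟨d, hd, rfl⟩) (fun φ hφ x hx j _ => by
      obtain ⟨σ, α, h⟩ := aut_pi hT φ
      obtain ⟨j, rfl⟩ := σ.surjective j
      obtain ⟨d, hd, e⟩ := hx j trivial
      exact ⟨φ d, (hΦ φ hφ d).2 hd, (h d j).trans (by rw [h x j, ← e]; rfl)⟩) with e | e
    · intro x
      rw [← e]
      exact ⟨fun h i => h i trivial, fun h i _ => h i⟩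
    · exact absurd (eq_top_iff.2 fun s _ =>
        (e ▸ Subgroup.mem_top _ : (fun _ => s) ∈ Subgroup.pi Set.univ K) i₀ trivial) h0
  right
  push Not at hK
  have hs : ∀ i t, ∃ d ∈ D, d i = t := fun i t => (hK i ▸ Subgroup.mem_top t : t ∈ K i)
  let r : Setoid ι := ⟨fun i j => ∀ d ∈ D, d i = 1 ↔ d j = 1, fun _ _ _ => Iff.rfl,
    fun h d hd => (h d hd).symm, fun h h' d hd => (h d hd).trans (h' d hd)⟩
  have hr : ∀ φ ∈ Φ, ∀ (σ : Equiv.Perm ι) (α : ι → T ≃* T),
      (∀ x i, φ x (σ i) = α i (x i)) → ∀ i j, r (σ i) (σ j) ↔ r i j := fun φ hφ σ α h i j => by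
    constructor
    · intro h1 d hd
      have := h1 (φ d) ((hΦ φ hφ d).2 hd)
      rwa [h, h, map_eq_one_iff _ (α i).injective, map_eq_one_iff _ (α j).injective] at this
    · intro h1 d hd
      obtain ⟨d, rfl⟩ := φ.surjective d
      rw [h, h, map_eq_one_iff _ (α i).injective, map_eq_one_iff _ (α j).injective]
      exact h1 d ((hΦ φ hφ d).1 hd)
  let c : ι → ι := fun i => (Quotient.mk r i).out
  have hc : ∀ i j, c i = c j ↔ r i j := fun i j => by
    rw [Quotient.out_inj, Quotient.eq]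
  have hc' : ∀ i, r i (c i) := fun i => r.symm (Quotient.mk_out i)
  let π : ι → D →* T := fun i => (Pi.evalMonoidHom (fun _ => T) i).comp D.subtype
  have hπ : ∀ i, Function.Surjective (π i) := fun i t =>
    let ⟨d, hd, e⟩ := hs i t; ⟨⟨d, hd⟩, e⟩
  choose β hβ using fun i => exists_equiv_of_ker_eq (π i) (π (c i)) (hπ i) (hπ _)
    (Subgroup.ext fun d => hc' i d d.2)
  have hβ' : ∀ i, ∀ d ∈ D, β i (d i) = d (c i) := fun i d hd => hβ i ⟨d, hd⟩
  obtain ⟨i₀, j₀, h0, h1⟩ : ∃ i j, r i j ∧ i ≠ j := by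
    by_contra hcon
    push Not at hcon
    exact hD (eq_top_of_subdirect hT D hs hcon)
  let X : Subgroup (ι → T) :=
    { carrier := {x | ∀ i j, r i j → ∃ d ∈ D, d i = x i ∧ d j = x j}
      mul_mem' := fun {a b} ha hb i j hij =>
        let ⟨d, hd, e1, e2⟩ := ha i j hij
        let ⟨d', hd', e1', e2'⟩ := hb i j hij
        ⟨d * d', D.mul_mem hd hd', by simp [e1, e1'], by simp [e2, e2']⟩
      one_mem' := fun _ _ _ => ⟨1, D.one_mem, rfl, rfl⟩
      inv_mem' := fun {a} ha i j hij =>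
        let ⟨d, hd, e1, e2⟩ := ha i j hij
        ⟨d⁻¹, D.inv_mem hd, by simp [e1], by simp [e2]⟩ }
  have hX : X = D := by
    refine (hmax X (fun d hd i j _ => ⟨d, hd, rfl, rfl⟩) fun φ hφ x hx i j hij => ?_).resolve_right
      fun e => ?_
    · obtain ⟨σ, α, h⟩ := aut_pi hT φ
      obtain ⟨i, rfl⟩ := σ.surjective i
      obtain ⟨j, rfl⟩ := σ.surjective j
      obtain ⟨d, hd, e1, e2⟩ := hx i j ((hr φ hφ σ α h i j).1 hij)
      exact ⟨φ d, (hΦ φ hφ d).2 hd, by rw [h, h, e1], by rw [h, h, e2]⟩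
    · obtain ⟨d, hd, e1, e2⟩ := (e ▸ Subgroup.mem_top _ : Pi.mulSingle i₀ t ∈ X) i₀ j₀ h0
      rw [Pi.mulSingle_eq_of_ne h1.symm] at e2
      rw [Pi.mulSingle_eq_same, (h0 d hd).2 e2] at e1
      exact ht e1.symm
  have hk : ∀ i, Nat.card {j // r j i} = Nat.card {j // r j i₀} :=
    forall_of_min hT hmin (fun i => Nat.card {j // r j i} = Nat.card {j // r j i₀})
      (fun φ hφ σ α h i h1 => (Nat.card_congr
        (σ.subtypeEquiv fun j => (hr φ hφ σ α h j i).symm)).trans h1) (i₀ := i₀) rfl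
  refine ⟨β, Nat.card {j // r j i₀}, c, ?_, fun j => ?_, fun x => ⟨fun hx i j hij => ?_, fun hx => ?_⟩⟩
  · have : Nontrivial {j // r j i₀} :=
      ⟨⟨⟨i₀, r.refl _⟩, ⟨j₀, r.symm h0⟩, fun e => h1 (congrArg Subtype.val e)⟩⟩
    exact Finite.one_lt_card
  · by_cases hj : ∃ i, c i = j
    · obtain ⟨i, rfl⟩ := hj
      exact Or.inl ((Nat.card_congr (Equiv.subtypeEquivRight fun j => hc j i)).trans (hk i))
    · have : IsEmpty {i // c i = j} := ⟨fun i => hj ⟨i.1, i.2⟩⟩
      exact Or.inr (Nat.card_of_isEmpty)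
  · rw [hβ' i x hx, hβ' j x hx, hij]
  · rw [← hX]
    intro i j hij
    obtain ⟨d, hd, e⟩ := hs i (x i)
    refine ⟨d, hd, e, (β j).injective ?_⟩
    rw [← hx i j ((hc i j).2 hij), ← e, hβ' i d hd, hβ' j d hd, (hc i j).2 hij]

end Cfsg.Lib.Hall
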