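import Cfsg.Agent.Lib.Hall.FC9
import Cfsg.Agent.Lib.BN.ZassField
import Mathlib.RingTheory.LittleWedderburn

/-! Linear groups that are transitive on non-zero vectors: normal subgroups and their enveloping algebras. -/

namespace Cfsg.Lib.Hall.Lin

open Subgroup _root_.Cfsg.Lib.Core _root_.Cfsg.Lib.Transfer
open scoped Pointwise commutatorElement

local notation "𝐍" X:max => normalizer (SetLike.coe (X : Subgroup _))
local notation "𝐂" X:max => centralizer (SetLike.coe (X : Subgroup _))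

universe v

variable {k G : Type*} {V : Type v} [Field k] [AddCommGroup V] [Module k V] [Group G] (ρ : G →* Module.End k V)

/-- transitive on non-zero vectors -/
def Tr : Prop := ∀ v w : V, v ≠ 0 → w ≠ 0 → ∃ g, ρ g v = w

/-- `N` acts irreducibly -/
def Irr (N : Subgroup G) : Prop := ∀ W : Submodule k V, (∀ n ∈ N, ∀ v ∈ W, ρ n v ∈ W) → W = ⊥ ∨ W = ⊤

/-- the enveloping algebra -/
def alg (N : Subgroup G) : Subalgebra k (Module.End k V) := Algebra.adjoin k (ρ '' N)

/-- non-zero elements of `S` are injective -/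
def Dom (S : Subalgebra k (Module.End k V)) : Prop := ∀ r ∈ S, ∀ v, v ≠ 0 → r v = 0 → r = 0

variable {ρ} {N A : Subgroup G}

theorem mem_alg {n : G} (hn : n ∈ N) : ρ n ∈ alg ρ N := Algebra.subset_adjoin ⟨n, hn, rfl⟩

theorem inv_apply (g : G) (v : V) : ρ g⁻¹ (ρ g v) = v := by
  rw [← Module.End.mul_apply, ← map_mul, inv_mul_cancel, map_one, Module.End.one_apply]

theorem apply_inv (g : G) (v : V) : ρ g (ρ g⁻¹ v) = v := by
  rw [← Module.End.mul_apply, ← map_mul, mul_inv_cancel, map_one, Module.End.one_apply]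

theorem apply_ne_zero (g : G) {v : V} (hv : v ≠ 0) : ρ g v ≠ 0 := fun h => hv (by rw [← inv_apply (ρ := ρ) g v, h, map_zero])

theorem alg_inv {W : Submodule k V} (hW : ∀ n ∈ N, ∀ v ∈ W, ρ n v ∈ W) {r : Module.End k V} (hr : r ∈ alg ρ N) :
    ∀ v ∈ W, r v ∈ W := by
  induction hr using Algebra.adjoin_induction with
  | mem x hx => obtain ⟨n, hn, rfl⟩ := hx; exact hW n hn
  | algebraMap c => exact fun v hv => W.smul_mem c hv
  | add x y _ _ hx hy => exact fun v hv => W.add_mem (hx v hv) (hy v hv)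
  | mul x y _ _ hx hy => exact fun v hv => hx _ (hy v hv)

theorem conj_mem_alg [hN : N.Normal] (g : G) {r : Module.End k V} (hr : r ∈ alg ρ N) : ρ g * r * ρ g⁻¹ ∈ alg ρ N := by
  induction hr using Algebra.adjoin_induction with
  | mem x hx =>
    obtain ⟨n, hn, rfl⟩ := hx
    rw [← map_mul, ← map_mul]
    exact mem_alg (hN.conj_mem n hn g)
  | algebraMap c =>
    rw [← Algebra.commutes, mul_assoc, ← map_mul, mul_inv_cancel, map_one, mul_one]
    exact (alg ρ N).algebraMap_mem c
  | add x y _ _ hx hy => rw [mul_add, add_mul]; exact add_mem hx hy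
  | mul x y _ _ hx hy =>
    have : ρ g * (x * y) * ρ g⁻¹ = (ρ g * x * ρ g⁻¹) * (ρ g * y * ρ g⁻¹) := by
      simp only [mul_assoc]
      rw [← mul_assoc (ρ g⁻¹), ← map_mul, inv_mul_cancel, map_one, one_mul]
    rw [this]
    exact mul_mem hx hy

theorem commute_alg {x : Module.End k V} (hx : ∀ n ∈ N, Commute x (ρ n)) {r : Module.End k V} (hr : r ∈ alg ρ N) :
    Commute x r := by
  induction hr using Algebra.adjoin_induction with
  | mem y hy => obtain ⟨n, hn, rfl⟩ := hy; exact hx n hn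
  | algebraMap c => exact (Algebra.commutes c x).symm
  | add _ _ _ _ h1 h2 => exact h1.add_right h2
  | mul _ _ _ _ h1 h2 => exact h1.mul_right h2

/-- the cyclic submodule -/
def cyc (S : Subalgebra k (Module.End k V)) (v : V) : Submodule k V := S.toSubmodule.map (LinearMap.applyₗ v)

theorem mem_cyc {S : Subalgebra k (Module.End k V)} {v w : V} : w ∈ cyc S v ↔ ∃ r ∈ S, r v = w := Iff.rfl

theorem Tr.simple [Finite V] [N.Normal] (h : Tr ρ) {v : V} {r : Module.End k V} (hr : r ∈ alg ρ N) (hv : r v ≠ 0) :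
    ∃ t ∈ alg ρ N, t (r v) = v := by
  have hv0 : v ≠ 0 := fun e => hv (by rw [e, map_zero])
  obtain ⟨g, hg⟩ := h (r v) v hv hv0
  have h1 : cyc (alg ρ N) (r v) ≤ cyc (alg ρ N) v := by
    rintro _ ⟨t, ht, rfl⟩
    exact ⟨t * r, (alg ρ N).mul_mem ht hr, rfl⟩
  have h2 : Nat.card (cyc (alg ρ N) v) ≤ Nat.card (cyc (alg ρ N) (r v)) := by
    refine Nat.card_le_card_of_injective (fun x => ⟨ρ g⁻¹ x, ?_⟩) fun x y e => ?_
    · obtain ⟨t, ht, e⟩ := mem_cyc.mp x.2
      refine ⟨ρ g⁻¹ * t * ρ g⁻¹⁻¹, conj_mem_alg _ ht, ?_⟩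
      rw [← e, inv_inv]
      conv_rhs => rw [← hg]
      rfl
    · apply Subtype.ext
      rw [← apply_inv (ρ := ρ) g x, ← apply_inv (ρ := ρ) g y]
      exact congrArg (ρ g) (congrArg Subtype.val e)
  have h3 : cyc (alg ρ N) (r v) = cyc (alg ρ N) v := by
    apply SetLike.coe_injective
    exact Set.eq_of_subset_of_ncard_le h1 (by rw [← Nat.card_coe_set_eq, ← Nat.card_coe_set_eq]; exact h2)
  have : v ∈ cyc (alg ρ N) (r v) := h3 ▸ ⟨1, (alg ρ N).one_mem, rfl⟩
  exact this

theorem Tr.dom_of_not_irr [Finite V] [N.Normal] (h : Tr ρ) (hI : ¬ Irr ρ N) : Dom (alg ρ N) := by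
  simp only [Irr, not_forall, not_or] at hI
  obtain ⟨W, hW, h0, h1⟩ := hI
  have a1 : ∀ r ∈ alg ρ N, ∀ v ∈ W, ∀ w ∉ W, r w = 0 → r v = 0 := fun r hr v hv w hw e => by
    by_contra hc
    obtain ⟨t, ht, e2⟩ := h.simple hr (v := v + w) (by rwa [map_add, e, add_zero])
    rw [map_add, e, add_zero] at e2
    exact hw ((W.add_mem_iff_right hv).mp (e2 ▸ alg_inv hW ht _ (alg_inv hW hr _ hv)))
  have a2 : ∀ r ∈ alg ρ N, ∀ v ∈ W, v ≠ 0 → ∀ w ∉ W, r v = 0 → r w = 0 := fun r hr v hv hv0 w hw e => by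
    by_contra hc
    obtain ⟨t, ht, e2⟩ := h.simple hr hc
    have := a1 (1 - t * r) (sub_mem (one_mem _) (mul_mem ht hr)) v hv w hw (by simp [e2])
    simp [e, hv0] at this
  obtain ⟨v1, hv1, hv10⟩ := W.exists_mem_ne_zero_of_ne_bot h0
  obtain ⟨w1, hw1⟩ : ∃ w, w ∉ W := by
    by_contra hc
    push Not at hc
    exact h1 (Submodule.eq_top_iff'.mpr hc)
  intro r hr v hv e
  have b1 : r v1 = 0 := by
    by_cases hvW : v ∈ W
    · exact a1 r hr v1 hv1 w1 hw1 (a2 r hr v hvW hv w1 hw1 e)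
    · exact a1 r hr v1 hv1 v hvW e
  ext u
  by_cases hu : u ∈ W
  · exact a1 r hr u hu w1 hw1 (a2 r hr v1 hv1 hv10 w1 hw1 b1)
  · exact a2 r hr v1 hv1 hv10 u hu b1

theorem Irr.dom_centralizer (h : Irr ρ N) : Dom (Subalgebra.centralizer k (ρ '' N)) := fun r hr v hv e => by
  rcases h (LinearMap.ker r) fun n hn w hw => by
    rw [LinearMap.mem_ker] at hw ⊢
    rw [← Module.End.mul_apply, ← (Subalgebra.mem_centralizer_iff k).mp hr _ ⟨n, hn, rfl⟩, Module.End.mul_apply, hw, map_zero]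
    with h1 | h1
  · exact absurd (h1 ▸ e : v ∈ (⊥ : Submodule k V)) hv
  · exact LinearMap.ker_eq_top.mp h1

theorem alg_comm (hA : IsMulCommutative A) {r s : Module.End k V} (hr : r ∈ alg ρ A) (hs : s ∈ alg ρ A) : Commute r s :=
  commute_alg (fun n hn => (commute_alg (fun m hm => by
    rw [Commute, SemiconjBy, ← map_mul, ← map_mul]
    exact congrArg (fun x : A => ρ x) (hA.is_comm.comm ⟨n, hn⟩ ⟨m, hm⟩)) hr).symm) hs

theorem Tr.dom_of_comm [Finite V] [A.Normal] (h : Tr ρ) (hA : IsMulCommutative A) : Dom (alg ρ A) := by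
  by_cases hI : Irr ρ A
  · exact fun r hr => hI.dom_centralizer r ((Subalgebra.mem_centralizer_iff k).mpr <| by
      rintro _ ⟨n, hn, rfl⟩; exact alg_comm hA (mem_alg hn) hr)
  · exact h.dom_of_not_irr hI

theorem Dom.isField [Finite V] [Nontrivial V] {S : Subalgebra k (Module.End k V)} (h : Dom S) : IsField S := by
  haveI : Finite (Module.End k V) := Finite.of_injective _ DFunLike.coe_injective
  haveI : NoZeroDivisors S := ⟨fun {a b} e => by
    by_contra hc
    push Not at hc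
    obtain ⟨v, hv⟩ : ∃ v, b.1 v ≠ 0 := by
      by_contra hc'
      push Not at hc'
      exact hc.2 (Subtype.ext (LinearMap.ext hc'))
    exact hc.1 (Subtype.ext (h a.1 a.2 _ hv (congrArg (fun x : S => x.1 v) e)))⟩
  haveI : IsDomain S := NoZeroDivisors.to_isDomain S
  exact Finite.isDomain_to_isField S

theorem Dom.comm [Finite V] {S : Subalgebra k (Module.End k V)} (h : Dom S) {x y : Module.End k V} (hx : x ∈ S)
    (hy : y ∈ S) : x * y = y * x := by
  rcases subsingleton_or_nontrivial V with hV | hV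
  · exact LinearMap.ext fun _ => Subsingleton.elim _ _
  · exact congrArg Subtype.val (h.isField.mul_comm ⟨x, hx⟩ ⟨y, hy⟩)

theorem Tr.irr_of_not_comm [Finite V] [N.Normal] (h : Tr ρ) (hρ : Function.Injective ρ) (hN : ¬ IsMulCommutative N) :
    Irr ρ N := by
  by_contra hI
  exact hN ⟨⟨fun a b => Subtype.ext (hρ (by
    simpa only [coe_mul, map_mul] using (h.dom_of_not_irr hI).comm (mem_alg a.2) (mem_alg b.2)))⟩⟩

theorem Irr.comm_centralizer [Finite V] (h : Irr ρ N) (hρ : Function.Injective ρ) : IsMulCommutative (𝐂 N) := by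
  have a : ∀ x ∈ 𝐂 N, ρ x ∈ Subalgebra.centralizer k (ρ '' N) := fun x hx => (Subalgebra.mem_centralizer_iff k).mpr <| by
    rintro _ ⟨n, hn, rfl⟩
    rw [← map_mul, ← map_mul, mem_centralizer_iff.mp hx n hn]
  exact ⟨⟨fun x y => Subtype.ext (hρ (by simpa only [coe_mul, map_mul] using h.dom_centralizer.comm (a _ x.2) (a _ y.2)))⟩⟩

theorem Tr.card_dvd [Finite V] [Nontrivial V] (h : Tr ρ) : Nat.card V - 1 ∣ Nat.card G := by
  obtain ⟨v, hv⟩ := exists_ne (0 : V)
  letI : MulAction G V := MulAction.compHom V ρ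
  have e : MulAction.orbit G v = {0}ᶜ := by
    ext w
    exact ⟨by rintro ⟨g, rfl⟩; exact apply_ne_zero g hv, fun hw => h v w hv hw⟩
  have := (MulAction.stabilizer G v).index_dvd_card
  rwa [MulAction.index_stabilizer, e, Set.ncard_compl, Set.ncard_singleton] at this

theorem Tr.card_eq [Finite V] [Nontrivial V] (h : Tr ρ) (hf : ∀ g, g ≠ 1 → ∀ v, ρ g v = v → v = 0) :
    Nat.card G = Nat.card V - 1 := by
  obtain ⟨v, hv⟩ := exists_ne (0 : V)
  letI : MulAction G V := MulAction.compHom V ρ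
  have e : MulAction.orbit G v = {0}ᶜ := by
    ext w
    exact ⟨by rintro ⟨g, rfl⟩; exact apply_ne_zero g hv, fun hw => h v w hv hw⟩
  have e2 : MulAction.stabilizer G v = ⊥ := eq_bot_iff.mpr fun g hg => by
    by_contra hc
    exact hv (hf g hc v hg)
  have := MulAction.index_stabilizer G v
  rwa [e2, index_bot, e, Set.ncard_compl, Set.ncard_singleton] at this

/-- conjugation on the enveloping algebra -/
def conjAlg (ρ : G →* Module.End k V) (N : Subgroup G) [N.Normal] : G →* (alg ρ N ≃ₐ[k] alg ρ N) :=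
  (AlgEquiv.algHomUnitsEquiv k (alg ρ N)).toMonoidHom.comp <| MonoidHom.toHomUnits (M := alg ρ N →ₐ[k] alg ρ N)
    { toFun g :=
        { toFun r := ⟨ρ g * r * ρ g⁻¹, conj_mem_alg g r.2⟩
          map_one' := Subtype.ext (by simp [← map_mul])
          map_mul' x y := Subtype.ext (by
            simp only [MulMemClass.coe_mul, mul_assoc]
            rw [← mul_assoc (ρ g⁻¹), ← map_mul, inv_mul_cancel, map_one, one_mul])
          map_zero' := Subtype.ext (by simp)
          map_add' x y := Subtype.ext (by simp [mul_add, add_mul])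
          commutes' c := Subtype.ext (by
            show ρ g * algebraMap k _ c * ρ g⁻¹ = algebraMap k _ c
            rw [← Algebra.commutes, mul_assoc, ← map_mul, mul_inv_cancel, map_one, mul_one]) }
      map_one' := AlgHom.ext fun r => Subtype.ext (by simp)
      map_mul' g h := AlgHom.ext fun r => Subtype.ext (by simp [mul_assoc]) }

theorem conjAlg_apply [N.Normal] (g : G) (r : alg ρ N) : (conjAlg ρ N g r : Module.End k V) = ρ g * r * ρ g⁻¹ := rfl

/-- the field generated by a normal abelian subgroup -/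
structure Fld (ρ : G →* Module.End k V) (A : Subgroup G) {F : Type*} [Field F] [Algebra k F] [Module F V]
    (χ : A →* Fˣ) (θ : G →* (F ≃ₐ[k] F)) : Prop where
  tower : IsScalarTower k F V
  inj : Function.Injective χ
  act : ∀ (a : A) v, ρ a v = (χ a : F) • v
  semi : ∀ g c v, ρ g (c • v) = θ g c • ρ g v
  ker : θ.ker = 𝐂 A
  inv : ∀ W : Submodule k V, (∀ c : F, ∀ v ∈ W, c • v ∈ W) ↔ ∀ a ∈ A, ∀ v ∈ W, ρ a v ∈ W

theorem Tr.exists_fld [Finite V] [Nontrivial V] [A.Normal] (h : Tr ρ) (hρ : Function.Injective ρ)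
    (hA : IsMulCommutative A) : ∃ (F : Type v) (_ : Field F) (_ : Finite F) (_ : Algebra k F) (_ : Module F V)
      (χ : A →* Fˣ) (θ : G →* (F ≃ₐ[k] F)), Fld ρ A χ θ := by
  haveI : Finite (Module.End k V) := Finite.of_injective _ DFunLike.coe_injective
  let χ : A →* alg ρ A := ((ρ.comp A.subtype).codRestrict (alg ρ A).toSubmonoid fun a => mem_alg a.2)
  let i1 : Algebra k (alg ρ A) := inferInstance
  let i2 : Module (alg ρ A) V := inferInstance
  have i3 : IsScalarTower k (alg ρ A) V := inferInstance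
  let θ := conjAlg ρ A
  let χ' := χ.toHomUnits
  letI i0 : Field (alg ρ A) := (h.dom_of_comm hA).isField.toField
  refine ⟨alg ρ A, i0, inferInstance, i1, i2, χ', θ, i3, fun a b e => ?_, fun _ _ => rfl,
    fun g c v => ?_, ?_, fun W => ⟨fun hW a ha => hW ⟨_, mem_alg ha⟩, fun hW c => alg_inv hW c.2⟩⟩
  · exact Subtype.ext (hρ (congrArg (fun x : (alg ρ A)ˣ => (x.1.1 : Module.End k V)) e))
  · show ρ g (c.1 v) = (ρ g * c * ρ g⁻¹) (ρ g v)
    rw [Module.End.mul_apply, inv_apply, Module.End.mul_apply]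
  · ext g
    rw [MonoidHom.mem_ker, mem_centralizer_iff]
    constructor
    · intro e a ha
      have : ρ g * ρ a * ρ g⁻¹ = ρ a := congrArg (fun x : alg ρ A ≃ₐ[k] alg ρ A => (x ⟨_, mem_alg ha⟩ : Module.End k V)) e
      simp only [← map_mul] at this
      exact (mul_inv_eq_iff_eq_mul.mp (hρ this)).symm
    · intro e
      refine AlgEquiv.ext fun r => Subtype.ext ?_
      have : Commute (ρ g) r := commute_alg (fun n hn => by rw [Commute, SemiconjBy, ← map_mul, ← map_mul, e n hn]) r.2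
      rw [conjAlg_apply, this.eq, mul_assoc, ← map_mul, mul_inv_cancel, map_one, mul_one]
      rfl

namespace Fld

variable {F : Type*} [Field F] [Algebra k F] [Module F V] {χ : A →* Fˣ} {θ : G →* (F ≃ₐ[k] F)} (h : Fld ρ A χ θ)
include h

theorem card_dvd [Finite F] : Nat.card A ∣ Nat.card F - 1 := by
  rw [← Nat.card_units]
  exact card_dvd_of_injective χ h.inj

theorem isCyclic [Finite F] : IsCyclic A := isCyclic_of_injective χ h.inj

theorem index_le [Finite F] : (𝐂 A).index ≤ Module.finrank k F := by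
  classical
  haveI := Fintype.ofFinite F
  rw [← h.ker, index_ker]
  refine (card_le_card_group _).trans ?_
  rw [Nat.card_eq_fintype_card]
  exact AlgEquiv.card_le

theorem irr_iff [Finite V] [Nontrivial V] : Irr ρ A ↔ Module.finrank F V = 1 := by
  haveI := h.tower
  constructor
  · intro hI
    obtain ⟨v, hv⟩ := exists_ne (0 : V)
    refine finrank_eq_one v hv fun w => ?_
    rcases hI ((F ∙ v).restrictScalars k) ((h.inv _).mp fun c u hu => (F ∙ v).smul_mem c hu) with e | e
    · exact absurd (e ▸ Submodule.mem_span_singleton_self v : v ∈ (⊥ : Submodule k V)) hv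
    · exact Submodule.mem_span_singleton.mp (e ▸ Submodule.mem_top : w ∈ (F ∙ v).restrictScalars k)
  · intro h1 W hW
    refine or_iff_not_imp_left.mpr fun h0 => Submodule.eq_top_iff'.mpr fun w => ?_
    obtain ⟨v, hv, hv0⟩ := W.exists_mem_ne_zero_of_ne_bot h0
    obtain ⟨c, rfl⟩ := (finrank_eq_one_iff_of_nonzero' v hv0).mp h1 w
    exact (h.inv W).mpr hW c v hv

theorem semilinear [Finite V] [Finite F] [Nontrivial V] (hI : Irr ρ A) :
    ∃ (F : Type) (_ : Field F) (_ : Fintype F) (e : V ≃+ F),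
      ∀ g : G, ∃ (a : F) (σ : F ≃+* F), ∀ v : V, e (ρ g v) = a * σ (e v) := by
  obtain ⟨v, hv⟩ := exists_ne (0 : V)
  let e := (FiniteDimensional.basisSingleton Unit (h.irr_iff.mp hI) v hv).equivFun.trans (LinearEquiv.funUnique Unit F F)
  obtain ⟨F', _, _, ⟨f⟩⟩ := BN.exists_field_zero F
  refine ⟨F', inferInstance, Fintype.ofFinite _, e.toAddEquiv.trans f.toAddEquiv, fun g =>
    ⟨f (e (ρ g (e.symm 1))), f.symm.trans ((θ g).toRingEquiv.trans f), fun w => ?_⟩⟩
  have : w = e w • e.symm 1 := by rw [← map_smul, smul_eq_mul, mul_one, e.symm_apply_apply]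
  show f (e (ρ g w)) = _ * f (θ g (f.symm (f (e w))))
  rw [f.symm_apply_apply, ← map_mul, mul_comm, ← smul_eq_mul, ← map_smul, ← h.semi, ← this]

end Fld

end Cfsg.Lib.Hall.Lin
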