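import Cfsg.Agent.Lib.Hall.Sh2b

/-! Linear groups that are regular on non-zero vectors (Zassenhaus). -/

namespace Cfsg.Lib.Hall.Lin

open Subgroup _root_.Cfsg.Lib.Core _root_.Cfsg.Lib.Transfer
open scoped Pointwise commutatorElement

local notation "𝐍" X:max => normalizer (SetLike.coe (X : Subgroup _))
local notation "𝐂" X:max => centralizer (SetLike.coe (X : Subgroup _))

variable {k G V : Type*} [Field k] [AddCommGroup V] [Module k V] [Group G] {ρ : G →* Module.End k V}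
  {A N : Subgroup G} {r : ℕ}

theorem Fld.card_inv {F : Type*} [Field F] [Algebra k F] [Module F V] {χ : A →* Fˣ} {θ : G →* (F ≃ₐ[k] F)} [Finite V]
    (h : Fld ρ A χ θ) {W : Submodule k V} (hW : ∀ a ∈ A, ∀ v ∈ W, ρ a v ∈ W) : ∃ j, Nat.card W = Nat.card F ^ j := by
  let W' : Submodule F V := { W.toAddSubmonoid with smul_mem' := fun c v hv => (h.inv W).mpr hW c v hv }
  exact ⟨_, Module.natCard_eq_pow_finrank (K := F) (V := W')⟩

theorem geom_dvd {Q m a t : ℕ} (hQ : 2 ≤ Q) (h1 : a ∣ Q - 1) (h2 : Q ^ m - 1 ∣ a * t) : ∑ i ∈ Finset.range m, Q ^ i ∣ t := by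
  obtain ⟨u, hu⟩ := h1
  have ha : 0 < a := Nat.pos_of_ne_zero fun e => by rw [e, zero_mul] at hu; omega
  rw [← geom_sum_mul_of_one_le (show 1 ≤ Q by omega), hu, mul_left_comm] at h2
  exact (dvd_mul_right _ _).trans ((Nat.mul_dvd_mul_iff_left ha).mp h2)

set_option synthInstance.maxSize 1000 in
theorem geom_120 {Q m : ℕ} (hQ : 2 ≤ Q) (hm : 2 ≤ m) (h : ∑ i ∈ Finset.range m, Q ^ i ∣ 120) :
    m = 2 ∨ (m = 4 ∧ (Q = 2 ∨ Q = 3)) := by
  have h1 : Q ^ (m - 1) ≤ 120 := (Finset.single_le_sum (f := fun i => Q ^ i) (fun _ _ => Nat.zero_le _)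
    (Finset.mem_range.mpr (by omega))).trans (Nat.le_of_dvd (by norm_num) h)
  have h2 : Q < 121 := by have := Nat.le_self_pow (n := m - 1) (by omega) Q; omega
  have h3 : m < 8 := by
    by_contra hc
    have := (Nat.pow_le_pow_left hQ _).trans h1
    have := Nat.pow_le_pow_right (n := 2) two_pos (show 7 ≤ m - 1 by omega)
    omega
  have : ∀ m < 8, ∀ Q < 121, 2 ≤ Q → 2 ≤ m → ∑ i ∈ Finset.range m, Q ^ i ∣ 120 → m = 2 ∨ (m = 4 ∧ (Q = 2 ∨ Q = 3)) := by
    decide +kernel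
  exact this _ h3 _ h2 hQ hm h

variable [Finite V] [Nontrivial V]

theorem Tr.card_dvd_inv [A.Normal] (h : Tr ρ) (hρ : Function.Injective ρ) (hA : IsMulCommutative A) {W : Submodule k V}
    (hW : ∀ a ∈ A, ∀ v ∈ W, ρ a v ∈ W) : Nat.card A ∣ Nat.card W - 1 := by
  obtain ⟨F, _, _, _, _, χ, θ, hf⟩ := h.exists_fld hρ hA
  obtain ⟨j, hj⟩ := hf.card_inv hW
  exact hj ▸ hf.card_dvd.trans (Nat.sub_one_dvd_pow_sub_one _ _)

theorem Tr.isCyclic [A.Normal] (h : Tr ρ) (hρ : Function.Injective ρ) (hA : IsMulCommutative A) : IsCyclic A := by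
  obtain ⟨F, _, _, _, _, χ, θ, hf⟩ := h.exists_fld hρ hA
  exact hf.isCyclic

theorem Fld.two_le {F : Type*} [Field F] [Algebra k F] [Module F V] {χ : A →* Fˣ} {θ : G →* (F ≃ₐ[k] F)}
    (h : Fld ρ A χ θ) (hI : ¬ Irr ρ A) : 2 ≤ Module.finrank F V := by
  have h1 := mt h.irr_iff.mpr hI
  have h2 : 0 < Module.finrank F V := Module.finrank_pos
  omega

theorem Tr.num [A.Normal] (h : Tr ρ) (hρ : Function.Injective ρ) (hA : IsMulCommutative A) (hI : ¬ Irr ρ A) :
    ∃ Q m, 2 ≤ Q ∧ 2 ≤ m ∧ Nat.card V = Q ^ m ∧ Nat.card A ∣ Q - 1 ∧ IsPrimePow Q := by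
  obtain ⟨F, _, _, _, _, χ, θ, hf⟩ := h.exists_fld hρ hA
  haveI := Fintype.ofFinite F
  exact ⟨_, _, Finite.one_lt_card, hf.two_le hI, Module.natCard_eq_pow_finrank, hf.card_dvd,
    Nat.card_eq_fintype_card (α := F) ▸ FiniteField.isPrimePow_card F⟩

theorem finite_of_inj (hρ : Function.Injective ρ) : Finite G :=
  haveI : Finite (Module.End k V) := Finite.of_injective _ DFunLike.coe_injective
  Finite.of_injective _ hρ

theorem Tr.cent_ne [A.Normal] (h : Tr ρ) (hρ : Function.Injective ρ) (hA : IsMulCommutative A) (hI : ¬ Irr ρ A) :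
    𝐂 A ≠ A := fun e => by
  haveI := finite_of_inj hρ
  obtain ⟨Q, m, h1, h2, h3, h4, -⟩ := h.num hρ hA hI
  haveI := h.isCyclic hρ hA
  have h5 := Nat.le_of_dvd Nat.card_pos (Small.relIndex_centralizer_dvd_card_mulAut A)
  rw [normalizer_eq_top, relIndex_top_right, e, IsCyclic.card_mulAut] at h5
  have h6 := Nat.le_of_dvd Nat.card_pos h.card_dvd
  have h7 := Nat.le_of_dvd (by omega) h4
  have h8 := Nat.mul_le_mul h7 ((h5.trans (Nat.totient_le _)).trans h7)
  have h9 := Nat.pow_le_pow_right (n := Q) (by omega) h2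
  rw [A.card_mul_index] at h8
  obtain ⟨q, rfl⟩ := Nat.exists_eq_add_of_le' h1
  rw [h3] at h6
  have : (q + 2 - 1) * (q + 2 - 1) + 1 < (q + 2) ^ 2 := by rw [show q + 2 - 1 = q + 1 from rfl]; nlinarith
  omega

omit [Nontrivial V] in
theorem Tr.cent_eq (h : Tr ρ) (hρ : Function.Injective ρ) (hm : MinNA A N) : Irr ρ N ∧ 𝐂 N = A :=
  haveI := hm.nrm
  have h1 := h.irr_of_not_comm hρ hm.nc
  ⟨h1, hm.max _ inferInstance (h1.comm_centralizer hρ) hm.le'⟩

omit [Nontrivial V] in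
theorem Irr.solvable [A.Normal] (h : Irr ρ A) (hρ : Function.Injective ρ) (hA : IsCyclic A) : Group.IsSolvable G := by
  haveI := h.comm_centralizer hρ
  haveI := Coprime.isSolvable_of_isMulCommutative (𝐂 A)
  haveI : Group.IsSolvable (MulAut A) := Group.isSolvable_of_comm fun a b => by
    letI := hA.commGroup
    exact (IsCyclic.mulAutMulEquiv A).injective (by rw [map_mul, map_mul, mul_comm])
  refine Group.isSolvable_of_ker_le_range (𝐂 A).subtype (MulAut.conjNormal (H := A)) fun x hx => ⟨⟨x, fun a ha => ?_⟩, rfl⟩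
  exact (mul_inv_eq_iff_eq_mul.mp (congrArg (fun f : MulAut A => (f ⟨a, ha⟩ : G)) hx)).symm

/-- regular on non-zero vectors -/
structure Reg (ρ : G →* Module.End k V) : Prop where
  tr : Tr ρ
  free : ∀ g, g ≠ 1 → ∀ v, ρ g v = v → v = 0

omit [Finite V] [Nontrivial V] in
theorem Reg.of_subgroup (H : Subgroup (V ≃ₗ[k] V)) (hreg : ∀ v w : V, v ≠ 0 → w ≠ 0 → ∃! h : H, (h : V ≃ₗ[k] V) v = w) :
    Reg (LinearEquiv.automorphismGroup.toLinearMapMonoidHom.comp H.subtype) :=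
  ⟨fun v w hv hw => (hreg v w hv hw).exists, fun g hg v e => by_contra fun hv => hg ((hreg v v hv hv).unique e rfl)⟩

omit [Finite V] in
theorem Reg.inj (h : Reg ρ) : Function.Injective ρ := (injective_iff_map_eq_one _).mpr fun g hg => by_contra fun h1 => by
  obtain ⟨v, hv⟩ := exists_ne (0 : V)
  exact hv (h.free g h1 v (by rw [hg]; rfl))

theorem Reg.fc (h : Reg ρ) : FC G := FC.of_rep ρ h.free

theorem Reg.card (h : Reg ρ) : Nat.card G = Nat.card V - 1 := h.tr.card_eq h.free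

theorem Reg.quat_case (h : Reg ρ) (hm : Xs A N r) (hI : ¬ Irr ρ A) :
    ∃ Q, (Q = 5 ∨ Q = 7 ∨ Q = 11 ∨ Q = 23) ∧ Nat.card V = Q ^ 2 ∧ Nat.card A ∣ Q - 1 := by
  haveI := finite_of_inj h.inj
  haveI := hm.normal
  obtain ⟨Q, m, h1, h2, h3, h4, -⟩ := h.tr.num h.inj hm.comm hI
  obtain ⟨rfl, ⟨e⟩⟩ := hm.quat h.fc
  have hA := h.tr.isCyclic h.inj hm.comm
  have c8 : Nat.card N = 8 := by rw [Nat.card_congr e.toEquiv, Nat.card_eq_fintype_card, QuaternionGroup.card]
  obtain ⟨a, a1, a2⟩ := hm.exists_sq hA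
  have a3 := Hall.card_inf_mul_relIndex A N
  obtain rfl : a = 1 := by
    have := Dvd.intro_left _ a3
    rw [a2, c8, ← pow_add, show 8 = 2 ^ 3 from rfl, Nat.pow_dvd_pow_iff_le_right one_lt_two] at this
    omega
  have h5 := hm.index_dvd hA (h.tr.cent_eq h.inj hm.toMinNA).2 fun z hz => mem_center_iff.mpr fun g => by
    have : orderOf z ∣ 2 := by
      rw [show 2 = Nat.card ↥(A ⊓ N) by rw [a2, c8] at a3; omega]
      exact orderOf_dvd_natCard _ ⟨hz.2, hz.1⟩
    rcases (Nat.dvd_prime Nat.prime_two).mp this with e | e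
    · rw [orderOf_eq_one_iff.mp e, mul_one, one_mul]
    · exact h.fc.inv_comm e g
  rw [a2] at h5
  have h6 := h.card
  have h7 := (geom_dvd h1 h4 (by rw [A.card_mul_index, h6, h3])).trans h5
  have h8 := c8 ▸ N.card_subgroup_dvd_card
  have h9 : Nat.card G ≠ 8 := fun e => hm.ne_top (eq_top_of_card_eq _ (c8.trans e.symm))
  rw [h6, h3] at h8 h9
  rcases geom_120 h1 h2 (h7.trans (by decide)) with rfl | ⟨rfl, rfl | rfl⟩
  · refine ⟨Q, ?_, h3, h4⟩
    have := Nat.le_of_dvd (by decide) h7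
    simp only [Finset.sum_range_succ, Finset.range_zero, Finset.sum_empty] at h7 this
    have : Q < 24 := by norm_num [Nat.factorial] at this; omega
    interval_cases Q <;> simp_all [Nat.factorial]
  · exact absurd h7 (by decide)
  · exact absurd h7 (by decide)

theorem Reg.degree (h : Reg ρ) [Group.IsSolvable G] (hI : ∀ A : Subgroup G, A.Normal → IsCyclic A → ¬ Irr ρ A) :
    ∃ (A N : Subgroup G) (Q : ℕ), Xs A N 2 ∧ (Q = 5 ∨ Q = 7 ∨ Q = 11 ∨ Q = 23) ∧ Nat.card V = Q ^ 2 ∧ Nat.card A ∣ Q - 1 := by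
  haveI := finite_of_inj h.inj
  obtain ⟨A, hA⟩ := exists_maxAb G
  haveI := hA.normal
  have h1 := hI A hA.normal (h.tr.isCyclic h.inj hA.comm)
  obtain ⟨N, hN⟩ := hA.exists_minNA (h.tr.cent_ne h.inj hA.comm h1)
  obtain ⟨r, hr⟩ := hN.xs inferInstance
  obtain rfl := (hr.quat h.fc).1
  obtain ⟨Q, hQ⟩ := h.quat_case hr h1
  exact ⟨A, N, Q, hr, hQ⟩

set_option synthInstance.maxSize 100000 in
set_option synthInstance.maxHeartbeats 200000 in
theorem Reg.not_solvable (h : Reg ρ) (hs : ¬ Group.IsSolvable G) :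
    ∃ m : ℕ, ((Nat.card V = 121 ∧ m = 1) ∨ (Nat.card V = 841 ∧ m = 7) ∨ (Nat.card V = 3481 ∧ m = 29)) ∧
      ∃ M : Subgroup G, IsCyclic M ∧ Nat.card M = m ∧ Nonempty (G ≃* SL25 × M) := by
  haveI := finite_of_inj h.inj
  obtain ⟨L, hL, ⟨e⟩⟩ := h.fc.solvable_or.resolve_left hs
  have h0 : ¬ IsMulCommutative L := fun hc => not_solvable_SL25
    (haveI := Coprime.isSolvable_of_isMulCommutative L; Group.isSolvable_of_surjective (f := e.toMonoidHom) e.surjective)
  have hA := (h.tr.irr_of_not_comm h.inj h0).comm_centralizer h.inj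
  have hc := h.tr.isCyclic h.inj hA
  obtain ⟨Q, m, h1, h2, h3, h4, hpp⟩ := h.tr.num h.inj hA fun hI => hs (hI.solvable h.inj hc)
  obtain ⟨M, m1, m2, m3, m4⟩ := h.fc.exists_compl_SL25 e
  have m5 : M ≤ 𝐂 L := m1 ▸ resOf_le _
  have c1 : Nat.card L = 120 := (Nat.card_congr e.toEquiv).trans card_SL25
  have c2 := Coprime.card_sup_of_disjoint' (m5.trans (centralizer_le_normalizer _)) m3
  have c3 := (L ⊔ M).card_mul_index
  have c4 : 2 * Nat.card M ∣ Q - 1 := by
    refine Dvd.dvd.trans ?_ h4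
    refine Nat.Coprime.mul_dvd_of_dvd_of_dvd (m4.coprime_dvd_right (by decide)).symm ?_ (card_dvd_of_le m5)
    have : orderOf (e.symm (-1) : G) = 2 := by
      rw [orderOf_coe, MulEquiv.orderOf_eq]; exact orderOf_eq_prime (by decide) sl_neg_one_ne
    exact this ▸ orderOf_dvd_natCard _ fun g _ => h.fc.inv_comm this g
  have c5 := m2 ▸ index_sup_cent_SL25 e
  rw [c2, c1, h.card, h3] at c3
  have c6 : ∑ i ∈ Finset.range m, Q ^ i ∣ 120 := (geom_dvd (t := 60 * (L ⊔ M).index) h1 c4 (by rw [← c3]; apply dvd_of_eq; ring)).trans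
    (by rcases c5 with c | c <;> rw [c] <;> decide)
  have c7 : (L ⊔ M).index = 1 ∧ ((Nat.card V = 121 ∧ Nat.card M = 1) ∨ (Nat.card V = 841 ∧ Nat.card M = 7) ∨
      (Nat.card V = 3481 ∧ Nat.card M = 29)) := by
    rw [h3]
    generalize Nat.card M = c at *
    rcases geom_120 h1 h2 c6 with rfl | ⟨rfl, rfl | rfl⟩
    · have := Nat.le_of_dvd (by decide) c6
      simp only [Finset.sum_range_succ, Finset.range_zero, Finset.sum_empty, pow_zero, pow_one] at c6 this
      have a : ∀ Q < 119, ∀ c < 120, ∀ t < 3, 2 ≤ Q → 0 + 1 + Q ∣ 120 → 120 * c * t = Q ^ 2 - 1 → 2 * c ∣ Q - 1 →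
        c.Coprime 30 → t = 1 ∧ ((Q ^ 2 = 121 ∧ c = 1) ∨ (Q ^ 2 = 841 ∧ c = 7) ∨ (Q ^ 2 = 3481 ∧ c = 29)) := by decide +kernel
      have := Nat.le_of_dvd (by omega) c4
      have : Q ≠ 119 := by rintro rfl; revert hpp; decide +kernel
      exact a Q (by omega) c (by omega) _ (by omega) h1 c6 c3 c4 m4
    · rw [mul_assoc] at c3; omega
    · rw [mul_assoc] at c3; omega
  obtain ⟨f⟩ := equiv_prod_of_commute m5 m3 (index_eq_one.mp c7.1)
  exact ⟨_, c7.2, M, isCyclic_of_injective _ (inclusion_injective m5), rfl, ⟨f.trans (e.prodCongr (MulEquiv.refl _))⟩⟩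

theorem exists_index_two_of_isCyclic [Finite G] (he : Even (Nat.card G)) (S : Sylow 2 G) (hS : IsCyclic S) :
    ∃ N : Subgroup G, N.index = 2 := by
  have h1 : (Nat.card G).minFac = 2 := (Nat.minFac_eq_two_iff _).mpr he.two_dvd
  have h2 := (hS.isComplement' h1).symm.index_eq_card
  obtain ⟨j, hj⟩ := S.isPGroup'.exists_card_eq
  obtain ⟨H, -, h⟩ := Invol.exists_index_two_of_normal _ (h2.trans hj) fun e => by
    rw [e, index_top, eq_comm, card_eq_one] at h2
    exact S.ne_bot_of_dvd_card he.two_dvd h2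
  exact ⟨H, h⟩

omit [Finite V] [Nontrivial V] in
theorem map_eq_one_of_index_ne_two [Finite G] (h2 : ¬ ∃ N : Subgroup G, N.index = 2) {M : Type*} [CommGroup M] (f : G →* M)
    {g : G} {j : ℕ} (hg : g ^ 2 ^ j = 1) : f g = 1 := by
  obtain ⟨i, o, ho, e⟩ := Nat.exists_eq_two_pow_mul_odd (Nat.card_pos (α := G)).ne'
  let f' := ((powMonoidHom o).comp f).rangeRestrict
  haveI : Finite ((powMonoidHom o).comp f).range := Finite.of_surjective _ (MonoidHom.rangeRestrict_surjective _)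
  have h1 : f' g = 1 := by_contra fun hc => h2 (Invol.exists_index_two_of_hom (by
    rintro ⟨_, x, rfl⟩
    refine ⟨i, Subtype.ext ?_⟩
    show (f x ^ o) ^ 2 ^ i = 1
    rw [← pow_mul, ← map_pow, mul_comm, ← e, pow_card_eq_one', map_one]) f' hc)
  exact (pow_eq_one_iff_of_coprime (ho.coprime_two_right.pow_right j)).mp
    ⟨congrArg Subtype.val h1, by rw [← map_pow, hg, map_one]⟩

omit [Finite V] [Nontrivial V] in
theorem mem_cent_of_index_ne_two [Finite G] (h2 : ¬ ∃ N : Subgroup G, N.index = 2) [A.Normal] (hA : IsCyclic A)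
    {g : G} {j : ℕ} (hg : g ^ 2 ^ j = 1) : g ∈ 𝐂 A := fun a ha => by
  letI := hA.commGroup
  have := map_eq_one_of_index_ne_two h2 ((IsCyclic.mulAutMulEquiv A).toMonoidHom.comp (MulAut.conjNormal (H := A))) hg
  rw [MonoidHom.comp_apply, MulEquiv.coe_toMonoidHom, MulEquiv.map_eq_one_iff] at this
  exact (mul_inv_eq_iff_eq_mul.mp (congrArg (fun f : MulAut A => (f ⟨a, ha⟩ : G)) this)).symm

theorem Reg.index_two (h : Reg ρ) [Group.IsSolvable G] (he : Even (Nat.card G)) :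
    (∃ N : Subgroup G, N.index = 2) ∨ (Nat.card V = 25 ∧ Nonempty (G ≃* SL23)) ∨
      (Nat.card V = 121 ∧ Nonempty (G ≃* SL23 × Multiplicative (ZMod 5))) := by
  haveI := finite_of_inj h.inj
  refine or_iff_not_imp_left.mpr fun h2 => ?_
  obtain ⟨A, N, Q, hm, h1, h3, h4⟩ := h.degree fun A _ hA hI => by
    let S : Sylow 2 G := default
    haveI := h.tr.isCyclic h.inj (hI.comm_centralizer h.inj)
    exact h2 (exists_index_two_of_isCyclic he S (isCyclic_of_injective _ (inclusion_injective (K := 𝐂 A) fun g hg =>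
      let ⟨_, e⟩ := S.isPGroup' ⟨g, hg⟩; mem_cent_of_index_ne_two h2 hA (congrArg Subtype.val e))))
  haveI := hm.nrm
  haveI := hm.normal
  obtain ⟨-, ⟨e⟩⟩ := hm.quat h.fc
  have hC := (h.tr.cent_eq h.inj hm.toMinNA).2
  obtain ⟨g, g1, g2⟩ : ∃ g : G, Odd (orderOf g) ∧ g ∉ 𝐂 N := by
    by_contra hc
    push Not at hc
    obtain ⟨x, -, hx⟩ := SetLike.not_le_iff_exists.mp hm.not_le
    refine h2 (Invol.exists_index_two_of_hom (fun y => ?_) (QuotientGroup.mk' A) (mt (QuotientGroup.eq_one_iff x).mp hx))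
    obtain ⟨y, rfl⟩ := QuotientGroup.mk_surjective y
    obtain ⟨j, hj⟩ := exists_pow_coprime_orderOf (p := 2) y
    exact ⟨j, (QuotientGroup.eq_one_iff _).mpr (hC ▸ hc _ (Nat.coprime_two_right.mp hj))⟩
  obtain ⟨f, f1, f2⟩ := (quoIs_of_normal_quat e g1 g2).resolve_right fun ⟨f, f1, _⟩ => by
    obtain ⟨x, hx⟩ := f1 (Equiv.swap 0 1)
    obtain ⟨K, hK, -⟩ := Invol.exists_index_two_of_sign (Equiv.Perm.sign.comp f) (x := x) (by rw [MonoidHom.comp_apply, hx]; decide)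
    exact h2 ⟨K, hK⟩
  have c1 := A.card_mul_index
  rw [← hC, QuoIs.index ⟨f, f1, f2⟩, Linear.card_A4, hC, h.card, h3] at c1
  have c2 := h.card
  rw [h3] at c2 ⊢
  rcases h1 with rfl | rfl | rfl | rfl
  · exact Or.inl ⟨rfl, equiv_SL23 (fun _ _ => h.fc.inv_unique) f f1 c2⟩
  · rw [show Nat.card A = 4 by omega] at h4; omega
  · refine Or.inr ⟨rfl, ?_⟩
    haveI := Fact.mk Nat.prime_five
    obtain ⟨⟨b, hb⟩, b1⟩ := exists_prime_orderOf_dvd_card' (G := A) 5 (by omega)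
    rw [orderOf_mk] at b1
    have hA := h.tr.isCyclic h.inj hm.comm
    have a1 : 𝐂 A = ⊤ := by
      have h5 := Small.relIndex_centralizer_dvd_card_mulAut A
      rw [normalizer_eq_top, relIndex_top_right, IsCyclic.card_mulAut, show Nat.card A = 10 by omega,
        show Nat.totient 10 = 2 ^ 2 by decide, Nat.dvd_prime_pow Nat.prime_two] at h5
      obtain ⟨j, -, hj⟩ := h5
      by_contra hc
      obtain ⟨K, -, hK⟩ := Invol.exists_index_two_of_normal _ hj hc
      exact h2 ⟨K, hK⟩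
    have a2 : ∀ L : Subgroup G, zpowers b ≤ 𝐂 L := fun L =>
      (zpowers_le.mpr hb).trans (le_centralizer_iff.mp (a1 ▸ le_top))
    haveI : (zpowers b).Normal := PGrp.normal_of_le_center (by simpa [centralizer_univ] using a2 ⊤)
    have a3 := (zpowers b).card_mul_index
    rw [Nat.card_zpowers, b1] at a3
    obtain ⟨L, hL⟩ := exists_left_complement'_of_coprime (N := zpowers b) (by
      rw [Nat.card_zpowers, b1, show (zpowers b).index = 24 by omega]; decide)
    obtain ⟨e1⟩ := equiv_prod_of_commute (a2 L) hL.disjoint.eq_bot hL.sup_eq_top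
    obtain ⟨e2⟩ := equiv_SL23 (fun _ _ => (h.fc.subgroup L).inv_unique) (f.comp L.subtype) (fun y => by
      obtain ⟨y, rfl⟩ := f1 y
      obtain ⟨⟨l, c⟩, rfl⟩ := hL.2 y
      have : f c = 1 := by rw [← MonoidHom.mem_ker, f2, hC]; exact zpowers_le.mpr hb c.2
      exact ⟨l, by simp [this]⟩) (by rw [← hL.index_eq_card]; omega)
    exact ⟨e1.trans (e2.prodCongr (mulEquivOfPrimeCardEq (p := 5) (by rw [Nat.card_zpowers, b1]) (by simp)))⟩
  · rw [show Nat.card A = 44 by omega] at h4; omega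

end Cfsg.Lib.Hall.Lin
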