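import Cfsg.Agent.Lib.Hall.MWa
import Cfsg.Agent.Lib.Hall.HallThm
import Cfsg.Agent.Lib.Hall.MinNormal
import Cfsg.Agent.Lib.Hall.Supersolvable
import Cfsg.Agent.Lib.Clifford.Cover
import Cfsg.Agent.Lib.Clifford.Cd3

/-! # Solvable groups with squarefree character degrees -/

set_option autoImplicit false
set_option linter.unusedSectionVars false
set_option linter.style.haveILetI false

namespace Cfsg.Lib.Hall.Sqf

open Cfsg Cfsg.Lib Subgroup MulAction Cfsg.Lib.Clifford Cfsg.Lib.Hall.MW
open scoped commutatorElement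

/-- a `p`-group acting faithfully and coprimely on an abelian group with all orbits of length at most `p` -/
theorem small {P A : Type*} [Group P] [Finite P] [CommGroup A] {p q : ℕ} (hp : p.Prime) (hP : IsPGroup p P)
    (hpq : p.Coprime q) (hA : ∀ a : A, a ^ q = 1) [MulDistribMulAction P A]
    (hf : ∀ g : P, (∀ a : A, g • a = a) → g = 1) (hs : ∀ a : A, (stabilizer P a).index ∣ p) : Nat.card P ∣ p := by
  haveI := Fact.mk hp
  by_cases h : ∀ a : A, stabilizer P a = ⊤
  · haveI : Subsingleton P := ⟨fun g k => by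
      rw [hf g fun a => (h a ▸ mem_top g : g ∈ stabilizer P a), hf k fun a => (h a ▸ mem_top k : k ∈ stabilizer P a)]⟩
    rw [Nat.card_unique]; exact one_dvd _
  push Not at h
  obtain ⟨a, ha⟩ := h
  have hi : ∀ b : A, stabilizer P b ≠ ⊤ → (stabilizer P b).index = p := fun b hb =>
    ((Nat.dvd_prime hp).1 (hs b)).resolve_left (fun e => hb (index_eq_one.1 e))
  obtain ⟨n, hn⟩ := IsPGroup.iff_card.1 hP
  have hn0 : n ≠ 0 := by
    rintro rfl
    have := (stabilizer P a).index_dvd_card
    rw [hi a ha, hn, pow_zero, Nat.dvd_one] at this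
    exact hp.one_lt.ne' this
  have hN : ∀ b : A, stabilizer P b ≠ ⊤ → (stabilizer P b).Normal := fun b hb =>
    normal_of_index_eq_minFac_card (by rw [hi b hb, hn, hp.pow_minFac hn0])
  have key : ∀ b : A, stabilizer P a ≤ stabilizer P b := by
    intro b
    by_contra hab
    have hb : stabilizer P b ≠ ⊤ := fun e => hab (e ▸ le_top)
    have hsup : stabilizer P a ⊔ stabilizer P b = ⊤ := by
      have h1 := index_dvd_of_le (le_sup_right : stabilizer P b ≤ stabilizer P a ⊔ stabilizer P b)
      rw [hi b hb] at h1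
      rcases (Nat.dvd_prime hp).1 h1 with e | e
      · exact index_eq_one.1 e
      · exfalso
        have h2 := relIndex_mul_index (le_sup_right : stabilizer P b ≤ stabilizer P a ⊔ stabilizer P b)
        rw [e, hi b hb] at h2
        have h3 : (stabilizer P b).relIndex (stabilizer P a ⊔ stabilizer P b) = 1 :=
          Nat.eq_of_mul_eq_mul_right hp.pos (by rw [h2, one_mul])
        exact hab (le_sup_left.trans (relIndex_eq_one.1 h3))
    have fx : ∀ c : A, stabilizer P c ≠ ⊤ → ∀ g : P, ∀ m ∈ stabilizer P c, m • (g • c / c) = g • c / c := by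
      intro c hc g m hm
      have h1 : (g⁻¹ * m * g) • c = c := (hN c hc).conj_mem' m hm g
      rw [smul_div', mem_stabilizer_iff.1 hm, smul_smul]
      conv_rhs => rw [← h1, smul_smul]
      rw [h1]; congr 2; group
    have hle : stabilizer P (a * b) ≤ stabilizer P a ⊓ stabilizer P b := by
      intro g hg
      rw [mem_stabilizer_iff, smul_mul'] at hg
      have e : g • b / b = (g • a / a)⁻¹ := by
        rw [inv_div, div_eq_div_iff_mul_eq_mul, mul_comm, hg]
      have hd : ∀ m : P, m • (g • a / a) = g • a / a := by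
        intro m
        have : stabilizer P a ⊔ stabilizer P b ≤ stabilizer P (g • a / a) := sup_le (fun m hm => fx a ha g m hm)
          (fun m hm => by
            have := fx b hb g m hm
            rw [e, smul_inv', inv_inj] at this
            exact this)
        exact this (hsup ▸ mem_top m)
      have hk : ∀ k : ℕ, g ^ k • a = a * (g • a / a) ^ k := by
        intro k
        induction k with
        | zero => simp
        | succ k ih => rw [pow_succ', mul_smul, ih, smul_mul', smul_pow', hd, pow_succ', ← mul_assoc, mul_div_cancel]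
      obtain ⟨k, hk'⟩ := hP g
      have h1 := hk (p ^ k)
      rw [hk', one_smul, left_eq_mul] at h1
      have h2 : g • a / a = 1 := by
        have := pow_gcd_eq_one.2 ⟨h1, hA _⟩
        rwa [(Nat.Coprime.pow_left k hpq).gcd_eq_one, pow_one] at this
      rw [h2, inv_one] at e
      exact ⟨div_eq_one.1 h2, div_eq_one.1 e⟩
    have h1 := (index_dvd_of_le hle).trans (hs (a * b))
    have h2 := relIndex_mul_index (inf_le_left : stabilizer P a ⊓ stabilizer P b ≤ stabilizer P a)
    rw [← h2, hi a ha] at h1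
    have h3 : (stabilizer P a ⊓ stabilizer P b).relIndex (stabilizer P a) = 1 :=
      Nat.dvd_one.1 (Nat.dvd_of_mul_dvd_mul_right hp.pos (by rwa [one_mul]))
    exact hab ((relIndex_eq_one.1 h3).trans inf_le_right)
  have : stabilizer P a = ⊥ := eq_bot_iff.2 fun g hg => mem_bot.2 (hf g fun b => key b hg)
  rw [← index_bot, ← this]; exact hs a

/-- a solvable group all of whose `p`-cores have order dividing `p` is metabelian -/
theorem metab {H : Type*} [Group H] [Finite H] [Group.IsSolvable H] (h : ∀ p : ℕ, p.Prime → Nat.card (pCore p H) ∣ p) :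
    ds (⊤ : Subgroup H) 2 ≤ ⊥ := by
  have h1 : fittingSubgroup H ≤ centralizer (_root_.commutator H : Set H) := by
    rw [Core.fitting_eq_iSup_pCore]
    refine iSup_le fun p => ?_
    haveI := Fact.mk p.2
    haveI := isCyclic_of_card_dvd_prime (h p p.2)
    exact le_centralizer_iff.1 (commutator_le_centralizer_of_isCyclic_normal _)
  have h2 := (le_centralizer_iff.1 h1).trans Core.centralizer_fitting_le
  refine ds_trans (a := 1) (b := 1) (L' := _root_.commutator H) le_rfl (ds_comm fun a ha b hb => ?_) le_rfl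
  exact (mem_centralizer_iff.1 (h1 (h2 hb)) a ha)

/-- all irreducible degrees are squarefree -/
def SF (G : Type*) [Group G] : Prop := ∀ χ : G → ℂ, IsIrrCharacter G χ → Squarefree (charDegree χ)

variable {G : Type*} [Group G] [Finite G]

theorem SF.surj {H : Type*} [Group H] (h : SF G) (f : G →* H) (hf : Function.Surjective f) : SF H := fun χ hχ => by
  have := h _ (Char.Cfsg.IsIrrCharacter.comp hχ f hf)
  simpa [charDegree] using this

theorem SF.sub (h : SF G) (N : Subgroup G) [N.Normal] : SF N := fun θ hθ => by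
  have h1 : IrrOn N (extendByZero N θ) := irrOn_extendByZero.2 hθ
  obtain ⟨χ, hχ, hd⟩ := h1.exists_over (le_top : N ≤ ⊤)
  have := deg_dvd_of_dot le_top (nrm_of_normal ⊤ N) (irrOn_of_mem hχ) h1 hd
  rw [← charDegree_res N, res_extendByZero] at this
  exact (h χ (irrOn_top.1 (irrOn_of_mem hχ))).squarefree_of_dvd this

theorem SF.inertia (h : SF G) (N : Subgroup G) [N.Normal] {θ : G → ℂ} (h1 : IrrOn N θ) :
    Squarefree (inertia ⊤ N θ).index := by
  obtain ⟨χ, hχ, hd⟩ := h1.exists_over (le_top : N ≤ ⊤)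
  have := clifford_deg le_top (nrm_of_normal ⊤ N) (irrOn_of_mem hχ) h1 hd
  rw [relIndex_top_right] at this
  exact (h χ (irrOn_top.1 (irrOn_of_mem hχ))).squarefree_of_dvd
    (this ▸ Dvd.dvd.mul_left (Dvd.intro _ rfl) _)

theorem SF.pgroup (h : SF G) {p : ℕ} (hp : p.Prime) (hP : IsPGroup p G) : ds (⊤ : Subgroup G) 2 ≤ ⊥ := by
  haveI := Fact.mk hp
  obtain ⟨n, hn⟩ := IsPGroup.iff_card.1 hP
  refine dl_two_quo (D := ⊥) (m := p) fun χ hχ _ => ?_
  have h2 := (irrOn_of_mem hχ).deg_dvd_card
  rw [card_top, hn] at h2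
  exact (Nat.dvd_prime hp).1 ((h _ (irrOn_top.1 (irrOn_of_mem hχ))).isRadical n p h2)

theorem SF.nilp (h : SF G) [hG : Group.IsNilpotent G] : ds (⊤ : Subgroup G) 2 ≤ ⊥ := by
  obtain ⟨e⟩ := ((Group.isNilpotent_of_finite_tfae (G := G)).out 0 4).mp hG
  intro g hg
  rw [mem_bot, ← e.symm.map_eq_one_iff]
  funext p P
  haveI : Fact (Nat.Prime (p : ℕ)) := ⟨Nat.prime_of_mem_primeFactors p.2⟩
  exact ds_hom (((Pi.evalMonoidHom _ P).comp (Pi.evalMonoidHom _ p)).comp e.symm.toMonoidHom) (L' := ⊤)
    (fun _ _ => mem_top _) ((h.sub (P : Subgroup G)).pgroup Fact.out P.isPGroup') g hg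

/-- the action on the dual group -/
@[reducible] def dual (V : Type*) [Group V] : MulDistribMulAction (MulAut V) (V →* ℂˣ) where
  smul σ f := f.comp σ.symm.toMonoidHom
  one_smul _ := rfl
  mul_smul _ _ _ := rfl
  smul_mul _ _ _ := rfl
  smul_one _ := rfl

theorem SF.cent (h : SF G) [Group.IsSolvable G] {V : Subgroup G} [V.Normal] (h0 : V ≠ ⊥)
    (hmin : ∀ K : Subgroup G, K.Normal → K ≤ V → K = ⊥ ∨ K = V) [IsMulCommutative V] {q : ℕ} (hq : q.Prime)
    (hV : ∀ x ∈ V, x ^ q = 1) (hVq : IsPGroup q V) : ds ⊤ 2 ≤ centralizer (V : Set G) := by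
  set φ : G →* MulAut V := MulAut.conjNormal with hφ
  haveI : Group.IsSolvable φ.range := Group.isSolvable_of_surjective φ.rangeRestrict_surjective
  have key : ∀ p : ℕ, p.Prime → Nat.card (pCore p φ.range) ∣ p := by
    intro p hp
    by_cases hpq : p = q
    · subst hpq
      haveI := Fact.mk hp
      have hQ := Core.isPGroup_pCore p φ.range
      set Q := pCore p φ.range
      haveI : Nontrivial V := (nontrivial_iff_ne_bot V).2 h0
      obtain ⟨n, hn, e⟩ := hVq.nontrivial_iff_card.1 inferInstance
      obtain ⟨b, hb, hb1⟩ := hQ.exists_fixed_point_of_prime_dvd_card_of_fixed_point V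
        (by rw [e]; exact dvd_pow_self _ hn.ne') (a := 1) (fun σ => smul_one σ)
      let W : Subgroup G := V ⊓ centralizer (Q.comap φ.rangeRestrict : Set G)
      have hW : ∀ v : V, (v : G) ∈ W ↔ ∀ σ : Q, σ • v = v := by
        intro v
        refine ⟨fun hv σ => ?_, fun hv => ⟨v.2, fun g hg => ?_⟩⟩
        · obtain ⟨⟨_, g, rfl⟩, hg⟩ := σ
          apply Subtype.ext
          change g * v * g⁻¹ = v
          rw [hv.2 g hg]; group
        · have : g * v * g⁻¹ = v := congrArg Subtype.val (hv ⟨_, hg⟩)
          rw [← mul_inv_eq_iff_eq_mul]; exact this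
      rcases hmin W inferInstance inf_le_left with e | e
      · exact absurd (Subtype.ext (mem_bot.1 (e ▸ (hW b).2 hb))).symm hb1
      · haveI : Subsingleton Q := ⟨fun g k => Subtype.ext (Subtype.ext (MulEquiv.ext fun v =>
          ((hW v).1 (e.symm ▸ v.2) g).trans ((hW v).1 (e.symm ▸ v.2) k).symm))⟩
        rw [Nat.card_unique]; exact one_dvd _
    · letI := dual V
      letI : CommGroup V := IsMulCommutative.instCommGroup
      refine small (A := V →* ℂˣ) hp (Core.isPGroup_pCore p _) ((Nat.coprime_primes hp hq).2 hpq) (fun f => ?_) (fun σ hσ => ?_)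
        fun f => ?_
      · ext v
        rw [MonoidHom.pow_apply, ← map_pow, show v ^ q = 1 from Subtype.ext (hV v v.2), map_one]; rfl
      · refine Subtype.ext (Subtype.ext (inv_eq_one.1 (MulEquiv.ext fun v => ?_)))
        exact (CommGroup.forall_apply_eq_apply_iff (G := V) (M := ℂ)).1 fun f => DFunLike.congr_fun (hσ f) v
      · have h1 : LinOn V (extendByZero V fun v => (f v : ℂ)) := linOn_of_hom f fun v => extendByZero_of_mem _ v.2
        have h2 := h.inertia V h1.irrOn
        have h3 : Clifford.inertia ⊤ V (extendByZero V fun v => (f v : ℂ)) = (stabilizer φ.range f).comap φ.rangeRestrict := by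
          ext g
          rw [← inv_mem_iff (H := (stabilizer φ.range f).comap φ.rangeRestrict), mem_inertia (nrm_of_normal ⊤ V), mem_comap, mem_stabilizer_iff]
          have hc : ∀ n ∈ V, g * n * g⁻¹ ∈ V := fun n hn => nrm_of_normal ⊤ V g trivial n hn
          have e : ∀ v : V, (φ.rangeRestrict g⁻¹ • f) v = f ⟨g * v * g⁻¹, hc v v.2⟩ := fun v => by
            change f ((φ g⁻¹)⁻¹ v) = _
            rw [map_inv, inv_inv]; rfl
          refine ⟨fun hg => MonoidHom.ext fun v => Units.ext ?_, fun hg => ⟨trivial, fun n hn => ?_⟩⟩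
          · have := hg.2 v v.2
            rw [extendByZero_of_mem _ (hc v v.2), extendByZero_of_mem _ v.2] at this
            rw [e, this]
          · rw [extendByZero_of_mem _ (hc n hn), extendByZero_of_mem _ hn, ← e ⟨n, hn⟩, hg]
        rw [h3, index_comap_of_surjective _ φ.rangeRestrict_surjective] at h2
        have h4 := relIndex_dvd_index_of_normal_right (stabilizer φ.range f) (pCore p φ.range)
        have h5 : (stabilizer (pCore p φ.range) f).index = (stabilizer φ.range f).relIndex (pCore p φ.range) := rfl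
        haveI := Fact.mk hp
        obtain ⟨n, hn⟩ := IsPGroup.iff_card.1 (Core.isPGroup_pCore p φ.range)
        exact (h2.squarefree_of_dvd (h5 ▸ h4)).isRadical n p (hn ▸ index_dvd_card _)
  intro g hg v hv
  have h1 : φ.rangeRestrict g = 1 := ds_hom φ.rangeRestrict (fun _ _ => mem_top _) (metab key) g hg
  have h2 : g * v * g⁻¹ = v := congrArg Subtype.val (DFunLike.congr_fun (congrArg Subtype.val h1) (⟨v, hv⟩ : V))
  rw [eq_comm, ← mul_inv_eq_iff_eq_mul]; exact h2

universe u in
theorem SF.nil2 (n : ℕ) : ∀ {G : Type u} [Group G] [Finite G] [Group.IsSolvable G], Nat.card G = n → SF G →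
    Group.IsNilpotent (ds (⊤ : Subgroup G) 2) := by
  induction n using Nat.strong_induction_on with
  | _ n ih =>
  intro G _ _ _ hn h
  rcases subsingleton_or_nontrivial G with _ | _
  · infer_instance
  obtain ⟨V, q, _, h0, hmin, _, hq, hV, hVq⟩ := exists_minNormal_elementary (G := G)
  have hc := h.cent h0 hmin hq hV hVq
  have hlt : Nat.card (G ⧸ V) < n := by
    rw [← hn, ← V.card_mul_index]
    exact lt_mul_of_one_lt_left Nat.card_pos ((one_lt_card_iff_ne_bot V).2 h0)
  haveI := ih _ hlt rfl (h.surj (QuotientGroup.mk' V) (QuotientGroup.mk'_surjective V))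
  refine Subgroup.isNilpotent_of_ker_le_center (((QuotientGroup.mk' V).comp (ds ⊤ 2).subtype).codRestrict (ds ⊤ 2)
    fun g => ds_hom (QuotientGroup.mk' V) (fun _ _ => mem_top _) le_rfl g g.2) fun g hg => ?_
  have h1 : (g : G) ∈ V := (QuotientGroup.eq_one_iff _).1 (congrArg Subtype.val hg)
  exact mem_center_iff.2 fun k => Subtype.ext (hc k.2 g h1).symm

theorem SF.four [Group.IsSolvable G] (h : SF G) : derivedSeries G 4 = ⊥ := by
  haveI := SF.nil2 _ rfl h
  haveI : (ds (⊤ : Subgroup G) 2).Normal := ds_top (G := G) 2 ▸ derivedSeries_normal G 2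
  have h1 := (h.sub (ds (⊤ : Subgroup G) 2)).nilp
  rw [← ds_top, eq_bot_iff]
  refine ds_trans (a := 2) (b := 2) le_rfl (fun g hg => ?_) le_rfl
  obtain ⟨x, hx, rfl⟩ := ds_sub (ds (⊤ : Subgroup G) 2).subtype (L := ⊤) (fun g hg => ⟨⟨g, hg⟩, trivial, rfl⟩) g hg
  rw [mem_bot.1 (h1 hx)]; exact one_mem _

end Cfsg.Lib.Hall.Sqf
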