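import Cfsg.Agent.Lib.Hall.FC6
import Cfsg.Agent.Lib.BG3.Prime
import Cfsg.Agent.Lib.Clifford.Frobenius

/-! TI subgroups that are Hall subgroups of their normalizers. -/

set_option autoImplicit false

namespace Cfsg.Lib.Hall

open Subgroup _root_.Cfsg.Lib.Core _root_.Cfsg.Lib.Coprime _root_.Cfsg.Lib.Amalg _root_.Cfsg.Lib.BG1
open scoped Pointwise

variable {G : Type*} [Group G] [Finite G]

/-- a group acting coprimely, nontrivially and in a prime manner is a Frobenius complement -/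
theorem fc_of_primeAct {X H : Subgroup G} (hn : H ≤ 𝐍 X) (hc : (Nat.card H).Coprime (Nat.card X))
    (hp : ∀ h ∈ H, h ≠ 1 → X ⊓ centralizer {h} ≤ 𝐂 H) (hne : ¬ X ≤ 𝐂 H) : FC H := by
  induction X using WellFoundedLT.induction with
  | ind X ih =>
  by_cases hmin : ∃ Y < X, H ≤ 𝐍 Y ∧ ¬ Y ≤ 𝐂 H
  · obtain ⟨Y, hY, h1, h2⟩ := hmin
    exact ih Y hY h1 (hc.coprime_dvd_right (card_dvd_of_le hY.le))
      (fun h hh h1 => (inf_le_inf_right _ hY.le).trans (hp h hh h1)) h2
  push Not at hmin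
  obtain ⟨q, _, S, hS, hHS, hSC⟩ := BG3.exists_invariant_syl_not_le hn hc
    (FT.solvable_or_of_coprime _ _ hc) hne
  have hX : IsPGroup q X := by
    rcases hS.le.lt_or_eq with h | h
    · exact absurd (hmin S h hHS) hSC
    · exact h ▸ hS.isPGroup
  set C := X ⊓ 𝐂 H with hC
  have hHC : H ≤ 𝐍 C := le_normalizer_inf hn (le_normalizer_centralizer le_normalizer)
  have hCX : C < X := lt_of_le_of_ne inf_le_left fun e => hne (inf_eq_left.mp e)
  have hXC : X ≤ 𝐍 C := by
    by_contra h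
    have h1 := lt_inf_normalizer_of_lt hX hCX
    have h2 := hmin (X ⊓ 𝐍 C) (lt_of_le_of_ne inf_le_left fun e => h (inf_eq_left.mp e))
      (le_normalizer_inf hn (hHC.trans le_normalizer))
    exact h1.not_ge (le_inf inf_le_left h2)
  have hHC' : mker (qmk C) ⊓ H = ⊥ := by
    rw [mker_qmk, eq_bot_iff, ← (disjoint_of_coprime_natCard hc.symm).eq_bot]
    exact inf_le_inf_right _ inf_le_left
  refine (FC.of_fpf (K := quo C X) (R := quo C H) ?_ (mim_norm _ hn) ?_).of_equiv (mimEquiv hHC hHC')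
  · intro r hr hr1
    obtain ⟨h, hhn, hh, rfl⟩ := mem_mim.1 hr
    have h1 : h ≠ 1 := fun e => hr1 (by subst e; exact map_one _)
    have hz : zpowers h ≤ H := zpowers_le.2 hh
    have := quo_inf_cent (N := C) (A := zpowers h) (hz.trans hHC) hXC (hz.trans hn)
      ((hc.coprime_dvd_left (card_dvd_of_le hz)).coprime_dvd_right (card_dvd_of_le hCX.le))
      (Or.inl inferInstance)
    rw [mim_zpowers hhn, Core.centralizer_zpowers, Core.centralizer_zpowers] at this
    rw [← this]
    exact (quo_eq_bot_iff (inf_le_left.trans hXC)).2 (le_inf inf_le_left (hp h hh h1))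
  · rw [Ne, quo_eq_bot_iff hXC]
    exact hCX.not_ge

omit [Finite G] in
theorem ti_normalizer_le {H K : Subgroup G} (hTI : IsTISubset (H : Set G)) (hK : K ≤ H) (h1 : K ≠ ⊥) :
    𝐍 K ≤ 𝐍 H := by
  intro g hg
  by_contra hn
  refine h1 (eq_bot_iff.mpr fun x hx => ?_)
  exact hTI g hn x (hK hx) (hK ((mem_normalizer_iff.mp hg x).mp hx))

omit [Finite G] in
theorem ti_centralizer_le {H : Subgroup G} (hTI : IsTISubset (H : Set G)) {h : G} (hh : h ∈ H)
    (h1 : h ≠ 1) : centralizer {h} ≤ 𝐍 H := by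
  intro g hg
  by_contra hn
  refine h1 (hTI g hn h hh ?_)
  rwa [mem_centralizer_singleton_iff.mp hg, mul_inv_cancel_right]

theorem ti_coprime_index {H : Subgroup G} (hTI : IsTISubset (H : Set G))
    (hc : (Nat.card H).Coprime (H.relIndex (𝐍 H))) : (Nat.card H).Coprime H.index := by
  refine Nat.coprime_of_dvd fun p hp h1 => ?_
  have := Fact.mk hp
  obtain ⟨T, hT⟩ := exists_syl p H
  have h2 : Syl p T (𝐍 H) := hT.of_le_of_not_dvd le_normalizer fun h =>
    hp.one_lt.ne' (Nat.eq_one_of_dvd_coprimes hc h1 h)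
  have h3 : Syl p T ⊤ := h2.of_normalizer_le le_top
    (inf_le_right.trans (ti_normalizer_le hTI hT.le (hT.ne_bot h1)))
  have := h3.not_dvd_relIndex_of_le hT.le
  rwa [relIndex_top_right] at this

omit [Finite G] in
theorem inf_normalizer_le_centralizer {X H : Subgroup G} (hn : H ≤ 𝐍 X) (h : X ⊓ H = ⊥) :
    X ⊓ 𝐍 H ≤ 𝐂 H := by
  rintro n ⟨hn1, hn2⟩ b hb
  have e : n * b * n⁻¹ * b⁻¹ ∈ X ⊓ H := by
    refine ⟨?_, H.mul_mem ((mem_normalizer_iff.mp hn2 b).mp hb) (H.inv_mem hb)⟩
    have := X.mul_mem hn1 ((mem_normalizer_iff.mp (hn hb) _).mp (X.inv_mem hn1))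
    simpa [mul_assoc] using this
  rw [h, mem_bot, mul_inv_eq_one, mul_inv_eq_iff_eq_mul] at e
  exact e.symm

theorem ti_fc {X H : Subgroup G} (hTI : IsTISubset (H : Set G)) (hn : H ≤ 𝐍 X)
    (hc : (Nat.card H).Coprime (Nat.card X)) (hne : ¬ X ≤ 𝐍 H) : FC H :=
  fc_of_primeAct hn hc (fun _ hh h1 => (inf_le_inf_left _ (ti_centralizer_le hTI hh h1)).trans
    (inf_normalizer_le_centralizer hn (disjoint_of_coprime_natCard hc.symm).eq_bot))
    fun h => hne (h.trans (centralizer_le_normalizer _))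

/-- a normal complement in the normalizer extends to a normal complement in `G` -/
theorem ti_exists_normal_complement {H K : Subgroup G} (hTI : IsTISubset (H : Set G))
    (hc : (Nat.card H).Coprime (H.relIndex (𝐍 H))) (hn : 𝐍 H ≤ 𝐍 K) (h1 : K ⊓ H = ⊥)
    (h2 : K ⊔ H = 𝐍 H) : ∃ N : Subgroup G, N.Normal ∧ N.IsComplement' H := by
  have hKN : K ≤ 𝐍 H := h2 ▸ le_sup_left
  obtain ⟨X, -, hX1, hX2, hX3, -⟩ := Clifford.frobenius_wielandt (H := 𝐍 H) (M := K) (K := ⊤) hKN
    (fun g hg n hn' => (mem_normalizer_iff.mp (hn hg) n).mp hn') le_top (by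
      intro g _ hg a ha hga
      have hp : ∀ x ∈ 𝐍 H, x ^ H.relIndex (𝐍 H) ∈ H := fun x hx =>
        mem_subgroupOf.mp ((H.subgroupOf (𝐍 H)).pow_index_mem ⟨x, hx⟩)
      have h3 := hTI g hg _ (hp a ha) (by rw [← conj_pow]; exact hp _ hga)
      have hr : K.relIndex (𝐍 H) = Nat.card H := by
        have e := card_mul_relIndex hKN
        conv_rhs at e => rw [← h2, card_sup_of_disjoint' (le_normalizer.trans hn) h1]
        exact Nat.eq_of_mul_eq_mul_left Nat.card_pos e
      refine zpowers_le.1 (le_of_coprime_card_relIndex (zpowers_le.2 ha) hn ?_)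
      rw [hr, Nat.card_zpowers]
      exact (hc.coprime_dvd_right (orderOf_dvd_of_pow_eq_one h3)).symm)
  have hXn : X.Normal := ⟨fun n hn g => hX1 g trivial n hn⟩
  refine ⟨X, hXn, isComplement'_of_normal ?_ ?_⟩
  · rw [eq_bot_iff, ← h1, ← hX2]
    exact le_inf (inf_le_inf_left _ le_normalizer) inf_le_right
  · rw [eq_top_iff, ← hX3, ← h2]
    exact sup_le (sup_le (le_sup_of_le_left (hX2 ▸ inf_le_left)) le_sup_right) le_sup_left

/-- a coprime automorphism group of a `Z`-group is abelian -/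
theorem commutator_le_centralizer_of_isZGroup {H L : Subgroup G} [IsZGroup H] (hn : L ≤ 𝐍 H)
    (hc : (Nat.card L).Coprime (Nat.card H)) : ⁅L, L⁆ ≤ 𝐂 H := by
  have hK : ⁅H, L⁆ ≤ H := commutator_le_of_le_normalizer hn
  have h1 : ⁅H, L⁆ ≤ 𝐂 (⁅H, H⁆ : Subgroup G) :=
    PGrp.commutator_le_centralizer_of_isCyclic (isCyclic_commutator_of_isZGroup H)
      (le_normalizer_commutator le_normalizer le_normalizer) (le_normalizer_commutator hn hn)
  have h2 : IsCyclic (⁅H, L⁆ : Subgroup G) := by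
    have : IsZGroup (⁅H, L⁆ : Subgroup G) := IsZGroup.of_injective (inclusion_injective hK)
    have : Group.IsNilpotent (⁅H, L⁆ : Subgroup G) := by
      rw [Subgroup.isNilpotent_iff_lowerCentralSeries]
      refine ⟨2, ?_⟩
      rw [Subgroup.lowerCentralSeries_succ, Subgroup.lowerCentralSeries_succ,
        Subgroup.lowerCentralSeries_zero, commutator_eq_bot_iff_le_centralizer]
      exact (commutator_mono hK hK).trans (le_centralizer_iff.mp h1)
    infer_instance
  rw [le_centralizer_iff, ← coprime_cent_prod hn hc (Or.inr inferInstance)]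
  refine sup_le (le_centralizer_iff.mp ?_) (inf_le_right.trans (centralizer_le (commutator_le_self L)))
  exact PGrp.commutator_le_centralizer_of_isCyclic h2 (le_normalizer_commutator hn le_normalizer)
    (le_normalizer_commutator hn le_normalizer)

end Cfsg.Lib.Hall
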