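import Cfsg.Agent.Lib.Hall.KW
import Cfsg.Agent.Lib.BS.Ben3
import Cfsg.Agent.Lib.BS.Thompson
import Cfsg.Agent.Lib.Coprime.FrobKernel
import Cfsg.Agent.Lib.PGrp.Alperin
import Cfsg.Agent.S3815

/-! A finite group all of whose two-generated subgroups are solvable is solvable. -/

set_option autoImplicit false
set_option linter.unusedSectionVars false

namespace Cfsg.Lib.Hall
open Subgroup Cfsg.Lib.Core Cfsg.Lib.Amalg Cfsg.Lib.BG1
open Cfsg.Lib.KS9 (WOf)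

universe u

variable {G : Type u} [Group G] [Finite G] {H K L M P T X Y : Subgroup G} {p : ℕ} {a d g : G}

theorem tg_ord_mul (hp : p.Prime) (hK : ¬ p ∣ Nat.card K) (hd : d ∈ K) (hg : g ∈ 𝐍(K)) (h : ¬ p ∣ orderOf g) :
    ¬ p ∣ orderOf (d * g) := fun e => not_dvd_card_sup hp hK (B := zpowers g) (by rwa [Nat.card_zpowers])
  (zpowers_le.2 hg) (e.trans (orderOf_dvd_natCard _ (mul_mem_sup hd (mem_zpowers g))))

theorem tg_pg (h : orderOf a = p) : IsPGroup p (zpowers a) :=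
  IsPGroup.of_card (n := 1) (by rw [Nat.card_zpowers, h, pow_one])

theorem tg_omega (hp : p.Prime) (hT : IsCyclic T) (ha : a ∈ T) (h : orderOf a = p) : omegaOne p T = zpowers a :=
  (eq_of_le_of_card_ge (zpowers_le.2 (mem_om ha (h ▸ pow_orderOf_eq_one a))) (by
    rw [card_omegaOne_of_isCyclic hp hT (h ▸ orderOf_dvd_natCard _ ha), Nat.card_zpowers, h])).symm

theorem tg_W [hp : Fact p.Prime] (hT : IsCyclic T) (ha : a ∈ T) (h : orderOf a = p) : WOf p T = zpowers a := by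
  refine le_antisymm (tg_omega hp.out hT ha h ▸ le_om (KS9.WOf_le T) fun x hx => ?_) (zpowers_le.2 (KS9.omZ_le_WOf T
    (mem_om ⟨ha, isMulCommutative_iff_le_cent.1 inferInstance ha⟩ (h ▸ pow_orderOf_eq_one a))))
  exact (KS9.elemAb_WOf T).2 x hx

/-- a minimal simple group that is not generated by two elements -/
structure DG (G : Type u) [Group G] : Prop where
  simple : IsSimpleGroup G
  ns : ¬ Group.IsSolvable G
  sol : ∀ H : Subgroup G, H ≠ ⊤ → Group.IsSolvable H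
  two : ∀ x y : G, closure {x, y} ≠ ⊤

namespace DG

theorem ex (h : DG G) (x y : G) : ∃ L : Subgroup G, IsCoatom L ∧ x ∈ L ∧ y ∈ L := by
  obtain ⟨L, hL, e⟩ := exists_coatom_ge (h.two x y)
  exact ⟨L, hL, e (subset_closure (by simp)), e (subset_closure (by simp))⟩

theorem ex3 (h : DG G) (hc : Commute a d) (hp : (orderOf a).Coprime (orderOf d)) (g : G) :
    ∃ L : Subgroup G, IsCoatom L ∧ a ∈ L ∧ d ∈ L ∧ g ∈ L := by
  obtain ⟨L, hL, h1, h2⟩ := h.ex (a * d) g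
  have h3 : a ∈ L := mem_of_pow_mem_coprime hp (by
    have := pow_mem h1 (orderOf d)
    rwa [hc.mul_pow, pow_orderOf_eq_one, mul_one] at this)
  exact ⟨L, hL, h3, by simpa using mul_mem (inv_mem h3) h1, h2⟩

theorem nt (h : DG G) (h1 : X ≠ ⊥) (h2 : X ≠ ⊤) : 𝐍(X) ≠ ⊤ := fun e =>
  haveI := h.simple
  (normalizer_eq_top_iff.1 e).eq_bot_or_eq_top.elim h1 h2

theorem nt' (h : DG G) (h1 : X ≠ ⊥) (h2 : Group.IsSolvable X) : 𝐍(X) ≠ ⊤ :=
  h.nt h1 fun e => h.ns (isSolvable_top_iff.1 (e ▸ h2))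

theorem cent [hp : Fact p.Prime] (h : DG G) (ha : a ≠ 1) (hA : IsPGroup p (zpowers a)) :
    𝐎'[p](𝐂(zpowers a)) = ⊥ := by
  haveI := h.simple
  obtain ⟨k, hk⟩ := IsPGroup.iff_card.1 hA
  rw [Nat.card_zpowers] at hk
  have h0 : pPrimeCore p G = ⊥ := (inferInstance : (pPrimeCore p G).Normal).eq_bot_or_eq_top.resolve_right fun e => by
    have h1 := not_dvd_card_pPrimeCoreOf hp.out (⊤ : Subgroup G)
    rw [← map_pPrimeCore_subtype hp.out, pPrimeCoreOf_top, e, card_top] at h1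
    exact h1 ((hA.card_eq_or_dvd.resolve_left fun e => ha (zpowers_eq_bot.1 (card_eq_one.1 e))).trans
      (card_subgroup_dvd_card _))
  refine eq_bot_iff.2 fun d hd => h0 ▸ ?_
  have h1 : ¬ p ∣ orderOf d := fun e => not_dvd_card_pPrimeCoreOf hp.out _ (e.trans (orderOf_dvd_natCard _ hd))
  have h2 : d ∈ 𝐂(zpowers a) := piCoreOf_le' _ _ hd
  refine Cfsg.Agent.S3815.result d ((hp.out.coprime_iff_not_dvd.2 h1).symm) fun g hg => ?_
  obtain ⟨L, hL, h3, h4, h5⟩ := h.ex3 (mem_centralizer_comm.1 h2 a (mem_zpowers a))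
    (hk ▸ (hp.out.coprime_iff_not_dvd.2 h1).pow_left k) g
  exact (hp.out.coprime_iff_not_dvd.2 (tg_ord_mul hp.out (not_dvd_card_pPrimeCoreOf hp.out L)
    (pPrimeCoreOf_cent_pgroup hp.out (h.sol L hL.1) (zpowers_le.2 h3) hA (piCoreOf_inf_le' inf_le_right ⟨hd, h4, h2⟩))
    (le_norm_piCoreOf_self _ _ h5) (hp.out.coprime_iff_not_dvd.1 hg.symm))).symm

theorem norm [hp : Fact p.Prime] (h : DG G) (h0 : X ≠ ⊥) (hX : IsPGroup p X) : 𝐎'[p](𝐍(X)) = ⊥ := by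
  obtain ⟨⟨a, ha, ha'⟩, ha1⟩ := ne_bot_iff_exists_ne_one.1 (Amalg.inf_center_ne_bot hX le_rfl le_normalizer h0)
  have ha1 : a ≠ 1 := fun e => ha1 (Subtype.ext e)
  have hA : IsPGroup p (zpowers a) := hX.to_le (zpowers_le.2 ha)
  have h1 : 𝐎'[p](𝐍(X)) ≤ 𝐂(X) := le_cent_of_coprime_of_norm (piCoreOf_le' _ _) (le_normalizer.trans
    (le_norm_piCoreOf_self _ _)) (coprime_of_isPGroup_of_not_dvd hp.out hX (not_dvd_card_pPrimeCoreOf hp.out _)).symm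
  have h2 := pPrimeCoreOf_norm_pgroup hp.out (h.sol _ fun e => h.nt' (zpowers_eq_bot.not.2 ha1)
    (solvable_of_pgroup hp.out hA) (top_le_iff.1 (e ▸ centralizer_le_normalizer _)))
    (BG1.le_cent_symm (zpowers_le.2 ha')) hX
  rw [h.cent ha1 hA] at h2
  exact le_bot_iff.1 (le_trans (le_inf le_rfl (le_inf (h1.trans (centralizer_le (SetLike.coe_subset_coe.2
    (zpowers_le.2 ha)))) (piCoreOf_le' _ _))) ((piCoreOf_inf_le' inf_le_right).trans h2))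

theorem norm_eq (h : DG G) (hL : IsCoatom L) (h0 : K ≠ ⊥) (h1 : K ≤ L) (h2 : L ≤ 𝐍(K)) : 𝐍(K) = L :=
  ((hL.le_iff.1 h2).resolve_left (h.nt h0 fun e => hL.1 (top_le_iff.1 (e ▸ h1))))

theorem max (h : DG G) (hL : IsCoatom L) (h0 : L ≠ ⊥) :
    ∃ q : ℕ, q.Prime ∧ 𝐎[q](L) ≠ ⊥ ∧ L ⊓ 𝐂(𝐎[q](L)) ≤ 𝐎[q](L) := by
  obtain ⟨q, hq, h1⟩ := exists_pCoreOf_ne_bot (h.sol L hL.1) h0
  haveI := Fact.mk hq
  have := h.norm h1 (pgroup_pCoreOf hq L)
  rw [h.norm_eq hL h1 (piCoreOf_le' _ _) (le_norm_piCoreOf_self _ _)] at this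
  exact ⟨q, hq, h1, cent_pCoreOf_le hq (h.sol L hL.1) this⟩

theorem fac [hp : Fact p.Prime] (h5 : 5 ≤ p) (hH : Group.IsSolvable H) (hT : Syl p T H) :
    𝐎'[p](H) ⊔ H ⊓ 𝐍(WOf p T) = H :=
  BS.fac_W' (by omega) hH (fun e => by
    have := e.eq_three (by omega) (isPSolvable_of_isSolvable hp.out); omega) hT

theorem se [hp : Fact p.Prime] (h : DG G) (h5 : 5 ≤ p) (hP : Syl p P ⊤) (hX : X ≤ 𝐍(WOf p P)) (h0 : X ≠ ⊥)
    (hX' : IsPGroup p X) : 𝐍(X) ≤ 𝐍(WOf p P) := by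
  by_contra hc
  set M := 𝐍(WOf p P)
  have hPM : P ≤ M := le_normalizer.trans (KS9.norm_le_norm_WOf P)
  obtain ⟨T, -, ⟨hTM, hT, hT0, X, h0, hX', hTX, hc⟩, hmax⟩ := exists_maximal_ge
    (fun T : Subgroup G => T ≤ M ∧ IsPGroup p T ∧ T ≠ ⊥ ∧ ∃ X : Subgroup G, X ≠ ⊥ ∧ IsPGroup p X ∧ T ≤ 𝐍(X) ∧ ¬ 𝐍(X) ≤ M)
    ⟨hX, hX', h0, X, h0, hX', le_normalizer, hc⟩
  have h1 : 𝐍(WOf p T) ≤ M := by
    obtain ⟨U, hU, hTU⟩ := exists_syl_ge hT (le_inf hTM le_normalizer)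
    by_contra e
    have h2 := hmax U ⟨hU.le.trans inf_le_left, hU.isPGroup, fun e => hT0 (le_bot_iff.1 (e ▸ hTU)), _,
      KS9.WOf_ne_bot hT hT0, hT.to_le (KS9.WOf_le T), (hU.le.trans inf_le_right).trans (KS9.norm_le_norm_WOf T), e⟩ hTU
    subst h2
    obtain ⟨m, hm, e'⟩ := (hP.of_le hPM le_top).exists_conj (syl_of_syl_normalizer hU)
    rw [← e', ← BS.cj_WOf, cj_of_mem_normalizer hm] at e
    exact e le_rfl
  have h2 : Syl p T (𝐍(X) ⊓ M) := ⟨le_inf hTX hTM, hT, fun U h2 h3 h4 => hmax U ⟨h3.trans inf_le_right, h4,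
    fun e => hT0 (le_bot_iff.1 (e ▸ h2)), X, h0, hX', h3.trans inf_le_left, hc⟩ h2⟩
  have h3 := fac h5 (h.sol _ (h.nt' h0 (solvable_of_pgroup hp.out hX'))) (h2.of_normalizer_le inf_le_left
    (inf_le_inf_left _ ((KS9.norm_le_norm_WOf T).trans h1)))
  rw [h.norm h0 hX', bot_sup_eq] at h3
  exact hc (h3 ▸ inf_le_right.trans h1)

end DG

/-- the strongly `p`-embedded subgroup -/
structure DP (p : ℕ) (P M : Subgroup G) : Prop extends DG G where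
  five : 5 ≤ p
  syl : Syl p P ⊤
  ne : P ≠ ⊥
  eq : M = 𝐍(WOf p P)

namespace DP
variable [hp : Fact p.Prime]

theorem PM (h : DP p P M) : P ≤ M := h.eq ▸ le_normalizer.trans (KS9.norm_le_norm_WOf P)

theorem W0 (h : DP p P M) : WOf p P ≠ ⊥ := KS9.WOf_ne_bot h.syl.isPGroup h.ne

theorem Wp (h : DP p P M) : IsPGroup p (WOf p P) := h.syl.isPGroup.to_le (KS9.WOf_le P)

theorem Mt (h : DP p P M) : M ≠ ⊤ := h.eq ▸ h.nt' h.W0 (solvable_of_pgroup hp.out h.Wp)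

theorem se' (h : DP p P M) (hX : X ≤ M) (h0 : X ≠ ⊥) (hX' : IsPGroup p X) : 𝐍(X) ≤ M :=
  h.eq ▸ h.se h.five h.syl (h.eq ▸ hX) h0 hX'

theorem pin (h : DP p P M) (hT : IsPGroup p T) (ha : a ∈ T) (haM : a ∈ M) (h1 : a ≠ 1) : T ≤ M := by
  by_contra e
  have h2 := Amalg.lt_inf_normalizer_of_lt hT (lt_of_le_of_ne (inf_le_left : T ⊓ M ≤ T) fun e' => e (inf_eq_left.1 e'))
  exact h2.not_ge (inf_le_inf_left _ (h.se' inf_le_right (fun e => h1 (mem_bot.1 (e ▸ ⟨ha, haM⟩)))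
    (hT.to_le inf_le_left)))

theorem noinv (ha : a ∈ 𝐎[p](M)) (hY : Y ≤ M) (h1 : ¬ p ∣ Nat.card Y) (h2 : a ∈ 𝐍(Y)) : a ∈ 𝐂(Y) := by
  refine zpowers_le.1 (comm_eq_bot_iff'.1 (le_bot_iff.1 ?_))
  rw [← inf_eq_bot_of_isPGroup_of_not_dvd hp.out (pgroup_pCoreOf hp.out M) h1]
  exact le_inf ((commutator_mono le_rfl (zpowers_le.2 ha)).trans
    (comm_le_right (hY.trans (le_norm_piCoreOf_self _ _)))) (comm_le_left (zpowers_le.2 h2))

/-- the maximal subgroups containing `a` other than those in `M` -/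
structure LL (M : Subgroup G) (a : G) (L : Subgroup G) : Prop where
  max : IsCoatom L
  mem : a ∈ L
  out : ¬ L ≤ M

theorem exq (h : DP p P M) (ha : a ∈ 𝐎[p](M)) (ho : orderOf a = p) (hL : LL M a L) :
    ∃ Q, Q ≤ 𝐎'[p](L) ∧ ¬ Q ≤ M ∧ L ≤ 𝐍(Q) := by
  have ha1 : a ≠ 1 := fun e => hp.out.one_lt.ne' (by rw [← ho, e, orderOf_one])
  obtain ⟨q, hq, h1, h2⟩ := h.max hL.max fun e => ha1 (mem_bot.1 (e ▸ hL.mem))
  have h3 : q ≠ p := by
    rintro rfl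
    refine hL.out ?_
    rw [← h.norm_eq hL.max h1 (piCoreOf_le' _ _) (le_norm_piCoreOf_self _ _)]
    exact h.se' (le_sup_right.trans (h.pin (isPGroup_sup_of_le_normalizer (tg_pg ho) (pgroup_pCoreOf hq L)
      (zpowers_le.2 (le_norm_piCoreOf_self _ _ hL.mem))) (mem_sup_left (mem_zpowers a)) (piCoreOf_le' _ _ ha) ha1))
      h1 (pgroup_pCoreOf hq L)
  have h4 : ¬ p ∣ Nat.card 𝐎[q](L) := fun e => h3 (isPi_piCoreOf' _ _ p hp.out e).symm
  refine ⟨𝐎[q](L), piCoreOf_mono_set (by simpa using h3.symm) L, fun e => h4 ?_, le_norm_piCoreOf_self _ _⟩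
  exact ho ▸ orderOf_dvd_natCard _ (h2 ⟨hL.mem, noinv ha e h4 (le_norm_piCoreOf_self _ _ hL.mem)⟩)

theorem cyc (h : DP p P M) (ha : a ∈ 𝐎[p](M)) (ho : orderOf a = p) (hL : LL M a L) (hT : IsPGroup p T) (h1 : T ≤ L)
    (h2 : a ∈ T) : IsCyclic T := by
  by_contra hc
  have ha1 : a ≠ 1 := fun e => hp.out.one_lt.ne' (by rw [← ho, e, orderOf_one])
  obtain ⟨Q, h3, h4, h5⟩ := h.exq ha ho hL
  obtain ⟨E, h6, h7, h8⟩ := PGrp.exists_elem_card_sq_of_not_isCyclic' (by have := h.five; omega) hT hc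
  refine h4 (coprime_abelian_gen_cent1 ((h6.trans h1).trans h5) (coprime_of_isPGroup_of_not_dvd hp.out (hT.to_le h6)
    (not_dvd_card_of_le h3 (not_dvd_card_pPrimeCoreOf hp.out L))) h7.1 (fun e => ?_) fun e he he1 => ?_)
  · obtain ⟨⟨x, hx⟩, e⟩ := e.exists_ofOrder_eq_natCard
    rw [h8, ← orderOf_coe] at e
    have := Nat.le_of_dvd hp.out.pos (e ▸ orderOf_dvd_of_pow_eq_one (h7.2 x hx))
    nlinarith [hp.out.two_le]
  · refine inf_le_right.trans (le_trans ?_ (h.se' (zpowers_le.2 (h.pin hT h2 (piCoreOf_le' _ _ ha) ha1 (h6 he)))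
      (zpowers_eq_bot.not.2 he1) (hT.to_le (zpowers_le.2 (h6 he)))))
    exact le_norm_of_le_cent (BG1.le_cent_symm (zpowers_le.2 (mem_centralizer_comm.2 fun x hx =>
      mem_centralizer_singleton_iff.1 hx)))

theorem facL (h : DP p P M) (ha : a ∈ 𝐎[p](M)) (ho : orderOf a = p) (hL : LL M a L) :
    𝐎'[p](L) ⊔ L ⊓ 𝐍(zpowers a) = L := by
  obtain ⟨T, hT, h1⟩ := exists_syl_ge (tg_pg ho) (zpowers_le.2 hL.mem)
  rw [← tg_W (h.cyc ha ho hL hT.isPGroup hT.le (h1 (mem_zpowers a))) (h1 (mem_zpowers a)) ho]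
  exact DG.fac h.five (h.sol L hL.max.1) hT

theorem memK (h : DP p P M) (ha : a ∈ 𝐎[p](M)) (ho : orderOf a = p) (hL : LL M a L) (hd : d ∈ L ⊓ 𝐂(zpowers a))
    (h1 : ¬ p ∣ orderOf d) : d ∈ 𝐎'[p](L) := by
  obtain ⟨T, hT, h2⟩ := exists_syl_ge (H := L ⊓ 𝐂(zpowers a)) (tg_pg ho) (le_inf (zpowers_le.2 hL.mem)
    (isMulCommutative_iff_le_cent.1 inferInstance))
  have hc := h.cyc ha ho hL hT.isPGroup (hT.le.trans inf_le_left) (h2 (mem_zpowers a))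
  have h3 := burnside_normal_complement hT (le_of_pElts_of_pPrimeElts (p := p) (fun x hx ⟨k, hk⟩ =>
    isMulCommutative_iff_le_cent.1 inferInstance (hT.mem_of_mem_normalizer hk hx.1 hx.2)) fun x hx hx' =>
    zpowers_le.1 (coprime_abelian_faithful_omega hp.out (zpowers_le.2 hx.2) (coprime_of_isPGroup_of_not_dvd hp.out
      hT.isPGroup (by rw [Nat.card_zpowers]; exact hp.out.coprime_iff_not_dvd.1 hx'.symm)).symm inferInstance
      hT.isPGroup (by rw [tg_omega hp.out hc (h2 (mem_zpowers a)) ho]; exact zpowers_le.2 hx.1.2)))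
  exact pPrimeCoreOf_cent_pgroup hp.out (h.sol L hL.max.1) (zpowers_le.2 hL.mem) (tg_pg ho)
    (le_of_isPiHallOf_normal h3 (le_norm_piCoreOf_self _ _) (zpowers_le.2 hd)
      ((isPi_compl_iff_not_dvd hp.out).2 (by rwa [Nat.card_zpowers])) (mem_zpowers d))

theorem exL (h : DP p P M) (a : G) (hg : g ∉ M) : ∃ L, LL M a L ∧ g ∈ L := by
  obtain ⟨L, h1, h2, h3⟩ := h.ex a g
  exact ⟨L, ⟨h1, h2, fun e => hg (e h3)⟩, h3⟩

theorem cc (h : DP p P M) (ha : a ∈ 𝐎[p](M)) (ho : orderOf a = p) (hd : d ∈ 𝐂(zpowers a)) (h1 : ¬ p ∣ orderOf d) :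
    d = 1 := by
  let D₀ : Submonoid G :=
    { carrier := {d | d ∈ M ∧ ∀ g, g ∉ M → ¬ p ∣ orderOf g → ¬ p ∣ orderOf (d * g)}
      one_mem' := ⟨one_mem _, fun g _ h => by rwa [one_mul]⟩
      mul_mem' := fun {x y} hx hy => ⟨mul_mem hx.1 hy.1, fun g h1 h2 => by
        rw [mul_assoc]
        exact hx.2 _ (fun e => h1 ((mul_mem_cancel_left hy.1).1 e)) (hy.2 g h1 h2)⟩ }
  let D : Subgroup G := { D₀ with
    inv_mem' := fun {x} hx => by
      have := pow_mem (S := D₀) hx (orderOf x - 1)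
      rwa [← inv_eq_of_mul_eq_one_right (a := x) (b := x ^ (orderOf x - 1)) (by
        rw [← pow_succ', Nat.sub_add_cancel (orderOf_pos x), pow_orderOf_eq_one])] at this }
  have ha1 : a ≠ 1 := fun e => hp.out.one_lt.ne' (by rw [← ho, e, orderOf_one])
  have hdM : d ∈ M := h.se' (zpowers_le.2 (piCoreOf_le' _ _ ha)) (zpowers_eq_bot.not.2 ha1) (tg_pg ho)
    (centralizer_le_normalizer _ hd)
  have h2 : d ∈ D := ⟨hdM, fun g hg h3 => by
    obtain ⟨L, hL, h4, h5, h6⟩ := h.ex3 (mem_centralizer_comm.1 hd a (mem_zpowers a))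
      (ho ▸ hp.out.coprime_iff_not_dvd.2 h1) g
    exact tg_ord_mul hp.out (not_dvd_card_pPrimeCoreOf hp.out L) (h.memK ha ho ⟨hL, h4, fun e => hg (e h6)⟩ ⟨h5, hd⟩ h1)
      (le_norm_piCoreOf_self _ _ h6) h3⟩
  have h3 : M ≤ 𝐍(D) := le_normalizer_of_cj_le fun m hm => cj_le_iff'.2 fun x hx =>
    ⟨mul_mem (mul_mem hm hx.1) (inv_mem hm), fun g h4 h5 => by
      rw [show m * x * m⁻¹ * g = m * (x * (m⁻¹ * g * m⁻¹⁻¹)) * m⁻¹ by group, Invol.orderOf_conj]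
      exact hx.2 _ (fun e => h4 ((mul_mem_cancel_left (inv_mem hm)).1 ((mul_mem_cancel_right (by simpa)).1 e)))
        (by rwa [Invol.orderOf_conj])⟩
  have h4 : 𝐎[p](M) ⊓ D = ⊥ := by
    by_contra e
    obtain ⟨u, ⟨hu, huD⟩, hu'⟩ := exists_mem_orderOf_eq_prime hp.out (((pgroup_pCoreOf hp.out M).to_le
      inf_le_left).card_eq_or_dvd.resolve_left fun e' => e (card_eq_one.1 e'))
    obtain ⟨g, -, hg⟩ := SetLike.exists_of_lt (lt_top_iff_ne_top.2 h.Mt)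
    obtain ⟨L, hL, -⟩ := h.exL u hg
    obtain ⟨Q, h4, h5, -⟩ := h.exq hu hu' hL
    obtain ⟨x, hx, hxM⟩ := SetLike.not_le_iff_exists.1 h5
    have h6 := not_dvd_card_pPrimeCoreOf hp.out L
    have h7 := huD.2 x hxM fun e => h6 (e.trans (orderOf_dvd_natCard _ (h4 hx)))
    have h8 := tg_ord_mul hp.out h6 (inv_mem ((mem_normalizer_iff.1 (le_norm_piCoreOf_self _ _ hL.mem) x).1
      (h4 hx))) (le_norm_piCoreOf_self _ _ (mul_mem hL.mem (piCoreOf_le' _ _ (h4 hx)))) h7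
    rw [show (u * x * u⁻¹)⁻¹ * (u * x) = u by group, hu'] at h8
    exact h8 dvd_rfl
  have h5 : 𝐎'[p](M) = ⊥ := h.eq ▸ h.norm h.W0 h.Wp
  have h6 : D ≤ 𝐂(𝐎[p](M)) := comm_eq_bot_iff'.1 (le_bot_iff.1 (h4 ▸ comm_le_inf
    (le_trans (fun _ h => h.1) (le_norm_piCoreOf_self _ _)) ((piCoreOf_le' _ _).trans h3)))
  exact mem_bot.1 (h4 ▸ ⟨cent_pCoreOf_le hp.out (h.sol M h.Mt) h5 ⟨hdM, h6 h2⟩, h2⟩)

theorem cb (h : DP p P M) (ha : a ∈ 𝐎[p](M)) (ho : orderOf a = p) (h1 : ¬ p ∣ Nat.card Y) :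
    Y ⊓ 𝐂(zpowers a) = ⊥ :=
  eq_bot_iff.2 fun y hy => h.cc ha ho hy.2 fun e => h1 (e.trans (orderOf_dvd_natCard _ hy.1))

theorem noM (h : DP p P M) (ha : a ∈ 𝐎[p](M)) (ho : orderOf a = p) (hY : Y ≤ M) (h1 : ¬ p ∣ Nat.card Y)
    (h2 : a ∈ 𝐍(Y)) : Y = ⊥ := by
  rw [← h.cb ha ho h1, eq_comm, inf_eq_left]
  exact BG1.le_cent_symm (zpowers_le.2 (noinv ha hY h1 h2))

theorem inv (h : DP p P M) (ha : a ∈ 𝐎[p](M)) (ho : orderOf a = p) (hL : LL M a L) (hY : Y ≤ L)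
    (h1 : ¬ p ∣ Nat.card Y) (h2 : a ∈ 𝐍(Y)) : Y ≤ 𝐎'[p](L) := by
  have h3 := coprime_cent_prod (zpowers_le.2 h2) (coprime_of_isPGroup_of_not_dvd hp.out (tg_pg ho) h1)
    (Or.inl (solvable_of_pgroup hp.out (tg_pg ho)))
  rw [h.cb ha ho h1, sup_bot_eq] at h3
  have hK := le_norm_piCoreOf_self {p}ᶜ L
  have h4 : L ≤ 𝐍(𝐎'[p](L) ⊔ zpowers a) := by
    conv_lhs => rw [← h.facL ha ho hL]
    exact sup_le (le_sup_left.trans le_normalizer) (le_normalizer_sup (inf_le_left.trans hK) inf_le_right)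
  have h5 : Y ≤ 𝐎'[p](L) ⊔ zpowers a := h3 ▸ (commutator_mono le_rfl le_sup_right).trans (comm_le_right (hY.trans h4))
  have h6 := not_dvd_card_sup hp.out (not_dvd_card_pPrimeCoreOf hp.out L) h1 (hY.trans hK)
  have h7 := sup_inf_of_le_normalizer' (C := 𝐎'[p](L) ⊔ Y) le_sup_left ((zpowers_le.2 hL.mem).trans hK)
  rw [inf_eq_bot_of_isPGroup_of_not_dvd hp.out (tg_pg ho) h6, sup_bot_eq] at h7
  exact h7 ▸ le_inf h5 le_sup_right

theorem ti (h : DP p P M) (ha : a ∈ 𝐎[p](M)) (ho : orderOf a = p) {L₁ L₂ : Subgroup G} (h1 : LL M a L₁)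
    (h2 : LL M a L₂) (h0 : 𝐎'[p](L₁) ⊓ 𝐎'[p](L₂) ≠ ⊥) : L₁ = L₂ := by
  by_contra hne
  obtain ⟨D, -, ⟨h0, L₁, L₂, h1, h2, hne, hD⟩, hmax⟩ := exists_maximal_ge (fun D : Subgroup G => D ≠ ⊥ ∧
    ∃ L₁ L₂, LL M a L₁ ∧ LL M a L₂ ∧ L₁ ≠ L₂ ∧ D ≤ 𝐎'[p](L₁) ⊓ 𝐎'[p](L₂)) ⟨h0, L₁, L₂, h1, h2, hne, le_rfl⟩
  have h3 := hmax _ ⟨fun e => h0 (le_bot_iff.1 (e ▸ hD)), L₁, L₂, h1, h2, hne, le_rfl⟩ hD
  have h4 : a ∈ 𝐍(D) := h3 ▸ kw_mem_inf (le_norm_piCoreOf_self _ _ h1.mem) (le_norm_piCoreOf_self _ _ h2.mem)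
  obtain ⟨L, hL, h5⟩ := exists_coatom_ge (h.nt h0 fun e => h1.max.1 (top_le_iff.1 (e ▸ (hD.trans inf_le_left).trans
    (piCoreOf_le' _ _))))
  have h6 : LL M a L := ⟨hL, h5 h4, fun e => h0 (h.noM ha ho ((le_normalizer.trans h5).trans e)
    (not_dvd_card_of_le (hD.trans inf_le_left) (not_dvd_card_pPrimeCoreOf hp.out _)) h4)⟩
  have key : ∀ L', LL M a L' → D ≤ 𝐎'[p](L') → L' = L := fun L' h7 h8 => by
    by_contra e
    have h9 := not_dvd_card_pPrimeCoreOf hp.out L'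
    have h10 := hmax (𝐎'[p](L') ⊓ 𝐍(D)) ⟨fun e => h0 (le_bot_iff.1 (e ▸ le_inf h8 le_normalizer)), L', L, h7, h6, e,
      le_inf inf_le_left (h.inv ha ho h6 (inf_le_right.trans h5) (not_dvd_card_of_le inf_le_left h9)
        (kw_mem_inf (le_norm_piCoreOf_self _ _ h7.mem) (le_normalizer h4)))⟩ (le_inf h8 le_normalizer)
    haveI := BS.thompson_fpf (le_norm_piCoreOf_self {p}ᶜ _ h7.mem) (ho ▸ hp.out)
      (by rw [← h.cb ha ho h9, centralizer_zpowers])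
    have h11 : D = 𝐎'[p](L') := by_contra fun e' => (Core.lt_inf_normalizer_of_nilpotent (lt_of_le_of_ne h8 e')).ne' h10
    exact e ((h7.max.le_iff.1 ((le_norm_piCoreOf_self _ _).trans (h11 ▸ h5))).resolve_left hL.1).symm
  exact hne ((key _ h1 (hD.trans inf_le_left)).trans (key _ h2 (hD.trans inf_le_right)).symm)

theorem ti' (h : DP p P M) (ha : a ∈ 𝐎[p](M)) (ho : orderOf a = p) {L₁ L₂ : Subgroup G} (h1 : LL M a L₁)
    (h2 : LL M a L₂) (h3 : g ∈ 𝐎'[p](L₁)) (h4 : g ∈ L₂) (h0 : g ≠ 1) : L₁ = L₂ :=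
  h.ti ha ho h1 h2 fun e => h0 (mem_bot.1 (e ▸ ⟨h3, h.inv ha ho h2 (Y := 𝐎'[p](L₁) ⊓ L₂) inf_le_right
    (not_dvd_card_of_le inf_le_left (not_dvd_card_pPrimeCoreOf hp.out _))
    (kw_mem_inf (le_norm_piCoreOf_self _ _ h1.mem) (le_normalizer h2.mem)) ⟨h3, h4⟩⟩))

theorem nle (h : DP p P M) (ha : a ∈ 𝐎[p](M)) (ho : orderOf a = p) (hL : LL M a L) : 𝐍(zpowers a) ≤ L := by
  intro n hn
  have ha1 : a ≠ 1 := fun e => hp.out.one_lt.ne' (by rw [← ho, e, orderOf_one])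
  obtain ⟨Q, h1, h2, -⟩ := h.exq ha ho hL
  obtain ⟨x, hx, hxM⟩ := SetLike.not_le_iff_exists.1 h2
  have h3 := h.se' (zpowers_le.2 (piCoreOf_le' _ _ ha)) (zpowers_eq_bot.not.2 ha1) (tg_pg ho)
  obtain ⟨L', hL', h4⟩ := h.exL a (g := x * n) fun e => hxM ((mul_mem_cancel_right (h3 hn)).1 e)
  have h5 := (mem_normalizer_iff.1 hn a).1 (mem_zpowers a)
  have h6 := h.ti' ha ho hL hL' (g := x * (n * a * n⁻¹ * x⁻¹ * (n * a * n⁻¹)⁻¹)) (mul_mem (h1 hx)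
    ((mem_normalizer_iff.1 (le_norm_piCoreOf_self _ _ (zpowers_le.2 hL.mem h5)) _).1 (inv_mem (h1 hx)))) (by
      rw [show x * (n * a * n⁻¹ * x⁻¹ * (n * a * n⁻¹)⁻¹) = x * n * a * (x * n)⁻¹ * (n * a * n⁻¹)⁻¹ by group]
      exact mul_mem (mul_mem (mul_mem h4 hL'.mem) (inv_mem h4)) (inv_mem (zpowers_le.2 hL'.mem h5))) fun e => by
    refine hxM ((mul_mem_cancel_right (h3 hn)).1 (h3 (cj_eq_self_iff.1 ?_)))
    rw [cj_zpowers, show x * n * a * (x * n)⁻¹ = x * (n * a * n⁻¹ * x⁻¹ * (n * a * n⁻¹)⁻¹) * (n * a * n⁻¹) by group, e,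
      one_mul, ← cj_zpowers, cj_of_mem_normalizer hn]
  exact (mul_mem_cancel_left (piCoreOf_le' _ _ (h1 hx))).1 (h6 ▸ h4)

theorem elim (h : DP p P M) : False := by
  haveI := h.simple
  have h0 := Amalg.inf_center_ne_bot h.syl.isPGroup le_rfl le_normalizer h.ne
  obtain ⟨a, ha', ho⟩ := exists_mem_orderOf_eq_prime hp.out ((h.syl.isPGroup.to_le
    (inf_le_left : P ⊓ 𝐂(P) ≤ P)).card_eq_or_dvd.resolve_left fun e => h0 (card_eq_one.1 e))
  have ha : a ∈ 𝐎[p](M) := le_pCoreOf' hp.out ((KS9.WOf_le P).trans h.PM) h.eq.le h.Wp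
    (KS9.omZ_le_WOf P (mem_om ha' (ho ▸ pow_orderOf_eq_one a)))
  obtain ⟨g₀, -, hg₀⟩ := SetLike.exists_of_lt (lt_top_iff_ne_top.2 h.Mt)
  obtain ⟨L₀, hL₀, -⟩ := h.exL a hg₀
  have hM : M = 𝐍(zpowers a) := by
    rw [h.eq, tg_W (h.cyc ha ho hL₀ h.syl.isPGroup ((le_norm_of_le_cent (BG1.le_cent_symm (zpowers_le.2 ha'.2))).trans
      (h.nle ha ho hL₀)) ha'.1) ha'.1 ho]
  have h1 : ∀ L, LL M a L → M ≤ L := fun L hL => hM.le.trans (h.nle ha ho hL)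
  have h2 : ∀ L₁ L₂ x, LL M a L₁ → LL M a L₂ → x ∈ L₁ → x ∈ L₂ → x ∉ M → L₁ = L₂ := fun L₁ L₂ x h2 h3 h4 h5 h6 => by
    rw [← h.facL ha ho h2, ← hM] at h4
    obtain ⟨k, hk, n, hn, rfl⟩ := (mem_sup_of_le_normalizer' (inf_le_left.trans (le_norm_piCoreOf_self _ _))).1 h4
    exact h.ti' ha ho h2 h3 hk ((mul_mem_cancel_right (h1 _ h3 hn.2)).1 h5) fun e => h6 (by rw [e, one_mul]; exact hn.2)
  have hM0 : M ≠ ⊥ := fun e => h.ne (le_bot_iff.1 (e ▸ h.PM))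
  obtain ⟨N, -, hN, h3, h4, -⟩ := Coprime.exists_frobKernel (H := M) ⟨hM0, h.Mt, fun g hg => eq_bot_iff.2 fun m hm => by
    obtain ⟨L₁, hL₁, h3⟩ := h.exL a hg
    have h4 : m ∈ L₁.normalCore := fun k => by
      by_cases h4 : k⁻¹ ∈ L₁
      · exact mul_mem (mul_mem (inv_mem_iff.1 h4) (h1 _ hL₁ hm.1)) h4
      obtain ⟨L₂, hL₂, h5⟩ := h.exL a (g := k⁻¹) fun e => h4 (h1 _ hL₁ e)
      obtain ⟨L₃, hL₃, h6⟩ := h.exL a (g := k * g) fun e => h4 (by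
        simpa using mul_mem h3 (inv_mem (h1 _ hL₁ e)))
      by_contra h7
      have h8 := h2 _ _ (k * m * k⁻¹) hL₂ hL₃ (mul_mem (mul_mem (inv_mem_iff.1 h5) (h1 _ hL₂ hm.1)) h5) (by
        have := mul_mem (mul_mem h6 (h1 _ hL₃ (mem_conj_smul.1 hm.2))) (inv_mem h6)
        rwa [show k * g * (g⁻¹ * m * g) * (k * g)⁻¹ = k * m * k⁻¹ by group] at this) fun e => h7 (h1 _ hL₁ e)
      subst h8
      exact h4 (h2 _ _ g hL₁ hL₂ h3 (by simpa using mul_mem h5 h6) hg ▸ h5)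
    rwa [(normalCore_normal L₁).eq_bot_or_eq_top.resolve_right fun e =>
      hL₁.max.1 (top_le_iff.1 (e ▸ normalCore_le L₁))] at h4⟩
  exact hM0 (by simpa [hN.eq_bot_or_eq_top.resolve_left h4] using h3.disjoint)

end DP

theorem DG.elim (h : DG G) : False := by
  obtain ⟨p, hp, h1, h2, h3⟩ : ∃ p : ℕ, p.Prime ∧ p ∣ Nat.card G ∧ p ≠ 2 ∧ p ≠ 3 := by
    by_contra e
    push Not at e
    exact h.ns (isSolvable_of_two_primes Nat.prime_two Nat.prime_three fun r hr hd => or_iff_not_imp_left.2 (e r hr hd))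
  haveI := Fact.mk hp
  obtain ⟨P, hP⟩ := exists_syl p (⊤ : Subgroup G)
  exact DP.elim ⟨h, hp.five_le_of_ne_two_of_ne_three h2 h3, hP, hP.ne_bot (by rwa [card_top]), rfl⟩

/-- a minimal simple group is generated by two elements -/
theorem two_gen_of_minimal_simple [IsSimpleGroup G] (h : ¬ Group.IsSolvable G)
    (hs : ∀ H : Subgroup G, H ≠ ⊤ → Group.IsSolvable H) : ∃ x y : G, closure {x, y} = ⊤ := by
  by_contra e
  push Not at e
  exact DG.elim ⟨‹_›, h, hs, e⟩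

/-- reduction to minimal simple groups -/
theorem solvable_of_minimal_simple (Q : ∀ (G : Type u) [Group G], Prop)
    (h1 : ∀ (G : Type u) [Group G] [Finite G] (H : Subgroup G), Q G → Q H)
    (h2 : ∀ (G : Type u) [Group G] [Finite G] (N : Subgroup G) [N.Normal], Group.IsSolvable N → Q G → Q (G ⧸ N))
    (h3 : ∀ (G : Type u) [Group G] [Finite G] [IsSimpleGroup G], (∀ H : Subgroup G, H ≠ ⊤ → Group.IsSolvable H) →
      Q G → Group.IsSolvable G) (n : ℕ) : ∀ (G : Type u) [Group G] [Finite G], Nat.card G = n → Q G →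
      Group.IsSolvable G := by
  induction n using Nat.strong_induction_on with
  | _ n ih =>
    intro G _ _ e h
    have ih' : ∀ H : Subgroup G, H ≠ ⊤ → Group.IsSolvable H := fun H hH =>
      ih _ (e ▸ card_lt_of_ne_top hH) H rfl (h1 G H h)
    rcases subsingleton_or_nontrivial G with h0 | h0
    · infer_instance
    by_cases hs : IsSimpleGroup G
    · exact h3 G ih' h
    obtain ⟨N, hN, h4, h5⟩ : ∃ N : Subgroup G, N.Normal ∧ N ≠ ⊥ ∧ N ≠ ⊤ := by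
      by_contra hc
      push Not at hc
      exact hs ⟨fun N hN => or_iff_not_imp_left.2 (hc N hN)⟩
    haveI := ih' N h5
    haveI := ih _ (e ▸ card_quotient_lt h4) (G ⧸ N) rfl (h2 G N ‹_› h)
    exact isSolvable_of_normal_quotient N

theorem tg_sub (x y : H) : Group.IsSolvable (closure {x, y} : Subgroup H) ↔
    Group.IsSolvable (closure {(x : G), (y : G)} : Subgroup G) := by
  have : closure {(x : G), (y : G)} = (closure {x, y} : Subgroup H).map H.subtype := by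
    rw [MonoidHom.map_closure, Set.image_pair]; rfl
  rw [this]
  exact ⟨fun _ => Hall.isSolvable_map _ _, fun _ => isSolvable_of_mulEquiv (equivMapOfInjective _ _ H.subtype_injective).symm⟩

theorem tg_quo (N : Subgroup G) [N.Normal] [Group.IsSolvable N] (x y : G) :
    Group.IsSolvable (closure {(x : G ⧸ N), (y : G ⧸ N)} : Subgroup (G ⧸ N)) ↔
    Group.IsSolvable (closure {x, y} : Subgroup G) := by
  have : closure {(x : G ⧸ N), (y : G ⧸ N)} = (closure {x, y} : Subgroup G).map (QuotientGroup.mk' N) := by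
    rw [MonoidHom.map_closure, Set.image_pair]; rfl
  rw [this]
  refine ⟨fun _ => ?_, fun _ => Hall.isSolvable_map _ _⟩
  haveI := isSolvable_subgroupOf N (closure {x, y})
  refine Group.isSolvable_of_ker_le_range (N.subgroupOf (closure {x, y})).subtype
    ((QuotientGroup.mk' N).subgroupMap (closure {x, y})) fun z hz => ?_
  rw [range_subtype]
  exact (QuotientGroup.eq_one_iff (z : G)).1 (congrArg Subtype.val hz)

/-- **Thompson, Flavell** -/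
theorem solvable_of_two_gen (h : ∀ a b : G, Group.IsSolvable (closure ({a, b} : Set G))) : Group.IsSolvable G := by
  refine solvable_of_minimal_simple (fun G _ => ∀ a b : G, Group.IsSolvable (closure ({a, b} : Set G)))
    (fun G _ _ H h a b => (tg_sub a b).2 (h a b)) (fun G _ _ N _ _ h a b => ?_) (fun G _ _ _ hs h => ?_) _ G rfl h
  · obtain ⟨a, rfl⟩ := QuotientGroup.mk_surjective a
    obtain ⟨b, rfl⟩ := QuotientGroup.mk_surjective b
    exact (tg_quo N a b).2 (h a b)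
  · by_contra e
    obtain ⟨x, y, e'⟩ := two_gen_of_minimal_simple e hs
    exact e (isSolvable_top_iff.1 (e' ▸ h x y))

end Cfsg.Lib.Hall
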